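import Cfsg.Agent.Lib.SplitRankOne70.TopData

/-!
If the 2-elements of `Q` commute then `Q = Z`.
-/

set_option autoImplicit false
set_option linter.unusedSectionVars false
set_option linter.style.haveILetI false

namespace Cfsg.Agent.Lib.SplitRankOne70

open Cfsg MulAction Cfsg.Agent.Lib.RankOne Cfsg.Agent.Lib.Chars Cfsg.Agent.Lib.Coherence
open scoped ComplexConjugate

universe u v w

theorem sum_comp_le_of_fibre {ι : Type v} {κ : Type w} [DecidableEq κ] (S : Finset ι) (g : ι → κ)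
    (f : κ → ℝ) (hf : ∀ x, 0 ≤ f x) (M : ℕ) (hM : ∀ x, (S.filter fun i => g i = x).card ≤ M) :
    ∑ i ∈ S, f (g i) ≤ (M : ℝ) * ∑ x ∈ S.image g, f x := by
  rw [Finset.sum_comp, Finset.mul_sum]
  refine Finset.sum_le_sum fun x _ => ?_
  rw [nsmul_eq_mul]
  exact mul_le_mul_of_nonneg_right (by exact_mod_cast hM x) (hf x)

variable {G : Type u} {Ω : Type v} [Group G] [MulAction G Ω] [Fintype G] {a : Ω} {t : G}
  {Q : Subgroup G}

namespace Setup

/-- The function `χ · (ξ ∘ conjugation by g)`. -/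
def twist (h : Setup a t Q) (χ : IrrCharacter Q) (g : twoStab a t) (ξ : Q →* ℂˣ) : Q → ℂ :=
  fun x => (χ : Q → ℂ) x * (ξ (h.qConj g x) : ℂ)

variable [Fintype (stabilizer G a)] [Fintype Q] [Fintype (twoStab a t)] (h : Setup a t Q)
include h

theorem sum_kap_sq_sharp (S : Finset (IrrCharacter G)) :
    ((Nat.card h.zSub : ℝ) - 1) * ∑ χ ∈ S, (h.kap * dg χ) ^ 2 ≤
      Nat.card (vSub a t) * ((Nat.card h.zSub : ℝ) - 2) ^ 2 := by
  have h1 : ∑ χ ∈ S, (h.kap * dg χ) ^ 2 ≤ h.kap ^ 2 * Nat.card G := by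
    calc ∑ χ ∈ S, (h.kap * dg χ) ^ 2 ≤ ∑ χ : IrrCharacter G, (h.kap * dg χ) ^ 2 :=
          Finset.sum_le_univ_sum_of_nonneg fun χ => sq_nonneg _
      _ = h.kap ^ 2 * Nat.card G := by
        simp only [mul_pow, ← Finset.mul_sum]
        congr 1
        have e := sum_degree_sq (G := G)
        simp only [dg_eq] at e
        exact_mod_cast e
  have h4 : (4 : ℝ) ≤ Nat.card h.zSub := by exact_mod_cast h.four_le_card_zSub
  have hk : (Nat.card h.kSub : ℝ) = (Nat.card h.zSub : ℝ) - 1 := by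
    rw [h.card_zSub]; push_cast; ring
  refine le_trans (mul_le_mul_of_nonneg_left h1 (by linarith)) ?_
  rw [kap, h.card_G]
  push_cast
  rw [hk]
  set N : ℝ := (Nat.card Q : ℝ)
  set V : ℝ := (Nat.card (vSub a t) : ℝ)
  set q : ℝ := (Nat.card h.zSub : ℝ)
  have hN : 0 ≤ N := by positivity
  have hV : 0 ≤ V := by positivity
  have e : (q - 1) * (((q - 2) / ((N + 1) * (q - 1))) ^ 2 * (N * (V * (q - 1)) * (N + 1))) =
      V * (q - 2) ^ 2 * (N / (N + 1)) := by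
    have h0 : q - 1 ≠ 0 := by linarith
    have h0' : N + 1 ≠ 0 := by linarith
    field_simp
  rw [e]
  refine mul_le_of_le_one_right (by positivity) ?_
  rw [div_le_one (by linarith)]
  linarith

variable {ξ : Q →* ℂˣ} (hξs : (ξ ⟨h.sElt, h.zSub_le h.s_mem⟩ : ℂ) = -1)
  (hξ : ∀ d : twoStab a t, (d : G) ∈ vSub a t → ∀ x : Q, ξ (h.qConj d x) = ξ x)

theorem twist_irr (χ : IrrCharacter Q) (g : twoStab a t) :
    IsIrrCharacter Q (h.twist χ g ξ) := by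
  show IsIrrCharacter Q (fun x => (χ : Q → ℂ) x * (ξ (h.qConj g x) : ℂ))
  have e := isIrrCharacter_hom_mul (ξ.comp (h.qConj g).toMonoidHom) χ.2
  simpa [mul_comm] using e

theorem cj_twist (χ : IrrCharacter Q) (d g : twoStab a t) :
    h.cj d (h.twist χ g ξ) = h.twist ⟨h.cj d (χ : Q → ℂ), h.cj_irr d χ.2⟩ (d * g) ξ :=
  funext fun x => by simp [twist, Setup.cj, h.qConj_mul]

include hξs hξ

theorem xi_rel {g g' : twoStab a t}
    (e : ∀ z : Q, (z : G) ∈ h.zSub → ξ (h.qConj g z) = ξ (h.qConj g' z)) :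
    ((g⁻¹ * g' : twoStab a t) : G) ∈ vSub a t ∧ ∀ x, ξ (h.qConj g x) = ξ (h.qConj g' x) := by
  have hv : ((g⁻¹ * g' : twoStab a t) : G) ∈ vSub a t := by
    refine h.xi_stab hξs hξ fun z hz => ?_
    have hz' : ((h.qConj g).symm z : G) ∈ h.zSub := h.conj_z (D_le h.hS g.2) hz
    have e1 := e _ hz'
    rw [MulEquiv.apply_symm_apply] at e1
    rw [e1]
    conv_rhs => rw [show g' = g * (g⁻¹ * g') by group, h.qConj_mul, MulEquiv.apply_symm_apply]
  refine ⟨hv, fun x => ?_⟩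
  conv_rhs => rw [show g' = g * (g⁻¹ * g') by group, h.qConj_mul, hξ _ hv]

theorem twist_ne_plain {χ χ' : IrrCharacter Q} (hχ : h.IsQuotIrr χ) (hχ' : h.IsQuotIrr χ')
    (g : twoStab a t) : h.twist χ g ξ ≠ (χ' : Q → ℂ) := by
  intro e
  set z : Q := (h.qConj g).symm ⟨h.sElt, h.zSub_le h.s_mem⟩
  have hz : (z : G) ∈ h.zSub := h.conj_z (D_le h.hS g.2) h.s_mem
  have e1 := congrFun e z
  have e2 := congrFun e 1
  simp only [twist, map_one, Units.val_one, mul_one] at e1 e2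
  rw [hχ.1 z hz, hχ'.1 z hz, ← e2, MulEquiv.apply_symm_apply, hξs] at e1
  exact irr_apply_one_ne_zero χ (by linear_combination (-1 / 2 : ℂ) * e1)

theorem twist_eq {χ χ' : IrrCharacter Q} (hχ : h.IsQuotIrr χ) (hχ' : h.IsQuotIrr χ')
    {g g' : twoStab a t} (e : h.twist χ g ξ = h.twist χ' g' ξ) :
    χ = χ' ∧ ((g⁻¹ * g' : twoStab a t) : G) ∈ vSub a t := by
  have e1 := congrFun e 1
  simp only [twist, map_one, Units.val_one, mul_one] at e1
  obtain ⟨hv, hall⟩ := h.xi_rel hξs hξ (g := g) (g' := g') fun z hz => by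
    have e2 := congrFun e z
    simp only [twist] at e2
    rw [hχ.1 z hz, hχ'.1 z hz, ← e1] at e2
    exact Units.ext (mul_left_cancel₀ (irr_apply_one_ne_zero χ) e2)
  refine ⟨Subtype.ext (funext fun x => ?_), hv⟩
  have e2 := congrFun e x
  simp only [twist, hall x] at e2
  exact mul_right_cancel₀ (Units.ne_zero _) e2

variable [FaithfulSMul G Ω] (IH : IndHyp.{u, v} (Nat.card G)) (hab : TwoAbelian Q)
include IH hab

theorem top_free {χ : IrrCharacter Q} (hχ : h.IsQuotIrr χ)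
    (hV : ∀ y ∈ h.stabCj (χ : Q → ℂ), (y : G) ∈ vSub a t) {k : twoStab a t}
    (hk : (k : G) ∈ h.kSub) (hk1 : k ≠ 1) {d : twoStab a t}
    (e : h.cj d (h.twist χ k ξ) = h.twist χ k ξ) : d = 1 := by
  rw [h.cj_twist] at e
  obtain ⟨e1, e2⟩ := h.twist_eq hξs hξ (h.cj_quotIrr d hχ) hχ e
  by_contra hd1
  have hdI : h.cj d (χ : Q → ℂ) = χ := congrArg Subtype.val e1
  have hdV := hV d (h.mem_stabCj.2 hdI)
  have hkD := D_le h.hS (h.kSub_le hk)
  set z : G := (k : G) * h.sElt * (k : G)⁻¹ with hzdef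
  have hz : z ∈ h.zSub := h.conj_z hkD h.s_mem
  have hcs : ((k : G)⁻¹ * (d : G)⁻¹ * k) * h.sElt = h.sElt * ((k : G)⁻¹ * (d : G)⁻¹ * k) := by
    have hm : ((d * k)⁻¹ * k : twoStab a t).val ∈ vSub a t := e2
    have e3 := (h.v_iff_s ((d * k)⁻¹ * k).2).1 hm
    simpa [mul_assoc] using e3
  have hdz : (d : G) * z = z * d := by
    calc (d : G) * z = (d : G) * k * (h.sElt * ((k : G)⁻¹ * (d : G)⁻¹ * k)) *
          ((k : G)⁻¹ * d) := by rw [hzdef]; group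
      _ = z * d := by rw [← hcs, hzdef]; group
  rcases h.stab_cz IH hab hχ hdI hd1 hV hz hdz with e4 | e4
  · exact h.s_ne (conj_eq_one_iff.1 e4)
  · refine hk1 (Subtype.ext ?_)
    have e5 : (k : G) * h.sElt * (k : G)⁻¹ = 1 * h.sElt * 1⁻¹ := by simpa [hzdef] using e4
    exact h.k_inj hk (one_mem _) h.s_mem h.s_ne e5

set_option maxHeartbeats 2000000 in
theorem abelian_case : Q ≤ h.zSub := by
  classical
  by_contra hle
  obtain ⟨ξ, hξs, hξ⟩ := h.exists_xi hab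
  haveI := h.zQ_normal
  haveI : Nonempty (IrrCharacter G) := ⟨trivialIrr G⟩
  haveI : Nonempty (IrrCharacter Q) := ⟨trivialIrr Q⟩
  set N := Nat.card Q with hN
  set q := Nat.card h.zSub with hq
  set V := Nat.card (vSub a t) with hV
  set B0 : Finset (IrrCharacter Q) := Finset.univ.filter h.IsQuotIrr with hB0
  have hB0m : ∀ χ, χ ∈ B0 ↔ h.IsQuotIrr χ := fun χ => by simp [hB0]
  -- degrees
  have hS2 : (N : ℝ) = q * ((∑ χ ∈ B0, (dg χ : ℝ) ^ 2) + 1) := by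
    have himg : (Finset.univ : Finset (IrrCharacter (Q ⧸ h.zQ))).image (inflate h.zQ) =
        insert (trivialIrr Q) B0 := by
      ext χ
      simp only [Finset.mem_image, Finset.mem_univ, true_and, Finset.mem_insert, hB0m]
      constructor
      · rintro ⟨ψ, rfl⟩
        by_cases e : inflate h.zQ ψ = trivialIrr Q
        · exact Or.inl e
        refine Or.inr ⟨fun z hz => ?_, e⟩
        show (ψ : Q ⧸ h.zQ → ℂ) (QuotientGroup.mk z) = (ψ : Q ⧸ h.zQ → ℂ) (QuotientGroup.mk 1)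
        rw [(QuotientGroup.eq_one_iff z).2 (Subgroup.mem_subgroupOf.2 hz)]
        rfl
      · rintro (rfl | hχ)
        · exact ⟨trivialIrr _, rfl⟩
        · obtain ⟨ψ, hψ⟩ := exists_irr_quotient h.zQ χ fun z hz =>
            hχ.1 z (Subgroup.mem_subgroupOf.1 hz)
          exact ⟨ψ, Subtype.ext (funext hψ)⟩
    have hnot : trivialIrr Q ∉ B0 := fun e => ((hB0m _).1 e).2 rfl
    have e1 : ∑ ψ : IrrCharacter (Q ⧸ h.zQ), (dg (inflate h.zQ ψ) : ℝ) ^ 2 =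
        ∑ χ ∈ insert (trivialIrr Q) B0, (dg χ : ℝ) ^ 2 := by
      rw [← himg, Finset.sum_image fun x _ y _ e => inflate_injective _ e]
    have e2 : ∑ ψ : IrrCharacter (Q ⧸ h.zQ), (dg (inflate h.zQ ψ) : ℝ) ^ 2 =
        (Nat.card (Q ⧸ h.zQ) : ℝ) := by
      have e3 := sum_degree_sq (G := Q ⧸ h.zQ)
      have e4 : ∀ ψ : IrrCharacter (Q ⧸ h.zQ), (ψ : Q ⧸ h.zQ → ℂ) 1 =
          ((dg (inflate h.zQ ψ) : ℕ) : ℂ) := fun ψ => dg_eq (inflate h.zQ ψ)
      simp only [e4] at e3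
      exact_mod_cast e3
    have h1 : (dg (trivialIrr Q) : ℝ) = 1 := by
      have := dg_eq (trivialIrr Q)
      rw [trivialIrr_apply] at this
      exact_mod_cast this.symm
    rw [Finset.sum_insert hnot, h1, one_pow, e2] at e1
    rw [add_comm (∑ χ ∈ B0, (dg χ : ℝ) ^ 2), ← e1, hq, ← h.card_zQ, hN,
      Subgroup.card_eq_card_quotient_mul_card_subgroup h.zQ, Nat.cast_mul, mul_comm]
  have hne : B0.Nonempty := by
    by_contra he
    rw [Finset.not_nonempty_iff_eq_empty] at he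
    rw [he, Finset.sum_empty, zero_add, mul_one, Nat.cast_inj] at hS2
    exact hle (Subgroup.eq_of_le_of_card_ge h.zSub_le hS2.le).ge
  -- representatives
  let Good : IrrCharacter Q → Set (IrrCharacter Q) := fun χ =>
    {ψ | (∃ k, h.cj k (χ : Q → ℂ) = ψ) ∧ ∀ y ∈ h.stabCj (ψ : Q → ℂ), (y : G) ∈ vSub a t}
  have hgood : ∀ χ ∈ B0, (Good χ).Nonempty := fun χ hχ => by
    obtain ⟨k, hk⟩ := h.exists_normal_rep IH hab ((hB0m χ).1 hχ)
    exact ⟨⟨_, h.cj_irr k χ.2⟩, ⟨k, rfl⟩, hk⟩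
  let rep : IrrCharacter Q → IrrCharacter Q := fun χ =>
    if hg : (Good χ).Nonempty then hg.some else χ
  have hrep : ∀ χ ∈ B0, rep χ ∈ Good χ := fun χ hχ => by
    simp only [rep, dif_pos (hgood χ hχ)]
    exact (hgood χ hχ).some_mem
  choose! c hc using fun χ hχ => (hrep χ hχ).1
  have hrepV : ∀ χ ∈ B0, ∀ y ∈ h.stabCj (rep χ : Q → ℂ), (y : G) ∈ vSub a t :=
    fun χ hχ => (hrep χ hχ).2
  have hrepQ : ∀ χ ∈ B0, h.IsQuotIrr (rep χ) := fun χ hχ => by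
    have e : rep χ = ⟨_, h.cj_irr (c χ) χ.2⟩ := Subtype.ext (hc χ hχ).symm
    rw [e]
    exact h.cj_quotIrr _ ((hB0m χ).1 hχ)
  have hrepd : ∀ χ ∈ B0, dg (rep χ) = dg χ := fun χ hχ => by
    have e : ((dg (rep χ) : ℕ) : ℂ) = dg χ := by
      rw [← dg_eq, ← dg_eq, ← hc χ hχ, h.cj_apply_one]
    exact_mod_cast e
  have hrep_conj : ∀ χ ∈ B0, ∀ χ' ∈ B0, ∀ d, h.cj d (rep χ : Q → ℂ) = rep χ' → rep χ = rep χ' := by
    intro χ hχ χ' hχ' d e
    have e1 : Good χ = Good χ' := by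
      ext ψ
      simp only [Good, Set.mem_setOf_eq, and_congr_left_iff]
      intro _
      constructor
      · rintro ⟨k, hk⟩
        refine ⟨k * (c χ)⁻¹ * d⁻¹ * c χ', ?_⟩
        rw [h.cj_mul, h.cj_mul, hc χ' hχ', h.cj_mul, ← e, ← h.cj_mul d⁻¹ d, inv_mul_cancel,
          h.cj_one, ← hc χ hχ, ← h.cj_mul (c χ)⁻¹, inv_mul_cancel, h.cj_one, hk]
      · rintro ⟨k, hk⟩
        refine ⟨k * (c χ')⁻¹ * d * c χ, ?_⟩
        rw [h.cj_mul, h.cj_mul, hc χ hχ, h.cj_mul, e, ← hc χ' hχ', ← h.cj_mul (c χ')⁻¹,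
          inv_mul_cancel, h.cj_one, hk]
    simp only [rep]
    split_ifs with h1 h2 h2
    · simp only [e1]
    · exact absurd (hgood χ' hχ') h2
    · exact absurd (hgood χ hχ) h1
    · exact absurd (hgood χ hχ) h1
  -- pair systems
  set Ψ : Finset (IrrCharacter Q) := B0.image rep with hΨdef
  have hΨQ : ∀ ψ ∈ Ψ, h.IsQuotIrr ψ ∧ ∀ y ∈ h.stabCj (ψ : Q → ℂ), (y : G) ∈ vSub a t := by
    intro ψ hψ
    obtain ⟨χ, hχ, rfl⟩ := Finset.mem_image.1 hψ
    exact ⟨hrepQ χ hχ, hrepV χ hχ⟩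
  have hΨconj : ∀ ψ ∈ Ψ, ∀ ψ' ∈ Ψ, ∀ d, h.cj d (ψ : Q → ℂ) = ψ' → ψ = ψ' := by
    intro ψ hψ ψ' hψ' d e
    obtain ⟨χ, hχ, rfl⟩ := Finset.mem_image.1 hψ
    obtain ⟨χ', hχ', rfl⟩ := Finset.mem_image.1 hψ'
    exact hrep_conj χ hχ χ' hχ' d e
  have htw1 : ∀ χ : IrrCharacter Q, h.twist χ 1 ξ = fun x => (χ : Q → ℂ) x * (ξ x : ℂ) :=
    fun χ => funext fun x => by rw [twist, h.qConj_one]
  have hconj_twist : ∀ {χ χ' : IrrCharacter Q}, h.IsQuotIrr χ → h.IsQuotIrr χ' →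
      ∀ {d g g' : twoStab a t}, h.cj d (h.twist χ g ξ) = h.twist χ' g' ξ →
        h.cj d (χ : Q → ℂ) = χ' ∧ (((d * g)⁻¹ * g' : twoStab a t) : G) ∈ vSub a t := by
    intro χ χ' hχ hχ' d g g' e
    rw [h.cj_twist] at e
    obtain ⟨e1, e2⟩ := h.twist_eq hξs hξ (h.cj_quotIrr d hχ) hχ' e
    exact ⟨congrArg Subtype.val e1, e2⟩
  have hVf : ∀ ψ : IrrCharacter Q, qInd a Q (ψ : Q → ℂ) ⟨h.sElt, h.s_mem.1⟩ =
      (V : ℂ) * ((∑ z : h.zSub, (ψ : Q → ℂ) ⟨(z : G), h.zSub_le z.2⟩) - (ψ : Q → ℂ) 1) :=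
    fun ψ => h.qInd_s (irr_isClassFunction ψ)
  have hs_plain : ∀ ψ ∈ Ψ, qInd a Q (ψ : Q → ℂ) ⟨h.sElt, h.s_mem.1⟩ =
      (V : ℂ) * ((q : ℂ) - 1) * dg ψ := by
    intro ψ hψ
    rw [hVf, Finset.sum_congr rfl (g := fun _ => (ψ : Q → ℂ) 1) fun z _ =>
      (hΨQ ψ hψ).1.1 _ z.2, Finset.sum_const, Finset.card_univ, nsmul_eq_mul, dg_eq,
      Fintype.card_eq_nat_card]
    ring
  have hs_twist : ∀ ψ ∈ Ψ, ∀ g, qInd a Q (h.twist ψ g ξ) ⟨h.sElt, h.s_mem.1⟩ =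
      -(V : ℂ) * dg ψ := by
    intro ψ hψ g
    let χ0 : h.zSub →* ℂˣ := (ξ.comp (h.qConj g).toMonoidHom).comp
      (Subgroup.inclusion h.zSub_le)
    have hsum : ∑ z : h.zSub, (χ0 z : ℂ) = 0 := by
      set z0 : h.zSub := ⟨(g : G) * h.sElt * (g : G)⁻¹, h.conj_z (D_le h.hS g.2) h.s_mem⟩
      have e0 : (χ0 z0 : ℂ) = -1 := by
        rw [← hξs]
        refine congrArg (fun x => ((ξ x : ℂˣ) : ℂ)) (Subtype.ext ?_)
        show (g : G)⁻¹ * ((g : G) * h.sElt * (g : G)⁻¹) * g = h.sElt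
        group
      have e1 : (χ0 z0 : ℂ) * ∑ z : h.zSub, (χ0 z : ℂ) = ∑ z : h.zSub, (χ0 z : ℂ) := by
        rw [Finset.mul_sum]
        exact Fintype.sum_equiv (Equiv.mulLeft z0) _ _ fun z => by simp
      rw [e0] at e1
      linear_combination (-1 / 2 : ℂ) * e1
    have e2 := h.qInd_s (isClassFunction_of_isCharacter
      (isCharacter_of_isIrrCharacter (h.twist_irr (ξ := ξ) ψ g)))
    rw [e2, Finset.sum_congr rfl (g := fun z => (ψ : Q → ℂ) 1 * (χ0 z : ℂ)) fun z _ => by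
      simp only [twist]; rw [(hΨQ ψ hψ).1.1 _ z.2]; rfl,
      ← Finset.mul_sum, hsum, twist, map_one, map_one, Units.val_one, mul_one, dg_eq]
    ring
  have horth_pp : ∀ ψ ∈ Ψ, ∀ ψ' ∈ Ψ, ψ ≠ ψ' →
      classInner (qInd a Q (ψ : Q → ℂ)) (qInd a Q (ψ' : Q → ℂ)) = 0 :=
    fun ψ hψ ψ' hψ' hne' => h.classInner_qInd_eq_zero ψ.2 ψ'.2
      fun d e => hne' (hΨconj ψ' hψ' ψ hψ d e).symm
  have horth_pt : ∀ ψ ∈ Ψ, ∀ ψ' ∈ Ψ, ∀ g,
      classInner (qInd a Q (ψ : Q → ℂ)) (qInd a Q (h.twist ψ' g ξ)) = 0 :=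
    fun ψ hψ ψ' hψ' g => h.classInner_qInd_eq_zero ψ.2 (h.twist_irr ψ' g) fun d e => by
      rw [h.cj_twist] at e
      exact h.twist_ne_plain hξs hξ (h.cj_quotIrr d (hΨQ ψ' hψ').1) (hΨQ ψ hψ).1 _ e
  have horth_tt : ∀ ψ ∈ Ψ, ∀ ψ' ∈ Ψ, ψ ≠ ψ' → ∀ g g',
      classInner (qInd a Q (h.twist ψ g ξ)) (qInd a Q (h.twist ψ' g' ξ)) = 0 :=
    fun ψ hψ ψ' hψ' hne' g g' =>
      h.classInner_qInd_eq_zero (h.twist_irr ψ g) (h.twist_irr ψ' g') fun d e =>
        hne' (hΨconj ψ' hψ' ψ hψ d (hconj_twist (hΨQ ψ' hψ').1 (hΨQ ψ hψ).1 e).1).symm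
  have hcl : ∀ ψ g, IsClassFunction Q (h.twist ψ g ξ) := fun ψ g =>
    isClassFunction_of_isCharacter (isCharacter_of_isIrrCharacter (h.twist_irr ψ g))
  have hIch : ∀ {φ : Q → ℂ}, IsIrrCharacter Q φ → IsCharacter _ (qInd a Q φ) :=
    fun hφ => h.isCharacter_qInd (isCharacter_of_isIrrCharacter hφ)
  have hV0 : (0 : ℤ) < V := by exact_mod_cast Nat.card_pos
  have hq4 : 4 ≤ q := h.four_le_card_zSub
  have hsys : ∀ ψ ∈ Ψ, ∃ P : Finset (IrrCharacter G × IrrCharacter G),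
      P.card = Nat.card (h.stabCj (ψ : Q → ℂ)) ∧
      (∀ p ∈ P, p.1 ≠ p.2 ∧ IsPair a (qInd a Q (ψ : Q → ℂ)) (qInd a Q (h.twist ψ 1 ξ)) p) ∧
      (∀ p ∈ P, ∀ r ∈ P, p ≠ r → ∀ b c, pairMem p b ≠ pairMem r c) ∧
      ∀ p ∈ P, ∃ δp : ℤ, δp * P.card = ((q * V * dg ψ : ℕ) : ℤ) ∧
        2 * (tv t p.1 : ℝ) = h.kap * dg p.1 + δp ∧ 2 * (tv t p.2 : ℝ) = h.kap * dg p.2 - δp := by
    intro ψ hψ
    obtain ⟨hQ', hV'⟩ := hΨQ ψ hψ
    haveI := h.isCyclic_of_inf_kw (h.stab_inf_kw IH hab hQ')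
    simp only [htw1]
    refine h.exists_pairSystem ψ ξ (fun d hd => hξ d (hV' d hd)) (fun d e => ?_) (fun d e => ?_)
      ?_ ?_
    · rw [← htw1] at e
      exact h.mem_stabCj.2 (hconj_twist hQ' hQ' e).1
    · rw [← htw1, h.cj_twist] at e
      exact h.twist_ne_plain hξs hξ (h.cj_quotIrr d hQ') hQ' _ e
    · rw [← htw1, hs_plain ψ hψ, hs_twist ψ hψ]
      push_cast
      ring
    · exact_mod_cast (Nat.mul_pos (Nat.mul_pos (by omega) Nat.card_pos) (dg_pos ψ)).ne'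
  choose! P hPcard hPpair hPdis hPeq using hsys
  have hPne : ∀ ψ ∈ Ψ, ∀ p ∈ P ψ, p.1 ≠ p.2 := fun ψ hψ p hp => (hPpair ψ hψ p hp).1
  have hPP : ∀ ψ ∈ Ψ, ∀ ψ' ∈ Ψ, ψ ≠ ψ' → ∀ p ∈ P ψ, ∀ r ∈ P ψ', ∀ b c,
      pairMem p b ≠ pairMem r c := by
    intro ψ hψ ψ' hψ' hne' p hp r hr
    obtain ⟨-, hp'⟩ := hPpair ψ hψ p hp
    obtain ⟨-, hr'⟩ := hPpair ψ' hψ' r hr
    refine h.pair_disjoint hp' hr' (hPne ψ hψ p hp) (hPne ψ' hψ' r hr) ?_
    obtain ⟨B, B', hB, hB', hBv, hlift, -, -, hd, hd'⟩ := hr'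
    have z0 := hd _ (hIch ψ.2) (horth_pp ψ hψ ψ' hψ' hne')
    have z1 := hd _ (hIch (h.twist_irr ψ 1))
      (classInner_symm_zero h (horth_pt ψ' hψ' ψ hψ 1))
    have z0' := hd' _ (hIch ψ.2) (horth_pt ψ hψ ψ' hψ' 1)
    have z1' := hd' _ (hIch (h.twist_irr ψ 1)) (horth_tt ψ hψ ψ' hψ' hne' 1 1)
    have e := h.classInner_lift_pair hp' hB hB' hBv (classInner_symm_zero h z0)
      (classInner_symm_zero h z1) (classInner_symm_zero h z0') (classInner_symm_zero h z1')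
    rw [hlift] at e
    exact classInner_symm_zero h e
  -- tops
  set Kne : Finset (twoStab a t) :=
    Finset.univ.filter fun k => (k : G) ∈ h.kSub ∧ k ≠ 1 with hKdef
  have hKm : ∀ k, k ∈ Kne ↔ (k : G) ∈ h.kSub ∧ k ≠ 1 := fun k => by simp [hKdef]
  let Y : IrrCharacter Q → twoStab a t → G → ℂ := fun ψ k =>
    lift a (qInd a Q (ψ : Q → ℂ) - qInd a Q (h.twist ψ k ξ))
  have hv2 : ∀ (ψ : IrrCharacter Q) k, VanishTwo a (qInd a Q (ψ : Q → ℂ) - qInd a Q (h.twist ψ k ξ)) := fun ψ k =>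
    h.vanishTwo_qInd (irr_isClassFunction ψ) (hcl ψ k) (by simp [twist])
  have hcl2 : ∀ (ψ : IrrCharacter Q) k,
      IsClassFunction _ (qInd a Q (ψ : Q → ℂ) - qInd a Q (h.twist ψ k ξ)) := fun ψ k =>
    isClassFunction_sub (isClassFunction_of_isCharacter (hIch ψ.2))
      (isClassFunction_of_isCharacter (hIch (h.twist_irr ψ k)))
  have hYgen : ∀ ψ k, IsGeneralizedCharacter G (Y ψ k) := fun ψ k =>
    lift_isGeneralized ⟨_, _, hIch ψ.2, hIch (h.twist_irr ψ k), rfl⟩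
  have hYY : ∀ ψ k ψ' k', classInner (Y ψ k) (Y ψ' k') =
      classInner (qInd a Q (ψ : Q → ℂ) - qInd a Q (h.twist ψ k ξ))
        (qInd a Q (ψ' : Q → ℂ) - qInd a Q (h.twist ψ' k' ξ)) := fun ψ k ψ' k' =>
    h.classInner_lift (hv2 ψ k) (hv2 ψ' k') (hcl2 ψ' k')
  have hYp_zero : ∀ ψ ∈ Ψ, ∀ ψ' ∈ Ψ, ψ ≠ ψ' → ∀ k, ∀ p ∈ P ψ',
      classInner (Y ψ k) ((p.1 : G → ℂ) - (p.2 : G → ℂ)) = 0 := by
    intro ψ hψ ψ' hψ' hne' k p hp
    exact h.classInner_lift_pair (hPpair ψ' hψ' p hp).2 (hIch ψ.2) (hIch (h.twist_irr ψ k))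
      (hv2 ψ k) (horth_pp ψ hψ ψ' hψ' hne') (horth_pt ψ hψ ψ' hψ' 1)
      (classInner_symm_zero h (horth_pt ψ' hψ' ψ hψ k)) (horth_tt ψ hψ ψ' hψ' hne' k 1)
  have hdone : ∀ ψ ∈ Ψ, ∀ k ∈ Kne, ∃ R ρ, IsTop (P ψ) (Y ψ k) R ρ := by
    intro ψ hψ k hk
    obtain ⟨hkK, hk1⟩ := (hKm k).1 hk
    obtain ⟨hQ', hV'⟩ := hΨQ ψ hψ
    refine exists_top (hPne ψ hψ) (hPdis ψ hψ) (hYgen ψ k) (fun p hp => ?_) ?_
    · obtain ⟨-, A, A', hA, hA', hAv, hlift, hA1, hA0, hd, hd'⟩ := hPpair ψ hψ p hp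
      have e1 : classInner (qInd a Q (h.twist ψ k ξ)) A = 0 :=
        hd _ (hIch (h.twist_irr ψ k)) (classInner_symm_zero h (horth_pt ψ hψ ψ hψ k))
      have e2 : classInner (qInd a Q (h.twist ψ k ξ)) A' = 0 := by
        refine hd' _ (hIch (h.twist_irr ψ k)) (h.classInner_qInd_eq_zero (h.twist_irr ψ k)
          (h.twist_irr ψ 1) fun d e => hk1 (Subtype.ext ?_))
        obtain ⟨e1, e2⟩ := hconj_twist hQ' hQ' e
        have hdv := hV' d (h.mem_stabCj.2 e1)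
        refine h.v_inf_k ?_ hkK
        have := mul_mem hdv e2
        simpa using this
      rw [← hlift, h.classInner_lift (hv2 ψ k) hAv (isClassFunction_sub
        (isClassFunction_of_isCharacter hA) (isClassFunction_of_isCharacter hA'))]
      simp only [classInner_sub_left, classInner_sub_right, hA1, hA0, e1, e2, sub_zero]
    · rw [hYY, hPcard ψ hψ]
      have e3 : classInner (qInd a Q (h.twist ψ k ξ)) (qInd a Q (h.twist ψ k ξ)) = 1 := by
        have hbot : h.stabCj (h.twist ψ k ξ) = ⊥ := by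
          rw [eq_bot_iff]
          intro d hd
          exact Subgroup.mem_bot.2 (h.top_free hξs hξ IH hab hQ' hV' hkK hk1 (h.mem_stabCj.1 hd))
        have := h.classInner_qInd_self ⟨_, h.twist_irr (ξ := ξ) ψ k⟩
        rw [this, hbot, Subgroup.card_bot, Nat.cast_one]
      simp only [classInner_sub_left, classInner_sub_right, h.classInner_qInd_self ψ,
        horth_pt ψ hψ ψ hψ k, classInner_symm_zero h (horth_pt ψ hψ ψ hψ k), e3]
      ring
  choose! R ρ hR using hdone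
  have hRnotmem : ∀ ψ ∈ Ψ, ∀ k ∈ Kne, ∀ ψ' ∈ Ψ, R ψ k ∉ memSet (P ψ') := by
    intro ψ hψ k hk ψ' hψ'
    by_cases e : ψ = ψ'
    · subst e; exact (hR ψ hψ k hk).not_mem
    · exact (top_disjoint (hPne ψ' hψ') (hPP ψ hψ ψ' hψ' e) (hR ψ hψ k hk)
        (hYp_zero ψ hψ ψ' hψ' e k)).1
  have hRinj : ∀ ψ ∈ Ψ, ∀ k ∈ Kne, ∀ ψ' ∈ Ψ, ∀ k' ∈ Kne, R ψ k = R ψ' k' →
      ∃ d, h.cj d (h.twist ψ k ξ) = h.twist ψ' k' ξ := by
    intro ψ hψ k hk ψ' hψ' k' hk' e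
    by_contra hno
    push Not at hno
    have e0 : classInner (qInd a Q (h.twist ψ' k' ξ)) (qInd a Q (h.twist ψ k ξ)) = 0 :=
      h.classInner_qInd_eq_zero (h.twist_irr ψ' k') (h.twist_irr ψ k) hno
    by_cases hψψ : ψ = ψ'
    · subst hψψ
      refine top_ne_top (hPne ψ hψ) (hPdis ψ hψ)
        (fun p hp => h.pair_one_eq (hPpair ψ hψ p hp).2) (hR ψ hψ k hk) (hR ψ hψ k' hk')
        (h.lift_one (hv2 ψ k)) (h.lift_one (hv2 ψ k')) ?_ e
      rw [hYY, hPcard ψ hψ]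
      simp only [classInner_sub_left, classInner_sub_right, h.classInner_qInd_self ψ,
        horth_pt ψ hψ ψ hψ k', classInner_symm_zero h (horth_pt ψ hψ ψ hψ k),
        classInner_symm_zero h e0, sub_zero]
    · refine top_ne_top' (hPne ψ hψ) (hPne ψ' hψ') (hPdis ψ hψ) (hPP ψ hψ ψ' hψ' hψψ)
        (hR ψ hψ k hk) (hR ψ' hψ' k' hk') (hYp_zero ψ' hψ' ψ hψ (Ne.symm hψψ) k') ?_ e
      rw [hYY]
      simp only [classInner_sub_left, classInner_sub_right, horth_pp ψ hψ ψ' hψ' hψψ,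
        horth_pt ψ hψ ψ' hψ' k', classInner_symm_zero h (horth_pt ψ' hψ' ψ hψ k),
        classInner_symm_zero h e0, sub_zero]
  have hTeq : ∀ ψ ∈ Ψ, ∀ k ∈ Kne, 2 * (ρ ψ k : ℝ) * (tv t (R ψ k) : ℝ) =
      ((q * V * dg ψ : ℕ) : ℝ) + h.kap * (ρ ψ k) * dg (R ψ k) := by
    intro ψ hψ k hk
    have e := h.top_equation (δ := ((q * V * dg ψ : ℕ) : ℤ)) (hcl2 ψ k) (hv2 ψ k) (by
        rw [Pi.sub_apply, hs_plain ψ hψ, hs_twist ψ hψ]
        push_cast
        ring)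
      (hPne ψ hψ) (hPdis ψ hψ)
      (fun p hp => ⟨h.pair_one_eq (hPpair ψ hψ p hp).2, hPeq ψ hψ p hp⟩) (hR ψ hψ k hk)
    exact_mod_cast e
  have hwt : ∀ ψ ∈ Ψ, ∀ k ∈ Kne, ((q * V * dg ψ : ℕ) : ℝ) ≤ h.wt (R ψ k) := by
    intro ψ hψ k hk
    have e := hTeq ψ hψ k hk
    have hd : 0 ≤ h.kap * (dg (R ψ k) : ℝ) := mul_nonneg h.kap_pos.le (Nat.cast_nonneg _)
    have habs := abs_nonneg (tv t (R ψ k) : ℝ)
    rw [wt]
    rcases (hR ψ hψ k hk).unit with e1 | e1 <;> rw [e1] at e <;> push_cast at e ⊢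
    · have := le_abs_self (tv t (R ψ k) : ℝ)
      linarith
    · have := neg_abs_le (tv t (R ψ k) : ℝ)
      linarith
  -- fibres
  set S := B0 ×ˢ Kne with hSdef
  let top : IrrCharacter Q × twoStab a t → IrrCharacter G := fun x => R (rep x.1) x.2
  have hrepΨ : ∀ χ ∈ B0, rep χ ∈ Ψ := fun χ hχ => Finset.mem_image_of_mem _ hχ
  have hfib : ∀ X, (S.filter fun x => top x = X).card ≤ Nat.card (twoStab a t) := by
    intro X
    rcases (S.filter fun x => top x = X).eq_empty_or_nonempty with e | ⟨x₀, hx₀⟩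
    · rw [e]; simp
    rw [Finset.mem_filter, Finset.mem_product] at hx₀
    obtain ⟨⟨hχ₀, hk₀⟩, hX₀⟩ := hx₀
    have key : ∀ x ∈ S.filter (fun x => top x = X), ∃ d,
        h.cj d (h.twist (rep x₀.1) x₀.2 ξ) = h.twist x.1 ((c x.1)⁻¹ * x.2) ξ := by
      intro x hx
      rw [Finset.mem_filter, Finset.mem_product] at hx
      obtain ⟨⟨hχ, hk⟩, hX⟩ := hx
      obtain ⟨d, hd⟩ := hRinj _ (hrepΨ _ hχ₀) _ hk₀ _ (hrepΨ _ hχ) _ hk (hX₀.trans hX.symm)
      refine ⟨(c x.1)⁻¹ * d, ?_⟩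
      rw [h.cj_mul, hd, h.cj_twist]
      refine congrArg (fun ψ => h.twist ψ _ ξ) (Subtype.ext ?_)
      show h.cj (c x.1)⁻¹ (rep x.1 : Q → ℂ) = (x.1 : Q → ℂ)
      rw [← hc x.1 hχ, ← h.cj_mul, inv_mul_cancel, h.cj_one]
    choose! f hf using key
    rw [Nat.card_eq_fintype_card, ← Finset.card_univ]
    refine Finset.card_le_card_of_injOn f (fun x _ => Finset.mem_univ _) ?_
    intro x hx y hy e
    rw [Finset.mem_coe] at hx hy
    have e1 := hf x hx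
    rw [e, hf y hy] at e1
    rw [Finset.mem_filter, Finset.mem_product, hB0m, hKm] at hx hy
    obtain ⟨e2, e3⟩ := h.twist_eq hξs hξ hy.1.1 hx.1.1 e1
    rw [e2] at e3
    have e4 : ((y.2 : G)⁻¹ * x.2) ∈ vSub a t := by
      simpa [mul_assoc] using e3
    exact Prod.ext e2.symm (Subtype.ext (inv_mul_eq_one.1
      (h.v_inf_k e4 (mul_mem (inv_mem hy.1.2.1) hx.1.2.1))).symm)
  have hKcard : (Kne.card : ℝ) = (q : ℝ) - 2 := by
    have e : Kne.card + 1 = Nat.card h.kSub := by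
      have e1 : Kne = (Finset.univ.filter fun k : twoStab a t => (k : G) ∈ h.kSub).erase 1 := by
        ext k
        simp [hKm, and_comm]
      rw [e1, Finset.card_erase_add_one (by simp [one_mem]), ← Fintype.card_subtype,
        ← Nat.card_eq_fintype_card]
      exact Nat.card_congr ((Equiv.subtypeSubtypeEquivSubtype fun hx => h.kSub_le hx))
    rw [hq, h.card_zSub, ← e]
    push_cast
    ring
  have hD : (Nat.card (twoStab a t) : ℝ) = (V : ℝ) * ((q : ℝ) - 1) := by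
    rw [h.card_twoStab, hq, h.card_zSub]
    push_cast
    ring
  set S2 := ∑ χ ∈ B0, (dg χ : ℝ) ^ 2 with hS2def
  have hB0S2 : (B0.card : ℝ) ≤ S2 := by
    have hle1 : ∀ χ ∈ B0, (1 : ℝ) ≤ (dg χ : ℝ) ^ 2 := fun χ _ => by
      have e : (1 : ℝ) ≤ (dg χ : ℝ) := by exact_mod_cast dg_pos χ
      nlinarith
    simpa using Finset.sum_le_sum hle1
  have htopsum : ((q : ℝ) - 2) * ((q : ℝ) * V) ^ 2 * S2 ≤ ∑ x ∈ S, h.wt (top x) ^ 2 := by
    have e : ((q : ℝ) - 2) * ((q : ℝ) * V) ^ 2 * S2 =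
        ∑ x ∈ S, ((q * V * dg x.1 : ℕ) : ℝ) ^ 2 := by
      rw [hSdef, Finset.sum_product, hS2def, Finset.mul_sum]
      refine Finset.sum_congr rfl fun χ _ => ?_
      dsimp only
      rw [Finset.sum_const, nsmul_eq_mul, hKcard]
      push_cast
      ring
    rw [e]
    refine Finset.sum_le_sum fun x hx => ?_
    rw [hSdef, Finset.mem_product] at hx
    refine pow_le_pow_left₀ (Nat.cast_nonneg _) ?_ 2
    have := hwt _ (hrepΨ _ hx.1) _ hx.2
    rwa [hrepd _ hx.1] at this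
  have hfreeK : q - 1 ≤ B0.card := by
    obtain ⟨χ, hχ⟩ := hne
    have hst := h.stab_inf_kw IH hab ((hB0m χ).1 hχ)
    have e : Nat.card h.kSub = q - 1 := by rw [hq, h.card_zSub]; omega
    rw [← e, ← Nat.card_eq_finsetCard]
    refine Nat.card_le_card_of_injective (fun k : h.kSub =>
      (⟨⟨_, h.cj_irr (⟨k, h.kSub_le k.2⟩ : twoStab a t) χ.2⟩,
        (hB0m _).2 (h.cj_quotIrr _ ((hB0m χ).1 hχ))⟩ : B0)) ?_
    intro k k' e'
    have e1 : h.cj ⟨k, h.kSub_le k.2⟩ (χ : Q → ℂ) = h.cj ⟨k', h.kSub_le k'.2⟩ (χ : Q → ℂ) :=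
      congrArg Subtype.val (congrArg Subtype.val e')
    have hmem : (⟨(k' : G)⁻¹ * k, mul_mem (inv_mem (h.kSub_le k'.2)) (h.kSub_le k.2)⟩ :
        twoStab a t) ∈ h.stabCj (χ : Q → ℂ) ⊓ h.kwSub := by
      refine ⟨?_, Subgroup.mem_subgroupOf.2 (Subgroup.mem_sup_left
        (mul_mem (inv_mem k'.2) k.2))⟩
      show h.cj (⟨k', h.kSub_le k'.2⟩⁻¹ * ⟨k, h.kSub_le k.2⟩) (χ : Q → ℂ) = χ
      rw [h.cj_mul, e1, ← h.cj_mul, inv_mul_cancel, h.cj_one]
    rw [hst, Subgroup.mem_bot] at hmem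
    exact Subtype.ext (inv_mul_eq_one.1 (congrArg Subtype.val hmem)).symm
  have hS2q : (q : ℝ) - 1 ≤ S2 := by
    refine le_trans ?_ hB0S2
    have : q ≤ B0.card + 1 := by omega
    have : (q : ℝ) ≤ (B0.card : ℝ) + 1 := by exact_mod_cast this
    linarith
  have hVpos : (0 : ℝ) < V := by exact_mod_cast Nat.card_pos
  rcases Nat.lt_or_ge 4 q with hq8 | hq44
  · have hq8' : 8 ≤ q := by
      obtain ⟨n, hn, e⟩ := h.exists_card_zSub
      rw [← hq] at e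
      rcases Nat.lt_or_ge n 3 with h3 | h3
      · have : n = 2 := by omega
        subst this
        omega
      · rw [e]
        exact le_trans (by norm_num) (Nat.pow_le_pow_right (by norm_num) h3)
    have hq8r : (8 : ℝ) ≤ q := by exact_mod_cast hq8'
    have hb := sum_comp_le_of_fibre S top (fun X => h.wt X ^ 2) (fun X => sq_nonneg _) _ hfib
    have hb2 := mul_le_mul_of_nonneg_left (h.sum_wt_sq (S.image top))
      (Nat.cast_nonneg (Nat.card (twoStab a t)) : (0 : ℝ) ≤ _)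
    have e := (htopsum.trans hb).trans hb2
    rw [hD, ← hV, ← hq, ← hN, hS2] at e
    have e' : (q : ℝ) * V ^ 2 * (((q : ℝ) - 2) * q * S2) ≤
        (q : ℝ) * V ^ 2 * (((q : ℝ) - 1) * (4.5 * (S2 + 1) + 9)) := by
      linear_combination e
    have e'' := le_of_mul_le_mul_left e' (by positivity)
    have hcoef : 0 ≤ (q : ℝ) ^ 2 - 6.5 * q + 4.5 := by nlinarith
    have hmul := mul_le_mul_of_nonneg_left hS2q hcoef
    nlinarith [e'', hmul, mul_nonneg (by linarith : (0 : ℝ) ≤ (q : ℝ) - 1)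
      (by nlinarith : (0 : ℝ) ≤ (q : ℝ) ^ 2 - 6.5 * q + 4.5 - 16.5)]
  -- the case of four elements
  have hq' : q = 4 := by omega
  have hWV : ∀ d ∈ vSub a t, d ∈ wSub a t := by
    intro d hd
    rw [h.mem_wSub_iff_z hd.1]
    intro z hz
    rcases eq_or_ne z 1 with rfl | hz1
    · rw [mul_one, one_mul]
    rcases eq_or_ne z h.sElt with rfl | hzs
    · exact (h.v_iff_s hd.1).1 hd
    have himg : ∀ y ∈ h.zSub, y ≠ 1 → y ≠ h.sElt →
        d * y * d⁻¹ ≠ 1 ∧ d * y * d⁻¹ ≠ h.sElt := by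
      intro y _ hy1 hys
      refine ⟨fun e' => hy1 (conj_eq_one_iff.1 e'), fun e' => hys ?_⟩
      rw [← h.v_s hd] at e'
      exact mul_left_cancel (mul_right_cancel e')
    have hthree : ∀ y y' w, y ∈ h.zSub → y' ∈ h.zSub → w ∈ h.zSub → y ≠ 1 → y' ≠ 1 → w ≠ 1 →
        y ≠ h.sElt → y' ≠ h.sElt → w ≠ h.sElt → y ≠ w → y' ≠ w → y = y' := by
      intro y y' w hy hy' hw a1 a2 a3 b1 b2 b3 c1 c2
      by_contra hne'
      have hsub : (({1, h.sElt, w, y, y'} : Finset G) : Set G) ⊆ (h.zSub : Set G) := by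
        intro x hx
        simp only [Finset.coe_insert, Finset.coe_singleton, Set.mem_insert_iff,
          Set.mem_singleton_iff] at hx
        rcases hx with rfl | rfl | rfl | rfl | rfl
        · exact one_mem h.zSub
        · exact h.s_mem
        all_goals assumption
      have := Set.ncard_le_ncard hsub
      rw [Set.ncard_coe_finset, ← Nat.card_coe_set_eq] at this
      rw [Finset.card_insert_of_notMem (by simp [h.s_ne.symm, a1.symm, a2.symm, a3.symm]),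
        Finset.card_insert_of_notMem (by simp [b1.symm, b2.symm, b3.symm]),
        Finset.card_insert_of_notMem (by simp [c1.symm, c2.symm]),
        Finset.card_pair hne'] at this
      have h4 : Nat.card ↑(h.zSub : Set G) = 4 := hq'
      omega
    set z' := d * z * d⁻¹ with hz'
    have hz'm : z' ∈ h.zSub := h.conj_z (D_le h.hS hd.1) hz
    by_cases ez : z' = z
    · exact mul_inv_eq_iff_eq_mul.1 ez
    exfalso
    obtain ⟨a1, b1⟩ := himg z hz hz1 hzs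
    obtain ⟨a2, b2⟩ := himg z' hz'm a1 b1
    have hz''m : d * z' * d⁻¹ ∈ h.zSub := h.conj_z (D_le h.hS hd.1) hz'm
    have e1 : d * z' * d⁻¹ = z := by
      by_contra e1
      exact absurd (hthree (d * z' * d⁻¹) z z' hz''m hz hz'm a2 hz1 a1 b2 hzs b1
        (fun e' => ez (mul_left_cancel (mul_right_cancel (e' : d * z' * d⁻¹ = d * z * d⁻¹))))
        (Ne.symm ez)) e1
    have hfix : Commute (d * d) z := by
      have : d * d * z * (d * d)⁻¹ = z := by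
        calc d * d * z * (d * d)⁻¹ = d * z' * d⁻¹ := by rw [hz']; group
          _ = z := e1
      exact mul_inv_eq_iff_eq_mul.1 this
    have hc2 : z * d = d * z :=
      commute_of_commute_mul_self h.hS.odd_card hd.1 hfix.eq.symm
    exact ez (by rw [hz', ← hc2]; group)
  have hbot : ∀ ψ ∈ Ψ, h.stabCj (ψ : Q → ℂ) = ⊥ := by
    intro ψ hψ
    rw [eq_bot_iff, ← h.stab_inf_kw IH hab (hΨQ ψ hψ).1]
    intro y hy
    exact ⟨hy, Subgroup.mem_subgroupOf.2 (Subgroup.mem_sup_right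
      (hWV _ ((hΨQ ψ hψ).2 y hy)))⟩
  have hfreeD : Nat.card (twoStab a t) ≤ B0.card := by
    obtain ⟨χ, hχ⟩ := hne
    rw [← Nat.card_eq_finsetCard]
    refine Nat.card_le_card_of_injective (fun d : twoStab a t =>
      (⟨⟨_, h.cj_irr d χ.2⟩, (hB0m _).2 (h.cj_quotIrr _ ((hB0m χ).1 hχ))⟩ : B0)) ?_
    intro d d' e'
    have e1 : h.cj d (χ : Q → ℂ) = h.cj d' (χ : Q → ℂ) :=
      congrArg Subtype.val (congrArg Subtype.val e')
    have e2 : c χ * (d'⁻¹ * d) * (c χ)⁻¹ ∈ h.stabCj (rep χ : Q → ℂ) := by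
      rw [mem_stabCj, h.cj_mul, ← hc χ hχ, ← h.cj_mul (c χ)⁻¹, inv_mul_cancel, h.cj_one,
        h.cj_mul, h.cj_mul, e1, ← h.cj_mul d'⁻¹, inv_mul_cancel, h.cj_one]
    rw [hbot _ (hrepΨ χ hχ), Subgroup.mem_bot, conj_eq_one_iff, inv_mul_eq_one] at e2
    exact e2.symm
  have hPone : ∀ ψ ∈ Ψ, ∃ p, P ψ = {p} := by
    intro ψ hψ
    rw [← Finset.card_eq_one, hPcard ψ hψ, hbot ψ hψ, Subgroup.card_bot]
  choose! pp hpp using hPone
  set S' := B0 ×ˢ (Finset.univ : Finset Bool) with hS'def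
  let mem : IrrCharacter Q × Bool → IrrCharacter G := fun x => pairMem (pp (rep x.1)) x.2
  have hppm : ∀ χ ∈ B0, pp (rep χ) ∈ P (rep χ) := fun χ hχ => by
    rw [hpp _ (hrepΨ χ hχ)]; exact Finset.mem_singleton_self _
  have hfib' : ∀ X, (S'.filter fun x => mem x = X).card ≤ Nat.card (twoStab a t) := by
    intro X
    rcases (S'.filter fun x => mem x = X).eq_empty_or_nonempty with e | ⟨x₀, hx₀⟩
    · rw [e]; simp
    rw [Finset.mem_filter, Finset.mem_product] at hx₀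
    obtain ⟨⟨hχ₀, -⟩, hX₀⟩ := hx₀
    rw [Nat.card_eq_fintype_card, ← Finset.card_univ]
    have key : ∀ x ∈ S'.filter (fun x => mem x = X), rep x.1 = rep x₀.1 ∧ x.2 = x₀.2 := by
      intro x hx
      rw [Finset.mem_filter, Finset.mem_product] at hx
      have e : pairMem (pp (rep x.1)) x.2 = pairMem (pp (rep x₀.1)) x₀.2 := hx.2.trans hX₀.symm
      by_cases e1 : rep x.1 = rep x₀.1
      · refine ⟨e1, ?_⟩
        rw [e1] at e
        have hn := hPne _ (hrepΨ _ hχ₀) _ (hppm _ hχ₀)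
        cases h1 : x.2 <;> cases h2 : x₀.2 <;>
          simp [pairMem, h1, h2, hn, Ne.symm hn] at e ⊢
      · exact absurd e (hPP _ (hrepΨ _ hx.1.1) _ (hrepΨ _ hχ₀) e1 _ (hppm _ hx.1.1) _
          (hppm _ hχ₀) _ _)
    refine Finset.card_le_card_of_injOn (fun x => c x.1) (fun x _ => Finset.mem_univ _) ?_
    intro x hx y hy e
    rw [Finset.mem_coe] at hx hy
    obtain ⟨r1, b1⟩ := key x hx
    obtain ⟨r2, b2⟩ := key y hy
    rw [Finset.mem_filter, Finset.mem_product] at hx hy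
    refine Prod.ext (Subtype.ext (h.cj_inj (d := c x.1) ?_)) (b1.trans b2.symm)
    rw [hc _ hx.1.1, r1, ← r2, ← hc _ hy.1.1]
    exact congrArg (fun d => h.cj d (y.1 : Q → ℂ)) e.symm
  have hdisj : Disjoint (S.image top) (S'.image mem) := by
    rw [Finset.disjoint_left]
    intro X hX hX'
    obtain ⟨x, hx, rfl⟩ := Finset.mem_image.1 hX
    obtain ⟨y, hy, e⟩ := Finset.mem_image.1 hX'
    rw [hSdef, Finset.mem_product] at hx
    rw [hS'def, Finset.mem_product] at hy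
    exact hRnotmem _ (hrepΨ _ hx.1) _ hx.2 _ (hrepΨ _ hy.1)
      (mem_memSet.2 ⟨_, hppm _ hy.1, _, e⟩)
  have hmemeq : ∀ x ∈ S', ∃ ρ' : ℤ, (ρ' = 1 ∨ ρ' = -1) ∧ 2 * (ρ' : ℝ) * (tv t (mem x) : ℝ) =
      ((4 * V * dg x.1 : ℕ) : ℝ) + h.kap * ρ' * dg (mem x) := by
    intro x hx
    rw [hS'def, Finset.mem_product] at hx
    obtain ⟨δp, hδp, ha, hb⟩ := hPeq _ (hrepΨ _ hx.1) _ (hppm _ hx.1)
    rw [hPcard _ (hrepΨ _ hx.1), hbot _ (hrepΨ _ hx.1), Subgroup.card_bot, Nat.cast_one, mul_one,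
      hrepd _ hx.1, hq'] at hδp
    have hδr : (δp : ℝ) = ((4 * V * dg x.1 : ℕ) : ℝ) := by
      rw [hδp]; push_cast; ring
    obtain ⟨χ, b⟩ := x
    cases b
    · exact ⟨-1, Or.inr rfl, by
        simp only [mem, pairMem, cond_false]; push_cast; push_cast at hδr; linarith⟩
    · exact ⟨1, Or.inl rfl, by
        simp only [mem, pairMem, cond_true]; push_cast; push_cast at hδr; linarith⟩
  have hlow : ∀ X ∈ S.image top ∪ S'.image mem, ∃ χ ∈ B0, ∃ ρ' : ℤ, (ρ' = 1 ∨ ρ' = -1) ∧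
      2 * (ρ' : ℝ) * (tv t X : ℝ) = ((4 * V * dg χ : ℕ) : ℝ) + h.kap * ρ' * dg X := by
    intro X hX
    rcases Finset.mem_union.1 hX with hX | hX
    · obtain ⟨x, hx, rfl⟩ := Finset.mem_image.1 hX
      rw [hSdef, Finset.mem_product] at hx
      refine ⟨x.1, hx.1, ρ (rep x.1) x.2, (hR _ (hrepΨ _ hx.1) _ hx.2).unit, ?_⟩
      have e := hTeq _ (hrepΨ _ hx.1) _ hx.2
      rw [hrepd _ hx.1, hq'] at e
      exact e
    · obtain ⟨x, hx, rfl⟩ := Finset.mem_image.1 hX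
      obtain ⟨ρ', h1, h2⟩ := hmemeq x hx
      rw [hS'def, Finset.mem_product] at hx
      exact ⟨x.1, hx.1, ρ', h1, h2⟩
  have heven : ∀ X ∈ S.image top ∪ S'.image mem, 2 ≤ h.kap * dg X := by
    intro X hX
    obtain ⟨χ, -, ρ', hρ', e⟩ := hlow X hX
    have hpos : 0 < h.kap * dg X := mul_pos h.kap_pos (by exact_mod_cast dg_pos X)
    obtain ⟨j, hj⟩ : ∃ j : ℤ, h.kap * dg X = 2 * (j : ℝ) := by
      rcases hρ' with rfl | rfl
      · exact ⟨tv t X - 2 * V * dg χ, by push_cast at e ⊢; linarith⟩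
      · exact ⟨tv t X + 2 * V * dg χ, by push_cast at e ⊢; linarith⟩
    rw [hj] at hpos ⊢
    have : (0 : ℤ) < j := by
      by_contra hle'
      push Not at hle'
      have : (j : ℝ) ≤ 0 := by exact_mod_cast hle'
      linarith
    have : (1 : ℝ) ≤ (j : ℝ) := by exact_mod_cast this
    linarith
  have hKne2 : Kne.card = 2 := by
    have e : (Kne.card : ℝ) = 2 := by rw [hKcard, hq']; norm_num
    exact_mod_cast e
  have hD3 : (Nat.card (twoStab a t) : ℝ) = 3 * (V : ℝ) := by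
    rw [hD, hq']; push_cast; ring
  have hcount : 4 * (B0.card : ℝ) ≤ (V : ℝ) ^ 2 := by
    have e1 := sum_comp_le_of_fibre S top (fun _ => (1 : ℝ)) (fun _ => zero_le_one) _ hfib
    have e2 := sum_comp_le_of_fibre S' mem (fun _ => (1 : ℝ)) (fun _ => zero_le_one) _ hfib'
    simp only [Finset.sum_const, nsmul_eq_mul, mul_one, hSdef, hS'def, Finset.card_product,
      Finset.card_univ, Fintype.card_bool, hKne2, Nat.cast_mul, Nat.cast_ofNat] at e1 e2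
    rw [← hSdef] at e1
    rw [← hS'def] at e2
    rw [hD3] at e1 e2
    have e3 : (4 : ℝ) * ((S.image top ∪ S'.image mem).card : ℝ) ≤
        ∑ X ∈ S.image top ∪ S'.image mem, (h.kap * dg X) ^ 2 := by
      rw [mul_comm, ← nsmul_eq_mul, ← Finset.sum_const]
      refine Finset.sum_le_sum fun X hX => ?_
      nlinarith [heven X hX]
    have e4 := h.sum_kap_sq_sharp (S.image top ∪ S'.image mem)
    rw [← hV, ← hq, hq'] at e4
    rw [Finset.card_union_of_disjoint hdisj, Nat.cast_add] at e3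
    norm_num at e4
    nlinarith [e1, e2, e3, e4, hVpos]
  have hS2le : S2 ≤ 16.2 := by
    have e1 := htopsum.trans
      (sum_comp_le_of_fibre S top (fun X => h.wt X ^ 2) (fun X => sq_nonneg _) _ hfib)
    have e2 : 2 * ((4 : ℝ) * V) ^ 2 * S2 ≤ ∑ x ∈ S', h.wt (mem x) ^ 2 := by
      have e : 2 * ((4 : ℝ) * V) ^ 2 * S2 = ∑ x ∈ S', ((4 * V * dg x.1 : ℕ) : ℝ) ^ 2 := by
        rw [hS'def, Finset.sum_product, hS2def, Finset.mul_sum]
        refine Finset.sum_congr rfl fun χ _ => ?_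
        rw [Fintype.sum_bool]
        push_cast
        ring
      rw [e]
      refine Finset.sum_le_sum fun x hx => pow_le_pow_left₀ (Nat.cast_nonneg _) ?_ 2
      obtain ⟨ρ', hρ', e3⟩ := hmemeq x hx
      have hd : 0 ≤ h.kap * (dg (mem x) : ℝ) := mul_nonneg h.kap_pos.le (Nat.cast_nonneg _)
      have := abs_nonneg (tv t (mem x) : ℝ)
      have := le_abs_self (tv t (mem x) : ℝ)
      have := neg_abs_le (tv t (mem x) : ℝ)
      rw [wt]
      rcases hρ' with rfl | rfl <;> push_cast at e3 ⊢ <;> linarith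
    have e3 := e2.trans
      (sum_comp_le_of_fibre S' mem (fun X => h.wt X ^ 2) (fun X => sq_nonneg _) _ hfib')
    have e4 := h.sum_wt_sq (S.image top ∪ S'.image mem)
    rw [Finset.sum_union hdisj, ← hV, ← hq, ← hN, hS2, hq'] at e4
    rw [hD3] at e1 e3
    rw [hq'] at e1
    push_cast at e4 e1
    have e5 := mul_le_mul_of_nonneg_left e4 (by positivity : (0 : ℝ) ≤ 3 * (V : ℝ))
    have e6 : (V : ℝ) ^ 2 * (64 * S2) ≤ (V : ℝ) ^ 2 * (54 * S2 + 162) := by nlinarith [e1, e3, e5]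
    have := le_of_mul_le_mul_left e6 (by positivity)
    linarith
  have hB3 : 3 * (V : ℝ) ≤ B0.card := by
    rw [← hD3]; exact_mod_cast hfreeD
  nlinarith [hcount, hS2le, hB3, hB0S2, hVpos]

end Setup

end Cfsg.Agent.Lib.SplitRankOne70
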