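import Cfsg.Agent.Lib.SplitRankOne70.SemiReg
import Cfsg.Agent.Lib.ZStar.Final
import Cfsg.Agent.Lib.Signalizer.LayerBasic
import Cfsg.Prelude.Def_TwoFusion

/-!
Central involutions and lines of a simple two-transitive group of odd degree with a nilpotent normal
subgroup of odd index in the point stabiliser, transitive on the other points.
-/

set_option autoImplicit false
set_option linter.unusedSectionVars false
set_option linter.style.haveILetI false

namespace Cfsg.Agent.Lib.SplitRankOne70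

open MulAction

universe u v

variable {G : Type u} {Ω : Type v} [Group G] [MulAction G Ω] [Finite G] [FaithfulSMul G Ω]
  {a : Ω} {U : Subgroup G}

/-- The whole situation. -/
structure OddStab (G : Type u) (Ω : Type v) [Group G] [MulAction G Ω] (a : Ω) (U : Subgroup G) :
    Prop where
  nil : NilStab G Ω a U
  oddDeg : Odd (Nat.card Ω)
  oddIdx : Odd (U.relIndex (stabilizer G a))
  simple : IsSimpleGroup G
  three : 3 ≤ Nat.card Ω

namespace OddStab

variable (h : OddStab G Ω a U)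
include h

theorem finiteΩ : Finite Ω := Nat.finite_of_card_ne_zero (by have := h.three; omega)

theorem at_pt (c : Ω) : OddStab G Ω c (h.nil.uAt c) := by
  refine ⟨h.nil.at_pt c, h.oddDeg, ?_, h.simple, h.three⟩
  have e : stabilizer G c = (stabilizer G a).map (MulAut.conj (h.nil.toPt c)).toMonoidHom := by
    conv_lhs => rw [← h.nil.toPt_smul c]
    exact MulAction.stabilizer_smul_eq_stabilizer_map_conj _ _
  rw [e, NilStab.uAt, Subgroup.relIndex_map_map_of_injective _ _ (MulAut.conj (h.nil.toPt c)).injective]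
  exact h.oddIdx

/-- An element of 2-power order fixing `a` lies in `U`. -/
theorem two_elt_mem {x : G} (hxa : x • a = a) {k : ℕ} (hx : x ^ 2 ^ k = 1) : x ∈ U := by
  haveI : (U.subgroupOf (stabilizer G a)).Normal :=
    ⟨fun u hu g => Subgroup.mem_subgroupOf.2 (h.nil.conj_mem g g.2 u (Subgroup.mem_subgroupOf.1 hu))⟩
  set π := QuotientGroup.mk' (U.subgroupOf (stabilizer G a))
  set y : stabilizer G a := ⟨x, hxa⟩
  have h1 : orderOf (π y) ∣ 2 ^ k :=
    orderOf_dvd_of_pow_eq_one (by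
      rw [← map_pow, show y ^ 2 ^ k = 1 from Subtype.ext (by rw [SubmonoidClass.coe_pow]; exact hx),
        map_one])
  have h2 : orderOf (π y) ∣ U.relIndex (stabilizer G a) := by
    rw [Subgroup.relIndex, Subgroup.index]
    exact orderOf_dvd_natCard _
  have h3 := Nat.dvd_gcd h1 h2
  rw [(Nat.Coprime.pow_left k (Nat.coprime_two_left.2 h.oddIdx)).gcd_eq_one, Nat.dvd_one,
    orderOf_eq_one_iff] at h3
  exact Subgroup.mem_subgroupOf.1 ((QuotientGroup.eq_one_iff y).1 h3)

/-- The central elements of exponent two of the conjugate of `U` at `c`. -/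
noncomputable def zAt (c : Ω) : Subgroup G where
  carrier := {z | z ∈ h.nil.uAt c ∧ (∀ u ∈ h.nil.uAt c, z * u = u * z) ∧ z * z = 1}
  one_mem' := ⟨one_mem _, fun u _ => by rw [one_mul, mul_one], one_mul 1⟩
  mul_mem' := fun {x y} hx hy => ⟨mul_mem hx.1 hy.1, fun u hu => by
      rw [mul_assoc, hy.2.1 u hu, ← mul_assoc, hx.2.1 u hu, mul_assoc], by
      calc x * y * (x * y) = x * (y * x) * y := by group
        _ = x * (x * y) * y := by rw [hx.2.1 y hy.1]
        _ = (x * x) * (y * y) := by group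
        _ = 1 := by rw [hx.2.2, hy.2.2, one_mul]⟩
  inv_mem' := fun {x} hx => by rwa [inv_eq_of_mul_eq_one_right hx.2.2]

theorem mem_zAt {c : Ω} {z : G} :
    z ∈ h.zAt c ↔ z ∈ h.nil.uAt c ∧ (∀ u ∈ h.nil.uAt c, z * u = u * z) ∧ z * z = 1 := Iff.rfl

theorem z_fix {c : Ω} {z : G} (hz : z ∈ h.zAt c) : z • c = c := (h.nil.at_pt c).le hz.1

theorem z_eq_one {c d : Ω} {z : G} (hz : z ∈ h.zAt c) (hd : d ≠ c) (e : z • d = d) : z = 1 :=
  (h.nil.at_pt c).central_semireg hz.1 hz.2.1 hd e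

theorem z_fixed_unique {c d : Ω} {z : G} (hz : z ∈ h.zAt c) (hz1 : z ≠ 1) (e : z • d = d) : d = c :=
  by_contra fun hd => hz1 (h.z_eq_one hz hd e)

theorem conj_zAt (g : G) {c : Ω} {z : G} (hz : z ∈ h.zAt c) : g * z * g⁻¹ ∈ h.zAt (g • c) := by
  refine ⟨h.nil.conj_uAt g hz.1, fun u hu => ?_, ?_⟩
  · have hu' : g⁻¹ * u * g ∈ h.nil.uAt c := by
      have := h.nil.conj_uAt g⁻¹ hu
      rwa [inv_inv, inv_smul_smul] at this
    have := congrArg (fun x => g * x * g⁻¹) (hz.2.1 _ hu')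
    simpa [mul_assoc] using this
  · rw [show g * z * g⁻¹ * (g * z * g⁻¹) = g * (z * z) * g⁻¹ by group, hz.2.2]; group

theorem z_inv {c : Ω} {z : G} (hz : z ∈ h.zAt c) : z⁻¹ = z := inv_eq_of_mul_eq_one_right hz.2.2

/-- A conjugate of a central involution fixing `c` is central at `c`. -/
theorem zAt_of_conj {c d : Ω} {g z : G} (hz : z ∈ h.zAt d) (hz1 : z ≠ 1)
    (e : (g * z * g⁻¹) • c = c) : g * z * g⁻¹ ∈ h.zAt c := by
  have hm := h.conj_zAt g hz
  rwa [← h.z_fixed_unique hm (fun e' => hz1 (conj_eq_one_iff.1 e')) e] at hm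

theorem even_U : Even (Nat.card U) := by
  classical
  haveI := h.finiteΩ
  letI := Fintype.ofFinite Ω
  by_contra hodd
  rw [Nat.not_even_iff_odd] at hodd
  obtain ⟨b, hb⟩ : ∃ b : Ω, b ≠ a := Fintype.exists_ne_of_one_lt_card (by
    have := h.three; rw [Nat.card_eq_fintype_card] at this; omega) a
  have ho : orbit U b = {c : Ω | c ≠ a} := by
    ext c
    constructor
    · rintro ⟨u, rfl⟩ e
      exact hb (smul_left_cancel (u : G) ((show (u : G) • b = a from e).trans (h.nil.le u.2).symm))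
    · intro hc
      obtain ⟨u, hu, e⟩ := h.nil.move b hb c hc
      exact ⟨⟨u, hu⟩, e⟩
  have h1 : Nat.card (orbit U b) ∣ Nat.card U :=
    Nat.card_congr (MulAction.orbitEquivQuotientStabilizer U b) ▸
      Subgroup.card_quotient_dvd_card _
  rw [ho, Nat.card_eq_fintype_card] at h1
  simp only [Set.coe_setOf, Fintype.card_subtype_compl, Fintype.card_subtype_eq] at h1
  obtain ⟨m, hm⟩ := h.oddDeg
  rw [Nat.card_eq_fintype_card] at hm
  rw [hm, Nat.add_sub_cancel] at h1
  exact Nat.not_even_iff_odd.2 hodd (even_iff_two_dvd.2 ((Dvd.intro m rfl).trans h1))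

theorem exists_z : ∃ z ∈ h.zAt a, z ≠ 1 := by
  haveI : Fact (Nat.Prime 2) := ⟨Nat.prime_two⟩
  obtain ⟨z, hz, hc, ho⟩ := h.nil.exists_central_prime (even_iff_two_dvd.1 h.even_U)
  refine ⟨z, ⟨h.nil.uAt_a.symm ▸ hz, fun u hu => hc u (h.nil.uAt_a ▸ hu), ?_⟩, fun e => ?_⟩
  · rw [← pow_two, ← ho, pow_orderOf_eq_one]
  · rw [e, orderOf_one] at ho; norm_num at ho

omit h in
theorem z_mul_inv_pow {z y : G} (hy : z * y * z⁻¹ = y⁻¹) (k : ℕ) :
    z * (y ^ k)⁻¹ = y ^ k * z := by
  have := (conj_pow (i := k) (a := z) (b := y)).symm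
  rw [hy, inv_pow] at this
  calc z * (y ^ k)⁻¹ = (z * y ^ k * z⁻¹)⁻¹ * z := by group
    _ = y ^ k * z := by rw [this, inv_inv]

omit h in
theorem pow_conj_dihedral {z y : G} (hy : z * y * z⁻¹ = y⁻¹) (k : ℕ) :
    y ^ k * z * (y ^ k)⁻¹ = y ^ (2 * k) * z := by
  rw [mul_assoc, z_mul_inv_pow hy k, ← mul_assoc, ← pow_add, two_mul]

/-- Central involutions at different points have product of odd order. -/
theorem odd_mul {c d : Ω} (hcd : c ≠ d) {z z' : G} (hz : z ∈ h.zAt c) (hz1 : z ≠ 1)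
    (hz' : z' ∈ h.zAt d) (hz1' : z' ≠ 1) : Odd (orderOf (z * z')) := by
  by_contra hev
  rw [Nat.not_odd_iff_even] at hev
  obtain ⟨l, hl⟩ := hev
  set y := z * z' with hy
  have hl0 : l ≠ 0 := fun e => by have := orderOf_pos y; omega
  have hyz : z * y * z⁻¹ = y⁻¹ := by
    rw [hy, mul_inv_rev, h.z_inv hz, h.z_inv hz', ← mul_assoc, hz.2.2, one_mul]
  set j := y ^ l with hj
  have hj1 : j ≠ 1 := pow_ne_one_of_lt_orderOf hl0 (by omega)
  have hjj : j * j = 1 := by rw [hj, ← pow_add, ← hl, pow_orderOf_eq_one]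
  have hjz : z * j = j * z := by
    have := conj_pow (i := l) (a := z) (b := y)
    rw [hyz, inv_pow, ← hj, inv_eq_of_mul_eq_one_right hjj] at this
    exact (mul_inv_eq_iff_eq_mul.1 this.symm)
  have hjc : j • c = c := h.z_fixed_unique hz hz1 (by rw [smul_smul, hjz, mul_smul, h.z_fix hz])
  have hjd : j • d = d := by
    refine h.z_fixed_unique hz' hz1' ?_
    have hjz' : z' * j = j * z' := by
      have e : z' = z * y := by rw [hy, ← mul_assoc, hz.2.2, one_mul]
      have hjy : y * j = j * y := (Commute.pow_right (Commute.refl y) l).eq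
      rw [e, mul_assoc, hjy, ← mul_assoc, hjz, mul_assoc]
    rw [smul_smul, hjz', mul_smul, h.z_fix hz']
  -- `j z` is conjugate to `z` or to `z'`
  have hfix : (j * z) • c = c := by rw [mul_smul, h.z_fix hz, hjc]
  have hmem : j * z ∈ h.zAt c := by
    rcases Nat.even_or_odd' l with ⟨k, hk | hk⟩
    · have e : j * z = y ^ k * z * (y ^ k)⁻¹ := by rw [pow_conj_dihedral hyz, hj, hk]
      rw [e] at hfix ⊢
      exact h.zAt_of_conj hz hz1 hfix
    · have e : j * z = (y ^ (k + 1)) * z' * (y ^ (k + 1))⁻¹ := by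
        have ez : z' = y⁻¹ * z := by
          rw [hy, mul_inv_rev, h.z_inv hz, h.z_inv hz', mul_assoc, hz.2.2, mul_one]
        rw [ez, ← mul_assoc, show y ^ (k + 1) * y⁻¹ = y ^ k by rw [pow_succ, mul_inv_cancel_right],
          mul_assoc, z_mul_inv_pow hyz, ← mul_assoc, ← pow_add, hj, hk]
        congr 2
        omega
      rw [e] at hfix ⊢
      exact h.zAt_of_conj hz' hz1' hfix
  have : j ∈ h.zAt c := by
    have := mul_mem hmem hz
    rwa [mul_assoc, hz.2.2, mul_one] at this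
  exact hj1 (h.z_eq_one this hcd.symm hjd)

/-- The involution interchanging two points, made from central involutions at them. -/
theorem exists_swap {c d : Ω} (hcd : c ≠ d) {z z' : G} (hz : z ∈ h.zAt c) (hz1 : z ≠ 1)
    (hz' : z' ∈ h.zAt d) (hz1' : z' ≠ 1) :
    ∃ e : Ω, ∃ τ ∈ h.zAt e, τ ≠ 1 ∧ τ * z * τ = z' ∧ τ • c = d ∧ τ • d = c ∧
      ∀ g : G, g * z = z * g → g * z' = z' * g → g * τ = τ * g := by
  obtain ⟨i, hi⟩ := h.odd_mul hcd hz hz1 hz' hz1'
  set y := z * z' with hy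
  have hyz : z * y * z⁻¹ = y⁻¹ := by
    rw [hy, mul_inv_rev, h.z_inv hz, h.z_inv hz', ← mul_assoc, hz.2.2, one_mul]
  set k := i * (i + 1)
  have hk : y ^ (2 * k) = y ^ i := by
    rw [show 2 * k = i + i * (2 * i + 1) by ring, pow_add, mul_comm i (2 * i + 1), pow_mul, ← hi,
      pow_orderOf_eq_one, one_pow, mul_one]
  set τ := y ^ i * z with hτ
  have hτc : τ = y ^ k * z * (y ^ k)⁻¹ := by rw [pow_conj_dihedral hyz, hk]
  have hmem : τ ∈ h.zAt (y ^ k • c) := hτc ▸ h.conj_zAt _ hz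
  have hτ1 : τ ≠ 1 := fun e => hz1 (conj_eq_one_iff.1 (hτc ▸ e))
  have hconj : τ * z * τ = z' := by
    have ez : z' = y⁻¹ * z := by
      rw [hy, mul_inv_rev, h.z_inv hz, h.z_inv hz', mul_assoc, hz.2.2, mul_one]
    have e1 : y ^ i * (y ^ i * z) = y ^ (i + i) * z := by rw [← mul_assoc, ← pow_add]
    have e2 : y ^ (i + i) = y⁻¹ := by
      rw [eq_inv_iff_mul_eq_one, ← pow_succ, show i + i + 1 = 2 * i + 1 by ring, ← hi,
        pow_orderOf_eq_one]
    calc τ * z * τ = y ^ i * (z * z) * (y ^ i * z) := by rw [hτ]; group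
      _ = z' := by rw [hz.2.2, mul_one, e1, e2, ez]
  have hττ : τ * τ = 1 := hmem.2.2
  have h1 : τ • c = d := by
    refine h.z_fixed_unique hz' hz1' ?_
    rw [← hconj, smul_smul, mul_assoc, hττ, mul_one, mul_smul, h.z_fix hz]
  refine ⟨_, τ, hmem, hτ1, hconj, h1, ?_, fun g hg hg' => ?_⟩
  · rw [← h1, smul_smul, hττ, one_smul]
  · exact (Commute.mul_right (Commute.pow_right (Commute.mul_right hg hg') i) hg).eq

theorem exists_z_at (c : Ω) : ∃ z ∈ h.zAt c, z ≠ 1 := by
  obtain ⟨z, hz, hz1⟩ := h.exists_z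
  obtain ⟨g, rfl⟩ := h.nil.exists_map c
  exact ⟨_, h.conj_zAt g hz, fun e => hz1 (conj_eq_one_iff.1 e)⟩

/-- There are at least three central involutions at each point. -/
theorem exists_two_z (c : Ω) : ∃ z ∈ h.zAt c, ∃ z' ∈ h.zAt c, z ≠ 1 ∧ z' ≠ 1 ∧ z ≠ z' := by
  obtain ⟨z, hz, hz1⟩ := h.exists_z_at c
  by_contra! hall
  haveI := h.simple
  haveI := h.finiteΩ
  have hiso : Cfsg.IsIsolatedInvolution z := by
    refine ⟨orderOf_eq_prime (by rw [pow_two, hz.2.2]) hz1, fun g hg => ?_⟩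
    have h1 : (g * z * g⁻¹) • c = c :=
      h.z_fixed_unique hz hz1 (by rw [smul_smul, hg.eq, mul_smul, h.z_fix hz])
    exact (hall z hz _ (h.zAt_of_conj hz hz1 h1) hz1 (fun e => hz1 (conj_eq_one_iff.1 e))).symm
  haveI hcn : (Cfsg.oddCore G).Normal := Subgroup.sSup_normal _ fun _ hN => hN.1
  have hcore : Cfsg.oddCore G = ⊥ := by
    refine hcn.eq_bot_or_eq_top.resolve_right fun e => ?_
    have h2 : 2 ∣ Nat.card G := orderOf_eq_prime (by rw [pow_two, hz.2.2]) hz1 ▸
      orderOf_dvd_natCard z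
    rw [← (Subgroup.topEquiv (G := G)).toEquiv |> Nat.card_congr, ← e] at h2
    exact (Nat.not_even_iff_odd.2 Cfsg.Agent.Lib.PLayerBasic.oddCore_odd) (even_iff_two_dvd.2 h2)
  have hcen : z ∈ Subgroup.center G := Subgroup.mem_center_iff.2 fun g => by
    have := ZStar.zStar G z hiso g
    rw [hcore, Subgroup.mem_bot, mul_inv_eq_one, mul_inv_eq_iff_eq_mul] at this
    exact this.symm
  rcases (inferInstance : (Subgroup.center G).Normal).eq_bot_or_eq_top with e | e
  · exact hz1 (Subgroup.mem_bot.1 (e ▸ hcen))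
  · obtain ⟨d, hd⟩ : ∃ d : Ω, d ≠ c := by
      letI := Fintype.ofFinite Ω
      exact Fintype.exists_ne_of_one_lt_card (by
        have := h.three; rw [Nat.card_eq_fintype_card] at this; omega) c
    obtain ⟨g, hg⟩ := (h.at_pt c).nil.exists_map d
    have hgz : z * g = g * z := (Subgroup.mem_center_iff.1 hcen g).symm
    have : z • d = d := by rw [← hg, smul_smul, hgz, mul_smul, h.z_fix hz]
    exact hz1 (h.z_eq_one hz hd this)

/-- The part of the conjugate of `U` at `c` fixing `d`. -/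
noncomputable def rAt (c d : Ω) : Subgroup G := h.nil.uAt c ⊓ stabilizer G d

theorem rAt_symm {c d : Ω} (hcd : c ≠ d) : h.rAt c d = h.rAt d c := by
  refine le_antisymm (fun x hx => ?_) (fun x hx => ?_)
  · have := (h.nil.at_pt c).mem_uAt_of_fix hx.1 hcd.symm hx.2
    rw [(h.nil.at_pt c).mem_uAt (g := h.nil.toPt d * (h.nil.toPt c)⁻¹) (by
      rw [mul_smul, inv_smul_eq_iff.2 (h.nil.toPt_smul c).symm, h.nil.toPt_smul]),
      h.nil.mem_uAt (h.nil.toPt_smul c)] at this
    refine ⟨(h.nil.mem_uAt (h.nil.toPt_smul d)).2 ?_, (h.nil.at_pt c).le hx.1⟩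
    simpa [mul_assoc] using this
  · have := (h.nil.at_pt d).mem_uAt_of_fix hx.1 hcd hx.2
    rw [(h.nil.at_pt d).mem_uAt (g := h.nil.toPt c * (h.nil.toPt d)⁻¹) (by
      rw [mul_smul, inv_smul_eq_iff.2 (h.nil.toPt_smul d).symm, h.nil.toPt_smul]),
      h.nil.mem_uAt (h.nil.toPt_smul d)] at this
    refine ⟨(h.nil.mem_uAt (h.nil.toPt_smul c)).2 ?_, (h.nil.at_pt d).le hx.1⟩
    simpa [mul_assoc] using this

theorem conj_rAt (g : G) {c d : Ω} {x : G} (hx : x ∈ h.rAt c d) :
    g * x * g⁻¹ ∈ h.rAt (g • c) (g • d) :=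
  ⟨h.nil.conj_uAt g hx.1, by
    show (g * x * g⁻¹) • g • d = g • d
    rw [smul_smul, inv_mul_cancel_right, mul_smul, hx.2]⟩

theorem card_rAt {c d c' d' : Ω} (hcd : c ≠ d) (hcd' : c' ≠ d') :
    Nat.card (h.rAt c d) = Nat.card (h.rAt c' d') := by
  obtain ⟨g, rfl, rfl⟩ := (is_two_pretransitive_iff.1 h.nil.two) hcd hcd'
  refine Nat.card_congr
    { toFun := fun x => ⟨g * x * g⁻¹, h.conj_rAt g x.2⟩
      invFun := fun x => ⟨g⁻¹ * x * g, by
        have := h.conj_rAt g⁻¹ x.2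
        rwa [inv_inv, inv_smul_smul, inv_smul_smul] at this⟩
      left_inv := fun x => Subtype.ext (by simp [mul_assoc])
      right_inv := fun x => Subtype.ext (by simp [mul_assoc]) }

theorem eq_of_le_rAt {c d c' d' : Ω} (hcd : c ≠ d) (hcd' : c' ≠ d')
    (hle : h.rAt c d ≤ h.rAt c' d') : h.rAt c d = h.rAt c' d' :=
  Subgroup.eq_of_le_of_card_ge hle (h.card_rAt hcd' hcd).le

/-- The line through two points. -/
def line (c d : Ω) : Set Ω := {e | ∀ x ∈ h.rAt c d, x • e = e}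

theorem mem_line_left (c d : Ω) : c ∈ h.line c d := fun _ hx => (h.nil.at_pt c).le hx.1

theorem mem_line_right (c d : Ω) : d ∈ h.line c d := fun _ hx => hx.2

theorem rAt_eq_of_mem_line {c d e e' : Ω} (hcd : c ≠ d) (he : e ∈ h.line c d)
    (he' : e' ∈ h.line c d) (hne : e ≠ e') : h.rAt e e' = h.rAt c d := by
  refine (h.eq_of_le_rAt hcd hne fun x hx => ?_).symm
  by_cases hec : e = c
  · subst hec
    exact ⟨hx.1, he' x hx⟩
  · have e1 : h.rAt c d = h.rAt c e :=
      h.eq_of_le_rAt hcd (Ne.symm hec) fun y hy => ⟨hy.1, he y hy⟩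
    rw [e1, h.rAt_symm (Ne.symm hec)] at hx
    exact ⟨hx.1, he' x (by rwa [e1, h.rAt_symm (Ne.symm hec)])⟩

theorem z_comm_rAt {c d : Ω} {z x : G} (hz : z ∈ h.zAt c) (hx : x ∈ h.rAt c d) : z * x = x * z :=
  hz.2.1 x hx.1

theorem smul_mem_line {g : G} {c d : Ω} (hg : ∀ x ∈ h.rAt c d, g⁻¹ * x * g ∈ h.rAt c d) {e : Ω}
    (he : e ∈ h.line c d) : g • e ∈ h.line c d := fun x hx => by
  have := he _ (hg x hx)
  rwa [mul_smul, mul_smul, inv_smul_eq_iff] at this

theorem odd_line {c d : Ω} : Odd (Nat.card (h.line c d)) := by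
  classical
  haveI := h.finiteΩ
  obtain ⟨z, hz, hz1⟩ := h.exists_z_at c
  haveI : Fact (Nat.Prime 2) := ⟨Nat.prime_two⟩
  letI := Fintype.ofFinite (h.line c d)
  have hm : ∀ e ∈ h.line c d, z • e ∈ h.line c d := fun e he => h.smul_mem_line (fun x hx => by
    rwa [mul_assoc, ← h.z_comm_rAt hz hx, inv_mul_cancel_left]) he
  let σ : Equiv.Perm (h.line c d) :=
    Equiv.ofBijective (fun e => ⟨z • (e : Ω), hm e e.2⟩)
      (Finite.injective_iff_bijective.1 fun x y e =>
        Subtype.ext (smul_left_cancel z (congrArg Subtype.val e)))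
  have hσ : σ ^ 2 ^ 1 = 1 := Equiv.ext fun x => Subtype.ext (by
    rw [pow_one, pow_two]
    show z • z • (x : Ω) = x
    rw [smul_smul, hz.2.2, one_smul])
  have h1 := Equiv.Perm.card_compl_support_modEq hσ
  have h2 : σ.supportᶜ = {⟨c, h.mem_line_left c d⟩} := by
    ext x
    rw [Finset.mem_compl, Equiv.Perm.notMem_support, Finset.mem_singleton]
    constructor
    · intro e
      exact Subtype.ext (h.z_fixed_unique hz hz1 (congrArg Subtype.val e))
    · rintro rfl
      exact Subtype.ext (h.z_fix hz)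
  rw [h2, Finset.card_singleton] at h1
  rw [Nat.card_eq_fintype_card, Nat.odd_iff]
  exact h1.symm

/-- The fixed point of a central involution is on the line of each of its pairs. -/
theorem centre_mem_line {e x : Ω} {τ : G} (hτ : τ ∈ h.zAt e) (hτ1 : τ ≠ 1) (hx : τ • x ≠ x) :
    e ∈ h.line x (τ • x) := by
  classical
  haveI := h.finiteΩ
  haveI : Fact (Nat.Prime 2) := ⟨Nat.prime_two⟩
  have hττ : τ • τ • x = x := by rw [smul_smul, hτ.2.2, one_smul]
  have hm : ∀ f ∈ h.line x (τ • x), τ • f ∈ h.line x (τ • x) := fun f hf =>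
    h.smul_mem_line (fun y hy => by
      have := h.conj_rAt τ hy
      rw [hττ, ← h.rAt_symm hx.symm] at this
      rwa [h.z_inv hτ] at this ⊢) hf
  letI := Fintype.ofFinite (h.line x (τ • x))
  obtain ⟨f, hf⟩ := Equiv.Perm.exists_fixed_point_of_prime (p := 2) (n := 1)
    (α := h.line x (τ • x)) (σ := Equiv.ofBijective (fun f => ⟨τ • (f : Ω), hm f f.2⟩)
      (Finite.injective_iff_bijective.1 fun x y e =>
        Subtype.ext (smul_left_cancel τ (congrArg Subtype.val e)))) (by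
      rw [← Nat.card_eq_fintype_card]
      exact fun e => Nat.not_even_iff_odd.2 h.odd_line (even_iff_two_dvd.2 e)) (by
      refine Equiv.ext fun x => Subtype.ext ?_
      rw [pow_one, pow_two]
      show τ • τ • (x : Ω) = x
      rw [smul_smul, hτ.2.2, one_smul])
  have := h.z_fixed_unique hτ hτ1 (congrArg Subtype.val hf)
  exact this ▸ f.2

end OddStab

end Cfsg.Agent.Lib.SplitRankOne70
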