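import Cfsg.Agent.Lib.SplitRankOne70.BNTwoGroup
import Cfsg.Agent.Lib.MTwelveInv.Transfer

/-!
`U` is regular on the other points.
-/

set_option autoImplicit false
set_option linter.unusedSectionVars false
set_option linter.style.haveILetI false

namespace Cfsg.Agent.Lib.SplitRankOne70

open MulAction

universe u v

variable {G : Type u} {Ω : Type v} [Group G] [MulAction G Ω] [Finite G] [FaithfulSMul G Ω]
  {a : Ω} {U : Subgroup G}

theorem eq_of_two_pow_add_mul {ε B C : ℕ} (hε : 2 ≤ ε)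
    (e : 2 ^ ε + 2 ^ B * (2 ^ ε - 1) = 2 ^ C) : B = ε := by
  have h4 : 2 ^ 2 ≤ 2 ^ ε := Nat.pow_le_pow_right (by norm_num) hε
  obtain ⟨m, hm⟩ : ∃ m, 2 ^ ε = m + 1 := ⟨2 ^ ε - 1, by omega⟩
  have hodd : Odd (2 ^ ε - 1) :=
    Nat.Even.sub_odd (by omega) (Nat.even_pow.2 ⟨even_two, by omega⟩) odd_one
  have key : ∀ x k : ℕ, Odd x → 2 ^ k * x = 2 ^ C → x = 1 := by
    intro x k hx e'
    obtain ⟨j, -, rfl⟩ := (Nat.dvd_prime_pow Nat.prime_two).1 (Dvd.intro_left _ e' : x ∣ 2 ^ C)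
    rcases Nat.eq_zero_or_pos j with rfl | hj
    · rfl
    · exact absurd (Nat.even_pow.2 ⟨even_two, hj.ne'⟩) (Nat.not_even_iff_odd.2 hx)
  rcases lt_trichotomy B ε with hlt | heq | hgt
  · obtain ⟨d, rfl⟩ := Nat.exists_eq_add_of_lt hlt
    have h1 := key (2 ^ (d + 1) + (2 ^ (B + d + 1) - 1)) B
      ((Nat.even_pow.2 ⟨even_two, by omega⟩).add_odd hodd)
      (by rw [← e, mul_add, ← pow_add, ← add_assoc B])
    have := Nat.one_le_two_pow (n := d + 1)
    omega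
  · exact heq
  · obtain ⟨d, rfl⟩ := Nat.exists_eq_add_of_lt hgt
    have h1 := key (1 + 2 ^ (d + 1) * (2 ^ ε - 1)) ε
      (odd_one.add_even ((Nat.even_pow.2 ⟨even_two, by omega⟩).mul_right _))
      (by rw [← e, mul_add, mul_one, ← mul_assoc, ← pow_add, ← add_assoc ε])
    have : 0 < 2 ^ (d + 1) * (2 ^ ε - 1) := Nat.mul_pos (by positivity) (by omega)
    omega

/-- The number of fixed points. -/
noncomputable def nFix (Ω : Type v) [MulAction G Ω] (j : G) : ℕ := Nat.card {c : Ω // j • c = c}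

theorem nFix_conj (g j : G) : nFix Ω (g * j * g⁻¹) = nFix Ω j := by
  refine Nat.card_congr ((MulAction.toPerm g).symm.subtypeEquiv fun c => ?_)
  show (g * j * g⁻¹) • c = c ↔ j • g⁻¹ • c = g⁻¹ • c
  rw [mul_smul, mul_smul, smul_eq_iff_eq_inv_smul]

namespace OddStab

variable (h : OddStab G Ω a U)
include h

/-- An involution lies in the conjugate of `U` at each of its fixed points. -/
theorem inv_mem_uAt {i : G} (hi : i * i = 1) {c : Ω} (hc : i • c = c) : i ∈ h.nil.uAt c :=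
  (h.at_pt c).two_elt_mem hc (k := 1) (by rw [pow_one, pow_two, hi])

theorem inv_comm_z {i : G} (hi : i * i = 1) {c : Ω} (hc : i • c = c) {z : G} (hz : z ∈ h.zAt c) :
    z * i = i * z := hz.2.1 i (h.inv_mem_uAt hi hc)

theorem exists_transfer {i : G} (hi : i * i = 1) (ha : i • a = a) {c : Ω} (hc : i • c = c) :
    ∃ g : G, g * i = i * g ∧ g • a = c := by
  by_cases hca : c = a
  · exact ⟨1, by rw [one_mul, mul_one], by rw [one_smul, hca]⟩
  obtain ⟨z, hz, hz1⟩ := h.exists_z_at a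
  obtain ⟨w, hw, hw1⟩ := h.exists_z_at c
  obtain ⟨e, τ, -, -, -, h1, -, hcm⟩ := h.exists_swap (Ne.symm hca) hz hz1 hw hw1
  exact ⟨τ, (hcm i (h.inv_comm_z hi ha hz).symm (h.inv_comm_z hi hc hw).symm).symm, h1⟩

/-- Outside its fixed points an involution acts as a central involution of one of them. -/
theorem exists_partner {i : G} (hi : i * i = 1) {c : Ω} (hc : i • c ≠ c) :
    ∃ e : Ω, i • e = e ∧ ∃ v ∈ h.zAt e, v • c = i • c := by
  obtain ⟨z', hz', hz1'⟩ := h.exists_z_at c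
  have hii : i⁻¹ = i := inv_eq_of_mul_eq_one_right hi
  have hz'' := h.conj_zAt i hz'
  have hz1'' : i * z' * i⁻¹ ≠ 1 := fun e => hz1' (conj_eq_one_iff.1 e)
  obtain ⟨e, τ, hτ, hτ1, hτz, h1, -, hcm⟩ := h.exists_swap hc.symm hz' hz1' hz'' hz1''
  set z'' := i * z' * i⁻¹ with hdef
  set τ' := i * τ * i⁻¹ with hτ'
  have hττ := hτ.2.2
  have hmem : τ' ∈ h.zAt (i • e) := h.conj_zAt i hτ
  have hflip : i * z'' * i⁻¹ = z' := by rw [hdef, hii]; simp [← mul_assoc, hi]; simp [mul_assoc, hi]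
  have h' : τ' * z'' * τ' = z' := by
    calc τ' * z'' * τ' = i * (τ * z' * τ) * i⁻¹ := by rw [hτ', hdef]; group
      _ = z' := by rw [hτz, hflip]
  have h'' : τ' * z' * τ' = z'' := by
    rw [← h', show τ' * (τ' * z'' * τ') * τ' = (τ' * τ') * z'' * (τ' * τ') by group, hmem.2.2]
    group
  have hcomm : ∀ {p : G}, τ' * p * τ' = p → τ' * p = p * τ' := fun {p} hp => by
    calc τ' * p = τ' * p * (τ' * τ') := by rw [hmem.2.2, mul_one]
      _ = p * τ' := by rw [← mul_assoc, hp]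
  -- `τ' τ` centralises both
  have k1 : (τ' * τ) * z' = z' * (τ' * τ) := by
    calc (τ' * τ) * z' = τ' * (τ * z' * τ) * τ := by simp [mul_assoc, hττ]
      _ = (τ' * z'' * τ') * τ' * τ := by rw [hτz]; simp [mul_assoc, hmem.2.2]
      _ = z' * (τ' * τ) := by rw [h', mul_assoc]
  have hτz' : τ * z'' * τ = z' := by
    rw [← hτz, show τ * (τ * z' * τ) * τ = (τ * τ) * z' * (τ * τ) by group, hττ]; group
  have k2 : (τ' * τ) * z'' = z'' * (τ' * τ) := by
    calc (τ' * τ) * z'' = τ' * (τ * z'' * τ) * τ := by simp [mul_assoc, hττ]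
      _ = (τ' * z' * τ') * τ' * τ := by rw [hτz']; simp [mul_assoc, hmem.2.2]
      _ = z'' * (τ' * τ) := by rw [h'', mul_assoc]
  have k3 := hcm _ k1 k2
  have hcτ : τ' * τ = τ * τ' := by
    rw [mul_assoc, hττ, mul_one] at k3
    calc τ' * τ = (τ * (τ' * τ)) * τ := by rw [← k3]
      _ = τ * τ' := by rw [mul_assoc τ, mul_assoc τ', hττ, mul_one]
  have hie : i • e = e := by
    refine h.z_fixed_unique hτ hτ1 (c := e) (d := i • e) ?_
    have hfix : τ' • i • e = i • e := h.z_fix hmem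
    refine h.z_fixed_unique hmem (fun e' => hτ1 (conj_eq_one_iff.1 e')) ?_
    rw [smul_smul, hcτ, mul_smul, hfix]
  exact ⟨e, hie, τ, hτ, h1⟩

theorem partner_unique {i : G} (hi : i * i = 1) {c e e' : Ω} (hc : i • c ≠ c) (he : i • e = e)
    (he' : i • e' = e') {v v' : G} (hv : v ∈ h.zAt e) (hv' : v' ∈ h.zAt e') (hvc : v • c = i • c)
    (hvc' : v' • c = i • c) : e = e' ∧ v = v' := by
  have hv1 : v ≠ 1 := fun e1 => hc (by rw [e1, one_smul] at hvc; exact hvc.symm)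
  have hv1' : v' ≠ 1 := fun e1 => hc (by rw [e1, one_smul] at hvc'; exact hvc'.symm)
  have hee : e = e' := by
    by_contra hne
    have m1 := h.centre_mem_line hv hv1 (x := c) (by rw [hvc]; exact hc)
    have m2 := h.centre_mem_line hv' hv1' (x := c) (by rw [hvc']; exact hc)
    rw [hvc] at m1
    rw [hvc'] at m2
    have h1 := h.rAt_eq_of_mem_line hc.symm m1 m2 hne
    have h2 : i ∈ h.rAt e e' := ⟨h.inv_mem_uAt hi he, he'⟩
    rw [h1] at h2
    exact hc ((h.nil.at_pt c).le h2.1)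
  subst hee
  have hec : c ≠ e := fun e1 => hc (e1 ▸ he)
  refine ⟨rfl, inv_mul_eq_one.1 (h.z_eq_one (mul_mem (inv_mem hv) hv') hec ?_)⟩
  rw [mul_smul, hvc', ← hvc, inv_smul_smul]

/-- Two central involutions at `a` are conjugate by an element centralising `U ∩ G_b`. -/
theorem exists_conj_z {b : Ω} (hb : b ≠ a) {v v' : G} (hv : v ∈ h.zAt a) (hv1 : v ≠ 1)
    (hv' : v' ∈ h.zAt a) (hv1' : v' ≠ 1) :
    ∃ g : G, g • a = a ∧ g * v * g⁻¹ = v' ∧ ∀ r ∈ h.rAt a b, g * r = r * g := by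
  obtain ⟨w, hw, hw1⟩ := h.exists_z_at b
  obtain ⟨e1, τ₁, t1, -, c1, a1, b1, m1⟩ := h.exists_swap hb.symm hv hv1 hw hw1
  obtain ⟨e2, τ₂, t2, -, c2, a2, b2, m2⟩ := h.exists_swap hb.symm hv' hv1' hw hw1
  refine ⟨τ₂ * τ₁, by rw [mul_smul, a1, b2], ?_, fun r hr => ?_⟩
  · rw [mul_inv_rev, h.z_inv t1, h.z_inv t2,
      show τ₂ * τ₁ * v * (τ₁ * τ₂) = τ₂ * (τ₁ * v * τ₁) * τ₂ by group, c1, ← c2,
      show τ₂ * (τ₂ * v' * τ₂) * τ₂ = (τ₂ * τ₂) * v' * (τ₂ * τ₂) by group, t2.2.2]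
    group
  · have hrw : r * w = w * r := (h.z_comm_rAt hw (by rwa [← h.rAt_symm hb.symm])).symm
    exact (Commute.mul_left (m2 r (h.z_comm_rAt hv' hr).symm hrw).symm
      (m1 r (h.z_comm_rAt hv hr).symm hrw).symm).eq

/-- The points outside the fixed points of an involution are counted through `a`. -/
theorem card_points_eq {b : Ω} (hb : b ≠ a) {i v₀ : G} (hi : i * i = 1) (hiR : i ∈ h.rAt a b)
    (hv₀ : v₀ ∈ h.zAt a) (hv1₀ : v₀ ≠ 1) :
    Nat.card Ω = nFix Ω i * (1 + (Nat.card (h.zAt a) - 1) * (nFix Ω (i * v₀) - 1)) := by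
  classical
  haveI := h.finiteΩ
  letI := Fintype.ofFinite Ω
  have hia : i • a = a := h.nil.le (h.nil.uAt_a ▸ hiR.1)
  let Out : Ω → Set Ω := fun e => {c | i • c ≠ c ∧ ∃ v ∈ h.zAt e, v • c = i • c}
  have hsum : Nat.card {c : Ω // ¬ i • c = c} = nFix Ω i * Nat.card (Out a) := by
    have e1 : {c : Ω // ¬ i • c = c} ≃ Σ e : {e : Ω // i • e = e}, Out (e : Ω) :=
      Equiv.ofBijective (fun c => ⟨⟨(h.exists_partner hi c.2).choose,
          (h.exists_partner hi c.2).choose_spec.1⟩, ⟨c, c.2,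
          (h.exists_partner hi c.2).choose_spec.2⟩⟩)
        ⟨fun c c' e => Subtype.ext (congrArg (fun p : Σ e : {e : Ω // i • e = e}, Out (e : Ω) =>
            ((p.2 : Out (p.1 : Ω)) : Ω)) e),
         fun p => by
          obtain ⟨⟨e, he⟩, ⟨c, hc, v, hv, hvc⟩⟩ := p
          obtain ⟨he', v', hv', hvc'⟩ := (h.exists_partner hi hc).choose_spec
          obtain ⟨heq, -⟩ := h.partner_unique hi hc he' he hv' hv hvc' hvc
          exact ⟨⟨c, hc⟩, by subst heq; rfl⟩⟩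
    have e2 : ∀ e : {e : Ω // i • e = e}, Nat.card (Out (e : Ω)) = Nat.card (Out a) := by
      rintro ⟨e, he⟩
      obtain ⟨g, hg, rfl⟩ := h.exists_transfer hi hia he
      refine (Nat.card_congr ((MulAction.toPerm g).subtypeEquiv fun c => ?_)).symm
      show (i • c ≠ c ∧ ∃ v ∈ h.zAt a, v • c = i • c) ↔
        (i • g • c ≠ g • c ∧ ∃ v ∈ h.zAt (g • a), v • g • c = i • g • c)
      have hgc : i • g • c = g • i • c := by rw [smul_smul, ← hg, mul_smul]
      rw [hgc, ne_eq, ne_eq, smul_left_cancel_iff]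
      refine and_congr_right fun _ => ⟨fun ⟨v, hv, hvc⟩ => ⟨_, h.conj_zAt g hv, ?_⟩,
        fun ⟨v, hv, hvc⟩ => ?_⟩
      · rw [smul_smul, inv_mul_cancel_right, mul_smul, hvc]
      · have := h.conj_zAt g⁻¹ hv
        rw [inv_smul_smul, inv_inv] at this
        refine ⟨_, this, ?_⟩
        rw [mul_smul, mul_smul, hvc, inv_smul_smul]
    rw [Nat.card_congr e1, Nat.card_sigma, Finset.sum_congr rfl fun e _ => e2 e, Finset.sum_const,
      Finset.card_univ, smul_eq_mul, ← Nat.card_eq_fintype_card]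
    rfl
  have hout : Nat.card (Out a) = (Nat.card (h.zAt a) - 1) * (nFix Ω (i * v₀) - 1) := by
    let Zs := {v : h.zAt a // v ≠ 1}
    have hlink : ∀ (v : G) (c : Ω), (i * v) • c = c ↔ v • c = i • c := fun v c => by
      rw [mul_smul, smul_eq_iff_eq_inv_smul, inv_eq_of_mul_eq_one_right hi]
    have e1 : Out a ≃ Σ v : Zs, {c : Ω // c ≠ a ∧ (i * ((v : h.zAt a) : G)) • c = c} :=
      (Equiv.ofBijective (fun p : Σ v : Zs, {c : Ω // c ≠ a ∧ (i * ((v : h.zAt a) : G)) • c = c} =>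
        (⟨p.2, by
          have h2 := (hlink _ _).1 p.2.2.2
          refine ⟨fun e => p.2.2.1 (h.z_fixed_unique p.1.1.2 (fun e' => p.1.2 (Subtype.ext e')) ?_),
            _, p.1.1.2, h2⟩
          rw [h2, e]⟩ : Out a)) ⟨fun p p' e => by
          obtain ⟨⟨⟨v, hv⟩, hv1⟩, ⟨c, hca, hc⟩⟩ := p
          obtain ⟨⟨⟨v', hv'⟩, hv1'⟩, ⟨c', hca', hc'⟩⟩ := p'
          obtain rfl : c = c' := congrArg Subtype.val e
          obtain rfl : v = v' := by
            refine inv_mul_eq_one.1 (h.z_eq_one (mul_mem (inv_mem hv) hv') hca ?_)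
            rw [mul_smul, (hlink _ _).1 hc', ← (hlink _ _).1 hc, inv_smul_smul]
          rfl,
        fun c => by
          obtain ⟨c, hc, v, hv, hvc⟩ := c
          refine ⟨⟨⟨⟨v, hv⟩, fun e => hc ?_⟩, ⟨c, fun e => hc (by rw [e, hia]), (hlink _ _).2 hvc⟩⟩, rfl⟩
          rw [← hvc, show v = 1 from congrArg Subtype.val e, one_smul]⟩).symm
    have e2 : ∀ v : Zs, Nat.card {c : Ω // c ≠ a ∧ (i * ((v : h.zAt a) : G)) • c = c} =
        nFix Ω (i * v₀) - 1 := by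
      intro v
      obtain ⟨g, -, hgv, hgR⟩ := h.exists_conj_z hb hv₀ hv1₀ v.1.2 (fun e => v.2 (Subtype.ext e))
      have e3 : g * (i * v₀) * g⁻¹ = i * ((v : h.zAt a) : G) := by
        rw [← hgv, ← mul_assoc g i v₀, hgR i hiR]; group
      rw [← nFix_conj g (i * v₀), e3]
      have e4 : Nat.card {c : Ω // c ≠ a ∧ (i * ((v : h.zAt a) : G)) • c = c} + 1 =
          nFix Ω (i * ((v : h.zAt a) : G)) := by
        rw [← Finite.card_option]
        refine Nat.card_congr (Equiv.ofBijective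
          (fun o : Option {c : Ω // c ≠ a ∧ (i * ((v : h.zAt a) : G)) • c = c} =>
            (match o with
            | none => ⟨a, by rw [mul_smul, h.z_fix v.1.2, hia]⟩
            | some c => ⟨c, c.2.2⟩ : {c : Ω // (i * ((v : h.zAt a) : G)) • c = c})) ⟨?_, ?_⟩)
        · rintro (_ | c) (_ | c') e <;> have e' := congrArg Subtype.val e <;> simp only at e'
          · rfl
          · exact absurd e'.symm c'.2.1
          · exact absurd e' c.2.1
          · rw [Subtype.ext e']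
        · rintro ⟨c, hc⟩
          by_cases hca : c = a
          · exact ⟨none, Subtype.ext hca.symm⟩
          · exact ⟨some ⟨c, hca, hc⟩, rfl⟩
      omega
    haveI := Fintype.ofFinite (h.zAt a)
    rw [Nat.card_congr e1, Nat.card_sigma, Finset.sum_congr rfl fun v _ => e2 v, Finset.sum_const,
      Finset.card_univ, smul_eq_mul]
    congr 1
    rw [Fintype.card_subtype_compl, Fintype.card_subtype_eq, Nat.card_eq_fintype_card]
  have e5 : Nat.card Ω = nFix Ω i + Nat.card {c : Ω // ¬ i • c = c} := by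
    rw [nFix, ← Nat.card_sum]
    exact Nat.card_congr (Equiv.sumCompl _).symm
  rw [e5, hsum, hout]
  ring

theorem exists_card_Z : ∃ ε : ℕ, 2 ≤ ε ∧ Nat.card (h.zAt a) = 2 ^ ε := by
  haveI : Fact (Nat.Prime 2) := ⟨Nat.prime_two⟩
  obtain ⟨ε, hε⟩ := (IsPGroup.iff_card (p := 2)).1
    (h.isPGroup_U.to_le (fun z hz => h.nil.uAt_a ▸ hz.1 : h.zAt a ≤ U))
  refine ⟨ε, ?_, hε⟩
  obtain ⟨z, hz, z', hz', h1, h2, hne⟩ := h.exists_two_z a
  by_contra hlt
  have hle : 2 ^ ε ≤ 2 ^ 1 := Nat.pow_le_pow_right (by norm_num) (by omega)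
  have h3 : 3 ≤ Nat.card (h.zAt a) := by
    classical
    haveI := Fintype.ofFinite (h.zAt a)
    rw [Nat.card_eq_fintype_card]
    exact Fintype.two_lt_card_iff.2 ⟨1, ⟨z, hz⟩, ⟨z', hz'⟩, fun e => h1 (congrArg Subtype.val e).symm,
      fun e => h2 (congrArg Subtype.val e).symm, fun e => hne (congrArg Subtype.val e)⟩
  omega

theorem card_U {b : Ω} (hb : b ≠ a) :
    Nat.card U = (Nat.card Ω - 1) * Nat.card (h.rAt a b) := by
  classical
  haveI := h.finiteΩ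
  letI := Fintype.ofFinite Ω
  have ho : orbit U b = {c : Ω | c ≠ a} := by
    ext c
    constructor
    · rintro ⟨u, rfl⟩ e
      exact hb (smul_left_cancel (u : G) ((show (u : G) • b = a from e).trans (h.nil.le u.2).symm))
    · intro hc
      obtain ⟨u, hu, e⟩ := h.nil.move b hb c hc
      exact ⟨⟨u, hu⟩, e⟩
  have h1 := Subgroup.index_mul_card (stabilizer U b)
  have h2 : Nat.card (stabilizer U b) = Nat.card (h.rAt a b) := Nat.card_congr
    { toFun := fun u => ⟨((u : U) : G), ⟨h.nil.uAt_a.ge (u : U).2, u.2⟩⟩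
      invFun := fun r => ⟨⟨r, h.nil.uAt_a.le r.2.1⟩, r.2.2⟩
      left_inv := fun u => rfl
      right_inv := fun r => rfl }
  rw [MulAction.index_stabilizer, ho, ← Nat.card_coe_set_eq, h2] at h1
  rw [← h1]
  congr 1
  rw [Nat.card_eq_fintype_card, Nat.card_eq_fintype_card]
  simp [Fintype.card_subtype, Finset.filter_ne']

/-- The numbers: every involution fixing two points fixes exactly `q + 1`, and `n = q³ + 1`. -/
theorem numbers {b : Ω} (hb : b ≠ a) {i : G} (hi : i * i = 1) (hi1 : i ≠ 1) (hiR : i ∈ h.rAt a b) :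
    nFix Ω i = Nat.card (h.zAt a) + 1 ∧ Nat.card Ω = Nat.card (h.zAt a) ^ 3 + 1 ∧
      ∀ v ∈ h.zAt a, nFix Ω (i * v) = Nat.card (h.zAt a) + 1 := by
  classical
  haveI := h.finiteΩ
  letI := Fintype.ofFinite Ω
  obtain ⟨v₀, hv₀, hv1₀⟩ := h.exists_z_at a
  have hia : i • a = a := h.nil.le (h.nil.uAt_a ▸ hiR.1)
  set q := Nat.card (h.zAt a) with hq
  set f := nFix Ω i with hf
  set f' := nFix Ω (i * v₀) with hf'
  obtain ⟨ε, hε, hqε⟩ := h.exists_card_Z
  rw [← hq] at hqε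
  have hq4 : 4 ≤ q := by rw [hqε]; exact le_trans (by norm_num) (Nat.pow_le_pow_right (by norm_num) hε)
  have hn := h.card_points_eq hb hi hiR hv₀ hv1₀
  have hflt : f < Nat.card Ω := by
    refine lt_of_le_of_ne (Nat.card_le_card_of_injective _ Subtype.val_injective) fun e => hi1 ?_
    refine eq_of_smul_eq_smul (α := Ω) fun c => ?_
    rw [one_smul]
    obtain ⟨⟨c', hc'⟩, rfl⟩ := ((Nat.bijective_iff_injective_and_card _).2
      ⟨Subtype.val_injective, e⟩).2 c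
    exact hc'
  rw [← hf, ← hf', ← hq] at hn
  have hf'2 : 2 ≤ f' := by
    by_contra hlt
    rw [show f' - 1 = 0 by omega, mul_zero, add_zero, mul_one] at hn
    omega
  set j := i * v₀ with hj
  have hjj : j * j = 1 := by
    rw [hj, show i * v₀ * (i * v₀) = i * (v₀ * i) * v₀ by group, h.inv_comm_z hi hia hv₀,
      show i * (i * v₀) * v₀ = (i * i) * (v₀ * v₀) by group, hi, hv₀.2.2, one_mul]
  have hja : j • a = a := by rw [hj, mul_smul, h.z_fix hv₀, hia]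
  obtain ⟨b', hjb, hb'⟩ : ∃ b' : Ω, j • b' = b' ∧ b' ≠ a := by
    by_contra! hall
    haveI : Subsingleton {c : Ω // j • c = c} :=
      ⟨fun x y => Subtype.ext ((hall x x.2).trans (hall y y.2).symm)⟩
    have : f' ≤ 1 := Finite.card_le_one_iff_subsingleton.2 inferInstance
    omega
  have hjR : j ∈ h.rAt a b' := ⟨h.inv_mem_uAt hjj hja, hjb⟩
  have hn' := h.card_points_eq hb' hjj hjR hv₀ hv1₀
  rw [show j * v₀ = i by rw [hj, mul_assoc, hv₀.2.2, mul_one], ← hf, ← hq, ← hf'] at hn'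
  have hf1 : 1 ≤ f := by
    haveI : Nonempty {c : Ω // i • c = c} := ⟨⟨a, hia⟩⟩
    exact Nat.card_pos
  obtain ⟨x, hx⟩ : ∃ x, f = x + 1 := ⟨f - 1, by omega⟩
  obtain ⟨y, hy⟩ : ∃ y, f' = y + 1 := ⟨f' - 1, by omega⟩
  obtain ⟨m, hm⟩ : ∃ m, q = m + 2 := ⟨q - 2, by omega⟩
  rw [hx, hy, hm] at hn hn'
  simp only [Nat.add_sub_cancel, show m + 2 - 1 = m + 1 from rfl] at hn hn'
  have hxy : x = y := by
    have h0 := hn.symm.trans hn'
    have h0' : m * y = m * x := by ring_nf at h0 ⊢; omega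
    exact (Nat.eq_of_mul_eq_mul_left (by omega) h0').symm
  subst hxy
  have hn1 : Nat.card Ω - 1 = x * (q + x * (q - 1)) := by
    rw [hn, hm, show m + 2 - 1 = m + 1 from rfl]
    have : (x + 1) * (1 + (m + 1) * x) = x * (m + 2 + x * (m + 1)) + 1 := by ring
    omega
  have hpow : ∃ A, Nat.card Ω - 1 = 2 ^ A := by
    haveI : Fact (Nat.Prime 2) := ⟨Nat.prime_two⟩
    obtain ⟨k, hk⟩ := (IsPGroup.iff_card (p := 2)).1 h.isPGroup_U
    obtain ⟨A, -, hA⟩ := (Nat.dvd_prime_pow Nat.prime_two).1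
      (show Nat.card Ω - 1 ∣ 2 ^ k by rw [← hk]; exact Dvd.intro _ (h.card_U hb).symm)
    exact ⟨A, hA⟩
  obtain ⟨A, hA⟩ := hpow
  rw [hn1] at hA
  obtain ⟨B, -, hB⟩ := (Nat.dvd_prime_pow Nat.prime_two).1 (Dvd.intro _ hA : x ∣ 2 ^ A)
  obtain ⟨C, -, hC⟩ := (Nat.dvd_prime_pow Nat.prime_two).1
    (Dvd.intro_left _ hA : q + x * (q - 1) ∣ 2 ^ A)
  have hBε : B = ε := eq_of_two_pow_add_mul (B := B) (C := C) hε (by rw [← hB, ← hqε]; exact hC)
  have hxq : x = q := by rw [hB, hBε, hqε]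
  refine ⟨by omega, ?_, fun v hv => ?_⟩
  · have : x * (q + x * (q - 1)) = q ^ 3 := by
      rw [hxq]
      obtain ⟨l, hl⟩ : ∃ l, q = l + 1 := ⟨q - 1, by omega⟩
      rw [hl, Nat.add_sub_cancel]; ring
    omega
  · by_cases hv1 : v = 1
    · rw [hv1, mul_one, ← hf]; omega
    · obtain ⟨g, -, hgv, hgR⟩ := h.exists_conj_z hb hv₀ hv1₀ hv hv1
      have e3 : g * (i * v₀) * g⁻¹ = i * v := by
        rw [← hgv, ← mul_assoc g i v₀, hgR i hiR]; group
      rw [← e3, nFix_conj, ← hj]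
      omega

/-- The other fixed points of an involution of `U ∩ G_b` form the orbit of `b` under `Z`. -/
theorem fixed_eq_orbit {b : Ω} (hb : b ≠ a) {i : G} (hi : i * i = 1) (hi1 : i ≠ 1)
    (hiR : i ∈ h.rAt a b) {c : Ω} (hc : i • c = c) (hca : c ≠ a) : ∃ z ∈ h.zAt a, z • b = c := by
  classical
  haveI := h.finiteΩ
  have hia : i • a = a := h.nil.le (h.nil.uAt_a ▸ hiR.1)
  let f : Option (h.zAt a) → {c : Ω // i • c = c} := fun o => match o with
    | none => ⟨a, hia⟩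
    | some z => ⟨(z : G) • b, by rw [smul_smul, ← h.z_comm_rAt z.2 hiR, mul_smul, hiR.2]⟩
  have hne : ∀ z : h.zAt a, (z : G) • b ≠ a := fun z e =>
    hb (smul_left_cancel (z : G) (e.trans (h.z_fix z.2).symm))
  have hf : Function.Injective f := by
    rintro (_ | z) (_ | z') e <;> have e' := congrArg Subtype.val e <;> simp only [f] at e'
    · rfl
    · exact absurd e'.symm (hne z')
    · exact absurd e' (hne z)
    · refine congrArg some (Subtype.ext ?_)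
      refine inv_mul_eq_one.1 (h.z_eq_one (mul_mem (inv_mem z.2) z'.2) hb ?_)
      rw [mul_smul, ← e', inv_smul_smul]
  have hcard : Nat.card {c : Ω // i • c = c} ≤ Nat.card (Option (h.zAt a)) := by
    rw [Finite.card_option]
    exact ((h.numbers hb hi hi1 hiR).1).le
  obtain ⟨o, ho⟩ := (hf.bijective_of_nat_card_le hcard).2 ⟨c, hc⟩
  rcases o with _ | z
  · exact absurd (congrArg Subtype.val ho).symm hca
  · exact ⟨z, z.2, congrArg Subtype.val ho⟩

set_option maxHeartbeats 1000000 in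
/-- `U` is regular on the other points. -/
theorem rAt_eq_bot {b : Ω} (hb : b ≠ a) : h.rAt a b = ⊥ := by
  classical
  by_contra hne
  haveI := h.finiteΩ
  haveI : Fact (Nat.Prime 2) := ⟨Nat.prime_two⟩
  set R := h.rAt a b with hR
  set Z := h.zAt a with hZ
  set q := Nat.card Z with hq
  have hp := h.isPGroup_U
  have hUa : ∀ {g : G}, g ∈ U ↔ g ∈ h.nil.uAt a := fun {g} => by rw [h.nil.uAt_a]
  have hRU : R ≤ U := fun r hr => hUa.2 hr.1
  have hZU : Z ≤ U := fun z hz => hUa.2 hz.1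
  have hZc : ∀ z ∈ Z, ∀ u ∈ U, z * u = u * z := fun z hz u hu => hz.2.1 u (hUa.1 hu)
  have hinv : ∀ {r : G}, r ∈ R → r ≠ 1 →
      ∃ k : G, k ∈ R ∧ k ≠ 1 ∧ k * k = 1 ∧ ∀ x, r * x = x * r → k * x = x * k := by
    intro r hr hr1
    obtain ⟨k, hk⟩ := IsPGroup.iff_orderOf.1 hp ⟨r, hRU hr⟩
    rw [← Subgroup.orderOf_coe] at hk
    rcases Nat.eq_zero_or_pos k with rfl | hk0
    · rw [pow_zero, orderOf_eq_one_iff] at hk
      exact absurd hk hr1
    refine ⟨r ^ 2 ^ (k - 1), pow_mem hr _, ?_, ?_, fun x e => ((show Commute r x from e).pow_left _).eq⟩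
    · exact pow_ne_one_of_lt_orderOf (by positivity)
        (by rw [hk]; exact Nat.pow_lt_pow_right (by norm_num) (by omega))
    · rw [← pow_add, ← two_mul, ← pow_succ', show k - 1 + 1 = k by omega]
      exact orderOf_dvd_iff_pow_eq_one.1 (dvd_of_eq hk)
  obtain ⟨⟨r₀, hr₀⟩, hr₀1⟩ := Subgroup.ne_bot_iff_exists_ne_one.1 hne
  obtain ⟨i₀, hi₀, hi₀1, hi₀2, -⟩ := hinv hr₀ (fun e => hr₀1 (Subtype.ext e))
  obtain ⟨hf, hnq, hfv⟩ := h.numbers hb hi₀2 hi₀1 hi₀
  have hcardU : Nat.card U = q ^ 3 * Nat.card R := by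
    rw [h.card_U hb, hnq, Nat.add_sub_cancel]
  obtain ⟨ε, hε, hqε⟩ := h.exists_card_Z
  have hq4 : 4 ≤ q := by
    show 4 ≤ Nat.card (h.zAt a)
    rw [hqε]; exact le_trans (by norm_num) (Nat.pow_le_pow_right (by norm_num) hε)
  have hR0 : 0 < Nat.card R := Nat.card_pos
  have hlt : q ^ 2 * Nat.card R < q ^ 3 * Nat.card R :=
    Nat.mul_lt_mul_of_pos_right (Nat.pow_lt_pow_right (by omega) (by norm_num)) hR0
  -- the stabiliser of the line
  let H0 : Set G := {u | u ∈ U ∧ ∃ z ∈ Z, u • b = z • b}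
  let P : G → Set G := fun i => {u | u ∈ U ∧ u⁻¹ * i * u ∈ H0}
  have hP : ∀ i ∈ R, i * i = 1 → i ≠ 1 → Nat.card (P i) ≤ q ^ 2 * Nat.card R := by
    intro i hi hi2 hi1
    let S : Set Ω := {c | ∃ z ∈ Z, c ≠ a ∧ (i * z) • c = c}
    have hS : Nat.card S ≤ q * q := by
      let g : S → Σ z : Z, {c : Ω // c ≠ a ∧ (i * (z : G)) • c = c} := fun c =>
        ⟨⟨c.2.choose, c.2.choose_spec.1⟩, ⟨c, c.2.choose_spec.2⟩⟩
      refine le_trans (Nat.card_le_card_of_injective g fun c c' e => Subtype.ext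
        (congrArg (fun p : Σ z : Z, {c : Ω // c ≠ a ∧ (i * (z : G)) • c = c} => (p.2 : Ω)) e)) ?_
      letI := Fintype.ofFinite Z
      rw [Nat.card_sigma]
      refine le_trans (Finset.sum_le_card_nsmul _ _ q fun z _ => ?_) (by
        rw [smul_eq_mul, Finset.card_univ, ← Nat.card_eq_fintype_card])
      have h1 : (i * (z : G)) • a = a := by
        rw [mul_smul, h.z_fix z.2]; exact h.nil.le (hRU hi)
      have h2 := (h.numbers hb hi2 hi1 hi).2.2 z z.2
      have h3 : Nat.card {c : Ω // c ≠ a ∧ (i * (z : G)) • c = c} <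
          Nat.card {c : Ω // (i * (z : G)) • c = c} := by
        refine lt_of_le_of_ne (Nat.card_le_card_of_injective (fun c => ⟨c.1, c.2.2⟩)
          fun c c' e => Subtype.ext (congrArg (fun x : {c : Ω // (i * (z : G)) • c = c} => (x : Ω)) e))
          fun e => ?_
        obtain ⟨⟨c, hc⟩, hc'⟩ := ((Nat.bijective_iff_injective_and_card
          (fun c : {c : Ω // c ≠ a ∧ (i * (z : G)) • c = c} =>
            (⟨c.1, c.2.2⟩ : {c : Ω // (i * (z : G)) • c = c}))).2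
          ⟨fun c c' e => Subtype.ext (congrArg (fun x : {c : Ω // (i * (z : G)) • c = c} => (x : Ω)) e), e⟩).2
          ⟨a, h1⟩
        exact hc.1 (congrArg Subtype.val hc')
      rw [nFix, ← hZ] at h2
      omega
    have hmapS : ∀ u ∈ P i, u • b ∈ S := by
      rintro u ⟨hu, -, z, hz, e⟩
      refine ⟨z, hz, fun e' => hb (smul_left_cancel u (e'.trans (h.nil.le hu).symm)), ?_⟩
      have e2 : i • u • b = z • u • b := by
        rw [smul_smul, show i * u = u * (u⁻¹ * i * u) by group, mul_smul, e, smul_smul,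
          ← hZc z hz u hu, mul_smul]
      rw [mul_smul, ← e2, smul_smul, hi2, one_smul]
    let e : P i → S × R := fun u => (⟨(u : G) • b, hmapS u u.2⟩, ⟨((Classical.epsilon fun w : G =>
      w ∈ U ∧ w • b = (u : G) • b))⁻¹ * u, by
        obtain ⟨h1, h2⟩ := Classical.epsilon_spec (p := fun w : G => w ∈ U ∧ w • b = (u : G) • b)
          ⟨u, u.2.1, rfl⟩
        exact ⟨hUa.1 (mul_mem (inv_mem h1) u.2.1), by
          show (_⁻¹ * (u : G)) • b = b
          rw [mul_smul, inv_smul_eq_iff, h2]⟩⟩)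
    have he : Function.Injective e := by
      intro u u' he
      obtain ⟨e1, e2⟩ := Prod.mk.inj he
      have e1' : (u : G) • b = (u' : G) • b := congrArg Subtype.val e1
      have e2' := congrArg Subtype.val e2
      simp only [e1'] at e2'
      exact Subtype.ext (mul_left_cancel e2')
    refine (Nat.card_le_card_of_injective e he).trans ?_
    rw [Nat.card_prod, pow_two]
    exact Nat.mul_le_mul_right _ hS
  -- `W`
  set zU : Subgroup U := Z.subgroupOf U with hzU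
  haveI : zU.Normal := ⟨fun z hz u => Subgroup.mem_subgroupOf.2 (by
    show (u : G) * z * (u : G)⁻¹ ∈ Z
    rw [← hZc z (Subgroup.mem_subgroupOf.1 hz) u u.2, mul_inv_cancel_right]
    exact Subgroup.mem_subgroupOf.1 hz)⟩
  set W : Subgroup U := (Subgroup.center (U ⧸ zU)).comap (QuotientGroup.mk' zU) with hW
  have hWmem : ∀ w : U, w ∈ W ↔ ∀ u : U, (u : G) * w * (u : G)⁻¹ * (w : G)⁻¹ ∈ Z := by
    intro w
    rw [hW, Subgroup.mem_comap, Subgroup.mem_center_iff]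
    constructor
    · intro hw u
      have := hw (QuotientGroup.mk u)
      rw [QuotientGroup.mk'_apply, ← mul_inv_eq_one, ← QuotientGroup.mk_mul, ← QuotientGroup.mk_mul,
        ← QuotientGroup.mk_inv, ← QuotientGroup.mk_mul, QuotientGroup.eq_one_iff] at this
      have := Subgroup.mem_subgroupOf.1 this
      simpa [mul_assoc] using this
    · intro hw x
      obtain ⟨u, rfl⟩ := QuotientGroup.mk_surjective x
      rw [QuotientGroup.mk'_apply, ← mul_inv_eq_one, ← QuotientGroup.mk_mul, ← QuotientGroup.mk_mul,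
        ← QuotientGroup.mk_inv, ← QuotientGroup.mk_mul, QuotientGroup.eq_one_iff]
      exact Subgroup.mem_subgroupOf.2 (by simpa [mul_assoc] using hw u)
  set WG : Subgroup G := W.map U.subtype with hWG
  have hWGmem : ∀ {w : G}, w ∈ WG ↔ w ∈ U ∧ ∀ u ∈ U, u * w * u⁻¹ * w⁻¹ ∈ Z := by
    intro w
    constructor
    · rintro ⟨x, hx, rfl⟩
      exact ⟨x.2, fun u hu => (hWmem x).1 hx ⟨u, hu⟩⟩
    · rintro ⟨hw, hc⟩
      exact ⟨⟨w, hw⟩, (hWmem _).2 fun u => hc u u.2, rfl⟩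
  have hWU : WG ≤ U := Subgroup.map_subtype_le _
  have hZW : Z ≤ WG := fun z hz => hWGmem.2 ⟨hZU hz, fun u hu => by
    rw [← hZc z hz u hu, mul_inv_cancel_right, mul_inv_cancel]; exact one_mem _⟩
  have hWn : ∀ u ∈ U, ∀ w ∈ WG, u * w * u⁻¹ ∈ WG := fun u hu w hw => by
    have := mul_mem (hZW ((hWGmem.1 hw).2 u hu)) hw
    rwa [inv_mul_cancel_right] at this
  have hWR : ∀ {r : G}, r ∈ WG → r ∈ R → r = 1 := by
    intro r hrW hrR
    by_contra hr1
    obtain ⟨k, hk⟩ := IsPGroup.iff_orderOf.1 hp ⟨r, hRU hrR⟩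
    rw [← Subgroup.orderOf_coe] at hk
    rcases Nat.eq_zero_or_pos k with rfl | hk0
    · rw [pow_zero, orderOf_eq_one_iff] at hk
      exact hr1 hk
    set i := r ^ 2 ^ (k - 1)
    have hi1 : i ≠ 1 := pow_ne_one_of_lt_orderOf (by positivity)
      (by rw [hk]; exact Nat.pow_lt_pow_right (by norm_num) (by omega))
    have hi2 : i * i = 1 := by
      rw [← pow_add, ← two_mul, ← pow_succ', show k - 1 + 1 = k by omega]
      exact orderOf_dvd_iff_pow_eq_one.1 (dvd_of_eq hk)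
    have hiW : i ∈ WG := pow_mem hrW _
    have hiR : i ∈ R := pow_mem hrR _
    have hall : ∀ u : U, (u : G) ∈ P i := fun u => by
      refine ⟨u.2, mul_mem (mul_mem (inv_mem u.2) (hWU hiW)) u.2, ?_⟩
      have hz := (hWGmem.1 hiW).2 (u : G)⁻¹ (inv_mem u.2)
      rw [inv_inv] at hz
      refine ⟨_, hz, ?_⟩
      rw [show ((u : G)⁻¹ * i * (u : G)) = ((u : G)⁻¹ * i * (u : G) * i⁻¹) * i by group, mul_smul,
        hiR.2]
      group
    have h1 := Nat.card_le_card_of_injective (fun u : U => (⟨(u : G), hall u⟩ : P i))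
      fun u u' e => Subtype.ext (congrArg Subtype.val e :)
    have h2 := hP i hiR hi2 hi1
    exact absurd (h1.trans h2) (by rw [hcardU]; exact not_le.2 hlt)
  have hH0W : ∀ {w : G}, w ∈ WG → w ∈ H0 → w ∈ Z := by
    rintro w hw ⟨-, z, hz, e⟩
    have h1 : z⁻¹ * w ∈ R := ⟨hUa.1 (mul_mem (inv_mem (hZU hz)) (hWU hw)), by
      show (z⁻¹ * w) • b = b
      rw [mul_smul, e, inv_smul_smul]⟩
    have h2 := hWR (mul_mem (inv_mem (hZW hz)) hw) h1
    rwa [← inv_mul_eq_one.1 h2]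
  -- commutation with `R`
  have hcm : ∀ {k w : G}, k ∈ R → k ≠ 1 → w ∈ WG → k * w = w * k → w ∈ Z := by
    intro k w hk hk1 hw hkw
    obtain ⟨i, hi, hi1, hi2, hcc⟩ := hinv hk hk1
    have hfix : i • w • b = w • b := by rw [smul_smul, hcc w hkw, mul_smul, hi.2]
    obtain ⟨z, hz, e⟩ := h.fixed_eq_orbit hb hi2 hi1 hi hfix
      (fun e => hb (smul_left_cancel w (e.trans (h.nil.le (hWU hw)).symm)))
    exact hH0W hw ⟨hWU hw, z, hz, e.symm⟩
  -- an element of `W` outside `Z`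
  obtain ⟨w₁, hw₁, hw₁Z⟩ : ∃ w ∈ WG, w ∉ Z := by
    have hnt : Nontrivial (U ⧸ zU) := by
      rw [← Finite.one_lt_card_iff_nontrivial]
      by_contra hle
      have h1 := Subgroup.card_eq_card_quotient_mul_card_subgroup zU
      rw [Nat.card_congr (Subgroup.subgroupOfEquivOfLe hZU).toEquiv, hcardU,
        show Nat.card (U ⧸ zU) = 1 by have := Nat.card_pos (α := U ⧸ zU); omega, one_mul] at h1
      have h2 : q * 1 < q * q ^ 2 * Nat.card R := by
        rw [mul_assoc]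
        refine Nat.mul_lt_mul_of_pos_left ?_ (by omega)
        calc 1 < q ^ 2 * 1 := by rw [mul_one]; exact Nat.one_lt_pow (by norm_num) (by omega)
          _ ≤ q ^ 2 * Nat.card R := Nat.mul_le_mul_left _ hR0
      rw [mul_one, ← pow_succ'] at h2
      exact absurd h1.symm (ne_of_lt h2)
    haveI : Nontrivial (U ⧸ zU) := hnt
    haveI := (hp.to_quotient zU).center_nontrivial
    obtain ⟨x, hx1⟩ := exists_ne (1 : Subgroup.center (U ⧸ zU))
    obtain ⟨w, hwx⟩ := QuotientGroup.mk_surjective (x : U ⧸ zU)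
    refine ⟨w, ⟨w, by show QuotientGroup.mk' zU w ∈ Subgroup.center _; rw [QuotientGroup.mk'_apply, hwx]; exact x.2, rfl⟩,
      fun hwZ => hx1 (Subtype.ext ?_)⟩
    rw [← hwx]
    exact (QuotientGroup.eq_one_iff w).2 (Subgroup.mem_subgroupOf.2 hwZ)
  -- elements of the torus
  have hgW : ∀ {g : G}, g • a = a → ∀ {w : G}, w ∈ WG → g * w * g⁻¹ ∈ WG := by
    intro g hg w hw
    obtain ⟨hwU, hwc⟩ := hWGmem.1 hw
    refine hWGmem.2 ⟨h.nil.conj_mem g hg w hwU, fun u hu => ?_⟩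
    have hu' : g⁻¹ * u * g ∈ U := by
      simpa using h.nil.conj_mem g⁻¹ (inv_mem (show g ∈ stabilizer G a from hg)) u hu
    have := h.conj_zAt g (hwc _ hu')
    rw [hg] at this
    simpa [mul_assoc] using this
  let φ : G → G → G := fun i w => i * w * i⁻¹ * w⁻¹
  have hφZ : ∀ {i w : G}, i ∈ R → w ∈ WG → φ i w ∈ Z := fun {i w} hi hw =>
    (hWGmem.1 hw).2 i (hRU hi)
  have hφmul : ∀ {i w w' : G}, i ∈ R → w ∈ WG → w' ∈ WG → φ i (w * w') = φ i w * φ i w' := by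
    intro i w w' hi hw hw'
    have hcz := hZc _ (hφZ hi hw') w⁻¹ (inv_mem (hWU hw))
    calc φ i (w * w') = i * w * i⁻¹ * ((i * w' * i⁻¹ * w'⁻¹) * w⁻¹) := by simp only [φ]; group
      _ = i * w * i⁻¹ * (w⁻¹ * φ i w') := by rw [show i * w' * i⁻¹ * w'⁻¹ = φ i w' from rfl, hcz]
      _ = φ i w * φ i w' := by simp only [φ]; group
  have hφker : ∀ {i w : G}, i ∈ R → i ≠ 1 → w ∈ WG → φ i w = 1 → w ∈ Z := fun {i w} hi hi1 hw e =>
    hcm hi hi1 hw (mul_inv_eq_iff_eq_mul.1 (mul_inv_eq_one.1 e))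
  have hφz : ∀ {i z : G}, i ∈ R → z ∈ Z → φ i z = 1 := fun {i z} hi hz => by
    simp only [φ]
    rw [← hZc z hz i (hRU hi), mul_inv_cancel_right, mul_inv_cancel]
  have htor : ∀ {i w w' : G}, i ∈ R → i ≠ 1 → w ∈ WG → w ∉ Z → w' ∈ WG → w' ∉ Z →
      ∃ g : G, g • a = a ∧ (∀ r ∈ R, g * r = r * g) ∧ (g * w * g⁻¹)⁻¹ * w' ∈ Z := by
    intro i w w' hi hi1 hw hwZ hw' hwZ'
    obtain ⟨g, hga, hgv, hgR⟩ := h.exists_conj_z hb (hφZ hi hw) (fun e => hwZ (hφker hi hi1 hw e))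
      (hφZ hi hw') (fun e => hwZ' (hφker hi hi1 hw' e))
    refine ⟨g, hga, hgR, hφker hi hi1 (mul_mem (inv_mem (hgW hga hw)) hw') ?_⟩
    have e1 : φ i (g * w * g⁻¹) = φ i w' := by
      have hgi : i * g = g * i := (hgR i hi).symm
      have hgi' : i⁻¹ * g = g * i⁻¹ := (Commute.inv_left (show Commute i g from hgi)).eq
      rw [← hgv]
      simp only [φ]
      calc i * (g * w * g⁻¹) * i⁻¹ * (g * w * g⁻¹)⁻¹
          = (i * g) * w * (g⁻¹ * i⁻¹) * (g * w * g⁻¹)⁻¹ := by group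
        _ = (g * i) * w * (i⁻¹ * g⁻¹) * (g * w * g⁻¹)⁻¹ := by
            rw [hgi, ← mul_inv_rev, hgi, mul_inv_rev]
        _ = g * (i * w * i⁻¹ * w⁻¹) * g⁻¹ := by group
    have e2 := hφmul hi (inv_mem (hgW hga hw)) (hgW hga hw)
    rw [inv_mul_cancel, hφz hi (one_mem _)] at e2
    rw [hφmul hi (inv_mem (hgW hga hw)) hw', ← e1, ← e2]
  -- `|W| = q²`, `P i = W R`
  have hPeq : ∀ {i : G}, i ∈ R → i * i = 1 → i ≠ 1 → ∀ u ∈ P i, ∃ w ∈ WG, ∃ r ∈ R, u = w * r := by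
    intro i hi hi2 hi1
    let Φ : WG →* Z := MonoidHom.mk' (fun w => ⟨φ i w, hφZ hi w.2⟩)
      (fun w w' => Subtype.ext (hφmul hi w.2 w'.2))
    have hsurj : Function.Surjective Φ := by
      intro z
      by_cases hz1 : (z : G) = 1
      · exact ⟨1, by rw [map_one]; exact Subtype.ext hz1.symm⟩
      obtain ⟨g, hga, hgv, hgR⟩ := h.exists_conj_z hb (hφZ hi hw₁)
        (fun e => hw₁Z (hφker hi hi1 hw₁ e)) z.2 hz1
      refine ⟨⟨_, hgW hga hw₁⟩, Subtype.ext ?_⟩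
      have hgi : i * g = g * i := (hgR i hi).symm
      rw [← hgv]
      show i * (g * w₁ * g⁻¹) * i⁻¹ * (g * w₁ * g⁻¹)⁻¹ = _
      calc i * (g * w₁ * g⁻¹) * i⁻¹ * (g * w₁ * g⁻¹)⁻¹
          = (i * g) * w₁ * (g⁻¹ * i⁻¹) * (g * w₁ * g⁻¹)⁻¹ := by group
        _ = (g * i) * w₁ * (i⁻¹ * g⁻¹) * (g * w₁ * g⁻¹)⁻¹ := by
            rw [hgi, ← mul_inv_rev, hgi, mul_inv_rev]
        _ = g * (i * w₁ * i⁻¹ * w₁⁻¹) * g⁻¹ := by group
    have hker : Nat.card Φ.ker = q := Nat.card_congr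
      { toFun := fun w => ⟨((w : WG) : G), hφker hi hi1 w.1.2 (congrArg Subtype.val (MonoidHom.mem_ker.1 w.2))⟩
        invFun := fun z => ⟨⟨z, hZW z.2⟩, MonoidHom.mem_ker.2 (Subtype.ext (hφz hi z.2))⟩
        left_inv := fun w => rfl
        right_inv := fun z => rfl }
    have hWcard : Nat.card WG = q ^ 2 := by
      have := Subgroup.card_mul_index Φ.ker
      rw [Subgroup.index_ker, Φ.range_eq_top.2 hsurj, Subgroup.card_top, hker] at this
      rw [← this, pow_two]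
    let f : WG × R → P i := fun p => ⟨(p.1 : G) * p.2, mul_mem (hWU p.1.2) (hRU p.2.2), by
      have hcz : (p.1 : G)⁻¹ * i * (p.1 : G) * i⁻¹ ∈ Z := by
        have := inv_mem (hφZ hi (inv_mem p.1.2))
        simpa [φ, mul_assoc] using this
      refine ⟨mul_mem (mul_mem (inv_mem (mul_mem (hWU p.1.2) (hRU p.2.2))) (hRU hi))
        (mul_mem (hWU p.1.2) (hRU p.2.2)), _, hcz, ?_⟩
      have e : ((p.1 : G) * p.2)⁻¹ * i * ((p.1 : G) * p.2) =
          (p.2 : G)⁻¹ * ((p.1 : G)⁻¹ * i * (p.1 : G) * i⁻¹) * i * p.2 := by group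
      have e' : (p.2 : G)⁻¹ * ((p.1 : G)⁻¹ * i * (p.1 : G) * i⁻¹) =
          ((p.1 : G)⁻¹ * i * (p.1 : G) * i⁻¹) * (p.2 : G)⁻¹ :=
        (hZc _ hcz _ (inv_mem (hRU p.2.2))).symm
      rw [e, e', mul_smul, mul_smul, mul_smul, p.2.2.2, hi.2, inv_smul_eq_iff.2 p.2.2.2.symm]⟩
    have hfinj : Function.Injective f := by
      intro p p' e
      have e' : (p.1 : G) * p.2 = (p'.1 : G) * p'.2 := congrArg Subtype.val e
      have e'' : (p'.1 : G)⁻¹ * p.1 = (p'.2 : G) * (p.2 : G)⁻¹ := by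
        rw [eq_mul_inv_iff_mul_eq, mul_assoc, e', inv_mul_cancel_left]
      have h1 := hWR (mul_mem (inv_mem p'.1.2) p.1.2) (e'' ▸ mul_mem p'.2.2 (inv_mem p.2.2))
      have h2 : (p'.1 : G) = p.1 := inv_mul_eq_one.1 h1
      rw [h2] at e'
      exact Prod.ext (Subtype.ext h2.symm) (Subtype.ext (mul_left_cancel e'))
    have hle : Nat.card (P i) ≤ Nat.card (WG × R) := by
      rw [Nat.card_prod, hWcard]; exact hP i hi hi2 hi1
    intro u hu
    obtain ⟨⟨w, r⟩, e⟩ := (hfinj.bijective_of_nat_card_le hle).2 ⟨u, hu⟩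
    exact ⟨w, w.2, r, r.2, (congrArg Subtype.val e).symm⟩
  -- `W R` and its core in `U`
  set RU : Subgroup U := R.subgroupOf U with hRU'
  haveI hWnU : W.Normal := ⟨fun w hw u => (hWmem _).2 fun x => by
    obtain ⟨-, hc⟩ := hWGmem.1 (hWn u u.2 w ⟨w, hw, rfl⟩)
    exact hc x x.2⟩
  have hWRmem : ∀ {u : U}, u ∈ W ⊔ RU → ∃ w ∈ WG, ∃ r ∈ R, (u : G) = w * r := by
    intro u hu
    rw [← SetLike.mem_coe, Subgroup.normal_mul, Set.mem_mul] at hu
    obtain ⟨w, hw, r, hr, rfl⟩ := hu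
    exact ⟨w, ⟨w, hw, rfl⟩, r, Subgroup.mem_subgroupOf.1 hr, rfl⟩
  have hWRmem' : ∀ {u : U} {w r : G}, w ∈ WG → r ∈ R → (u : G) = w * r → u ∈ W ⊔ RU := by
    intro u w r hw hr e
    obtain ⟨x, hx, rfl⟩ := hw
    rw [show u = x * ⟨r, hRU hr⟩ from Subtype.ext e]
    exact Subgroup.mul_mem_sup hx (Subgroup.mem_subgroupOf.2 hr)
  have hWRP : ∀ {i : G}, i ∈ R → i * i = 1 → i ≠ 1 → ∀ {u : U}, (u : G) ∈ P i → u ∈ W ⊔ RU := by
    intro i hi hi2 hi1 u hu
    obtain ⟨w, hw, r, hr, e⟩ := hPeq hi hi2 hi1 _ hu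
    exact hWRmem' hw hr e
  have hWPR : ∀ {i : G}, i ∈ R → ∀ {u : U}, u ∈ W ⊔ RU → (u : G) ∈ P i := by
    intro i hi u hu
    obtain ⟨w, hw, r, hr, e⟩ := hWRmem hu
    have hcz : w⁻¹ * i * w * i⁻¹ ∈ Z := by
      have := inv_mem (hφZ hi (inv_mem hw))
      simpa [φ, mul_assoc] using this
    refine ⟨u.2, mul_mem (mul_mem (inv_mem u.2) (hRU hi)) u.2, _, hcz, ?_⟩
    rw [e, show (w * r)⁻¹ * i * (w * r) = r⁻¹ * (w⁻¹ * i * w * i⁻¹) * i * r by group,
      ← hZc _ hcz _ (inv_mem (hRU hr)), mul_smul, mul_smul, mul_smul, hr.2, hi.2,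
      inv_smul_eq_iff.2 hr.2.symm]
  have hWRne : W ⊔ RU ≠ ⊤ := by
    intro e
    have h2 := hP i₀ hi₀ hi₀2 hi₀1
    have h1 := Nat.card_le_card_of_injective
      (fun u : U => (⟨(u : G), hWPR hi₀ (e ▸ Subgroup.mem_top u)⟩ : P i₀))
      fun u u' e => Subtype.ext (congrArg Subtype.val e :)
    exact absurd (h1.trans h2) (by rw [hcardU]; exact not_le.2 hlt)
  set Cc := (W ⊔ RU).normalCore with hCc
  haveI : Nontrivial (U ⧸ Cc) := by
    rw [← Finite.one_lt_card_iff_nontrivial]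
    refine Subgroup.one_lt_index_of_ne_top fun e => hWRne (top_le_iff.1 (e ▸ Subgroup.normalCore_le _))
  haveI := (hp.to_quotient Cc).center_nontrivial
  obtain ⟨⟨σ, hσc⟩, hσ1⟩ := exists_ne (1 : Subgroup.center (U ⧸ Cc))
  obtain ⟨s, rfl⟩ := QuotientGroup.mk_surjective σ
  have hsc : ∀ u : U, u * s * u⁻¹ * s⁻¹ ∈ Cc := fun u => by
    rw [← QuotientGroup.eq_one_iff, QuotientGroup.mk_mul, QuotientGroup.mk_mul, QuotientGroup.mk_mul,
      QuotientGroup.mk_inv, QuotientGroup.mk_inv, Subgroup.mem_center_iff.1 hσc (QuotientGroup.mk u),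
      mul_inv_cancel_right, mul_inv_cancel]
  have hsWR : s ∉ W ⊔ RU := by
    intro hs
    refine hσ1 (Subtype.ext ((QuotientGroup.eq_one_iff s).2 ?_))
    intro u
    have := (W ⊔ RU).mul_mem (Subgroup.normalCore_le _ (hsc u)) hs
    rwa [inv_mul_cancel_right] at this
  -- each involution `i` of `R` gives the inverter of `W`
  have hcase : ∀ {i : G}, i ∈ R → i * i = 1 → i ≠ 1 → ∃ w ∈ WG, w ∉ Z ∧ ∃ j ∈ R, j * j = 1 ∧
      (s : G)⁻¹ * i * s = w * j ∧ ∀ w' ∈ WG, j * w' * j⁻¹ = w'⁻¹ := by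
    intro i hi hi2 hi1
    set iU : U := ⟨i, hRU hi⟩
    have hx : s⁻¹ * (iU * s * iU) ∈ W ⊔ RU := by
      have hii : iU⁻¹ = iU := inv_eq_of_mul_eq_one_right (Subtype.ext hi2)
      have h1 := hsc iU
      rw [hii] at h1
      have h2 := (Subgroup.normalCore_normal _).conj_mem _ h1 s⁻¹
      rw [inv_inv, show s⁻¹ * (iU * s * iU * s⁻¹) * s = s⁻¹ * (iU * s * iU) by group] at h2
      exact Subgroup.normalCore_le _ h2
    obtain ⟨w, hw, r, hr, e⟩ := hWRmem hx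
    have e' : (s : G)⁻¹ * (i * s * i) = w * r := e
    have hwZ : w ∉ Z := by
      intro hwZ
      refine hsWR (hWRP hi hi2 hi1 ⟨s.2, mul_mem (mul_mem (inv_mem s.2) (hRU hi)) s.2, w, hwZ, ?_⟩)
      rw [show (s : G)⁻¹ * i * s = (s : G)⁻¹ * (i * s * i) * i⁻¹ by group, e',
        inv_eq_of_mul_eq_one_right hi2, mul_smul, mul_smul, hi.2, hr.2]
    have hinvx : i * (w * r) * i = r⁻¹ * w⁻¹ := by
      rw [← e', ← mul_inv_rev, ← e', mul_inv_rev, inv_inv, mul_inv_rev, mul_inv_rev,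
        inv_eq_of_mul_eq_one_right hi2]
      simp [← mul_assoc, hi2]
      simp [mul_assoc, hi2]
    have hiwi : i * w * i⁻¹ ∈ WG := hWn i (hRU hi) w hw
    have hirw : r⁻¹ * w⁻¹ * r ∈ WG := by simpa using hWn r⁻¹ (inv_mem (hRU hr)) _ (inv_mem hw)
    have hiri : i * r * i⁻¹ ∈ R := mul_mem (mul_mem hi hr) (inv_mem hi)
    have hsplit : i * w * i⁻¹ * (i * r * i⁻¹) = (r⁻¹ * w⁻¹ * r) * r⁻¹ := by
      rw [show i * w * i⁻¹ * (i * r * i⁻¹) = i * (w * r) * i⁻¹ by group,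
        inv_eq_of_mul_eq_one_right hi2, hinvx]
      group
    have hsplit' : (r⁻¹ * w⁻¹ * r)⁻¹ * (i * w * i⁻¹) = r⁻¹ * (i * r * i⁻¹)⁻¹ := by
      rw [eq_mul_inv_iff_mul_eq, mul_assoc, hsplit, inv_mul_cancel_left]
    have h1 := hWR (mul_mem (inv_mem hirw) hiwi) (hsplit' ▸ mul_mem (inv_mem hr) (inv_mem hiri))
    have h2 : r⁻¹ * w⁻¹ * r = i * w * i⁻¹ := inv_mul_eq_one.1 h1
    have h3 : r⁻¹ = i * r * i⁻¹ := by
      rw [← mul_inv_eq_one, ← hsplit', h1]
    set j := r * i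
    have hjw : j * w * j⁻¹ = w⁻¹ := by
      calc j * w * j⁻¹ = r * (i * w * i⁻¹) * r⁻¹ := by simp only [j]; group
        _ = w⁻¹ := by rw [← h2]; group
    refine ⟨w, hw, hwZ, j, mul_mem hr hi, ?_, ?_, fun w' hw' => ?_⟩
    · calc j * j = r * (i * r * i⁻¹) * (i * i) := by simp only [j]; group
        _ = 1 := by rw [← h3, hi2, mul_inv_cancel, one_mul]
    · calc (s : G)⁻¹ * i * s = (s : G)⁻¹ * (i * s * i) * i⁻¹ := by group
        _ = w * j := by rw [e', inv_eq_of_mul_eq_one_right hi2, mul_assoc]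
    · by_cases hwZ' : w' ∈ Z
      · rw [← hZc w' hwZ' j (hRU (mul_mem hr hi)), mul_inv_cancel_right, h.z_inv hwZ']
      obtain ⟨g, hga, hgR, hgz⟩ := htor hi hi1 hw hwZ hw' hwZ'
      obtain ⟨z, ew⟩ : ∃ z, w' = g * w * g⁻¹ * z := ⟨_, (mul_inv_cancel_left _ _).symm⟩
      replace hgz : z ∈ Z := by rwa [ew, inv_mul_cancel_left] at hgz
      have hgj : j * g = g * j := (hgR j (mul_mem hr hi)).symm
      have hzj : j * z * j⁻¹ = z⁻¹ := by
        rw [← hZc z hgz j (hRU (mul_mem hr hi)), mul_inv_cancel_right, h.z_inv hgz]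
      calc j * w' * j⁻¹ = (j * g) * w * (g⁻¹ * j⁻¹) * (j * z * j⁻¹) := by rw [ew]; group
        _ = (g * j) * w * (j⁻¹ * g⁻¹) * z⁻¹ := by
            rw [hgj, ← mul_inv_rev, hgj, mul_inv_rev, hzj]
        _ = g * (j * w * j⁻¹) * g⁻¹ * z⁻¹ := by group
        _ = w'⁻¹ := by
            rw [hjw, ew, mul_inv_rev, hZc z⁻¹ (inv_mem hgz) _
              (inv_mem (hWU (hgW hga hw)))]
            group
  -- only one involution
  have hcent : ∀ {k w : G}, k ∈ R → w ∈ WG → w ∉ Z → k * w = w * k → k = 1 :=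
    fun {k w} hk hw hwZ e => by_contra fun hk1 => hwZ (hcm hk hk1 hw e)
  have huniq : ∀ {i : G}, i ∈ R → i * i = 1 → i ≠ 1 → i = i₀ := by
    intro i hi hi2 hi1
    obtain ⟨w, hw, hwZ, j, hj, hj2, e, hinvW⟩ := hcase hi hi2 hi1
    obtain ⟨w', hw', -, j', hj', hj2', e', hinvW'⟩ := hcase hi₀ hi₀2 hi₀1
    have hjj : j = j' := by
      have h1 : (j'⁻¹ * j) * w = w * (j'⁻¹ * j) := by
        refine cm_iff.2 ?_
        calc j'⁻¹ * j * w * (j'⁻¹ * j)⁻¹ = j'⁻¹ * (j * w * j⁻¹) * j' := by group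
          _ = j'⁻¹ * (j' * w * j'⁻¹) * j' := by rw [hinvW w hw, hinvW' w hw]
          _ = w := by group
      exact (inv_mul_eq_one.1 (hcent (mul_mem (inv_mem hj') hj) hw hwZ h1)).symm
    subst hjj
    have h2 : (s : G)⁻¹ * (i * i₀⁻¹) * s ∈ WG := by
      rw [show (s : G)⁻¹ * (i * i₀⁻¹) * s = ((s : G)⁻¹ * i * s) * ((s : G)⁻¹ * i₀ * s)⁻¹ by group,
        e, e', mul_inv_rev, mul_assoc, mul_inv_cancel_left]
      exact mul_mem hw (inv_mem hw')
    have h3 := hWn s s.2 _ h2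
    rw [show (s : G) * ((s : G)⁻¹ * (i * i₀⁻¹) * s) * (s : G)⁻¹ = i * i₀⁻¹ by group] at h3
    exact mul_inv_eq_one.1 (hWR h3 (mul_mem hi (inv_mem hi₀)))
  have hR2 : ∀ r ∈ R, r = 1 ∨ r = i₀ := by
    intro r hr
    by_cases hr1 : r = 1
    · exact Or.inl hr1
    have hrr : r * r = 1 := by
      have hz := hφZ hr hw₁
      refine hcent (mul_mem hr hr) hw₁ hw₁Z (cm_iff.2 ?_)
      calc r * r * w₁ * (r * r)⁻¹ = r * (φ r w₁ * w₁) * r⁻¹ := by simp only [φ]; group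
        _ = φ r w₁ * (r * w₁ * r⁻¹) := by
            rw [← mul_assoc r, ← hZc _ hz r (hRU hr)]; group
        _ = φ r w₁ * (φ r w₁ * w₁) := by simp only [φ]; group
        _ = w₁ := by rw [← mul_assoc, hz.2.2, one_mul]
    exact Or.inr (huniq hr hrr hr1)
  have hcR : Nat.card R = 2 := by
    rw [Nat.card_eq_two_iff]
    refine ⟨1, ⟨i₀, hi₀⟩, fun e => hi₀1 (congrArg Subtype.val e).symm, Set.eq_univ_iff_forall.2 fun r => ?_⟩
    rcases hR2 r r.2 with e | e
    · exact Or.inl (Subtype.ext e)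
    · exact Or.inr (Subtype.ext e)
  obtain ⟨ws, hws, hwsZ, j, hj, -, ej, -⟩ := hcase hi₀ hi₀2 hi₀1
  have hji : j = i₀ := (hR2 j hj).resolve_left fun e => by
    rw [e, mul_one] at ej
    have h3 := hWn s s.2 _ (ej ▸ hws)
    rw [show (s : G) * ((s : G)⁻¹ * i₀ * s) * (s : G)⁻¹ = i₀ by group] at h3
    exact hi₀1 (hWR h3 hi₀)
  rw [hji] at ej
  have hij : i₀⁻¹ = i₀ := inv_eq_of_mul_eq_one_right hi₀2
  -- the elements moving `i₀` within its coset of `W`
  let x : G → G := fun u => u⁻¹ * i₀ * u * i₀⁻¹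
  have hxmul : ∀ u u' : G, x (u * u') = u'⁻¹ * x u * u' * x u' := fun u u' => by
    simp only [x]; group
  have hconjZ : ∀ {u w : G}, u ∈ U → w ∈ WG → (u⁻¹ * w * u) * w⁻¹ ∈ Z := fun {u w} hu hw => by
    simpa using (hWGmem.1 hw).2 u⁻¹ (inv_mem hu)
  let Y0 : Subgroup U :=
    { carrier := {u | x u ∈ WG}
      one_mem' := by
        show (1 : G)⁻¹ * i₀ * (1 : G) * i₀⁻¹ ∈ WG
        simp [one_mem]
      mul_mem' := fun {u u'} hu hu' => by
        show x ((u : G) * u') ∈ WG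
        rw [hxmul]
        exact mul_mem (by simpa using hWn (u' : G)⁻¹ (inv_mem u'.2) _ hu) hu'
      inv_mem' := fun {u} hu => by
        show x (u : G)⁻¹ ∈ WG
        have h1 := hWn u u.2 _ (inv_mem hu)
        have : x (u : G)⁻¹ = (u : G) * (x u)⁻¹ * (u : G)⁻¹ := by simp only [x]; group
        rwa [this] }
  let ψ : Y0 →* Z := MonoidHom.mk' (fun u => ⟨φ i₀ (x ((u : U) : G)), hφZ hi₀ u.2⟩) (fun u u' => by
    refine Subtype.ext ?_
    show φ i₀ (x (((u : U) : G) * ((u' : U) : G))) = φ i₀ (x _) * φ i₀ (x _)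
    rw [hxmul]
    set c := ((u' : U) : G)⁻¹ * x ((u : U) : G) * ((u' : U) : G)
    have hc : c ∈ WG := by simpa [c] using hWn ((u' : U) : G)⁻¹ (inv_mem (u' : U).2) _ u.2
    have hd : c * (x ((u : U) : G))⁻¹ ∈ Z := hconjZ (u' : U).2 u.2
    rw [hφmul hi₀ hc u'.2]
    congr 1
    calc φ i₀ c = φ i₀ (c * (x ((u : U) : G))⁻¹ * x ((u : U) : G)) := by rw [inv_mul_cancel_right]
      _ = _ := by rw [hφmul hi₀ (hZW hd) u.2, hφz hi₀ hd, one_mul])
  have hsY : s ∈ Y0 := by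
    show (s : G)⁻¹ * i₀ * s * i₀⁻¹ ∈ WG
    rw [ej, mul_inv_cancel_right]; exact hws
  have hsurj : Function.Surjective ψ := by
    intro z
    by_cases hz1 : (z : G) = 1
    · exact ⟨1, by rw [map_one]; exact Subtype.ext hz1.symm⟩
    have hxs : x (s : G) = ws := by simp only [x]; rw [ej, mul_inv_cancel_right]
    obtain ⟨g, hga, hgv, hgR⟩ := h.exists_conj_z hb (hφZ hi₀ hws)
      (fun e => hwsZ (hφker hi₀ hi₀1 hws e)) z.2 hz1
    have hgi : g⁻¹ * i₀ * g = i₀ := by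
      rw [mul_assoc, ← hgR i₀ hi₀, inv_mul_cancel_left]
    have hgi' : g * i₀ * g⁻¹ = i₀ := mul_inv_eq_iff_eq_mul.2 (hgR i₀ hi₀)
    set u : U := ⟨g * s * g⁻¹, h.nil.conj_mem g hga s s.2⟩
    have hxu : x (u : G) = g * ws * g⁻¹ := by
      rw [← hxs]
      simp only [x, u]
      calc (g * (s : G) * g⁻¹)⁻¹ * i₀ * (g * s * g⁻¹) * i₀⁻¹
          = g * (s : G)⁻¹ * (g⁻¹ * i₀ * g) * s * g⁻¹ * i₀⁻¹ := by group
        _ = g * (s : G)⁻¹ * i₀ * s * g⁻¹ * (g * i₀ * g⁻¹)⁻¹ := by rw [hgi, hgi']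
        _ = g * ((s : G)⁻¹ * i₀ * s * i₀⁻¹) * g⁻¹ := by group
    refine ⟨⟨u, show x (u : G) ∈ WG by rw [hxu]; exact hgW hga hws⟩, Subtype.ext ?_⟩
    show φ i₀ (x (u : G)) = z
    rw [hxu, ← hgv]
    simp only [φ]
    calc i₀ * (g * ws * g⁻¹) * i₀⁻¹ * (g * ws * g⁻¹)⁻¹
        = (g * i₀ * g⁻¹) * (g * ws * g⁻¹) * (g * i₀ * g⁻¹)⁻¹ * (g * ws * g⁻¹)⁻¹ := by rw [hgi']
      _ = g * (i₀ * ws * i₀⁻¹ * ws⁻¹) * g⁻¹ := by group
  have hxH0 : ∀ {u : U}, u ∈ W ⊔ RU → x u ∈ Z := by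
    intro u hu
    obtain ⟨w, hw, r, hr, e⟩ := hWRmem hu
    simp only [x]
    rw [e]
    have hrc : r⁻¹ * i₀ * r = i₀ := by
      rcases hR2 r hr with e | e <;> subst e <;> group
    have hcz : w⁻¹ * i₀ * w * i₀⁻¹ ∈ Z := by
      have := inv_mem (hφZ hi₀ (inv_mem hw))
      simpa [φ, mul_assoc] using this
    rw [show (w * r)⁻¹ * i₀ * (w * r) * i₀⁻¹ =
      r⁻¹ * (w⁻¹ * i₀ * w * i₀⁻¹) * r * (r⁻¹ * i₀ * r) * i₀⁻¹ by group, hrc,
      ← hZc _ hcz _ (inv_mem (hRU hr))]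
    simpa [mul_assoc] using hcz
  have hY : Y0 = ⊤ := by
    refine Subgroup.eq_top_of_le_card _ ?_
    have hk : q ^ 2 * 2 ≤ Nat.card ψ.ker := by
      have hxf : ∀ p : WG × R, x ((p.1 : G) * p.2) ∈ Z := fun p =>
        hxH0 (u := ⟨(p.1 : G) * p.2, mul_mem (hWU p.1.2) (hRU p.2.2)⟩) (hWRmem' p.1.2 p.2.2 rfl)
      let f : WG × R → ψ.ker := fun p =>
        ⟨⟨⟨(p.1 : G) * p.2, mul_mem (hWU p.1.2) (hRU p.2.2)⟩, hZW (hxf p)⟩,
          MonoidHom.mem_ker.2 (Subtype.ext (hφz hi₀ (hxf p)))⟩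
      have hfinj : Function.Injective f := by
        intro p p' e
        have e' : (p.1 : G) * p.2 = (p'.1 : G) * p'.2 :=
          congrArg (fun y : ψ.ker => (((y : Y0) : U) : G)) e
        have e'' : (p'.1 : G)⁻¹ * p.1 = (p'.2 : G) * (p.2 : G)⁻¹ := by
          rw [eq_mul_inv_iff_mul_eq, mul_assoc, e', inv_mul_cancel_left]
        have h1 := hWR (mul_mem (inv_mem p'.1.2) p.1.2) (e'' ▸ mul_mem p'.2.2 (inv_mem p.2.2))
        have h2 : (p'.1 : G) = p.1 := inv_mul_eq_one.1 h1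
        rw [h2] at e'
        exact Prod.ext (Subtype.ext h2.symm) (Subtype.ext (mul_left_cancel e'))
      refine le_trans (le_of_eq ?_) (Nat.card_le_card_of_injective f hfinj)
      have hWcard : Nat.card WG = q ^ 2 := by
        let Φ : WG →* Z := MonoidHom.mk' (fun w => ⟨φ i₀ w, hφZ hi₀ w.2⟩)
          (fun w w' => Subtype.ext (hφmul hi₀ w.2 w'.2))
        have hsurjΦ : Function.Surjective Φ := fun z => by
          obtain ⟨u, hu⟩ := hsurj z
          exact ⟨⟨_, u.2⟩, Subtype.ext (congrArg Subtype.val hu :)⟩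
        have hkerΦ : Nat.card Φ.ker = q := Nat.card_congr
          { toFun := fun w => ⟨((w : WG) : G), hφker hi₀ hi₀1 w.1.2 (congrArg Subtype.val (MonoidHom.mem_ker.1 w.2))⟩
            invFun := fun z => ⟨⟨z, hZW z.2⟩, MonoidHom.mem_ker.2 (Subtype.ext (hφz hi₀ z.2))⟩
            left_inv := fun w => rfl
            right_inv := fun z => rfl }
        have := Subgroup.card_mul_index Φ.ker
        rw [Subgroup.index_ker, Φ.range_eq_top.2 hsurjΦ, Subgroup.card_top, hkerΦ] at this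
        rw [← this, pow_two]
      rw [Nat.card_prod, hWcard, hcR]
    have := Subgroup.card_mul_index ψ.ker
    rw [Subgroup.index_ker, ψ.range_eq_top.2 hsurj, Subgroup.card_top] at this
    rw [hcardU, hcR, ← this]
    calc q ^ 3 * 2 = q ^ 2 * 2 * q := by ring
      _ ≤ Nat.card ψ.ker * q := Nat.mul_le_mul_right _ hk
  have hx : ∀ u ∈ U, x u ∈ WG := fun u hu => (hY ▸ Subgroup.mem_top (⟨u, hu⟩ : U) : _ ∈ Y0)
  -- squares lie in `W`
  have hsq : ∀ u ∈ U, u * u ∈ WG := by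
    intro u hu
    have hmem : u * u ∈ U := mul_mem hu hu
    have h1 : x (u * u) ∈ Z := by
      refine hφker hi₀ hi₀1 (hx _ hmem) ?_
      have h2 := congrArg Subtype.val (map_mul ψ ⟨⟨u, hu⟩, hx u hu⟩ ⟨⟨u, hu⟩, hx u hu⟩)
      refine h2.trans ?_
      exact (hφZ hi₀ (hx u hu)).2.2
    have h3 : (⟨u * u, hmem⟩ : U) ∈ W ⊔ RU := by
      refine hWRP hi₀ hi₀2 hi₀1 ⟨hmem, mul_mem (mul_mem (inv_mem hmem) (hRU hi₀)) hmem, x (u * u), h1, ?_⟩
      rw [show (u * u)⁻¹ * i₀ * (u * u) = x (u * u) * i₀ by simp only [x]; group, mul_smul, hi₀.2]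
    obtain ⟨w, hw, r, hr, e⟩ := hWRmem h3
    have e' : u * u = w * r := e
    rcases hR2 r hr with er | er <;> rw [er] at e'
    · rw [e', mul_one]; exact hw
    exfalso
    have hz := hconjZ hu hw
    set z := u⁻¹ * w * u * w⁻¹
    have hxu : x u ∈ Z := by
      have e2 : u⁻¹ * (w * i₀) * u = w * i₀ := by rw [← e']; group
      have e3 : z * w * (u⁻¹ * i₀ * u) = w * i₀ := by
        calc z * w * (u⁻¹ * i₀ * u) = u⁻¹ * (w * i₀) * u := by simp only [z]; group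
          _ = _ := e2
      have e4 : u⁻¹ * i₀ * u = z⁻¹ * i₀ := by
        rw [hZc z hz w (hWU hw), mul_assoc w] at e3
        exact eq_inv_mul_iff_mul_eq.2 (mul_left_cancel e3)
      simp only [x]
      rw [e4, mul_inv_cancel_right]
      exact inv_mem hz
    have hu' : (⟨u, hu⟩ : U) ∈ W ⊔ RU := by
      refine hWRP hi₀ hi₀2 hi₀1 ⟨hu, mul_mem (mul_mem (inv_mem hu) (hRU hi₀)) hu, x u, hxu, ?_⟩
      rw [show u⁻¹ * i₀ * u = x u * i₀ by simp only [x]; group, mul_smul, hi₀.2]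
    obtain ⟨w', hw', r', hr', e5⟩ := hWRmem hu'
    have e5' : u = w' * r' := e5
    have h6 : i₀ ∈ WG := by
      have e6 : u * u = w' * (r' * w' * r'⁻¹) * (r' * r') := by rw [e5']; group
      have hrr : r' * r' = 1 := by
        rcases hR2 r' hr' with er | er <;> rw [er]
        · exact one_mul 1
        · exact hi₀2
      rw [hrr, mul_one, e'] at e6
      have : i₀ = w⁻¹ * (w' * (r' * w' * r'⁻¹)) := by rw [← e6, inv_mul_cancel_left]
      rw [this]
      exact mul_mem (inv_mem hw) (mul_mem hw' (hWn r' (hRU hr') w' hw'))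
    exact hi₀1 (hWR h6 hi₀)
  -- a subgroup of index two avoiding the class of `i₀`
  obtain ⟨M, ⟨hWM, hMi⟩, hMmax⟩ := Set.Finite.exists_maximal
    (Set.toFinite {M : Subgroup U | W ≤ M ∧ (⟨i₀, hRU hi₀⟩ : U) ∉ M})
    ⟨W, le_rfl, fun hm => hi₀1 (hWR ⟨_, hm, rfl⟩ hi₀)⟩
  have hWmem' : ∀ {u : U}, (u : G) ∈ WG → u ∈ M := fun {u} hu => by
    obtain ⟨y, hy, e⟩ := hu
    rw [← Subtype.ext e] at *
    exact hWM hy
  have hsqM : ∀ u : U, u * u ∈ M := fun u => hWmem' (hsq u u.2)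
  have hnM : ∀ (u m : U), m ∈ M → u * m * u⁻¹ ∈ M := by
    intro u m hm
    have : u * m * u⁻¹ = (u * m) * (u * m) * (m⁻¹ * (u⁻¹ * u⁻¹)) := by group
    rw [this]
    exact mul_mem (hsqM _) (mul_mem (inv_mem hm) (by rw [← mul_inv_rev]; exact inv_mem (hsqM u)))
  have hidx : ∀ u : U, u ∉ M → ⟨i₀, hRU hi₀⟩ * u ∈ M := by
    intro u hu
    by_contra hne'
    let M' : Subgroup U :=
      { carrier := {y | y ∈ M ∨ u⁻¹ * y ∈ M}
        one_mem' := Or.inl (one_mem _)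
        mul_mem' := fun {p p'} hp hp' => by
          rcases hp with hp | hp <;> rcases hp' with hp' | hp'
          · exact Or.inl (mul_mem hp hp')
          · refine Or.inr ?_
            have : u⁻¹ * (p * p') = (u⁻¹ * p * u) * (u⁻¹ * p') := by group
            rw [this]
            exact mul_mem (by simpa using hnM u⁻¹ p hp) hp'
          · exact Or.inr (by rw [← mul_assoc]; exact mul_mem hp hp')
          · refine Or.inl ?_
            have : p * p' = u * u * (u⁻¹ * (u⁻¹ * p) * u) * (u⁻¹ * p') := by group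
            rw [this]
            exact mul_mem (mul_mem (hsqM u) (by simpa using hnM u⁻¹ _ hp)) hp'
        inv_mem' := fun {p} hp => by
          rcases hp with hp | hp
          · exact Or.inl (inv_mem hp)
          · refine Or.inr ?_
            have : u⁻¹ * p⁻¹ = u⁻¹ * (u⁻¹ * p)⁻¹ * u * (u⁻¹ * u⁻¹) := by group
            rw [this]
            exact mul_mem (by simpa using hnM u⁻¹ _ (inv_mem hp))
              (by rw [← mul_inv_rev]; exact inv_mem (hsqM u)) }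
    have huM' : u ∈ M' := Or.inr (by rw [inv_mul_cancel]; exact one_mem _)
    have hiM' : (⟨i₀, hRU hi₀⟩ : U) ∉ M' := by
      rintro (hc | hc)
      · exact hMi hc
      · refine hne' ?_
        have := inv_mem hc
        rw [mul_inv_rev, inv_inv, show (⟨i₀, hRU hi₀⟩ : U)⁻¹ = ⟨i₀, hRU hi₀⟩ from Subtype.ext hij] at this
        exact this
    exact hu (hMmax ⟨hWM.trans fun y hy => Or.inl hy, hiM'⟩ (fun y hy => Or.inl hy) huM')
  have hM2 : M.index = 2 := by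
    rw [Subgroup.index_eq_two_iff']
    refine ⟨⟨i₀, hRU hi₀⟩, fun u => ?_⟩
    by_cases hu : u ∈ M
    · exact Or.inr ⟨hu, fun hc => hMi (by simpa using mul_mem hc (inv_mem hu))⟩
    · exact Or.inl ⟨hidx u hu, hu⟩
  have hcT : 2 * Nat.card (M.map U.subtype) = Nat.card U := by
    rw [Subgroup.card_map_of_injective (Subgroup.subtype_injective U), ← hM2, mul_comm,
      Subgroup.card_mul_index]
  have hUodd : Odd U.index := by
    have hst : (stabilizer G a).index = Nat.card Ω := by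
      haveI : IsPretransitive G Ω := ⟨fun p p' => by
        obtain ⟨g, rfl⟩ := h.nil.exists_map p
        obtain ⟨g', rfl⟩ := h.nil.exists_map p'
        exact ⟨g' * g⁻¹, by rw [mul_smul, inv_smul_smul]⟩⟩
      exact index_stabilizer_of_transitive G a
    rw [← Subgroup.relIndex_mul_index h.nil.le, hst]
    exact h.oddIdx.mul h.oddDeg
  haveI := h.simple
  obtain ⟨g, hg⟩ := MTwelveInv.exists_conj_mem (G := G) (fun N hN hN2 => by
    rcases hN.eq_bot_or_eq_top with e | e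
    · rw [e, Subgroup.index_bot] at hN2
      have hd : Nat.card U ∣ 2 := hN2 ▸ Subgroup.card_subgroup_dvd_card U
      rw [hcardU, hcR] at hd
      have := Nat.le_of_dvd (by norm_num) hd
      nlinarith [Nat.one_le_pow 3 q (by omega), Nat.pow_le_pow_left hq4 3]
    · rw [e, Subgroup.index_top] at hN2
      norm_num at hN2) U (M.map U.subtype) hUodd (Subgroup.map_subtype_le _) hcT hi₀2
  obtain ⟨m, hm, hme⟩ := hg
  set c := g * i₀ * g⁻¹
  have hcU : c ∈ U := hme ▸ m.2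
  obtain ⟨d, hda, hd⟩ : ∃ d : Ω, d ≠ a ∧ c • d = d := by
    have hfix : ∀ p : Ω, i₀ • p = p → c • g • p = g • p := fun p hp => by
      rw [smul_smul, inv_mul_cancel_right, mul_smul, hp]
    by_cases hga : g • a = a
    · exact ⟨g • b, fun e => hb (smul_left_cancel g (e.trans hga.symm)), hfix b hi₀.2⟩
    · exact ⟨g • a, hga, hfix a (h.nil.le (hRU hi₀))⟩
  obtain ⟨u, hu, rfl⟩ := h.nil.move b hb d hda
  have hcR' : u⁻¹ * c * u ∈ R := ⟨hUa.1 (mul_mem (mul_mem (inv_mem hu) hcU) hu), by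
    show (u⁻¹ * c * u) • b = b
    rw [mul_smul, mul_smul, hd, inv_smul_smul]⟩
  rcases hR2 _ hcR' with e | e
  · have hc1 : c = 1 := by
      calc c = u * (u⁻¹ * c * u) * u⁻¹ := by group
        _ = 1 := by rw [e]; group
    exact hi₀1 (conj_eq_one_iff.1 hc1)
  · refine hMi ?_
    have hce : c = x u⁻¹ * i₀ := by
      calc c = u * (u⁻¹ * c * u) * u⁻¹ := by group
        _ = x u⁻¹ * i₀ := by rw [e]; simp only [x]; group
    have hxm : (⟨x u⁻¹, hWU (hx _ (inv_mem hu))⟩ : U) ∈ M := hWmem' (hx _ (inv_mem hu))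
    have e2 : (⟨i₀, hRU hi₀⟩ : U) = (⟨x u⁻¹, hWU (hx _ (inv_mem hu))⟩ : U)⁻¹ * m := by
      refine Subtype.ext ?_
      show i₀ = (x u⁻¹)⁻¹ * (m : G)
      rw [show (m : G) = c from hme, hce, inv_mul_cancel_left]
    rw [e2]
    exact mul_mem (inv_mem hxm) hm

end OddStab

end Cfsg.Agent.Lib.SplitRankOne70
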