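import Cfsg.Agent.Lib.BNPair.RankOne
import Cfsg.Agent.Lib.SplitRankOne70.BNRegular
import Cfsg.Prelude.Def_LieRecognition

/-!
The odd split rank one situation gives a rank-one set-up.
-/

set_option autoImplicit false
set_option linter.unusedSectionVars false
set_option linter.style.haveILetI false

namespace Cfsg.Agent.Lib.SplitRankOne70

open MulAction Cfsg
open scoped Pointwise

universe u v

/-- The index of a factor with a complement. -/
theorem relIndex_eq_card_compl {G : Type u} [Group G] [Finite G] {U D B : Subgroup G} (hU : U ≤ B)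
    (hD : D ≤ B) (hinf : U ⊓ D = ⊥) (hmul : ∀ g ∈ B, ∃ u ∈ U, ∃ d ∈ D, g = u * d) :
    U.relIndex B = Nat.card D := by
  have e : Nat.card (U × D) = Nat.card B := by
    refine Nat.card_congr (Equiv.ofBijective
      (fun p : U × D => (⟨(p.1 : G) * p.2, mul_mem (hU p.1.2) (hD p.2.2)⟩ : B)) ⟨?_, ?_⟩)
    · intro p p' e
      have e' : (p.1 : G) * p.2 = (p'.1 : G) * p'.2 := congrArg Subtype.val e
      have e'' : (p'.1 : G)⁻¹ * p.1 = (p'.2 : G) * (p.2 : G)⁻¹ := by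
        rw [eq_mul_inv_iff_mul_eq, mul_assoc, e', inv_mul_cancel_left]
      have h0 : (p'.1 : G)⁻¹ * p.1 ∈ U ⊓ D :=
        Subgroup.mem_inf.2 ⟨mul_mem (inv_mem p'.1.2) p.1.2, e'' ▸ mul_mem p'.2.2 (inv_mem p.2.2)⟩
      rw [hinf, Subgroup.mem_bot] at h0
      have h2 : (p'.1 : G) = p.1 := inv_mul_eq_one.1 h0
      rw [h2] at e'
      exact Prod.ext (Subtype.ext h2.symm) (Subtype.ext (mul_left_cancel e'))
    · rintro ⟨g, hg⟩
      obtain ⟨u, hu, d, hd, rfl⟩ := hmul g hg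
      exact ⟨(⟨u, hu⟩, ⟨d, hd⟩), rfl⟩
  have h1 : Nat.card U * U.relIndex B = Nat.card B := by
    rw [Subgroup.relIndex, ← Nat.card_congr (Subgroup.subgroupOfEquivOfLe hU).toEquiv,
      Subgroup.card_mul_index]
  rw [← h1, Nat.card_prod] at e
  exact (Nat.eq_of_mul_eq_mul_left Nat.card_pos e).symm

namespace OddStab

variable {G : Type u} {Ω : Type v} [Group G] [MulAction G Ω] [Finite G] [FaithfulSMul G Ω]
  {a : Ω} {U : Subgroup G} (h : OddStab G Ω a U)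
include h

theorem exists_setup : ∃ t : G, IsRankOneSetup G Ω a t U := by
  haveI := h.finiteΩ
  obtain ⟨b, hb⟩ : ∃ b : Ω, b ≠ a := by
    by_contra! hall
    haveI : Subsingleton Ω := ⟨fun x y => (hall x).trans (hall y).symm⟩
    have := Finite.card_le_one_iff_subsingleton.2 (inferInstance : Subsingleton Ω)
    have := h.three
    omega
  obtain ⟨z, hz, hz1⟩ := h.exists_z_at a
  obtain ⟨w, hw, hw1⟩ := h.exists_z_at b
  obtain ⟨e, t, ht, ht1, -, hab, -, -⟩ := h.exists_swap hb.symm hz hz1 hw hw1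
  have hinf : U ⊓ stabilizer G (t • a) = ⊥ := by
    rw [hab, ← h.rAt_eq_bot hb]
    exact le_antisymm (fun x hx => ⟨h.nil.uAt_a.ge hx.1, hx.2⟩)
      (fun x hx => ⟨h.nil.uAt_a.le hx.1, hx.2⟩)
  have hmul : ∀ g ∈ stabilizer G a,
      ∃ u ∈ U, ∃ d ∈ stabilizer G a ⊓ stabilizer G (t • a), g = u * d := by
    intro g hg
    rw [hab]
    obtain ⟨u, hu, e⟩ := h.nil.move b hb (g • b)
      (fun e => hb (smul_left_cancel g (e.trans (mem_stabilizer_iff.1 hg).symm)))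
    refine ⟨u, hu, u⁻¹ * g, Subgroup.mem_inf.2 ⟨mul_mem (inv_mem (h.nil.le hu)) hg, ?_⟩, by group⟩
    rw [mem_stabilizer_iff, mul_smul, inv_smul_eq_iff, e]
  refine ⟨t, h.nil.two, ht.2.2, ht1, fun e => hb (hab.symm.trans e), h.nil.le, h.nil.conj_mem,
    hinf, le_antisymm (sup_le h.nil.le inf_le_left) fun g hg => ?_, h.even_U, ?_⟩
  · obtain ⟨u, hu, d, hd, rfl⟩ := hmul g hg
    exact Subgroup.mul_mem_sup hu hd
  · rw [← relIndex_eq_card_compl h.nil.le inf_le_left ?_ hmul]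
    · exact h.oddIdx
    · rw [eq_bot_iff, ← hinf]
      exact fun x hx => ⟨hx.1, hx.2.2⟩

end OddStab

/-- A strongly split rank-one pair of odd degree and odd torus gives the situation. -/
theorem oddStab_of_split {G : Type u} [Group G] [Finite G] [IsSimpleGroup G] (P : Cfsg.BNPair G)
    (hrank : P.rank = 1) (U : Subgroup G) (hUB : U ≤ P.B) (hUn : (U.subgroupOf P.B).Normal)
    (hUnil : Group.IsNilpotent U) (hsplit : U ⊔ (P.B ⊓ P.N) = P.B) (hdisj : U ⊓ P.N = ⊥)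
    (hind : Odd P.B.index) (hH : Odd (Nat.card ↥(P.B ⊓ P.N))) :
    P.B ≠ ⊤ ∧ ¬ IsCyclic G ∧ OddStab G (G ⧸ P.B) ((1 : G) : G ⧸ P.B) U := by
  obtain ⟨-, ⟨s, hs⟩⟩ := (Nat.card_eq_one_iff_unique (α := P.S)).1 hrank
  have hsB : s ∉ P.B := Cfsg.Agent.Lib.BNPair.gen_notMem P ⟨s, hs⟩
  have htop : P.B ≠ ⊤ := fun e => hsB (e ▸ Subgroup.mem_top s)
  have hnc : ¬ IsCyclic G := by
    intro hc
    letI := IsCyclic.commGroup (α := G)
    refine P.conj_ne s hs ?_
    have hbot : P.B = ⊥ := ((inferInstance : P.B.Normal).eq_bot_or_eq_top).resolve_right htop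
    have h2 : s * s = 1 := Subgroup.mem_bot.1 (hbot ▸ P.sq_mem s hs)
    rw [hbot]
    ext x
    simp [h2]
  refine ⟨htop, hnc, ?_⟩
  set a : G ⧸ P.B := ((1 : G) : G ⧸ P.B) with ha
  set p : G ⧸ P.B := ((s : G) : G ⧸ P.B) with hp
  have hfix : ∀ {g : G}, g • a = a ↔ g ∈ P.B := by
    intro g
    show ((g * 1 : G) : G ⧸ P.B) = ((1 : G) : G ⧸ P.B) ↔ _
    rw [mul_one, QuotientGroup.eq, mul_one, inv_mem_iff]
  have hst : stabilizer G a = P.B := SetLike.ext fun g => mem_stabilizer_iff.trans hfix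
  have hfp : ∀ x ∈ P.B ⊓ P.N, x • p = p := by
    intro x hx
    show ((x * s : G) : G ⧸ P.B) = ((s : G) : G ⧸ P.B)
    refine QuotientGroup.eq.2 ?_
    have := P.conj_mem s⁻¹ (inv_mem (P.subset hs)) x⁻¹ (inv_mem hx)
    rw [inv_inv] at this
    rwa [mul_inv_rev]
  have hnorm : P.B ⊓ P.N ≤ Subgroup.normalizer (U : Set G) :=
    inf_le_left.trans ((Subgroup.normal_subgroupOf_iff_le_normalizer hUB).1 hUn)
  have hmul : ∀ g ∈ P.B, ∃ u ∈ U, ∃ d ∈ P.B ⊓ P.N, g = u * d := by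
    intro g hg
    rw [← hsplit, ← SetLike.mem_coe, Subgroup.coe_mul_of_right_le_normalizer_left _ _ hnorm] at hg
    obtain ⟨u, hu, d, hd, rfl⟩ := Set.mem_mul.1 hg
    exact ⟨u, hu, d, hd, rfl⟩
  have htwo := Cfsg.Agent.Lib.BNPair.isMultiplyPretransitive_of_rank_one P hrank
  have hap : a ≠ p := fun e => hsB (by
    have := QuotientGroup.eq.1 e
    rwa [inv_one, one_mul] at this)
  have hmove : ∀ c : G ⧸ P.B, c ≠ a → ∃ u ∈ U, u • p = c := by
    intro c hc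
    obtain ⟨g, hg, e⟩ := (is_two_pretransitive_iff.1 htwo) hap hc.symm
    obtain ⟨u, hu, d, hd, rfl⟩ := hmul g (hfix.1 hg)
    exact ⟨u, hu, by rw [← e, mul_smul, hfp d hd]⟩
  have hcard : Nat.card (G ⧸ P.B) = P.B.index := rfl
  refine ⟨⟨htwo, hUB.trans hst.ge, ?_, hUnil, ?_⟩, hcard ▸ hind, ?_, inferInstance, ?_⟩
  · intro g hg x hx
    exact Subgroup.mem_subgroupOf.1 (hUn.conj_mem ⟨x, hUB hx⟩ (Subgroup.mem_subgroupOf.2 hx)
      ⟨g, hst.le hg⟩)
  · intro c hc d hd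
    obtain ⟨u, hu, rfl⟩ := hmove c hc
    obtain ⟨u', hu', rfl⟩ := hmove d hd
    exact ⟨u' * u⁻¹, mul_mem hu' (inv_mem hu), by rw [mul_smul, inv_smul_smul]⟩
  · rw [hst, relIndex_eq_card_compl hUB inf_le_left ?_ hmul]
    · exact hH
    · rw [eq_bot_iff, ← hdisj]
      exact fun x hx => ⟨hx.1, hx.2.2⟩
  · have h1 : P.B.index ≠ 1 := fun e => htop (Subgroup.index_eq_one.1 e)
    obtain ⟨k, hk⟩ := hind
    rw [hcard]; omega

end Cfsg.Agent.Lib.SplitRankOne70
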