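import Cfsg.Agent.Lib.SplitRankOne70.QInd
import Cfsg.Agent.Lib.SuzukiTwo.Model

/-!
The field structure on `Z` given by `K`, and the field automorphisms given by `V`.
-/

set_option autoImplicit false
set_option linter.unusedSectionVars false
set_option linter.style.haveILetI false

namespace Cfsg.Agent.Lib.SplitRankOne70

open Cfsg MulAction Cfsg.Agent.Lib.RankOne

universe u v

variable {G : Type u} {Ω : Type v} [Group G] [MulAction G Ω] [Finite G] {a : Ω} {t : G}
  {Q : Subgroup G}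

/-- A field structure on `Z`, in which `K` becomes the multiplicative group. -/
structure ZField (h : Setup a t Q) (F : Type) [Field F] [Fintype F] where
  e : F → G
  e_inj : Function.Injective e
  e_add : ∀ x y, e (x + y) = e x * e y
  e_one : e 1 = h.sElt
  e_mem : ∀ v : G, v ∈ h.zSub ↔ ∃ x, e x = v
  κ : h.kSub ≃* Fˣ
  k_e : ∀ (k : h.kSub) (x : F), (k : G) * e x * (k : G)⁻¹ = e ((κ k : F) * x)

namespace Setup

variable (h : Setup a t Q)
include h

theorem exists_zField : ∃ (F : Type) (_ : Field F) (_ : Fintype F) (_ : CharP F 2),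
    Nonempty (ZField h F) := by
  classical
  haveI := h.kSub_cyclic
  obtain ⟨c, hc⟩ := IsCyclic.exists_generator (α := h.kSub)
  set cD : twoStab a t := ⟨c, h.kSub_le c.2⟩ with hcD
  let kE : Q ≃* Q := (h.qConj cD).symm
  have hkpow : ∀ (i : ℕ) (x : Q), (((kE : MulAut Q) ^ i) x : G) = (c : G) ^ i * x * ((c : G) ^ i)⁻¹ := by
    intro i
    induction i with
    | zero => intro x; simp
    | succ i ih =>
      intro x
      rw [pow_succ', MulAut.mul_apply]
      show (c : G) * (((kE : MulAut Q) ^ i) x : G) * (c : G)⁻¹ = _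
      rw [ih, pow_succ']
      group
  have hqz : ∀ x : Q, x * x = 1 → (x : G) ∈ h.zSub := fun x hx =>
    h.mem_zSub.2 ⟨Q_fix h.hS x.2, congrArg Subtype.val hx⟩
  obtain ⟨F, iF, iFin, iC, l, e, -, hinj, hadd, hone, hmem, hl⟩ :=
    SuzukiTwo.exists_field_of_involutions kE
      (fun x y hx hy => Subtype.ext (h.z_comm (hqz x hx) (hqz y hy)))
      ⟨h.sElt, h.zSub_le h.s_mem⟩ (fun e' => h.s_ne (congrArg Subtype.val e'))
      (Subtype.ext (h.z_sq h.s_mem)) (fun x hx hx2 => by
        obtain ⟨k, hk, hks⟩ := h.exists_k_conj (hqz x hx2) (fun e' => hx (Subtype.ext e'))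
        obtain ⟨i, -, hi⟩ := Finset.mem_image.1
          ((isOfFinOrder_of_finite c).mem_zpowers_iff_mem_range_orderOf.1 (hc ⟨k, hk⟩))
        refine ⟨i, Subtype.ext ?_⟩
        rw [hkpow]
        have hi' : (c : G) ^ i = k := congrArg Subtype.val hi
        rw [hi']
        exact hks)
  set f : F → G := fun x => (e x : G)
  have finj : Function.Injective f := fun x y e' => hinj (Subtype.ext e')
  have fmem : ∀ v : G, v ∈ h.zSub ↔ ∃ x, f x = v := by
    intro v
    constructor
    · intro hv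
      obtain ⟨x, hx⟩ := (hmem ⟨v, h.zSub_le hv⟩).1 (Subtype.ext hv.2)
      exact ⟨x, congrArg Subtype.val hx⟩
    · rintro ⟨x, rfl⟩
      exact hqz _ ((hmem _).2 ⟨x, rfl⟩)
  have fl : ∀ (i : ℕ) (x : F), (c : G) ^ i * f x * ((c : G) ^ i)⁻¹ = f (l ^ i * x) := by
    intro i
    induction i with
    | zero => intro x; simp
    | succ i ih =>
      intro x
      have e1 : f (l * (l ^ i * x)) = (c : G) * f (l ^ i * x) * (c : G)⁻¹ :=
        congrArg Subtype.val (hl (l ^ i * x))
      rw [pow_succ', pow_succ', mul_assoc l, e1, ← ih]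
      group
  have hex : ∀ k : h.kSub, ∃ μ : F, ∀ x, (k : G) * f x * (k : G)⁻¹ = f (μ * x) := by
    intro k
    obtain ⟨i, -, hi⟩ := Finset.mem_image.1
      ((isOfFinOrder_of_finite c).mem_zpowers_iff_mem_range_orderOf.1 (hc k))
    refine ⟨l ^ i, fun x => ?_⟩
    rw [← congrArg Subtype.val hi, SubmonoidClass.coe_pow]
    exact fl i x
  choose μ hμ using hex
  have hf1 : f 1 = h.sElt := congrArg Subtype.val hone
  have hμ1 : ∀ k : h.kSub, f (μ k) = (k : G) * h.sElt * (k : G)⁻¹ := fun k => by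
    rw [← hf1, hμ, mul_one]
  have hμmul : ∀ k k', μ (k * k') = μ k * μ k' := by
    intro k k'
    refine finj ?_
    rw [hμ1, ← hμ k (μ k'), hμ1, Subgroup.coe_mul]
    group
  have hμone : μ 1 = 1 := finj (by rw [hμ1, hf1]; simp)
  let φ : h.kSub →* Fˣ := MonoidHom.toHomUnits
    { toFun := μ, map_one' := hμone, map_mul' := hμmul }
  have hφ : Function.Bijective φ := by
    haveI : Finite Fˣ := inferInstance
    have hinjφ : Function.Injective φ := fun k k' e' => Subtype.ext (h.k_inj k.2 k'.2 h.s_mem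
      h.s_ne (by rw [← hμ1, ← hμ1]; exact congrArg f (congrArg Units.val e')))
    refine hinjφ.bijective_of_nat_card_le ?_
    have e1 : Nat.card h.zSub = Nat.card F := by
      refine (Nat.card_eq_of_bijective (fun x : F => (⟨f x, (fmem _).2 ⟨x, rfl⟩⟩ : h.zSub))
        ⟨fun x y e' => finj (congrArg (fun w : h.zSub => (w : G)) e'), fun v => ?_⟩).symm
      obtain ⟨x, hx⟩ := (fmem v).1 v.2
      exact ⟨x, Subtype.ext hx⟩
    have e2 := h.card_zSub
    rw [e1] at e2
    rw [Nat.card_units]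
    omega
  exact ⟨F, iF, iFin, iC, ⟨{
    e := f
    e_inj := finj
    e_add := fun x y => congrArg Subtype.val (hadd x y)
    e_one := hf1
    e_mem := fmem
    κ := MulEquiv.ofBijective φ hφ
    k_e := fun k x => hμ k x }⟩⟩

end Setup

namespace ZField

variable {h : Setup a t Q} {F : Type} [Field F] [Fintype F] (Φ : ZField h F)
include Φ

theorem e_zero : Φ.e 0 = 1 := by
  have e := Φ.e_add 0 0
  rw [add_zero] at e
  exact mul_left_cancel (e.symm.trans (mul_one _).symm)

theorem mem (x : F) : Φ.e x ∈ h.zSub := (Φ.e_mem _).2 ⟨x, rfl⟩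

theorem card_eq : Nat.card h.zSub = Fintype.card F := by
  rw [← Nat.card_eq_fintype_card]
  refine (Nat.card_eq_of_bijective (fun x : F => (⟨Φ.e x, Φ.mem x⟩ : h.zSub))
    ⟨fun x y e' => Φ.e_inj (congrArg Subtype.val e'), fun v => ?_⟩).symm
  obtain ⟨x, hx⟩ := (Φ.e_mem v).1 v.2
  exact ⟨x, Subtype.ext hx⟩

theorem exists_sigma (v : vSub a t) : ∃ σ : F ≃+* F,
    ∀ x, (v : G) * Φ.e x * (v : G)⁻¹ = Φ.e (σ x) := by
  have hex : ∀ x, ∃ y, Φ.e y = (v : G) * Φ.e x * (v : G)⁻¹ := fun x =>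
    (Φ.e_mem _).1 (h.conj_z (D_le h.hS v.2.1) (Φ.mem x))
  choose σ hσ using hex
  have hadd : ∀ x y, σ (x + y) = σ x + σ y := fun x y => Φ.e_inj (by
    rw [hσ, Φ.e_add, Φ.e_add, hσ, hσ]; group)
  have h1 : σ 1 = 1 := Φ.e_inj (by rw [hσ, Φ.e_one, h.v_s v.2])
  have hK : ∀ k : h.kSub, ∃ k' : h.kSub, σ (Φ.κ k : F) = (Φ.κ k' : F) ∧
      ∀ y, σ ((Φ.κ k : F) * y) = (Φ.κ k' : F) * σ y := by
    intro k
    let k' : h.kSub := ⟨(v : G) * k * (v : G)⁻¹, h.conj_k v.2.1 k.2⟩
    have key : ∀ y, σ ((Φ.κ k : F) * y) = (Φ.κ k' : F) * σ y := fun y => Φ.e_inj (by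
      rw [hσ, ← Φ.k_e, ← Φ.k_e, hσ]
      show (v : G) * ((k : G) * Φ.e y * (k : G)⁻¹) * (v : G)⁻¹ =
        ((v : G) * k * (v : G)⁻¹) * ((v : G) * Φ.e y * (v : G)⁻¹) * ((v : G) * k * (v : G)⁻¹)⁻¹
      group)
    have e1 := key 1
    rw [mul_one, h1, mul_one] at e1
    exact ⟨k', e1, key⟩
  have h0 : σ 0 = 0 := Φ.e_inj (by rw [hσ, Φ.e_zero]; group)
  have hmul : ∀ x y, σ (x * y) = σ x * σ y := by
    intro x y
    rcases eq_or_ne x 0 with rfl | hx
    · rw [zero_mul, h0, zero_mul]
    · obtain ⟨k', e1, e2⟩ := hK (Φ.κ.symm (Units.mk0 x hx))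
      rw [MulEquiv.apply_symm_apply, Units.val_mk0] at e1 e2
      rw [e2, e1]
  have hbij : Function.Bijective σ := by
    refine Finite.injective_iff_bijective.1 fun x y e' => Φ.e_inj ?_
    have e1 := congrArg Φ.e e'
    rw [hσ, hσ] at e1
    exact mul_left_cancel (mul_right_cancel e1)
  exact ⟨{ Equiv.ofBijective σ hbij with map_mul' := hmul, map_add' := hadd }, fun x => (hσ x).symm⟩

/-- The field automorphism given by an element of `V`. -/
noncomputable def sigma (v : vSub a t) : F ≃+* F := (Φ.exists_sigma v).choose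

theorem e_sigma (v : vSub a t) (x : F) : (v : G) * Φ.e x * (v : G)⁻¹ = Φ.e (Φ.sigma v x) :=
  (Φ.exists_sigma v).choose_spec x

theorem sigma_mul (v w : vSub a t) (x : F) : Φ.sigma (v * w) x = Φ.sigma v (Φ.sigma w x) :=
  Φ.e_inj (by rw [← Φ.e_sigma, ← Φ.e_sigma, ← Φ.e_sigma, Subgroup.coe_mul]; group)

/-- `V` acting as field automorphisms. -/
noncomputable def sigmaHom : vSub a t →* RingAut F :=
  MonoidHom.mk' Φ.sigma fun v w => RingEquiv.ext fun x => Φ.sigma_mul v w x

theorem sigma_eq_one_iff (v : vSub a t) : Φ.sigmaHom v = 1 ↔ (v : G) ∈ wSub a t := by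
  rw [h.mem_wSub_iff_z v.2.1]
  constructor
  · intro e z hz
    obtain ⟨x, rfl⟩ := (Φ.e_mem z).1 hz
    have e1 := Φ.e_sigma v x
    rw [show Φ.sigma v x = x from RingEquiv.congr_fun e x] at e1
    exact mul_inv_eq_iff_eq_mul.1 e1
  · intro hc
    refine RingEquiv.ext fun x => Φ.e_inj ?_
    show Φ.e (Φ.sigma v x) = Φ.e x
    rw [← Φ.e_sigma, hc _ (Φ.mem x), mul_inv_cancel_right]

end ZField

/-- A cyclic group of automorphisms with fixed field of two elements has full order. -/
theorem card_eq_two_pow_orderOf {F : Type} [Field F] [Fintype F] (σ : RingAut F)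
    (hfix : ∀ x, σ x = x → x = 0 ∨ x = 1) : Fintype.card F = 2 ^ orderOf σ := by
  classical
  haveI : Finite (RingAut F) := Finite.of_injective _ DFunLike.coe_injective
  let H : Subgroup (RingAut F) := Subgroup.zpowers σ
  haveI : Fintype H := Fintype.ofFinite _
  haveI : FaithfulSMul H F := ⟨fun {g g'} e => Subtype.ext (RingEquiv.ext e)⟩
  have h1 := FixedPoints.finrank_eq_card H F
  have h2 : Fintype.card (FixedPoints.subfield H F) = 2 := by
    have e : (FixedPoints.subfield H F : Set F) = {0, 1} := by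
      ext x
      constructor
      · intro hx
        exact hfix x (hx ⟨σ, Subgroup.mem_zpowers σ⟩)
      · rintro (rfl | rfl)
        · exact zero_mem (FixedPoints.subfield H F)
        · exact one_mem (FixedPoints.subfield H F)
    rw [← Nat.card_eq_fintype_card,
      show Nat.card (FixedPoints.subfield H F) = Set.ncard (FixedPoints.subfield H F : Set F) from
        Nat.card_coe_set_eq _, e, Set.ncard_pair zero_ne_one]
  rw [Module.card_eq_pow_finrank (K := FixedPoints.subfield H F) (V := F), h2, h1,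
    ← Nat.card_eq_fintype_card, Nat.card_zpowers]

namespace Setup

variable (h : Setup a t Q)
include h

/-- If every non-identity element of a cyclic subgroup of `V` centralises only `⟨s⟩` in `Z`, the
subgroup has order one or a prime `p` with `q = 2 ^ p`. -/
theorem card_eq_one_or_prime (J : Subgroup G) (hJ : J ≤ vSub a t) [IsCyclic J]
    (hcz : ∀ x ∈ J, x ≠ 1 → ∀ z ∈ h.zSub, x * z = z * x → z = 1 ∨ z = h.sElt) :
    Nat.card J = 1 ∨ (Nat.card J).Prime ∧ Nat.card h.zSub = 2 ^ Nat.card J := by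
  classical
  by_cases hone : Nat.card J = 1
  · exact Or.inl hone
  right
  obtain ⟨F, iF, iFin, iC, ⟨Φ⟩⟩ := h.exists_zField
  have hkey : ∀ x : vSub a t, (x : G) ∈ J → (x : G) ≠ 1 →
      Nat.card h.zSub = 2 ^ orderOf x := by
    intro x hx hx1
    rw [Φ.card_eq, card_eq_two_pow_orderOf (Φ.sigmaHom x) fun y hy => ?_]
    · congr 1
      refine Nat.dvd_antisymm (orderOf_map_dvd _ _) ?_
      refine orderOf_dvd_of_pow_eq_one (Subtype.ext ?_)
      have hw : ((x ^ orderOf (Φ.sigmaHom x) : vSub a t) : G) ∈ wSub a t := by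
        rw [← Φ.sigma_eq_one_iff, map_pow, pow_orderOf_eq_one]
      by_contra hne
      have h4 := h.four_le_card_zSub
      have hsub : (h.zSub : Set G) ⊆ {1, h.sElt} := fun z hz =>
        hcz _ (by rw [SubmonoidClass.coe_pow]; exact J.pow_mem hx _) hne z hz (h.w_z hw hz)
      have h2 : Set.ncard (h.zSub : Set G) ≤ 2 :=
        le_trans (Set.ncard_le_ncard hsub) (le_trans (Set.ncard_insert_le _ _) (by simp))
      rw [← Nat.card_coe_set_eq] at h2
      exact absurd (le_trans h4 h2) (by norm_num)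
    · have e1 : (x : G) * Φ.e y = Φ.e y * x := by
        have e2 := Φ.e_sigma x y
        rw [show Φ.sigma x y = y from hy] at e2
        exact mul_inv_eq_iff_eq_mul.1 e2
      rcases hcz _ hx hx1 _ (Φ.mem y) e1 with e3 | e3
      · exact Or.inl (Φ.e_inj (e3.trans Φ.e_zero.symm))
      · exact Or.inr (Φ.e_inj (e3.trans Φ.e_one.symm))
  obtain ⟨g, hg⟩ := IsCyclic.exists_generator (α := J)
  have hgJ : orderOf g = Nat.card J := orderOf_eq_card_of_forall_mem_zpowers hg
  obtain ⟨p, hp, hpd⟩ := Nat.exists_prime_and_dvd hone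
  set y : J := g ^ (orderOf g / p) with hy
  have hyp : orderOf y = p := orderOf_pow_orderOf_div (orderOf_pos g).ne' (hgJ ▸ hpd)
  have ho : ∀ z : J, orderOf (⟨(z : G), hJ z.2⟩ : vSub a t) = orderOf z := fun z => by
    rw [← orderOf_injective (vSub a t).subtype (Subgroup.subtype_injective _),
      ← orderOf_injective J.subtype (Subgroup.subtype_injective _)]
    rfl
  have h1 := hkey ⟨(g : G), hJ g.2⟩ g.2 (fun e => hone (by
    rw [← hgJ, orderOf_eq_one_iff]; exact Subtype.ext e))
  have h2 := hkey ⟨(y : G), hJ y.2⟩ y.2 (fun e => hp.ne_one (by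
    rw [← hyp, orderOf_eq_one_iff]; exact Subtype.ext e))
  rw [ho, hgJ] at h1
  rw [ho, hyp] at h2
  have e : Nat.card J = p := Nat.pow_right_injective le_rfl (h1.symm.trans h2)
  exact ⟨e ▸ hp, h1⟩

end Setup

end Cfsg.Agent.Lib.SplitRankOne70
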