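import Cfsg.Agent.Lib.SplitRankOne70.Cases
import Cfsg.Agent.Lib.SplitRankOne70.Field

/-!
`r ∈ Z` when `|Q| = q³`.
-/

set_option autoImplicit false
set_option linter.unusedSectionVars false
set_option linter.style.haveILetI false

namespace Cfsg.Agent.Lib.SplitRankOne70

open Cfsg MulAction Cfsg.Agent.Lib.RankOne

universe u v

variable {G : Type u} {Ω : Type v} [Group G] [MulAction G Ω] [Finite G] {a : Ω} {t : G}
  {Q : Subgroup G}

omit [Finite G] in
theorem cm_iff {v x : G} : v * x = x * v ↔ v * x * v⁻¹ = x := (mul_inv_eq_iff_eq_mul).symm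

theorem conj_mod {p : ℕ} [Fact p.Prime] {v : G} (hv : v ^ p = 1) (T : Set G)
    (hT : ∀ x ∈ T, v * x * v⁻¹ ∈ T) :
    Nat.card {x : G // x ∈ T ∧ v * x = x * v} ≡ Nat.card T [MOD p] := by
  classical
  letI := Fintype.ofFinite G
  let f : T → T := fun x => ⟨v * x * v⁻¹, hT x x.2⟩
  have hf : Function.Bijective f := Finite.injective_iff_bijective.1 fun x y e =>
    Subtype.ext (by simpa [f] using congrArg Subtype.val e)
  let σ : Equiv.Perm T := Equiv.ofBijective f hf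
  have hσn : ∀ (n : ℕ) (x : T), ((σ ^ n) x : G) = v ^ n * x * (v ^ n)⁻¹ := by
    intro n
    induction n with
    | zero => intro x; simp
    | succ n ih =>
      intro x
      rw [pow_succ', Equiv.Perm.mul_apply]
      show v * ((σ ^ n) x : G) * v⁻¹ = _
      rw [ih, pow_succ' v, mul_inv_rev]
      simp [mul_assoc]
  have hσ : σ ^ p ^ 1 = 1 := by
    rw [pow_one]
    exact Equiv.ext fun x => Subtype.ext (by rw [hσn, hv]; simp)
  have h1 := Equiv.Perm.card_compl_support_modEq hσ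
  rw [← Nat.card_eq_fintype_card] at h1
  refine Eq.trans ?_ h1
  refine congrArg (· % p) ?_
  rw [← Nat.card_eq_finsetCard]
  refine Nat.card_congr
    { toFun := fun x => ⟨⟨x.1, x.2.1⟩, ?_⟩
      invFun := fun x => ⟨x.1.1, x.1.2, ?_⟩
      left_inv := fun x => rfl
      right_inv := fun x => rfl }
  · rw [Finset.mem_compl, Equiv.Perm.notMem_support]
    exact Subtype.ext (cm_iff.1 x.2.2)
  · have h2 := x.2
    rw [Finset.mem_compl, Equiv.Perm.notMem_support] at h2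
    exact cm_iff.2 (congrArg Subtype.val h2)

namespace Setup

variable (h : Setup a t Q) (hp : IsPGroup 2 Q) (hna : ∃ u ∈ Q, ∃ v ∈ Q, u * v ≠ v * u)
include h hp hna

theorem card_sq_eq_s (hQ : Nat.card Q = Nat.card h.zSub ^ 3) :
    Nat.card {x : G // x ∈ Q ∧ x * x = h.sElt} = Nat.card h.zSub * (Nat.card h.zSub + 1) := by
  classical
  set S := {x : G // x ∈ Q ∧ x * x = h.sElt}
  have hSZ : ∀ x : S, (x : G) ∉ h.zSub := fun x hx => h.s_ne (x.2.2.symm.trans (h.z_sq hx))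
  have hkx : ∀ (k : h.kSub) (x : G), (k : G) * x * (k : G)⁻¹ * ((k : G) * x * (k : G)⁻¹) =
      (k : G) * (x * x) * (k : G)⁻¹ := fun k x => by group
  have hout : ∀ (k : h.kSub) (x : S), (k : G) * x * (k : G)⁻¹ ∉ h.zSub := by
    intro k x hx
    have := h.conj_z (inv_mem (D_le h.hS (h.kSub_le k.2))) hx
    exact hSZ x (by simpa [mul_assoc] using this)
  let f : S × h.kSub → {y : Q // ¬ (y : G) ∈ h.zSub} := fun p =>
    ⟨⟨(p.2 : G) * (p.1 : G) * (p.2 : G)⁻¹, h.conj_Q_D (h.kSub_le p.2.2) p.1.2.1⟩, hout p.2 p.1⟩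
  have hf : Function.Bijective f := by
    constructor
    · rintro ⟨x, k⟩ ⟨x', k'⟩ e
      have e1 : (k : G) * x * (k : G)⁻¹ = (k' : G) * x' * (k' : G)⁻¹ :=
        congrArg (fun y : {y : Q // ¬ (y : G) ∈ h.zSub} => ((y : Q) : G)) e
      have e2 := hkx k x
      rw [e1, hkx k' x', x.2.2, x'.2.2] at e2
      obtain rfl : k = k' := Subtype.ext (h.k_inj k.2 k'.2 h.s_mem h.s_ne e2.symm)
      rw [Subtype.ext (mul_left_cancel (mul_right_cancel e1)) (a1 := x) (a2 := x')]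
    · rintro ⟨y, hy⟩
      obtain ⟨k, hk, e⟩ := h.exists_k_conj (h.sq_mem_zSub hp hna y.2) (h.sq_ne_one y.2 hy)
      refine ⟨(⟨k⁻¹ * y * k, ?_, ?_⟩, ⟨k, hk⟩), ?_⟩
      · simpa using h.conj_Q_D (inv_mem (h.kSub_le hk)) y.2
      · calc k⁻¹ * (y : G) * k * (k⁻¹ * (y : G) * k) = k⁻¹ * ((y : G) * y) * k := by group
          _ = h.sElt := by rw [← e]; group
      · refine Subtype.ext (Subtype.ext ?_)
        show k * (k⁻¹ * (y : G) * k) * k⁻¹ = y
        group
  have h1 := Nat.card_eq_of_bijective f hf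
  have h2 : Nat.card Q = Nat.card {y : Q // (y : G) ∈ h.zSub} + Nat.card {y : Q // ¬ (y : G) ∈ h.zSub} := by
    rw [← Nat.card_sum]
    exact Nat.card_congr (Equiv.sumCompl _).symm
  have h3 : Nat.card {y : Q // (y : G) ∈ h.zSub} = Nat.card h.zSub :=
    Nat.card_congr (Subgroup.subgroupOfEquivOfLe h.zSub_le).toEquiv
  rw [h3, ← h1, Nat.card_prod, hQ, h.card_zSub] at h2
  have hk : 0 < Nat.card h.kSub := Nat.card_pos
  refine Nat.eq_of_mul_eq_mul_right hk ?_
  rw [h.card_zSub]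
  have e3 : (Nat.card h.kSub + 1) ^ 3 = Nat.card h.kSub + 1 +
      (Nat.card h.kSub + 1) * (Nat.card h.kSub + 1 + 1) * Nat.card h.kSub := by ring
  omega

/-- `C_Q(v)` has two elements of square `s` in different classes modulo `Z`. -/
theorem exists_sep (hQ : Nat.card Q = Nat.card h.zSub ^ 3) {p : ℕ} (hpp : p.Prime) (hp2 : p ≠ 2)
    {v : G} (hv : v ∈ vSub a t) (hvp : v ^ p = 1) (hr : h.rElt ∉ h.zSub) :
    ∃ x ∈ Q, ∃ y ∈ Q, v * x = x * v ∧ v * y = y * v ∧ x * x = h.sElt ∧ y * y = h.sElt ∧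
      x⁻¹ * y ∉ h.zSub := by
  classical
  haveI := Fact.mk hpp
  by_contra! hall
  have hvr : v * h.rElt = h.rElt * v := cm_iff.2 (h.v_r hv)
  obtain ⟨k, hk, ek⟩ := h.exists_k_conj (h.sq_mem_zSub hp hna h.r_mem) (h.sq_ne_one h.r_mem hr)
  have hvk : v * k = k * v := by
    refine cm_iff.2 (h.k_inj (h.conj_k hv.1 hk) hk h.s_mem h.s_ne ?_)
    calc v * k * v⁻¹ * h.sElt * (v * k * v⁻¹)⁻¹
        = v * k * (v⁻¹ * h.sElt * v) * k⁻¹ * v⁻¹ := by group
      _ = v * (k * h.sElt * k⁻¹) * v⁻¹ := by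
          rw [show v⁻¹ * h.sElt * v = h.sElt by simpa using h.v_s (inv_mem hv)]; group
      _ = (v * h.rElt * v⁻¹) * (v * h.rElt * v⁻¹) := by rw [ek]; group
      _ = k * h.sElt * k⁻¹ := by rw [h.v_r hv, ek]
  set x0 := k⁻¹ * h.rElt * k with hx0
  have hx0Q : x0 ∈ Q := by simpa using h.conj_Q_D (inv_mem (h.kSub_le hk)) h.r_mem
  have hx0s : x0 * x0 = h.sElt := by
    calc x0 * x0 = k⁻¹ * (h.rElt * h.rElt) * k := by rw [hx0]; group
      _ = h.sElt := by rw [← ek]; group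
  have hx0v : v * x0 = x0 * v := by
    refine Commute.mul_right (Commute.mul_right (Commute.inv_right ?_) hvr) hvk
    exact hvk
  let T : Set G := {x | x ∈ Q ∧ x * x = h.sElt}
  have hT := conj_mod hvp T (fun x hx => ⟨h.conj_Q_D hv.1 hx.1, by
    rw [show v * x * v⁻¹ * (v * x * v⁻¹) = v * (x * x) * v⁻¹ by group, hx.2, h.v_s hv]⟩)
  have hZ := conj_mod hvp (h.zSub : Set G) (fun x hx => h.conj_z (D_le h.hS hv.1) hx)
  have e : Nat.card {x : G // x ∈ T ∧ v * x = x * v} =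
      Nat.card {x : G // x ∈ (h.zSub : Set G) ∧ v * x = x * v} := by
    refine Nat.card_congr
      { toFun := fun x => ⟨x0⁻¹ * x, ⟨hall _ hx0Q _ x.2.1.1 hx0v x.2.2 hx0s x.2.1.2,
          Commute.mul_right (Commute.inv_right hx0v) x.2.2⟩⟩
        invFun := fun z => ⟨x0 * z, ⟨⟨mul_mem hx0Q (h.zSub_le z.2.1), by
          rw [h.sq_mul_z hx0Q z.2.1, hx0s]⟩, Commute.mul_right hx0v z.2.2⟩⟩
        left_inv := fun x => Subtype.ext (mul_inv_cancel_left _ _)
        right_inv := fun x => Subtype.ext (inv_mul_cancel_left _ _) }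
  have hTc : Nat.card T = Nat.card h.zSub * (Nat.card h.zSub + 1) := h.card_sq_eq_s hp hna hQ
  have hZc : Nat.card (h.zSub : Set G) = Nat.card h.zSub := rfl
  rw [e, hTc] at hT
  rw [hZc] at hZ
  have h1 : Nat.card h.zSub * Nat.card h.zSub + Nat.card h.zSub ≡ 0 + Nat.card h.zSub [MOD p] := by
    rw [zero_add, ← Nat.mul_succ]
    exact hT.symm.trans hZ
  have h2 : p ∣ Nat.card h.zSub * Nat.card h.zSub :=
    Nat.modEq_zero_iff_dvd.1 (Nat.ModEq.add_right_cancel' _ h1)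
  obtain ⟨n, -, hn⟩ := h.exists_card_zSub
  rw [hn, ← pow_add] at h2
  exact hp2 ((Nat.prime_dvd_prime_iff_eq hpp Nat.prime_two).1 (hpp.dvd_of_dvd_pow h2))

variable [FaithfulSMul G Ω]

omit hp hna in
/-- If only `s` is centralised by `v` in `Z` then `C(v)` has no element inverted by `t` that fixes a
point moved by `t`. -/
theorem inverted_fix_eq_one {v : G} (hv : v ∈ vSub a t)
    (hz : ∀ z ∈ h.zSub, v * z = z * v → z = 1 ∨ z = h.sElt)
    {ρ : G} (hρ : v * ρ = ρ * v) (hinv : t * ρ * t = ρ⁻¹) {c : Ω} (hc : v • c = c)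
    (htc : t • c ≠ c) (hρc : ρ • c = c) : ρ = 1 := by
  have hK : ∀ k ∈ h.kSub, v * k = k * v → k = 1 := by
    intro k hk hvk
    have hks := h.conj_z (D_le h.hS (h.kSub_le hk)) h.s_mem
    have hvs : v * (k * h.sElt * k⁻¹) = k * h.sElt * k⁻¹ * v :=
      Commute.mul_right (Commute.mul_right hvk (cm_iff.2 (h.v_s hv))) (Commute.inv_right hvk)
    rcases hz _ hks hvs with e | e
    · exact absurd (conj_eq_one_iff.1 e) h.s_ne
    · exact h.k_inj hk (one_mem _) h.s_mem h.s_ne (by rw [e]; group)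
  have htv : v * t = t * v := (h.mem_vSub.1 hv).2
  have hva := mem_twoStab.1 hv.1
  have hfix : ∀ g : G, v * g = g * v → ∀ {d : Ω}, v • d = d → v • g • d = g • d := fun g hg d hd => by
    rw [smul_smul, hg, mul_smul, hd]
  obtain ⟨l, hl, l1, l2⟩ := centralizer_two_transitive h.hS (h.three_fixed hv)
    (b₁ := a) (b₂ := t • a) (c₁ := c) (c₂ := t • c)
    (fun x hx => by rw [Set.mem_singleton_iff] at hx; subst hx; exact hva.1)
    (fun x hx => by rw [Set.mem_singleton_iff] at hx; subst hx; exact hva.2)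
    (fun x hx => by rw [Set.mem_singleton_iff] at hx; subst hx; exact hc)
    (fun x hx => by rw [Set.mem_singleton_iff] at hx; subst hx; exact hfix t htv hc)
    (t_smul_ne h.hS).symm htc.symm
  have hlv : v * l = l * v := (Subgroup.mem_centralizer_singleton_iff.1 hl).symm
  set t' := l⁻¹ * t * l with ht'
  have htt : t * t = 1 := h.hS.mul_self
  have ht'v : v * t' = t' * v := Commute.mul_right (Commute.mul_right (Commute.inv_right hlv) htv) hlv
  have ht'a : t' • a = t • a := by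
    rw [ht', mul_smul, mul_smul, l1, inv_smul_eq_iff, l2]
  have ht'b : t' • t • a = a := by
    rw [ht', mul_smul, mul_smul, l2, t_smul_smul h.hS, inv_smul_eq_iff, l1]
  have hd0 : t' * t ∈ h.kSub := by
    refine h.mem_kSub.2 ⟨mem_twoStab.2 ⟨?_, ?_⟩, ?_⟩
    · rw [mul_smul]; exact ht'b
    · rw [mul_smul, t_smul_smul h.hS]; exact ht'a
    · rw [mul_inv_rev, ht', mul_inv_rev, mul_inv_rev, inv_inv, h.t_inv]
      simp [mul_assoc, htt]
  have e0 : t' = t := by
    have := hK _ hd0 (Commute.mul_right ht'v htv)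
    rw [mul_eq_one_iff_eq_inv, h.t_inv] at this
    exact this
  set d := l⁻¹ * ρ * l with hd
  have hρtc : ρ • t • c = t • c := by
    have e1 : ρ * t = t * ρ⁻¹ := by rw [← hinv]; simp [← mul_assoc, htt]
    rw [smul_smul, e1, mul_smul, inv_smul_eq_iff.2 hρc.symm]
  have hdk : d ∈ h.kSub := by
    refine h.mem_kSub.2 ⟨mem_twoStab.2 ⟨?_, ?_⟩, ?_⟩
    · rw [hd, mul_smul, mul_smul, l1, hρc, inv_smul_eq_iff, l1]
    · rw [hd, mul_smul, mul_smul, l2, hρtc, inv_smul_eq_iff, l2]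
    · calc t * d * t = t' * d * t' := by rw [e0]
        _ = l⁻¹ * (t * ρ * t) * l := by rw [ht', hd]; group
        _ = d⁻¹ := by rw [hinv, hd]; group
  have := hK _ hdk (Commute.mul_right (Commute.mul_right (Commute.inv_right hlv) hρ) hlv)
  calc ρ = l * d * l⁻¹ := by rw [hd]; group
    _ = 1 := by rw [this]; group

set_option maxHeartbeats 1600000 in
/-- The quaternion case. -/
theorem quaternion_false {v : G} (hv : v ∈ vSub a t)
    (hz : ∀ z ∈ h.zSub, v * z = z * v → z = 1 ∨ z = h.sElt) (hr : h.rElt ∉ h.zSub)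
    {x y : G} (hx : x ∈ Q) (hy : y ∈ Q) (hxv : v * x = x * v) (hyv : v * y = y * v)
    (hxs : x * x = h.sElt) (hys : y * y = h.sElt) (hxy : x⁻¹ * y ∉ h.zSub) : False := by
  classical
  set C : Subgroup G := Subgroup.centralizer {v} ⊓ Q with hC
  have hmem : ∀ {g : G}, g ∈ C ↔ v * g = g * v ∧ g ∈ Q := fun {g} =>
    ⟨fun e => ⟨(Subgroup.mem_centralizer_singleton_iff.1 e.1).symm, e.2⟩,
      fun e => ⟨Subgroup.mem_centralizer_singleton_iff.2 e.1.symm, e.2⟩⟩
  have hvs : v * h.sElt = h.sElt * v := cm_iff.2 (h.v_s hv)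
  have hxC : x ∈ C := hmem.2 ⟨hxv, hx⟩
  have hyC : y ∈ C := hmem.2 ⟨hyv, hy⟩
  have hsC : h.sElt ∈ C := hmem.2 ⟨hvs, h.zSub_le h.s_mem⟩
  have hzC : ∀ {g : G}, g ∈ C → g ∈ h.zSub → g = 1 ∨ g = h.sElt := fun hg hgz => hz _ hgz (hmem.1 hg).1
  have hsq : ∀ {g : G}, g ∈ C → g ∉ h.zSub → g * g = h.sElt := fun {g} hg hgz =>
    (hzC (mul_mem hg hg) (h.sq_mem_zSub hp hna hg.2)).resolve_left (h.sq_ne_one hg.2 hgz)
  have hinvC : ∀ {g : G}, g ∈ C → g ∉ h.zSub → g⁻¹ = g * h.sElt := fun {g} hg hgz => by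
    rw [inv_eq_iff_mul_eq_one, ← mul_assoc, hsq hg hgz, h.z_sq h.s_mem]
  -- commuting elements are congruent, others anti-commute
  have hcomm : ∀ {g g' : G}, g ∈ C → g' ∈ C → g ∉ h.zSub → g' ∉ h.zSub → g * g' = g' * g →
      g⁻¹ * g' ∈ h.zSub := fun {g g'} hg hg' hgz hgz' e => by
    refine h.mem_zSub.2 ⟨Q_fix h.hS (mul_mem (inv_mem hg.2) hg'.2), ?_⟩
    calc g⁻¹ * g' * (g⁻¹ * g') = (g * g)⁻¹ * (g' * g') := by
          have e' : g' * g⁻¹ = g⁻¹ * g' := (Commute.inv_left (e : Commute g g')).symm.eq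
          calc g⁻¹ * g' * (g⁻¹ * g') = g⁻¹ * (g' * g⁻¹) * g' := by group
            _ = _ := by rw [e']; group
      _ = 1 := by rw [hsq hg hgz, hsq hg' hgz', inv_mul_cancel]
  have hanti : ∀ {g g' : G}, g ∈ C → g' ∈ C → g ∉ h.zSub → g' ∉ h.zSub → g⁻¹ * g' ∉ h.zSub →
      g * g' = g' * g * h.sElt := fun {g g'} hg hg' hgz hgz' hne => by
    have hcz := h.comm_mem_zSub hp hna hg.2 hg'.2
    rcases hzC (mul_mem (mul_mem (mul_mem hg hg') (inv_mem hg)) (inv_mem hg')) hcz with e | e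
    · exact absurd (hcomm hg hg' hgz hgz' (mul_inv_eq_iff_eq_mul.1 (mul_inv_eq_one.1 e))) hne
    · rw [← h.z_central h.s_mem (mul_mem hg'.2 hg.2), ← e]; group
  have hxZ : x ∉ h.zSub := fun e => h.s_ne (hxs.symm.trans (h.z_sq e))
  have hyZ : y ∉ h.zSub := fun e => h.s_ne (hys.symm.trans (h.z_sq e))
  have hxyZ : x * y ∉ h.zSub := fun e => hxy (by
    rw [hinvC hxC hxZ, mul_assoc, h.z_central h.s_mem hy, ← mul_assoc]
    exact mul_mem e h.s_mem)
  have hs2 : h.sElt * h.sElt = 1 := h.z_sq h.s_mem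
  -- the eight elements
  have hcover : ∀ g ∈ C, ∃ b ∈ ({1, x, y, x * y} : Finset G), g = b ∨ g = b * h.sElt := by
    intro g hg
    by_cases hgz : g ∈ h.zSub
    · refine ⟨1, by simp, ?_⟩
      rw [one_mul]
      exact hzC hg hgz
    have key : ∀ b ∈ C, b⁻¹ * g ∈ h.zSub → g = b ∨ g = b * h.sElt := fun b hb hbg => by
      rcases hzC (mul_mem (inv_mem hb) hg) hbg with e | e
      · exact Or.inl (inv_mul_eq_one.1 e).symm
      · exact Or.inr (inv_mul_eq_iff_eq_mul.1 e)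
    by_cases h1 : x⁻¹ * g ∈ h.zSub
    · exact ⟨x, by simp, key x hxC h1⟩
    by_cases h2 : y⁻¹ * g ∈ h.zSub
    · exact ⟨y, by simp, key y hyC h2⟩
    refine ⟨x * y, by simp, key _ (mul_mem hxC hyC) (hcomm (mul_mem hxC hyC) hg hxyZ hgz ?_)⟩
    have e1 := hanti hxC hg hxZ hgz h1
    have e2 := hanti hyC hg hyZ hgz h2
    calc x * y * g = x * (g * y * h.sElt) := by rw [← e2, mul_assoc]
      _ = (x * g) * y * h.sElt := by group
      _ = g * x * (h.sElt * y) * h.sElt := by rw [e1]; group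
      _ = g * (x * y) := by rw [h.z_central h.s_mem hy]; simp [mul_assoc, hs2]
  have hle : Nat.card C ≤ 8 := by
    have hsub : (C : Set G) ⊆ ↑(({1, x, y, x * y} : Finset G) ∪
        ({1, x, y, x * y} : Finset G).image (· * h.sElt)) := fun g hg => by
      obtain ⟨b, hb, e | e⟩ := hcover g hg <;> rw [Finset.coe_union]
      · exact Or.inl (e ▸ hb)
      · exact Or.inr (Finset.mem_image.2 ⟨b, hb, e.symm⟩)
    have h1 := Set.ncard_le_ncard hsub
    rw [Set.ncard_coe_finset, ← Nat.card_coe_set_eq] at h1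
    refine h1.trans (le_trans (Finset.card_union_le _ _) ?_)
    have h4 : ({1, x, y, x * y} : Finset G).card ≤ 4 := Finset.card_le_four
    have := Finset.card_image_le (s := ({1, x, y, x * y} : Finset G)) (f := (· * h.sElt))
    omega
  have hge : 5 ≤ Nat.card C := by
    have hsub : (↑({1, h.sElt, x, y, x * y} : Finset G) : Set G) ⊆ C := by
      intro g hg
      simp only [Finset.coe_insert, Finset.coe_singleton, Set.mem_insert_iff,
        Set.mem_singleton_iff] at hg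
      rcases hg with rfl | rfl | rfl | rfl | rfl
      exacts [one_mem _, hsC, hxC, hyC, mul_mem hxC hyC]
    have h1 := Set.ncard_le_ncard hsub
    rw [Set.ncard_coe_finset, ← Nat.card_coe_set_eq] at h1
    refine le_trans (le_of_eq ?_) h1
    have n1 : (1 : G) ≠ h.sElt := h.s_ne.symm
    have n2 : (1 : G) ≠ x := fun e => hxZ (e ▸ one_mem _)
    have n3 : (1 : G) ≠ y := fun e => hyZ (e ▸ one_mem _)
    have n4 : (1 : G) ≠ x * y := fun e => hxyZ (e ▸ one_mem _)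
    have n5 : h.sElt ≠ x := fun e => hxZ (e ▸ h.s_mem)
    have n6 : h.sElt ≠ y := fun e => hyZ (e ▸ h.s_mem)
    have n7 : h.sElt ≠ x * y := fun e => hxyZ (e ▸ h.s_mem)
    have n8 : x ≠ y := fun e => hxy (by rw [e, inv_mul_cancel]; exact one_mem _)
    have n9 : x ≠ x * y := fun e => hyZ (by rw [left_eq_mul.1 e]; exact one_mem _)
    have n10 : y ≠ x * y := fun e => hxZ (by rw [right_eq_mul.1 e]; exact one_mem _)
    simp [n1, n2, n3, n4, n5, n6, n7, n8, n9, n10]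
  have hC8 : Nat.card C = 8 := by
    obtain ⟨n, hn⟩ := (IsPGroup.iff_card (p := 2)).1 (hp.to_le (inf_le_right : C ≤ Q))
    rw [hn] at hle hge ⊢
    have : n ≤ 3 := by
      by_contra hc
      have := Nat.pow_le_pow_right (show 0 < 2 by norm_num) (show 4 ≤ n by omega)
      omega
    interval_cases n <;> simp_all
  have hva := mem_twoStab.1 hv.1
  have htv : v * t = t * v := (h.mem_vSub.1 hv).2
  have hfix : ∀ g : G, v * g = g * v → ∀ {d : Ω}, v • d = d → v • g • d = g • d := fun g hg d hd => by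
    rw [smul_smul, hg, mul_smul, hd]
  have h9 : Nat.card (FixPts Ω v) = 9 := by
    haveI := finite_points h.hS
    rw [← show Nat.card (Option C) = 9 by rw [Finite.card_option, hC8]]
    refine (Nat.card_eq_of_bijective (fun o : Option C => (match o with
      | none => ⟨a, hva.1⟩
      | some g => ⟨(g : G) • t • a, hfix _ (hmem.1 g.2).1 (hfix t htv hva.1)⟩ : FixPts Ω v)) ⟨?_, ?_⟩).symm
    · rintro (_ | g) (_ | g') e <;> have e' := congrArg Subtype.val e <;> simp only at e'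
      · rfl
      · exact absurd e'.symm (h.q_pt_ne g'.2.2)
      · exact absurd e' (h.q_pt_ne g.2.2)
      · rw [Subtype.ext (h.q_pt_inj g.2.2 g'.2.2 e')]
    · rintro ⟨c, hc⟩
      by_cases hca : c = a
      · exact ⟨none, Subtype.ext hca.symm⟩
      obtain ⟨g, hg, rfl⟩ := exists_Q_move h.hS hca
      refine ⟨some ⟨g, hmem.2 ⟨cm_iff.2 (h.q_pt_inj (h.conj_Q_D hv.1 hg) hg ?_), hg⟩⟩, rfl⟩
      rw [mul_smul, mul_smul]
      have : v⁻¹ • t • a = t • a := inv_smul_eq_iff.2 hva.2.symm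
      rw [this]; exact hc
  -- the dihedral group
  set s := h.sElt with hs
  set ρ := s * t with hρ
  have htt : t * t = 1 := h.hS.mul_self
  have hsv : v * s = s * v := hvs
  have hρv : v * ρ = ρ * v := Commute.mul_right hsv htv
  have hsinv : s⁻¹ = s := h.z_inv h.s_mem
  have hρi : t * ρ * t = ρ⁻¹ := by
    rw [hρ, mul_inv_rev, h.t_inv, hsinv]; simp [mul_assoc, htt]
  have hsa : s • a = a := h.s_mem.1
  have huniq : ∀ {i : G}, i * i = 1 → i • a = a → i ≠ 1 → v * i = i * v → i = s := fun hi hia hi1 hiv =>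
    (hz _ (h.mem_zSub.2 ⟨hia, hi⟩) hiv).resolve_left hi1
  obtain ⟨c0, hc0⟩ := exists_fixed h.hS htt
  have hvc0 : v • c0 = c0 := fixed_unique h.hS htt h.hS.ne_one
    (by rw [smul_smul, ← htv, mul_smul, hc0]) hc0
  have hca0 : c0 ≠ a := fun e => t_smul_ne h.hS (e ▸ hc0)
  have hρpow : ∀ i : ℕ, t * ρ ^ i * t = (ρ ^ i)⁻¹ := by
    intro i
    induction i with
    | zero => simp [htt]
    | succ i ih =>
      calc t * ρ ^ (i + 1) * t = (t * ρ ^ i * t) * (t * ρ * t) := by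
            rw [pow_succ]; simp [mul_assoc, h.tt]
        _ = (ρ ^ (i + 1))⁻¹ := by rw [ih, hρi, ← mul_inv_rev, ← pow_succ']
  have hfree : ∀ (i : ℕ) (c : Ω), v • c = c → ρ ^ i • c = c → ρ ^ i = 1 := by
    intro i c hc hic
    have main : ∀ {d : Ω}, v • d = d → t • d ≠ d → ρ ^ i • d = d → ρ ^ i = 1 := fun hd htd hid =>
      h.inverted_fix_eq_one hv hz (Commute.pow_right (hρv : Commute v ρ) i).eq (hρpow i) hd htd hid
    by_cases htc : t • c = c
    · have hcc : c = c0 := fixed_unique h.hS htt h.hS.ne_one htc hc0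
      refine main (d := ρ • c) (hfix ρ hρv hc) (fun e => ?_) (by
        rw [smul_smul, ← (Commute.pow_self ρ i).eq.symm, mul_smul, hic])
      have e2 := fixed_unique h.hS htt h.hS.ne_one e hc0
      rw [hcc, hρ, mul_smul, hc0] at e2
      exact hca0 (fixed_unique h.hS (h.z_sq h.s_mem) h.s_ne e2 hsa)
    · exact main hc htc hic
  haveI := finite_points h.hS
  let ρc : (Subgroup.centralizer {v} : Subgroup G) :=
    ⟨ρ, Subgroup.mem_centralizer_singleton_iff.2 hρv.symm⟩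
  let π : Equiv.Perm (FixPts Ω v) := centAct Ω v ρc
  have hπn : ∀ (i : ℕ) (c : FixPts Ω v), ((π ^ i) c : Ω) = ρ ^ i • (c : Ω) := by
    intro i c
    rw [← map_pow]
    show ((ρc ^ i : (Subgroup.centralizer {v} : Subgroup G)) : G) • (c : Ω) = _
    rw [SubmonoidClass.coe_pow]
  have hπ1 : ∀ i : ℕ, π ^ i = 1 ↔ ρ ^ i = 1 := by
    intro i
    constructor
    · intro e
      refine hfree i c0 hvc0 ?_
      rw [← hπn i ⟨c0, hvc0⟩, e]; rfl
    · intro e
      exact Equiv.ext fun c => Subtype.ext (by rw [hπn, e, one_smul]; rfl)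
  have hord : orderOf π = orderOf ρ := orderOf_eq_orderOf_iff.2 hπ1
  have hstab : ∀ c : FixPts Ω v, MulAction.stabilizer (Subgroup.zpowers π) c = ⊥ := by
    intro c
    rw [eq_bot_iff]
    rintro ⟨g, hg⟩ hgc
    obtain ⟨i, rfl⟩ := (IsOfFinOrder.mem_zpowers_iff_mem_range_orderOf (isOfFinOrder_of_finite π)).1 hg
      |> (fun e => (Finset.mem_image.1 e).imp fun i hi => hi.2)
    rw [Subgroup.mem_bot]
    refine Subtype.ext ((hπ1 i).2 (hfree i c c.2 ?_))
    rw [← hπn]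
    exact congrArg Subtype.val (MulAction.mem_stabilizer_iff.1 hgc)
  have hm : orderOf ρ ∣ 9 := by
    rw [← h9, ← hord, ← Nat.card_zpowers,
      Nat.card_congr (MulAction.selfEquivOrbitsQuotientProd hstab), Nat.card_prod]
    exact dvd_mul_left _ _
  have h3 : ρ ^ 3 ≠ 1 := by
    intro e
    have e1 : t * s * t = s * t * s := by
      have e2 : s * t * (s * t) * (s * t) = 1 := by rw [← hρ, ← pow_two, ← pow_succ, e]
      calc t * s * t = (s * s) * (t * s * t) * (s * t) * (t * s) := by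
            simp [hs2, mul_assoc, h.tt, h.z_sq h.s_mem]
        _ = s * (s * t * (s * t) * (s * t)) * (t * s) := by group
        _ = s * t * s := by rw [e2]; group
    obtain ⟨-, -, f1⟩ := h.triple_eq (h.zSub_le h.s_mem) h.s_ne (inv_mem h.r_mem) (one_mem _) h.r_mem
      (by rw [mul_one]; exact h.tst)
    obtain ⟨-, -, f2⟩ := h.triple_eq (h.zSub_le h.s_mem) h.s_ne (h.zSub_le h.s_mem) (one_mem _)
      (h.zSub_le h.s_mem) (by rw [mul_one]; exact e1)
    exact hr (f1.symm.trans f2 ▸ h.s_mem)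
  have hm9 : orderOf ρ = 9 := by
    obtain ⟨j, hj, e⟩ := (Nat.dvd_prime_pow Nat.prime_three).1 (show orderOf ρ ∣ 3 ^ 2 from hm)
    have hne : ¬ orderOf ρ ∣ 3 := fun e' => h3 (orderOf_dvd_iff_pow_eq_one.1 e')
    interval_cases j
    · exact absurd (by rw [e]; norm_num) hne
    · exact absurd (by rw [e]; norm_num) hne
    · exact e
  set s' := s * ρ ^ 3 with hs'
  have hsρ : s * ρ ^ 3 * s = (ρ ^ 3)⁻¹ := by
    have hss : s * s = 1 := h.z_sq h.s_mem
    calc s * ρ ^ 3 * s = ρ * (t * ρ ^ 3 * t) * ρ⁻¹ := by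
          rw [hρ, mul_inv_rev, h.t_inv, hsinv]; simp [mul_assoc, h.tt]
      _ = (ρ ^ 3)⁻¹ := by rw [hρpow]; group
  have hs'2 : s' * s' = 1 := by rw [hs', ← mul_assoc, hsρ, inv_mul_cancel]
  have hs'1 : s' ≠ 1 := fun e => by
    have e1 : ρ ^ 3 = s := by
      rw [hs', mul_eq_one_iff_inv_eq, h.z_inv h.s_mem] at e
      exact e.symm
    exact h3 (hfree 3 a hva.1 (by rw [e1, hsa]))
  have hs'v : v * s' = s' * v := Commute.mul_right hsv (Commute.pow_right (hρv : Commute v ρ) 3)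
  obtain ⟨c', hc'⟩ := exists_fixed h.hS hs'2
  have hvc' : v • c' = c' := fixed_unique h.hS hs'2 hs'1
    (by rw [smul_smul, ← hs'v, mul_smul, hc']) hc'
  have hca' : c' ≠ a := fun e => h3 (hfree 3 a hva.1 (by
    have h2 : (s * s') • a = a := by rw [mul_smul, ← e, hc', e, hsa]
    rwa [hs', ← mul_assoc, h.z_sq h.s_mem, one_mul] at h2))
  obtain ⟨l, hl, l1, l2⟩ := centralizer_two_transitive h.hS (h.three_fixed hv)
    (b₁ := a) (b₂ := c0) (c₁ := a) (c₂ := c')
    (fun x hx => by rw [Set.mem_singleton_iff] at hx; subst hx; exact hva.1)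
    (fun x hx => by rw [Set.mem_singleton_iff] at hx; subst hx; exact hvc0)
    (fun x hx => by rw [Set.mem_singleton_iff] at hx; subst hx; exact hva.1)
    (fun x hx => by rw [Set.mem_singleton_iff] at hx; subst hx; exact hvc')
    hca0.symm hca'.symm
  obtain ⟨g, hg, g1, -⟩ := centralizer_two_transitive h.hS (h.three_fixed hv)
    (b₁ := a) (b₂ := c') (c₁ := c') (c₂ := a)
    (fun x hx => by rw [Set.mem_singleton_iff] at hx; subst hx; exact hva.1)
    (fun x hx => by rw [Set.mem_singleton_iff] at hx; subst hx; exact hvc')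
    (fun x hx => by rw [Set.mem_singleton_iff] at hx; subst hx; exact hvc')
    (fun x hx => by rw [Set.mem_singleton_iff] at hx; subst hx; exact hva.1)
    hca'.symm hca'
  have hlv : v * l = l * v := (Subgroup.mem_centralizer_singleton_iff.1 hl).symm
  have hgv : v * g = g * v := (Subgroup.mem_centralizer_singleton_iff.1 hg).symm
  have hconj : ∀ {i m : G}, i * i = 1 → m⁻¹ * i * m * (m⁻¹ * i * m) = 1 := fun {i m} hi => by
    rw [show m⁻¹ * i * m * (m⁻¹ * i * m) = m⁻¹ * (i * i) * m by group, hi]; group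
  have hconj1 : ∀ {i m : G}, i ≠ 1 → m⁻¹ * i * m ≠ 1 := fun {i m} hi e => hi (by
    calc i = m * (m⁻¹ * i * m) * m⁻¹ := by group
      _ = 1 := by rw [e]; group)
  have hls : l⁻¹ * s * l = s := huniq (hconj (h.z_sq h.s_mem))
    (by rw [mul_smul, mul_smul, l1, hsa, inv_smul_eq_iff, l1]) (hconj1 h.s_ne)
    (Commute.mul_right (Commute.mul_right (Commute.inv_right hlv) hsv) hlv)
  have hlt : l * t * l⁻¹ = s' := by
    set i := l * t * l⁻¹ with hi
    have hii : i * i = 1 := by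
      rw [hi, show l * t * l⁻¹ * (l * t * l⁻¹) = l * (t * t) * l⁻¹ by group, htt]; group
    have hi1 : i ≠ 1 := fun e => h.hS.ne_one (conj_eq_one_iff.1 e)
    have hiv : v * i = i * v :=
      Commute.mul_right (Commute.mul_right hlv htv) (Commute.inv_right hlv)
    have hic : i • c' = c' := by
      rw [hi, mul_smul, mul_smul, inv_smul_eq_iff.2 l2.symm, hc0, l2]
    have e1 := huniq (hconj (m := g) hii)
      (by rw [mul_smul, mul_smul, g1, hic, inv_smul_eq_iff, g1]) (hconj1 hi1)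
      (Commute.mul_right (Commute.mul_right (Commute.inv_right hgv) hiv) hgv)
    have e2 := huniq (hconj (m := g) hs'2)
      (by rw [mul_smul, mul_smul, g1, hc', inv_smul_eq_iff, g1]) (hconj1 hs'1)
      (Commute.mul_right (Commute.mul_right (Commute.inv_right hgv) hs'v) hgv)
    exact mul_left_cancel (mul_right_cancel (e1.trans e2.symm))
  have hρ3 : l * ρ * l⁻¹ = ρ ^ 3 := by
    calc l * ρ * l⁻¹ = (l * s * l⁻¹) * (l * t * l⁻¹) := by rw [hρ]; group
      _ = s * s' := by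
          have : l * s * l⁻¹ = s := by
            calc l * s * l⁻¹ = l * (l⁻¹ * s * l) * l⁻¹ := by rw [hls]
              _ = s := by group
          rw [this, hlt]
      _ = ρ ^ 3 := by rw [hs', ← mul_assoc, h.z_sq h.s_mem, one_mul]
  have ho : orderOf (l * ρ * l⁻¹) = orderOf ρ :=
    (MulAut.conj l).orderOf_eq ρ
  rw [hρ3, orderOf_pow, hm9] at ho
  norm_num at ho

omit hp hna in
theorem field_step (hW : ∀ w ∈ wSub a t, w = 1) {v g : G} (hv : v ∈ vSub a t) (hg : g ∈ vSub a t)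
    (hfix : ∀ z ∈ h.zSub, v * z = z * v → g * z = z * g) : g ∈ Subgroup.zpowers v := by
  classical
  obtain ⟨F, iF, iFin, iC, ⟨Φ⟩⟩ := h.exists_zField
  set σ := Φ.sigmaHom ⟨v, hv⟩
  set γ := Φ.sigmaHom ⟨g, hg⟩
  haveI : Finite (RingAut F) := Finite.of_injective (fun e => (e : F → F)) DFunLike.coe_injective
  let H : Subgroup (RingAut F) := Subgroup.zpowers σ
  let γ' : F →ₐ[FixedPoints.subfield H F] F :=
    { (γ : F ≃+* F).toRingHom with
      commutes' := fun x => by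
        have hx : σ (x : F) = x := x.2 ⟨σ, Subgroup.mem_zpowers σ⟩
        have e1 := Φ.e_sigma ⟨v, hv⟩ (x : F)
        rw [show Φ.sigma ⟨v, hv⟩ (x : F) = x from hx] at e1
        have e2 := Φ.e_sigma ⟨g, hg⟩ (x : F)
        rw [cm_iff.1 (hfix _ (Φ.mem _) (cm_iff.2 e1))] at e2
        exact (Φ.e_inj e2).symm }
  obtain ⟨⟨η, hη⟩, e⟩ := (FixedPoints.toAlgHom_bijective H F).2 γ'
  obtain ⟨i, rfl⟩ := Subgroup.mem_zpowers_iff.1 hη
  have hw : Φ.sigmaHom (⟨g, hg⟩ * (⟨v, hv⟩ ^ i)⁻¹) = 1 := by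
    rw [map_mul, map_inv, map_zpow, mul_inv_eq_one]
    exact RingEquiv.ext fun x => (AlgHom.congr_fun e x).symm
  have := hW _ ((Φ.sigma_eq_one_iff _).1 hw)
  rw [Subgroup.coe_mul, Subgroup.coe_inv, Subgroup.coe_zpow, mul_inv_eq_one] at this
  exact Subgroup.mem_zpowers_iff.2 ⟨i, this.symm⟩

theorem fixed_cases {v : G} (hv : v ∈ vSub a t) {z : G} (hz : z ∈ h.zSub) (hz1 : z ≠ 1)
    (hzs : z ≠ h.sElt) (hzv : v * z = z * v)
    {x y : G} (hx : x ∈ Q) (hy : y ∈ Q) (hxv : v * x = x * v) (hyv : v * y = y * v)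
    (hxs : x * x = h.sElt) (hys : y * y = h.sElt) (hxy : x⁻¹ * y ∉ h.zSub) :
    Nat.card ↥(Subgroup.centralizer {v} ⊓ Q) =
      Nat.card ↥(Subgroup.centralizer {v} ⊓ h.zSub) ^ 3 := by
  classical
  have hcm : ∀ g : G, v * g = g * v → g ∈ (Subgroup.centralizer {v} : Subgroup G) :=
    fun g hg => Subgroup.mem_centralizer_singleton_iff.2 hg.symm
  set h' := h.fixed_setup hv h.s_mem h.s_ne (cm_iff.2 (h.v_s hv)) hz hz1 hzv hzs.symm
  have hker : ∀ g : (Subgroup.centralizer {v} : Subgroup G), (g : G) ∈ Q →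
      (QuotientGroup.mk g : CentGrp Ω v) = 1 → g = 1 := fun g hg e =>
    h.fixQ_eq_one hv hg (by rw [e, one_smul])
  have hπinj : ∀ g g' : (Subgroup.centralizer {v} : Subgroup G), (g : G) ∈ Q → (g' : G) ∈ Q →
      (QuotientGroup.mk g : CentGrp Ω v) = QuotientGroup.mk g' → g = g' := by
    intro g g' hg hg' e
    exact (inv_mul_eq_one.1 (hker (g⁻¹ * g') (mul_mem (inv_mem hg) hg') (by
      rw [QuotientGroup.mk_mul, QuotientGroup.mk_inv, e, inv_mul_cancel])))
  have hzpre : ∀ g : (Subgroup.centralizer {v} : Subgroup G), (g : G) ∈ Q →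
      ((QuotientGroup.mk g : CentGrp Ω v) ∈ h'.zSub ↔ (g : G) ∈ h.zSub) := by
    intro g hg
    constructor
    · intro e
      refine h.mem_zSub.2 ⟨Q_fix h.hS hg, congrArg Subtype.val (hker (g * g) (mul_mem hg hg) ?_)⟩
      rw [QuotientGroup.mk_mul]
      exact e.2
    · intro e
      refine h'.mem_zSub.2 ⟨Subtype.ext e.1, ?_⟩
      rw [← QuotientGroup.mk_mul, show g * g = 1 from Subtype.ext e.2, QuotientGroup.mk_one]
  have e1 : Nat.card (fixQ Ω Q v) = Nat.card ↥(Subgroup.centralizer {v} ⊓ Q) := by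
    refine (Nat.card_eq_of_bijective (fun g : ↥(Subgroup.centralizer {v} ⊓ Q) =>
      (⟨QuotientGroup.mk (⟨g, g.2.1⟩ : (Subgroup.centralizer {v} : Subgroup G)),
        mem_fixQ.2 ⟨⟨g, g.2.1⟩, g.2.2, rfl⟩⟩ : fixQ Ω Q v)) ⟨?_, ?_⟩).symm
    · intro g g' e
      have e2 := hπinj ⟨g, g.2.1⟩ ⟨g', g'.2.1⟩ g.2.2 g'.2.2 (congrArg Subtype.val e)
      exact Subtype.ext (congrArg Subtype.val e2 :)
    · rintro ⟨g, hg'⟩
      obtain ⟨g, hg, rfl⟩ := mem_fixQ.1 hg'
      exact ⟨⟨g, g.2, hg⟩, rfl⟩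
  have e2 : Nat.card h'.zSub = Nat.card ↥(Subgroup.centralizer {v} ⊓ h.zSub) := by
    refine (Nat.card_eq_of_bijective (fun g : ↥(Subgroup.centralizer {v} ⊓ h.zSub) =>
      (⟨QuotientGroup.mk (⟨g, g.2.1⟩ : (Subgroup.centralizer {v} : Subgroup G)),
        (hzpre _ (h.zSub_le g.2.2)).2 g.2.2⟩ : h'.zSub)) ⟨?_, ?_⟩).symm
    · intro g g' e
      have e2 := hπinj ⟨g, g.2.1⟩ ⟨g', g'.2.1⟩ (h.zSub_le g.2.2) (h.zSub_le g'.2.2)
        (congrArg Subtype.val e)
      exact Subtype.ext (congrArg Subtype.val e2 :)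
    · rintro ⟨g, hg'⟩
      obtain ⟨g, hg, rfl⟩ := mem_fixQ.1 (h'.zSub_le hg')
      exact ⟨⟨g, g.2, (hzpre g hg).1 hg'⟩, rfl⟩
  have hp' : IsPGroup 2 (fixQ Ω Q v) := by
    rintro ⟨g, hg'⟩
    obtain ⟨g, hg, rfl⟩ := mem_fixQ.1 hg'
    obtain ⟨i, hi⟩ := hp ⟨g, hg⟩
    refine ⟨i, Subtype.ext ?_⟩
    rw [SubmonoidClass.coe_pow, ← QuotientGroup.mk_pow, Subgroup.coe_one, ← QuotientGroup.mk_one]
    exact congrArg _ (Subtype.ext (by simpa using congrArg Subtype.val hi))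
  set x' : CentGrp Ω v := QuotientGroup.mk (⟨x, hcm x hxv⟩ : (Subgroup.centralizer {v} : Subgroup G))
    with hx'
  set y' : CentGrp Ω v := QuotientGroup.mk (⟨y, hcm y hyv⟩ : (Subgroup.centralizer {v} : Subgroup G))
    with hy'
  have hx'Q : x' ∈ fixQ Ω Q v := mem_fixQ.2 ⟨_, hx, rfl⟩
  have hy'Q : y' ∈ fixQ Ω Q v := mem_fixQ.2 ⟨_, hy, rfl⟩
  have hxZ : x ∉ h.zSub := fun e => h.s_ne (hxs.symm.trans (h.z_sq e))
  have hyZ : y ∉ h.zSub := fun e => h.s_ne (hys.symm.trans (h.z_sq e))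
  have hx'Z : x' ∉ h'.zSub := fun e => hxZ ((hzpre _ hx).1 e)
  have hy'Z : y' ∉ h'.zSub := fun e => hyZ ((hzpre _ hy).1 e)
  have hna' : ∃ p ∈ fixQ Ω Q v, ∃ q ∈ fixQ Ω Q v, p * q ≠ q * p := by
    refine ⟨x', hx'Q, y', hy'Q, fun e => hxy ?_⟩
    rw [hx', hy', ← QuotientGroup.mk_mul, ← QuotientGroup.mk_mul] at e
    have e3 : x * y = y * x := congrArg Subtype.val
      (hπinj _ _ (mul_mem hx hy) (mul_mem hy hx) e)
    refine h.mem_zSub.2 ⟨Q_fix h.hS (mul_mem (inv_mem hx) hy), ?_⟩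
    have e' : y * x⁻¹ = x⁻¹ * y := (Commute.inv_left (e3 : Commute x y)).symm.eq
    calc x⁻¹ * y * (x⁻¹ * y) = x⁻¹ * (y * x⁻¹) * y := by group
      _ = (x * x)⁻¹ * (y * y) := by rw [e']; group
      _ = 1 := by rw [hxs, hys, inv_mul_cancel]
  rcases h'.card_Q_cases hp' hna' with e | e
  · refine absurd ((hzpre (⟨x, hcm x hxv⟩⁻¹ * ⟨y, hcm y hyv⟩) (mul_mem (inv_mem hx) hy)).1 ?_) hxy
    rw [QuotientGroup.mk_mul, QuotientGroup.mk_inv]
    refine (h'.card_ge_sq hp' hna' le_rfl h'.zSub_le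
      (fun k hk g hg => h'.conj_Q_D (h'.kSub_le hk) hg) hx'Q hx'Z).2 e.le _ hx'Q _ hy'Q hx'Z hy'Z ?_
    rw [← QuotientGroup.mk_mul, ← QuotientGroup.mk_mul]
    exact congrArg _ (Subtype.ext (hxs.trans hys.symm))
  · rw [← e1, ← e2]; exact e

theorem cube_r_mem (IH : IndHyp.{u, v} (Nat.card G)) (hQ : Nat.card Q = Nat.card h.zSub ^ 3) :
    h.rElt ∈ h.zSub := by
  classical
  by_contra hr
  have hW : ∀ w ∈ wSub a t, w = 1 := fun w hw => h.w_trivial hp hna hQ hr hw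
  by_cases hV : ∀ g ∈ vSub a t, g = 1
  · refine h.cube_not_zassenhaus hp hna hQ fun d hd => ?_
    obtain ⟨g, hg, k, hk, rfl⟩ := h.exists_vk hd.2
    rw [hV g hg, one_mul]; exact hk
  push Not at hV
  obtain ⟨g, hg, hg1⟩ := hV
  obtain ⟨p, hpp, hpd⟩ := Nat.exists_prime_and_dvd
    (show orderOf g ≠ 1 from fun e => hg1 (orderOf_eq_one_iff.1 e))
  have hp2 : p ≠ 2 := by
    rintro rfl
    exact (Nat.not_even_iff_odd.2 (h.hS.odd_card.of_dvd_nat
      (Subgroup.orderOf_dvd_natCard _ hg.1))) (even_iff_two_dvd.2 hpd)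
  obtain ⟨v, hv, hvp⟩ : ∃ v ∈ vSub a t, orderOf v = p := by
    refine ⟨g ^ (orderOf g / p), pow_mem hg _, ?_⟩
    rw [orderOf_pow' _ (Nat.div_pos (Nat.le_of_dvd (orderOf_pos g) hpd) hpp.pos).ne',
      Nat.gcd_eq_right (Nat.div_dvd_of_dvd hpd), Nat.div_div_self hpd (orderOf_pos g).ne']
  have hv1 : v ≠ 1 := fun e => hpp.ne_one (by rw [← hvp, e, orderOf_one])
  have hvp' : v ^ p = 1 := hvp ▸ pow_orderOf_eq_one v
  obtain ⟨x, hx, y, hy, hxv, hyv, hxs, hys, hxy⟩ := h.exists_sep hp hna hQ hpp hp2 hv hvp' hr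
  by_cases hzz : ∀ z ∈ h.zSub, v * z = z * v → z = 1 ∨ z = h.sElt
  · exact h.quaternion_false hp hna hv hzz hr hx hy hxv hyv hxs hys hxy
  push Not at hzz
  obtain ⟨z, hz, hzv, hz1, hzs⟩ := hzz
  have hcard := h.fixed_cases hp hna hv hz hz1 hzs hzv hx hy hxv hyv hxs hys hxy
  obtain ⟨e, he, -, hez, c, hc, hec⟩ := (h.induced hv hv1 IH hz hz1 hzs hzv).2.2 hcard
  obtain ⟨i, rfl⟩ := Subgroup.mem_zpowers_iff.1 (h.field_step hW hv he hez)
  refine hec ?_
  have : v ∈ stabilizer G c := hc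
  exact zpow_mem this i

end Setup

end Cfsg.Agent.Lib.SplitRankOne70
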