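import Cfsg.Agent.Lib.SplitRankOne70.SLAct

/-!
A function on lines compatible with one transvection for each line, in a group of odd order, forces
the transvection scalars to be the inverse of an anisotropic quadratic form.
-/

set_option autoImplicit false
set_option linter.unusedSectionVars false

namespace Cfsg.Agent.Lib.SplitRankOne70

open scoped MatrixGroups

variable {F : Type} [Field F] [Fintype F] [CharP F 2]

/-- The determinant of two rows. -/
def bd (u v : F × F) : F := u.1 * v.2 + u.2 * v.1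

/-- A matrix acting on rows. -/
def mAct (M : SL(2, F)) (v : F × F) : F × F :=
  (M 0 0 * v.1 + M 0 1 * v.2, M 1 0 * v.1 + M 1 1 * v.2)

/-- The quadratic form with polar form `bd`. -/
def qform (p r : F) (v : F × F) : F := p * v.1 ^ 2 + v.1 * v.2 + r * v.2 ^ 2

theorem mAct_mul (M N : SL(2, F)) (v : F × F) : mAct (M * N) v = mAct M (mAct N v) := by
  simp only [mAct, mul_00, mul_01, mul_10, mul_11]
  ext <;> ring

theorem mAct_one (v : F × F) : mAct (1 : SL(2, F)) v = v := by
  show ((1 : F) * v.1 + 0 * v.2, (0 : F) * v.1 + 1 * v.2) = v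
  ext <;> simp

theorem mAct_ne {M : SL(2, F)} {v : F × F} (hv : v ≠ 0) : mAct M v ≠ 0 := fun e => hv (by
  rw [← mAct_one v, ← inv_mul_cancel M, mAct_mul, e]
  simp [mAct])

theorem mAct_bd (M : SL(2, F)) (u v : F × F) : bd (mAct M u) (mAct M v) = bd u v := by
  have hd := det_two M
  have two := CharTwo.two_eq_zero (R := F)
  simp only [bd, mAct]
  linear_combination (u.1 * v.2 + u.2 * v.1) * hd +
    (M 0 0 * M 1 0 * u.1 * v.1 + M 0 1 * M 1 1 * u.2 * v.2) * two

theorem mAct_ne_cancel (M : SL(2, F)) {u v : F × F} (e : mAct M u = mAct M v) : u = v := by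
  rw [← mAct_one u, ← inv_mul_cancel M, mAct_mul, e, ← mAct_mul, inv_mul_cancel, mAct_one]

theorem mAct_inj {M N : SL(2, F)} (e1 : mAct M (1, 0) = mAct N (1, 0))
    (e2 : mAct M (0, 1) = mAct N (0, 1)) : M = N := by
  simp only [mAct, mul_one, mul_zero, add_zero, zero_add, Prod.mk.injEq] at e1 e2
  exact mat_ext e1.1 e2.1 e1.2 e2.2

theorem mAct_smul (M : SL(2, F)) (l : F) (v : F × F) : mAct M (l • v) = l • mAct M v := by
  simp only [mAct, Prod.smul_fst, Prod.smul_snd, smul_eq_mul, Prod.smul_mk]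
  ext <;> simp <;> ring

theorem mAct_add (M : SL(2, F)) (u v : F × F) : mAct M (u + v) = mAct M u + mAct M v := by
  simp only [mAct, Prod.fst_add, Prod.snd_add, Prod.mk_add_mk]
  ext <;> simp <;> ring

theorem bd_self (v : F × F) : bd v v = 0 := by
  simp only [bd]; rw [mul_comm v.2 v.1]; exact CharTwo.add_self_eq_zero _

theorem bd_comm (u v : F × F) : bd u v = bd v u := by simp only [bd]; ring

theorem bd_smul (l : F) (u v : F × F) : bd (l • u) v = l * bd u v := by
  simp only [bd, Prod.smul_fst, Prod.smul_snd, smul_eq_mul]; ring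

theorem bd_add (u u' v : F × F) : bd (u + u') v = bd u v + bd u' v := by
  simp only [bd, Prod.fst_add, Prod.snd_add]; ring

theorem eq_smul_of_bd {u v : F × F} (hv : v ≠ 0) (e : bd u v = 0) : ∃ l : F, u = l • v := by
  have e' : u.1 * v.2 = u.2 * v.1 := CharTwo.add_eq_zero.1 e
  by_cases h1 : v.1 = 0
  · have h2 : v.2 ≠ 0 := fun h2 => hv (Prod.ext h1 h2)
    refine ⟨u.2 / v.2, Prod.ext ?_ ?_⟩
    · simp only [Prod.smul_fst, smul_eq_mul, h1, mul_zero] at e' ⊢
      exact (mul_eq_zero.1 e').resolve_right h2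
    · simp only [Prod.smul_snd, smul_eq_mul]; field_simp
  · refine ⟨u.1 / v.1, Prod.ext ?_ ?_⟩
    · simp only [Prod.smul_fst, smul_eq_mul]; field_simp
    · simp only [Prod.smul_snd, smul_eq_mul]; field_simp; linear_combination -e'

theorem exists_bd_one {v : F × F} (hv : v ≠ 0) : ∃ u : F × F, bd u v = 1 := by
  by_cases h1 : v.1 = 0
  · have h2 : v.2 ≠ 0 := fun h2 => hv (Prod.ext h1 h2)
    exact ⟨(1 / v.2, 0), by simp only [bd]; field_simp; ring⟩
  · exact ⟨(0, 1 / v.1), by simp only [bd]; field_simp; ring⟩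

theorem expand {A B : F × F} (h : bd A B = 1) (v : F × F) : v = bd v B • A + bd v A • B := by
  have hd : A.1 * B.2 + A.2 * B.1 = 1 := h
  have two := CharTwo.two_eq_zero (R := F)
  ext <;> simp only [bd, Prod.fst_add, Prod.snd_add, Prod.smul_fst, Prod.smul_snd, smul_eq_mul]
  · linear_combination -v.1 * hd - v.2 * A.1 * B.1 * two
  · linear_combination -v.2 * hd - v.1 * A.2 * B.2 * two

theorem eq_one_of_fix_two {M : SL(2, F)} {A B : F × F} (h : bd A B = 1) (hA : mAct M A = A)
    (hB : mAct M B = B) : M = 1 := by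
  have key : ∀ v, mAct M v = v := fun v => by
    conv_lhs => rw [expand h v]
    rw [mAct_add, mAct_smul, mAct_smul, hA, hB, ← expand h v]
  exact mAct_inj (by rw [key, mAct_one]) (by rw [key, mAct_one])

/-- An element with a fixed vector is trivial or an involution. -/
theorem sq_eq_one_of_fix {M : SL(2, F)} {B : F × F} (hB0 : B ≠ 0) (hB : mAct M B = B) :
    M * M = 1 := by
  obtain ⟨A, hA⟩ := exists_bd_one hB0
  have e : bd (mAct M A) B = 1 := by
    conv_lhs => rw [← hB]
    rw [mAct_bd, hA]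
  obtain ⟨c, e2⟩ : ∃ c : F, mAct M A = A + c • B := ⟨bd (mAct M A) A, by
    conv_lhs => rw [expand hA (mAct M A), e, one_smul]⟩
  refine eq_one_of_fix_two hA ?_ (by rw [mAct_mul, hB, hB])
  rw [mAct_mul, e2, mAct_add, mAct_smul, hB, e2, add_assoc, ← add_smul]
  rw [CharTwo.add_self_eq_zero, zero_smul, add_zero]

theorem exists_fix_of_involution {M : SL(2, F)} (h : M * M = 1) (h1 : M ≠ 1) :
    ∃ B : F × F, B ≠ 0 ∧ mAct M B = B := by
  obtain ⟨v, hv⟩ : ∃ v, mAct M v ≠ v := by
    by_contra hno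
    push Not at hno
    exact h1 (mAct_inj (by rw [hno, mAct_one]) (by rw [hno, mAct_one]))
  refine ⟨mAct M v + v, fun e => hv ?_, ?_⟩
  · exact Prod.ext (CharTwo.add_eq_zero.1 (congrArg Prod.fst e))
      (CharTwo.add_eq_zero.1 (congrArg Prod.snd e))
  · rw [mAct_add, ← mAct_mul, h, mAct_one, add_comm]

/-- A fixed line of an involution is fixed pointwise and is unique. -/
theorem fix_line {M : SL(2, F)} (h1 : M ≠ 1) {B C : F × F} (hC0 : C ≠ 0) (hB : mAct M B = B)
    (hC : mAct M C = C) : bd B C = 0 := by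
  by_contra hne
  refine h1 (eq_one_of_fix_two (A := (bd B C)⁻¹ • B) (B := C) ?_ ?_ hC)
  · rw [bd_smul, inv_mul_cancel₀ hne]
  · rw [mAct_smul, hB]

theorem eq_one_of_sq (l : F) (e : l * l = 1) : l = 1 :=
  CharTwo.add_eq_zero.1 (mul_self_eq_zero.1 (by
    rw [CharTwo.add_mul_self, e, one_mul, CharTwo.add_self_eq_zero]))

variable (S : F × F → F)

/-- The transvection of the line of `B`. -/
def trB (B : F × F) : SL(2, F) :=
  mkM (1 + S B * B.1 * B.2) (S B * B.1 ^ 2) (S B * B.2 ^ 2) (1 + S B * B.1 * B.2) (by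
    linear_combination S B * B.1 * B.2 * CharTwo.two_eq_zero (R := F))

theorem trB_act (B X : F × F) : mAct (trB S B) X = X + (S B * bd X B) • B := by
  simp only [mAct, trB, bd, Prod.smul_mk, smul_eq_mul]
  ext
  · simp [mkM]; ring
  · simp [mkM]; ring

theorem trB_self (B : F × F) : mAct (trB S B) B = B := by
  rw [trB_act, bd_self, mul_zero, zero_smul, add_zero]

theorem trB_sq (B : F × F) : trB S B * trB S B = 1 := by
  refine mAct_inj ?_ ?_ <;>
  · rw [mAct_mul, mAct_one, trB_act, trB_act, bd_add, bd_smul, bd_self, mul_zero, add_zero,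
      add_assoc, ← add_smul, CharTwo.add_self_eq_zero, zero_smul, add_zero]

theorem trB_fix_iff {B X : F × F} (hB : B ≠ 0) (hS : S B ≠ 0) (e : mAct (trB S B) X = X) :
    ∃ l : F, X = l • B := by
  rw [trB_act, add_eq_left, smul_eq_zero, mul_eq_zero] at e
  exact eq_smul_of_bd hB ((e.resolve_right hB).resolve_left hS)

variable {Γ : Type*} [CommGroup Γ] (av : F × F → Γ)

/-- The shifts. -/
def shiftSub (hodd : ∀ g : Γ, g * g = 1 → g = 1) : Subgroup SL(2, F) where
  carrier := {M | ∃ γ, ∀ v : F × F, v ≠ 0 → av (mAct M v) = γ * av v}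
  one_mem' := ⟨1, fun v _ => by rw [mAct_one, one_mul]⟩
  mul_mem' := by
    rintro M N ⟨γ, hM⟩ ⟨δ, hN⟩
    exact ⟨γ * δ, fun v hv => by rw [mAct_mul, hM _ (mAct_ne hv), hN v hv, mul_assoc]⟩
  inv_mem' := by
    rintro M ⟨γ, hM⟩
    refine ⟨γ⁻¹, fun v hv => ?_⟩
    have e := hM (mAct M⁻¹ v) (mAct_ne hv)
    rw [← mAct_mul, mul_inv_cancel, mAct_one] at e
    rw [e, inv_mul_cancel_left]

theorem exists_qform (hodd : ∀ g : Γ, g * g = 1 → g = 1)
    (hnc : ∃ A B : F × F, A ≠ 0 ∧ B ≠ 0 ∧ av A ≠ av B)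
    (hS0 : ∀ B : F × F, B ≠ 0 → S B ≠ 0)
    (hT : ∀ A B : F × F, A ≠ 0 → B ≠ 0 → av (mAct (trB S B) A) * av A = av B * av B) :
    ∃ p r : F, (∀ v : F × F, v ≠ 0 → qform p r v ≠ 0) ∧
      ∀ B : F × F, B ≠ 0 → S B * qform p r B = 1 := by
  classical
  set N := shiftSub av hodd
  have hconj : ∀ B : F × F, B ≠ 0 → ∀ n ∈ N, trB S B * n * trB S B ∈ N := by
    rintro B hB n ⟨γ, hn⟩
    refine ⟨γ⁻¹, fun v hv => ?_⟩
    have e1 := hT (mAct n (mAct (trB S B) v)) B (mAct_ne (mAct_ne hv)) hB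
    have e2 := hT v B hv hB
    rw [hn _ (mAct_ne hv)] at e1
    rw [mAct_mul, mAct_mul]
    rw [← e2, ← mul_assoc, mul_comm (av (mAct (trB S B) v)) (av v)] at e1
    have e3 := mul_right_cancel e1
    exact eq_inv_mul_iff_mul_eq.2 (by rw [mul_comm]; exact e3)
  have hnorm : ∀ B : F × F, B ≠ 0 → trB S B ∈ Subgroup.normalizer (N : Set SL(2, F)) := by
    intro B hB
    have hi : (trB S B)⁻¹ = trB S B := inv_eq_of_mul_eq_one_right (trB_sq S B)
    rw [Subgroup.mem_normalizer_iff]
    intro n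
    rw [hi]
    refine ⟨hconj B hB n, fun hn => ?_⟩
    have := hconj B hB _ hn
    rwa [← mul_assoc, ← mul_assoc, trB_sq, one_mul, mul_assoc, trB_sq, mul_one] at this
  have hminus : ∀ B : F × F, B ≠ 0 → trB S B ∉ N := by
    rintro B hB ⟨γ, hγ⟩
    obtain ⟨A1, A2, h1, h2, hne⟩ := hnc
    have key : ∀ v : F × F, v ≠ 0 → av v * av v = γ⁻¹ * (av B * av B) := fun v hv => by
      rw [eq_inv_mul_iff_mul_eq, ← mul_assoc, ← hγ v hv, hT v B hv hB]
    refine hne (inv_mul_eq_one.1 (hodd _ ?_)).symm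
    rw [mul_mul_mul_comm, ← mul_inv, key A2 h2, key A1 h1, inv_mul_cancel]
  -- no involutions
  have hno : ∀ n ∈ N, n * n = 1 → n = 1 := by
    intro i hi hi2
    by_contra hi1
    obtain ⟨B0, hB00, hB0⟩ := exists_fix_of_involution hi2 hi1
    obtain ⟨C, hC⟩ := exists_bd_one hB00
    have hC0 : C ≠ 0 := by rintro rfl; simp [bd] at hC
    set T := trB S C
    have hT2 : T * T = 1 := trB_sq S C
    set g := i * T
    rcases Nat.even_or_odd (orderOf g) with ⟨m, hm⟩ | ⟨m, hm⟩
    · set j := g ^ m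
      have hg0 : 0 < orderOf g := orderOf_pos g
      have hj2 : j * j = 1 := by rw [← pow_add, ← hm, pow_orderOf_eq_one]
      have hj1 : j ≠ 1 := fun e => by
        have := orderOf_dvd_of_pow_eq_one e
        have := Nat.le_of_dvd (by omega) this
        omega
      have hji : j⁻¹ = j := inv_eq_of_mul_eq_one_right hj2
      have hii : i⁻¹ = i := inv_eq_of_mul_eq_one_right hi2
      have hTT : T⁻¹ = T := inv_eq_of_mul_eq_one_right hT2
      have hci : i * g * i⁻¹ = g⁻¹ := by
        rw [show g = i * T from rfl, hii, mul_inv_rev, hii, hTT, ← mul_assoc, hi2, one_mul]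
      have hcT : T * g * T⁻¹ = g⁻¹ := by
        rw [show g = i * T from rfl, hTT, mul_inv_rev, hii, hTT, mul_assoc, mul_assoc, hT2, mul_one]
      have hji' : i * j = j * i := by
        have := congrArg (· ^ m) hci
        simp only [conj_pow, inv_pow] at this
        rw [hji] at this
        exact mul_inv_eq_iff_eq_mul.1 this
      have hjT : T * j = j * T := by
        have := congrArg (· ^ m) hcT
        simp only [conj_pow, inv_pow] at this
        rw [hji] at this
        exact mul_inv_eq_iff_eq_mul.1 this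
      obtain ⟨B1, hB10, hB1⟩ := exists_fix_of_involution hj2 hj1
      have aux : ∀ M : SL(2, F), M * M = 1 → M * j = j * M → mAct M B1 = B1 := by
        intro M hM hMj
        have e : mAct j (mAct M B1) = mAct M B1 := by rw [← mAct_mul, ← hMj, mAct_mul, hB1]
        obtain ⟨l, hl⟩ := eq_smul_of_bd hB10 (fix_line hj1 hB10 e hB1)
        have e2 : mAct M (mAct M B1) = B1 := by rw [← mAct_mul, hM, mAct_one]
        rw [hl, mAct_smul, hl, smul_smul] at e2
        have : l * l = 1 := by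
          have e3 : (l * l - 1) • B1 = 0 := by rw [sub_smul, e2, one_smul, sub_self]
          exact sub_eq_zero.1 ((smul_eq_zero.1 e3).resolve_right hB10)
        rw [hl, eq_one_of_sq l this, one_smul]
      obtain ⟨l, hl⟩ := trB_fix_iff S hC0 (hS0 C hC0) (aux T hT2 hjT)
      have h3 := fix_line hi1 hB00 (aux i hi2 hji') hB0
      rw [hl, bd_smul, hC, mul_one] at h3
      rw [h3, zero_smul] at hl
      exact hB10 hl
    · have hmem : g ^ m ∈ Subgroup.normalizer (N : Set SL(2, F)) :=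
        pow_mem (mul_mem (Subgroup.le_normalizer hi) (hnorm C hC0)) _
      refine hminus C hC0 ?_
      have e : g ^ m * i * (g ^ m)⁻¹ = T := by
        have hc : i * (g ^ m)⁻¹ = g ^ m * i := by
          have hh : i * g⁻¹ * i⁻¹ = g := by
            rw [show g = i * T from rfl, mul_inv_rev, inv_eq_of_mul_eq_one_right hi2,
              inv_eq_of_mul_eq_one_right hT2, mul_assoc, mul_assoc, hi2, mul_one]
          have := congrArg (· ^ m) hh
          simp only [conj_pow, inv_pow] at this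
          exact mul_inv_eq_iff_eq_mul.1 this
        rw [mul_assoc, hc, ← mul_assoc]
        have h2 : g ^ m * g ^ m * g = 1 := by
          rw [← pow_add, ← pow_succ, show m + m + 1 = orderOf g by omega, pow_orderOf_eq_one]
        have h4 : g ^ m * g ^ m = g⁻¹ := eq_inv_of_mul_eq_one_left h2
        rw [h4, show g = i * T from rfl, mul_inv_rev, inv_mul_cancel_right]
        exact inv_eq_of_mul_eq_one_right hT2
      show T ∈ N
      have h5 := (Subgroup.mem_normalizer_iff.1 hmem i).1 hi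
      rw [e] at h5
      exact h5
  have hcent : ∀ B : F × F, B ≠ 0 → ∀ n ∈ N, n * trB S B = trB S B * n → n = 1 := by
    intro B hB n hn hcomm
    have e : mAct (trB S B) (mAct n B) = mAct n B := by rw [← mAct_mul, ← hcomm, mAct_mul, trB_self]
    obtain ⟨l, hl⟩ := trB_fix_iff S hB (hS0 B hB) e
    obtain ⟨A, hA⟩ := exists_bd_one hB
    have e2 : mAct n (mAct (trB S B) A) = mAct (trB S B) (mAct n A) := by
      rw [← mAct_mul, hcomm, mAct_mul]
    rw [trB_act, trB_act, mAct_add, mAct_smul, hA, mul_one, hl, smul_smul] at e2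
    have e3 := add_left_cancel e2
    have e4 : bd (mAct n A) B = l := by
      have e5 : (S B * l - S B * bd (mAct n A) B) • B = 0 := by rw [sub_smul, e3, sub_self]
      exact (mul_left_cancel₀ (hS0 B hB) (sub_eq_zero.1 ((smul_eq_zero.1 e5).resolve_right hB))).symm
    have hll : l * l = 1 := by
      have h5 := mAct_bd n A B
      rw [hl, bd_comm, bd_smul, bd_comm, e4, hA] at h5
      exact h5
    rw [eq_one_of_sq l hll, one_smul] at hl
    exact hno n hn (sq_eq_one_of_fix hB hl)
  -- inversion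
  have hinv : ∀ B : F × F, B ≠ 0 → ∀ n ∈ N, trB S B * n * trB S B = n⁻¹ := by
    intro B hB n hn
    set T := trB S B
    have hT2 : T * T = 1 := trB_sq S B
    have tt : ∀ x : SL(2, F), T * (T * x) = x := fun x => by rw [← mul_assoc, hT2, one_mul]
    have hTi : T⁻¹ = T := inv_eq_of_mul_eq_one_right hT2
    let ψ : N → N := fun m => ⟨(m : SL(2, F))⁻¹ * (T * m * T), mul_mem (inv_mem m.2) (hconj B hB m m.2)⟩
    have hψ : Function.Injective ψ := by
      intro m m' e
      have e' : (m : SL(2, F))⁻¹ * (T * m * T) = (m' : SL(2, F))⁻¹ * (T * m' * T) :=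
        congrArg Subtype.val e
      have hc : ((m' : SL(2, F)) * (m : SL(2, F))⁻¹) * T = T * ((m' : SL(2, F)) * (m : SL(2, F))⁻¹) := by
        calc ((m' : SL(2, F)) * (m : SL(2, F))⁻¹) * T
            = (m' : SL(2, F)) * ((m : SL(2, F))⁻¹ * (T * m * T)) * T⁻¹ * (m : SL(2, F))⁻¹ := by group
          _ = T * m' * (T * T⁻¹) * (m : SL(2, F))⁻¹ := by rw [e']; group
          _ = _ := by group
      exact Subtype.ext (mul_inv_eq_one.1 (hcent B hB _ (mul_mem m'.2 (inv_mem m.2)) hc)).symm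
    obtain ⟨m, hm⟩ := Finite.surjective_of_injective hψ ⟨n, hn⟩
    have e : (m : SL(2, F))⁻¹ * (T * m * T) = n := congrArg Subtype.val hm
    rw [← e]
    simp only [mul_inv_rev, hTi, inv_inv, mul_assoc, tt, hT2, mul_one]
  obtain ⟨e1, e2, he1, he2, he12⟩ : ∃ e1 e2 : F × F, e1 ≠ 0 ∧ e2 ≠ 0 ∧ bd e1 e2 = 1 :=
    ⟨(1, 0), (0, 1), by simp, by simp, by simp [bd]⟩
  set n0 := trB S e1 * trB S e2 with hn0
  have hn0N : n0 ∈ N := by
    refine ⟨av e1 * av e1 * (av e2 * av e2)⁻¹, fun v hv => ?_⟩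
    rw [hn0, mAct_mul]
    have h1 := hT _ e1 (mAct_ne (M := trB S e2) hv) he1
    have h2 := hT v e2 hv he2
    rw [← h1, ← h2, mul_inv, ← mul_assoc, mul_inv_cancel_right, mul_assoc, inv_mul_cancel, mul_one]
  have hn01 : n0 ≠ 1 := by
    intro e
    have e' : trB S e1 = trB S e2 := by
      rw [eq_inv_of_mul_eq_one_left e, inv_eq_of_mul_eq_one_right (trB_sq S e2)]
    obtain ⟨l, hl⟩ := trB_fix_iff S he1 (hS0 e1 he1) (X := e2) (by rw [e', trB_self])
    rw [hl, bd_comm, bd_smul, bd_self, mul_zero] at he12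
    exact zero_ne_one he12
  have hnoline : ∀ B : F × F, B ≠ 0 → ∀ l : F, mAct n0 B ≠ l • B := by
    intro B hB l e
    have e3 : mAct n0⁻¹ B = l • B := by
      rw [← hinv B hB n0 hn0N, mAct_mul, mAct_mul, trB_self, e, mAct_smul, trB_self]
    have e4 : B = (l * l) • B := by
      have : mAct n0 (mAct n0⁻¹ B) = B := by rw [← mAct_mul, mul_inv_cancel, mAct_one]
      rw [e3, mAct_smul, e, smul_smul] at this
      exact this.symm
    have hl : l * l = 1 := by
      have e5 : (l * l - 1) • B = 0 := by rw [sub_smul, ← e4, one_smul, sub_self]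
      exact sub_eq_zero.1 ((smul_eq_zero.1 e5).resolve_right hB)
    rw [eq_one_of_sq l hl, one_smul] at e
    exact hn01 (hno n0 hn0N (sq_eq_one_of_fix hB e))
  have hinv2 : ∀ v, mAct n0⁻¹ v = mAct n0 v + (n0 0 0 + n0 1 1) • v := by
    intro v
    refine mAct_ne_cancel n0 ?_
    rw [← mAct_mul, mul_inv_cancel, mAct_one, mAct_add, mAct_smul]
    have hd := det_two n0
    have two := CharTwo.two_eq_zero (R := F)
    simp only [mAct, Prod.smul_mk, smul_eq_mul, Prod.mk_add_mk]
    ext
    · simp only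
      linear_combination -v.1 * hd - ((n0 0 0 * n0 0 0) * v.1 + n0 0 0 * n0 0 1 * v.2 + n0 0 1 * n0 1 1 * v.2) * two
    · simp only
      linear_combination -v.2 * hd - ((n0 1 1 * n0 1 1) * v.2 + n0 1 0 * n0 1 1 * v.1 + n0 0 0 * n0 1 0 * v.1) * two
  set τ := n0 0 0 + n0 1 1 with hτdef
  have hτ : τ ≠ 0 := by
    intro e
    refine hn01 (hno n0 hn0N ?_)
    have e' : n0⁻¹ = n0 := mAct_inj (by rw [hinv2, e, zero_smul, add_zero])
      (by rw [hinv2, e, zero_smul, add_zero])
    calc n0 * n0 = n0⁻¹ * n0 := by rw [e']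
      _ = 1 := inv_mul_cancel n0
  refine ⟨n0 1 0 / τ, n0 0 1 / τ, fun v hv e => ?_, fun B hB => ?_⟩
  · have e' : bd v (mAct n0 v) = 0 := by
      have : bd v (mAct n0 v) = τ * qform (n0 1 0 / τ) (n0 0 1 / τ) v := by
        simp only [qform, bd, mAct]; field_simp; rw [hτdef]; ring
      rw [this, e, mul_zero]
    obtain ⟨l, hl⟩ := eq_smul_of_bd hv (u := mAct n0 v) (by rw [bd_comm]; exact e')
    exact hnoline v hv l hl
  · obtain ⟨A, hA⟩ := exists_bd_one hB
    have hbq : ∀ v, bd v (mAct n0 v) = τ * qform (n0 1 0 / τ) (n0 0 1 / τ) v := fun v => by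
      simp only [qform, bd, mAct]; field_simp; rw [hτdef]; ring
    have key : bd (mAct (trB S B) A) (mAct n0 (mAct (trB S B) A)) = bd A (mAct n0 A) := by
      have e : mAct n0 (mAct (trB S B) A) = mAct (trB S B) (mAct n0⁻¹ A) := by
        rw [← mAct_mul, ← mAct_mul, ← hinv B hB n0 hn0N, ← mul_assoc, ← mul_assoc, trB_sq, one_mul]
      rw [e, mAct_bd, hinv2, bd_comm, bd_add, bd_smul, bd_self, mul_zero, add_zero, bd_comm]
    rw [hbq, hbq, trB_act, hA, mul_one] at key
    have key' := mul_left_cancel₀ hτ key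
    simp only [qform, Prod.fst_add, Prod.snd_add, Prod.smul_fst, Prod.smul_snd, smul_eq_mul] at key' ⊢
    refine mul_left_cancel₀ (hS0 B hB) ?_
    have hd : A.1 * B.2 + A.2 * B.1 = 1 := hA
    linear_combination key' - S B * hd - (S B * (A.1 * B.1 * (n0 1 0 / τ) + A.2 * B.2 * (n0 0 1 / τ)) + S B) *
      CharTwo.two_eq_zero (R := F)

end Cfsg.Agent.Lib.SplitRankOne70
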