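import Cfsg.Agent.Lib.SplitRankOne70.Core

/-!
The set-up induced on the fixed points of an element of `C_D(t)`, and the inductive predicate.
-/

set_option autoImplicit false
set_option linter.unusedSectionVars false
set_option linter.style.haveILetI false

namespace Cfsg.Agent.Lib.SplitRankOne70

open Cfsg MulAction Cfsg.Agent.Lib.RankOne Cfsg.Agent.Lib.OddCond

universe u v

/-- What is proved by induction on the order. -/
def Concl {G : Type u} {Ω : Type v} [Group G] [Finite G] [MulAction G Ω] {a : Ω} {t : G}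
    {Q : Subgroup G} (h : Setup a t Q) : Prop :=
  IsPGroup 2 Q ∧ ((∀ x ∈ Q, ∀ y ∈ Q, x * y = y * x) → Q ≤ h.zSub) ∧
    (Nat.card Q = Nat.card h.zSub ^ 3 → wSub a t ≠ ⊥)

/-- The inductive hypothesis below `N`. -/
def IndHyp (N : ℕ) : Prop :=
  ∀ (G : Type u) (Ω : Type v) [Group G] [Finite G] [MulAction G Ω] [FaithfulSMul G Ω]
    (a : Ω) (t : G) (Q : Subgroup G) (h : Setup a t Q), Nat.card G < N → Concl h

variable {G : Type u} {Ω : Type v} [Group G] [MulAction G Ω]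

/-- The fixed points of `d`. -/
abbrev FixPts (Ω : Type v) [MulAction G Ω] (d : G) : Type v := {c : Ω // d • c = c}

theorem cent_smul_fix {d : G} (g : (Subgroup.centralizer {d} : Subgroup G)) (c : FixPts Ω d) :
    d • (g : G) • (c : Ω) = (g : G) • (c : Ω) := by
  rw [smul_smul, ← Subgroup.mem_centralizer_singleton_iff.1 g.2, mul_smul, c.2]

/-- The action of the centraliser of `d` on the fixed points of `d`. -/
def centAct (Ω : Type v) [MulAction G Ω] (d : G) :
    (Subgroup.centralizer {d} : Subgroup G) →* Equiv.Perm (FixPts Ω d) where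
  toFun g :=
    { toFun := fun c => ⟨(g : G) • (c : Ω), cent_smul_fix g c⟩
      invFun := fun c => ⟨((g⁻¹ : (Subgroup.centralizer {d} : Subgroup G)) : G) • (c : Ω),
        cent_smul_fix g⁻¹ c⟩
      left_inv := fun c => Subtype.ext (inv_smul_smul (g : G) (c : Ω))
      right_inv := fun c => Subtype.ext (smul_inv_smul (g : G) (c : Ω)) }
  map_one' := Equiv.ext fun c => Subtype.ext (one_smul G (c : Ω))
  map_mul' g g' := Equiv.ext fun c => Subtype.ext (mul_smul (g : G) (g' : G) (c : Ω))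

/-- The group induced by the centraliser of `d` on its fixed points. -/
abbrev CentGrp (Ω : Type v) [MulAction G Ω] (d : G) : Type u :=
  (Subgroup.centralizer {d} : Subgroup G) ⧸ (centAct Ω d).ker

instance instCentGrpAction (d : G) : MulAction (CentGrp Ω d) (FixPts Ω d) :=
  MulAction.compHom (FixPts Ω d) (QuotientGroup.kerLift (centAct Ω d))

theorem centGrp_smul (d : G) (g : (Subgroup.centralizer {d} : Subgroup G)) (c : FixPts Ω d) :
    (((QuotientGroup.mk g : CentGrp Ω d) • c : FixPts Ω d) : Ω) = (g : G) • (c : Ω) := rfl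

instance instCentGrpFaithful (d : G) : FaithfulSMul (CentGrp Ω d) (FixPts Ω d) :=
  ⟨fun {x y} e => QuotientGroup.kerLift_injective (centAct Ω d) (Equiv.ext e)⟩

variable [Finite G] {a : Ω} {t : G} {Q : Subgroup G} {d : G}

namespace Setup

variable (h : Setup a t Q) (hd : d ∈ vSub a t)

/-- `a` as a fixed point of `d`. -/
def fixA : FixPts Ω d := ⟨a, (mem_twoStab.1 hd.1).1⟩

include h in
theorem t_mem_cent (hd : d ∈ vSub a t) : t ∈ (Subgroup.centralizer {d} : Subgroup G) :=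
  Subgroup.mem_centralizer_singleton_iff.2 (h.mem_vSub.1 hd).2.symm

/-- The image of `t`. -/
def fixT : CentGrp Ω d := QuotientGroup.mk (⟨t, h.t_mem_cent hd⟩ : (Subgroup.centralizer {d} : Subgroup G))

/-- The image of `C_Q(d)`. -/
def fixQ (Ω : Type v) [MulAction G Ω] (Q : Subgroup G) (d : G) : Subgroup (CentGrp Ω d) :=
  (Q.subgroupOf (Subgroup.centralizer {d})).map (QuotientGroup.mk' (centAct Ω d).ker)

omit [Finite G] in
theorem mem_fixQ {x : CentGrp Ω d} : x ∈ fixQ Ω Q d ↔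
    ∃ g : (Subgroup.centralizer {d} : Subgroup G), (g : G) ∈ Q ∧ QuotientGroup.mk g = x := by
  constructor
  · rintro ⟨g, hg, rfl⟩
    exact ⟨g, Subgroup.mem_subgroupOf.1 hg, rfl⟩
  · rintro ⟨g, hg, rfl⟩
    exact ⟨g, Subgroup.mem_subgroupOf.2 hg, rfl⟩

include h hd

theorem fixT_smul : ((h.fixT hd • fixA hd : FixPts Ω d) : Ω) = t • a :=
  centGrp_smul d _ _

theorem fixQ_eq_one {g : (Subgroup.centralizer {d} : Subgroup G)} (hg : (g : G) ∈ Q)
    (e : (QuotientGroup.mk g : CentGrp Ω d) • (h.fixT hd • fixA hd) = h.fixT hd • fixA hd) :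
    g = 1 := by
  have e' := congrArg Subtype.val e
  rw [centGrp_smul, h.fixT_smul hd] at e'
  exact Subtype.ext (eq_one_of_fix h.hS hg e')

theorem three_fixed : ∃ b c p : Ω, b ≠ c ∧ b ≠ p ∧ c ≠ p ∧
    ∀ x ∈ ({d} : Set G), x • b = b ∧ x • c = c ∧ x • p = p := by
  obtain ⟨c, hc⟩ := exists_fixed h.hS h.hS.mul_self
  have hca : c ≠ a := fun e => t_smul_ne h.hS (e ▸ hc)
  have hcb : c ≠ t • a := fun e => by
    rw [e, t_smul_smul h.hS] at hc
    exact t_smul_ne h.hS hc.symm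
  have hdc : d • c = c := fixed_unique h.hS h.hS.mul_self h.hS.ne_one
    (by rw [smul_smul, ← (h.mem_vSub.1 hd).2, mul_smul, hc]) hc
  refine ⟨a, t • a, c, (t_smul_ne h.hS).symm, hca.symm, hcb.symm, fun x hx => ?_⟩
  rw [Set.mem_singleton_iff] at hx
  subst hx
  exact ⟨(mem_twoStab.1 hd.1).1, (mem_twoStab.1 hd.1).2, hdc⟩

theorem fixed_setup {z z' : G} (hz : z ∈ h.zSub) (hz1 : z ≠ 1) (hzd : d * z = z * d)
    (hz' : z' ∈ h.zSub) (hz1' : z' ≠ 1) (hzd' : d * z' = z' * d) (hne : z ≠ z') :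
    Setup (fixA hd) (h.fixT hd) (fixQ Ω Q d) := by
  have hX : ({d} : Set G) ⊆ (twoStab a t : Set G) := by
    simp only [Set.singleton_subset_iff, SetLike.mem_coe]
    exact hd.1
  have hcm : ∀ x : G, d * x = x * d → x ∈ (Subgroup.centralizer {d} : Subgroup G) :=
    fun x hx => Subgroup.mem_centralizer_singleton_iff.2 hx.symm
  refine ⟨⟨?_, ?_, ?_, ?_, ?_, ?_, ?_, ?_, ?_, ?_⟩, ?_⟩
  · rw [MulAction.is_two_pretransitive_iff]
    intro b₁ b₂ c₁ c₂ hb hc
    obtain ⟨g, hg, e1, e2⟩ := centralizer_two_transitive h.hS (h.three_fixed hd)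
      (b₁ := (b₁ : Ω)) (b₂ := (b₂ : Ω)) (c₁ := (c₁ : Ω)) (c₂ := (c₂ : Ω))
      (fun x hx => by rw [Set.mem_singleton_iff] at hx; subst hx; exact b₁.2)
      (fun x hx => by rw [Set.mem_singleton_iff] at hx; subst hx; exact b₂.2)
      (fun x hx => by rw [Set.mem_singleton_iff] at hx; subst hx; exact c₁.2)
      (fun x hx => by rw [Set.mem_singleton_iff] at hx; subst hx; exact c₂.2)
      (fun e => hb (Subtype.ext e)) (fun e => hc (Subtype.ext e))
    exact ⟨QuotientGroup.mk (⟨g, hg⟩ : (Subgroup.centralizer {d} : Subgroup G)),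
      Subtype.ext e1, Subtype.ext e2⟩
  · rw [Setup.fixT, ← QuotientGroup.mk_mul, ← QuotientGroup.mk_one]
    exact congrArg _ (Subtype.ext h.hS.mul_self)
  · intro e
    have e' := congrArg (fun x : CentGrp Ω d => ((x • fixA hd : FixPts Ω d) : Ω)) e
    simp only [one_smul] at e'
    rw [h.fixT_smul hd] at e'
    exact t_smul_ne h.hS e'
  · intro e
    have e' := congrArg Subtype.val (mem_stabilizer_iff.1 e)
    rw [h.fixT_smul hd] at e'
    exact t_smul_ne h.hS e'
  · intro x hx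
    obtain ⟨g, hg, rfl⟩ := mem_fixQ.1 hx
    exact Subtype.ext (Q_fix h.hS hg)
  · intro y hy x hx
    obtain ⟨y, rfl⟩ := QuotientGroup.mk_surjective y
    obtain ⟨g, hg, rfl⟩ := mem_fixQ.1 hx
    have hya : (y : G) • a = a := congrArg Subtype.val (mem_stabilizer_iff.1 hy)
    refine mem_fixQ.2 ⟨y * g * y⁻¹, conj_Q h.hS hya hg, ?_⟩
    rw [QuotientGroup.mk_mul, QuotientGroup.mk_mul, QuotientGroup.mk_inv]
  · rw [eq_bot_iff]
    rintro x ⟨hx, hxb⟩
    obtain ⟨g, hg, rfl⟩ := mem_fixQ.1 hx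
    rw [Subgroup.mem_bot, h.fixQ_eq_one hd hg (mem_stabilizer_iff.1 hxb)]
    rfl
  · refine le_antisymm (sup_le ?_ inf_le_left) ?_
    · intro x hx
      obtain ⟨g, hg, rfl⟩ := mem_fixQ.1 hx
      exact Subtype.ext (Q_fix h.hS hg)
    · intro x hx
      obtain ⟨g, rfl⟩ := QuotientGroup.mk_surjective x
      have hga : (g : G) • a = a := congrArg Subtype.val (mem_stabilizer_iff.1 hx)
      have hmem : (g : G) ∈ (Subgroup.centralizer {d} ⊓ Q) ⊔
          (Subgroup.centralizer {d} ⊓ twoStab a t) := by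
        rw [centralizer_inf_stabilizer h.hS hX]
        exact ⟨g.2, hga⟩
      have hle : ((Subgroup.centralizer {d} ⊓ Q) ⊔ (Subgroup.centralizer {d} ⊓ twoStab a t)) ≤
          ((fixQ Ω Q d ⊔ (stabilizer (CentGrp Ω d) (fixA hd) ⊓
              stabilizer (CentGrp Ω d) (h.fixT hd • fixA hd))).comap
            (QuotientGroup.mk' (centAct Ω d).ker)).map
            (Subgroup.centralizer {d} : Subgroup G).subtype := by
        refine sup_le ?_ ?_
        · rintro y ⟨hyc, hyQ⟩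
          exact ⟨⟨y, hyc⟩, Subgroup.mem_sup_left (mem_fixQ.2 ⟨⟨y, hyc⟩, hyQ, rfl⟩), rfl⟩
        · rintro y ⟨hyc, hyD⟩
          refine ⟨⟨y, hyc⟩, Subgroup.mem_sup_right ⟨?_, ?_⟩, rfl⟩
          · exact Subtype.ext (mem_twoStab.1 hyD).1
          · refine Subtype.ext ?_
            rw [QuotientGroup.mk'_apply, centGrp_smul, h.fixT_smul hd]
            exact (mem_twoStab.1 hyD).2
      obtain ⟨y, hy, e⟩ := hle hmem
      obtain rfl : y = g := Subtype.ext e
      exact hy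
  · have hz0 : (⟨z, hcm z hzd⟩ : (Subgroup.centralizer {d} : Subgroup G)) ≠ 1 :=
      fun e => hz1 (congrArg Subtype.val e)
    have hmem : (QuotientGroup.mk (⟨z, hcm z hzd⟩ : (Subgroup.centralizer {d} : Subgroup G)) :
        CentGrp Ω d) ∈ fixQ Ω Q d := mem_fixQ.2 ⟨_, h.zSub_le hz, rfl⟩
    have h1 : orderOf (⟨_, hmem⟩ : fixQ Ω Q d) = 2 := by
      refine orderOf_eq_prime (Subtype.ext ?_) ?_
      · rw [Subgroup.coe_pow, pow_two, ← QuotientGroup.mk_mul, Subgroup.coe_one,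
          ← QuotientGroup.mk_one]
        exact congrArg _ (Subtype.ext hz.2)
      · intro e
        refine hz0 (h.fixQ_eq_one hd (h.zSub_le hz) ?_)
        rw [show (QuotientGroup.mk (⟨z, hcm z hzd⟩ :
          (Subgroup.centralizer {d} : Subgroup G)) : CentGrp Ω d) = 1 from congrArg Subtype.val e,
          one_smul]
    rw [even_iff_two_dvd, ← h1]
    exact orderOf_dvd_natCard _
  · set S := stabilizer (CentGrp Ω d) (fixA hd) ⊓
      stabilizer (CentGrp Ω d) (h.fixT hd • fixA hd) with hS'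
    refine h.hS.odd_card.of_dvd_nat ?_
    have hsurj : Function.Surjective (fun g : (twoStab a t).subgroupOf (Subgroup.centralizer {d}) =>
        (⟨QuotientGroup.mk (g : (Subgroup.centralizer {d} : Subgroup G)),
          Subtype.ext (mem_twoStab.1 (Subgroup.mem_subgroupOf.1 g.2)).1, Subtype.ext (by
            rw [centGrp_smul, h.fixT_smul hd]
            exact (mem_twoStab.1 (Subgroup.mem_subgroupOf.1 g.2)).2)⟩ : S)) := by
      rintro ⟨x, hxa, hxb⟩
      obtain ⟨g, rfl⟩ := QuotientGroup.mk_surjective x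
      refine ⟨⟨g, Subgroup.mem_subgroupOf.2 (mem_twoStab.2 ⟨?_, ?_⟩)⟩, rfl⟩
      · exact congrArg Subtype.val (mem_stabilizer_iff.1 hxa)
      · have e' := congrArg Subtype.val (mem_stabilizer_iff.1 hxb)
        rwa [centGrp_smul, h.fixT_smul hd] at e'
    let f : (twoStab a t).subgroupOf (Subgroup.centralizer {d}) →* S :=
      ((QuotientGroup.mk' (centAct Ω d).ker).comp (Subgroup.subtype _)).codRestrict S (fun g =>
        ⟨Subtype.ext (mem_twoStab.1 (Subgroup.mem_subgroupOf.1 g.2)).1, Subtype.ext (by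
          rw [MonoidHom.comp_apply, QuotientGroup.mk'_apply, centGrp_smul, h.fixT_smul hd]
          exact (mem_twoStab.1 (Subgroup.mem_subgroupOf.1 g.2)).2)⟩)
    refine (Subgroup.card_dvd_of_surjective f fun x => ?_).trans ?_
    · obtain ⟨g, hg⟩ := hsurj x
      exact ⟨g, hg⟩
    exact Subgroup.card_comap_dvd_of_injective (twoStab a t)
      (Subgroup.centralizer {d}).subtype (Subgroup.subtype_injective _)
  · have hinj : ∀ {x y : G} (hx : d * x = x * d) (hy : d * y = y * d), x ∈ Q → y ∈ Q →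
        (QuotientGroup.mk (⟨x, hcm x hx⟩ : (Subgroup.centralizer {d} : Subgroup G)) :
          CentGrp Ω d) = QuotientGroup.mk (⟨y, hcm y hy⟩ :
          (Subgroup.centralizer {d} : Subgroup G)) → x = y := by
      intro x y hx hy hxQ hyQ e
      have e1 := h.fixQ_eq_one hd
        (g := (⟨x, hcm x hx⟩ : (Subgroup.centralizer {d} : Subgroup G))⁻¹ * ⟨y, hcm y hy⟩)
        (mul_mem (inv_mem hxQ) hyQ) (by
          rw [QuotientGroup.mk_mul, QuotientGroup.mk_inv, e, inv_mul_cancel, one_smul])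
      exact congrArg Subtype.val (inv_mul_eq_one.1 e1)
    refine ⟨QuotientGroup.mk ⟨z, hcm z hzd⟩, QuotientGroup.mk ⟨z', hcm z' hzd'⟩,
      fun e => hz1 (hinj hzd (by rw [mul_one, one_mul]) (h.zSub_le hz) Q.one_mem e),
      fun e => hz1' (hinj hzd' (by rw [mul_one, one_mul]) (h.zSub_le hz') Q.one_mem e),
      fun e => hne (hinj hzd hzd' (h.zSub_le hz) (h.zSub_le hz') e), ?_, ?_, ?_⟩
    · rw [← QuotientGroup.mk_mul, ← QuotientGroup.mk_one]
      exact congrArg _ (Subtype.ext hz.2)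
    · rw [← QuotientGroup.mk_mul, ← QuotientGroup.mk_one]
      exact congrArg _ (Subtype.ext hz'.2)
    · rw [← QuotientGroup.mk_mul, ← QuotientGroup.mk_mul]
      exact congrArg _ (Subtype.ext (h.z_comm hz hz'))

variable [FaithfulSMul G Ω]

theorem card_centGrp_lt (hd1 : d ≠ 1) : Nat.card (CentGrp Ω d) < Nat.card G := by
  refine lt_of_le_of_lt (Nat.le_of_dvd Nat.card_pos (Subgroup.card_quotient_dvd_card _)) ?_
  refine lt_of_le_of_ne (Subgroup.card_le_card_group _) fun e => ?_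
  have e' := Subgroup.eq_top_of_card_eq _ e
  haveI := isPretransitive h.hS
  refine hd1 (h.eq_one_of_fix_all fun c => ?_)
  obtain ⟨g, rfl⟩ := MulAction.exists_smul_eq G a c
  have : g ∈ (Subgroup.centralizer {d} : Subgroup G) := by rw [e']; trivial
  rw [smul_smul, ← Subgroup.mem_centralizer_singleton_iff.1 this, mul_smul,
    (mem_twoStab.1 hd.1).1]

/-- The consequences of the inductive hypothesis for the fixed points of `d ∈ V`. -/
theorem induced (hd1 : d ≠ 1) (IH : IndHyp.{u, v} (Nat.card G)) {z : G} (hz : z ∈ h.zSub)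
    (hz1 : z ≠ 1) (hzs : z ≠ h.sElt) (hzd : d * z = z * d) :
    (∀ x ∈ Q, d * x = x * d → ∃ k : ℕ, x ^ 2 ^ k = 1) ∧
    ((∀ x ∈ Q, ∀ y ∈ Q, d * x = x * d → d * y = y * d → x * y = y * x) →
      ∀ x ∈ Q, d * x = x * d → x ∈ h.zSub) ∧
    (Nat.card ↥(Subgroup.centralizer {d} ⊓ Q) = Nat.card ↥(Subgroup.centralizer {d} ⊓ h.zSub) ^ 3 →
      ∃ g ∈ vSub a t, g * d = d * g ∧ (∀ x ∈ h.zSub, d * x = x * d → g * x = x * g) ∧
        ∃ c : Ω, d • c = c ∧ g • c ≠ c) := by
  have hsd : d * h.sElt = h.sElt * d := (h.v_iff_s hd.1).1 hd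
  have hcm : ∀ x : G, d * x = x * d → x ∈ (Subgroup.centralizer {d} : Subgroup G) :=
    fun x hx => Subgroup.mem_centralizer_singleton_iff.2 hx.symm
  set h' := h.fixed_setup hd h.s_mem h.s_ne hsd hz hz1 hzd hzs.symm with hh'
  obtain ⟨c1, c2, c3⟩ := IH (CentGrp Ω d) (FixPts Ω d) _ _ _ h' (h.card_centGrp_lt hd hd1)
  let π : (Q.subgroupOf (Subgroup.centralizer {d})) → fixQ Ω Q d := fun g =>
    ⟨QuotientGroup.mk (g : (Subgroup.centralizer {d} : Subgroup G)),
      mem_fixQ.2 ⟨g, Subgroup.mem_subgroupOf.1 g.2, rfl⟩⟩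
  have hker : ∀ g : (Subgroup.centralizer {d} : Subgroup G), (g : G) ∈ Q →
      (QuotientGroup.mk g : CentGrp Ω d) = 1 → g = 1 := fun g hg e =>
    h.fixQ_eq_one hd hg (by rw [e, one_smul])
  have hπinj : ∀ g g' : (Subgroup.centralizer {d} : Subgroup G), (g : G) ∈ Q → (g' : G) ∈ Q →
      (QuotientGroup.mk g : CentGrp Ω d) = QuotientGroup.mk g' → g = g' := by
    intro g g' hg hg' e
    exact (inv_mul_eq_one.1 (hker (g⁻¹ * g') (mul_mem (inv_mem hg) hg') (by
      rw [QuotientGroup.mk_mul, QuotientGroup.mk_inv, e, inv_mul_cancel])))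
  have hzmem : ∀ g : (Subgroup.centralizer {d} : Subgroup G), (g : G) ∈ h.zSub →
      (QuotientGroup.mk g : CentGrp Ω d) ∈ h'.zSub := by
    intro g hg
    refine h'.mem_zSub.2 ⟨Subtype.ext hg.1, ?_⟩
    rw [← QuotientGroup.mk_mul, show g * g = 1 from Subtype.ext hg.2, QuotientGroup.mk_one]
  have hzpre : ∀ g : (Subgroup.centralizer {d} : Subgroup G), (g : G) ∈ Q →
      (QuotientGroup.mk g : CentGrp Ω d) ∈ h'.zSub → (g : G) ∈ h.zSub := by
    intro g hg e
    refine h.mem_zSub.2 ⟨Q_fix h.hS hg, congrArg Subtype.val (hker (g * g) (mul_mem hg hg) ?_)⟩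
    rw [QuotientGroup.mk_mul]
    exact e.2
  refine ⟨fun x hx hxd => ?_, fun hab x hx hxd => ?_, fun hcard => ?_⟩
  · obtain ⟨k, hk⟩ := c1 ⟨_, mem_fixQ.2 ⟨⟨x, hcm x hxd⟩, hx, rfl⟩⟩
    refine ⟨k, congrArg Subtype.val (hker ((⟨x, hcm x hxd⟩ :
      (Subgroup.centralizer {d} : Subgroup G)) ^ 2 ^ k) (pow_mem hx _) ?_)⟩
    rw [QuotientGroup.mk_pow]
    exact congrArg Subtype.val hk
  · refine hzpre ⟨x, hcm x hxd⟩ hx (c2 ?_ (mem_fixQ.2 ⟨⟨x, hcm x hxd⟩, hx, rfl⟩))
    intro p hp q hq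
    obtain ⟨p, hpQ, rfl⟩ := mem_fixQ.1 hp
    obtain ⟨q, hqQ, rfl⟩ := mem_fixQ.1 hq
    rw [← QuotientGroup.mk_mul, ← QuotientGroup.mk_mul]
    exact congrArg _ (Subtype.ext (hab _ hpQ _ hqQ
      (Subgroup.mem_centralizer_singleton_iff.1 p.2).symm
      (Subgroup.mem_centralizer_singleton_iff.1 q.2).symm))
  · have e1 : Nat.card (fixQ Ω Q d) = Nat.card ↥(Subgroup.centralizer {d} ⊓ Q) := by
      refine (Nat.card_eq_of_bijective (fun g : ↥(Subgroup.centralizer {d} ⊓ Q) =>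
        (⟨QuotientGroup.mk (⟨g, g.2.1⟩ : (Subgroup.centralizer {d} : Subgroup G)),
          mem_fixQ.2 ⟨⟨g, g.2.1⟩, g.2.2, rfl⟩⟩ : fixQ Ω Q d)) ⟨?_, ?_⟩).symm
      · intro g g' e
        have e2 := hπinj ⟨g, g.2.1⟩ ⟨g', g'.2.1⟩ g.2.2 g'.2.2 (congrArg Subtype.val e)
        exact Subtype.ext (congrArg Subtype.val e2 :)
      · rintro ⟨x, hx⟩
        obtain ⟨g, hg, rfl⟩ := mem_fixQ.1 hx
        exact ⟨⟨g, g.2, hg⟩, rfl⟩
    have e2 : Nat.card h'.zSub = Nat.card ↥(Subgroup.centralizer {d} ⊓ h.zSub) := by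
      refine (Nat.card_eq_of_bijective (fun g : ↥(Subgroup.centralizer {d} ⊓ h.zSub) =>
        (⟨QuotientGroup.mk (⟨g, g.2.1⟩ : (Subgroup.centralizer {d} : Subgroup G)),
          hzmem _ g.2.2⟩ : h'.zSub)) ⟨?_, ?_⟩).symm
      · intro g g' e
        have e2 := hπinj ⟨g, g.2.1⟩ ⟨g', g'.2.1⟩ (h.zSub_le g.2.2) (h.zSub_le g'.2.2)
          (congrArg Subtype.val e)
        exact Subtype.ext (congrArg Subtype.val e2 :)
      · rintro ⟨x, hx⟩
        obtain ⟨g, hg, rfl⟩ := mem_fixQ.1 (h'.zSub_le hx)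
        exact ⟨⟨g, g.2, hzpre g hg hx⟩, rfl⟩
    obtain ⟨⟨x, hx⟩, hx1⟩ := Subgroup.ne_bot_iff_exists_ne_one.1
      (c3 (by rw [e1, e2]; exact hcard))
    obtain ⟨g, rfl⟩ := QuotientGroup.mk_surjective x
    have hgD : (g : G) ∈ twoStab a t := by
      refine mem_twoStab.2 ⟨congrArg Subtype.val (mem_stabilizer_iff.1 hx.1.1.1), ?_⟩
      have e' := congrArg Subtype.val (mem_stabilizer_iff.1 hx.1.1.2)
      rwa [centGrp_smul, h.fixT_smul hd] at e'
    have hgz : ∀ y ∈ h.zSub, d * y = y * d → (g : G) * y = y * g := by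
      intro y hy hyd
      have e3 := h'.w_z hx (hzmem ⟨y, hcm y hyd⟩ hy)
      have hcy : (g : G) * y * (g : G)⁻¹ ∈ Q :=
        conj_Q h.hS (D_le h.hS hgD) (h.zSub_le hy)
      have e4 := hπinj (g * ⟨y, hcm y hyd⟩ * g⁻¹) ⟨y, hcm y hyd⟩ hcy (h.zSub_le hy) (by
        rw [QuotientGroup.mk_mul, QuotientGroup.mk_mul, e3, QuotientGroup.mk_inv,
          mul_inv_cancel_right])
      exact mul_inv_eq_iff_eq_mul.1 (congrArg Subtype.val e4)
    refine ⟨g, (h.v_iff_s hgD).2 (hgz _ h.s_mem hsd),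
      Subgroup.mem_centralizer_singleton_iff.1 g.2, hgz, ?_⟩
    by_contra hall
    push Not at hall
    refine hx1 (Subtype.ext ?_)
    refine (QuotientGroup.eq_one_iff g).2 (MonoidHom.mem_ker.2 (Equiv.ext fun c => Subtype.ext ?_))
    exact hall c c.2

end Setup

end Cfsg.Agent.Lib.SplitRankOne70
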