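import Cfsg.Agent.Lib.SplitRankOne70.QInd
import Cfsg.Agent.Lib.SplitRankOne70.Induced
import Cfsg.Agent.Lib.NilpotentPerm.Basic

/-!
Inertia groups in `D` of irreducible characters of `Q / Z`, when `Q` has abelian Sylow 2-subgroup.
-/

set_option autoImplicit false
set_option linter.unusedSectionVars false
set_option linter.style.haveILetI false

namespace Cfsg.Agent.Lib.SplitRankOne70

open Cfsg MulAction Cfsg.Agent.Lib.RankOne Cfsg.Agent.Lib.Chars
open scoped ComplexConjugate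

universe u v

variable {G : Type u} {Ω : Type v} [Group G] [MulAction G Ω] [Finite G] {a : Ω} {t : G}
  {Q : Subgroup G}

/-- The elements of `Q` of 2-power order commute. -/
def TwoAbelian (Q : Subgroup G) : Prop :=
  ∀ x ∈ Q, ∀ y ∈ Q, (∃ i : ℕ, x ^ 2 ^ i = 1) → (∃ j : ℕ, y ^ 2 ^ j = 1) → x * y = y * x

/-- `χ` is a non-principal irreducible character of `Q` trivial on `Z`. -/
def Setup.IsQuotIrr (h : Setup a t Q) (χ : IrrCharacter Q) : Prop :=
  (∀ z : Q, (z : G) ∈ h.zSub → (χ : Q → ℂ) z = (χ : Q → ℂ) 1) ∧ χ ≠ trivialIrr Q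

namespace Setup

variable (h : Setup a t Q)
include h

/-- `Z` as a subgroup of `Q`. -/
abbrev zQ : Subgroup Q := h.zSub.subgroupOf Q

theorem zQ_normal : h.zQ.Normal := ⟨fun z hz g => by
  rw [Subgroup.mem_subgroupOf] at hz ⊢
  simpa using h.conj_z (h.hS.le g.2) hz⟩

theorem card_zQ : Nat.card h.zQ = Nat.card h.zSub :=
  Nat.card_congr (Subgroup.subgroupOfEquivOfLe h.zSub_le).toEquiv

theorem qConj_mem_zQ (d : twoStab a t) {z : Q} (hz : z ∈ h.zQ) : h.qConj d z ∈ h.zQ := by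
  rw [Subgroup.mem_subgroupOf] at hz ⊢
  simpa [qConj_coe] using h.conj_z (inv_mem (D_le h.hS d.2)) hz

theorem qConj_map_zQ (d : twoStab a t) :
    h.zQ.map ((h.qConj d : Q ≃* Q) : Q →* Q) = h.zQ := by
  refine Subgroup.eq_of_le_of_card_ge ?_ ?_
  · rintro _ ⟨z, hz, rfl⟩
    exact h.qConj_mem_zQ d hz
  · rw [Subgroup.card_map_of_injective (h.qConj d).injective]

theorem cj_quotIrr (d : twoStab a t) {χ : IrrCharacter Q} (hχ : h.IsQuotIrr χ) :
    h.IsQuotIrr ⟨h.cj d (χ : Q → ℂ), h.cj_irr d χ.2⟩ := by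
  refine ⟨fun z hz => ?_, fun e => hχ.2 (Subtype.ext (funext fun x => ?_))⟩
  · show (χ : Q → ℂ) (h.qConj d z) = (χ : Q → ℂ) (h.qConj d 1)
    rw [map_one, hχ.1 _ (Subgroup.mem_subgroupOf.1 (h.qConj_mem_zQ d
      (Subgroup.mem_subgroupOf.2 hz)))]
  · have := congrFun (congrArg Subtype.val e) ((h.qConj d).symm x)
    simpa [Setup.cj] using this

/-- A prime order element of `D` fixing such a character centralises an element outside `Z`. -/
theorem exists_fix_outside {d : twoStab a t} {p : ℕ} (hp : p.Prime) (hd : orderOf d = p)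
    {χ : IrrCharacter Q} (hχ : h.IsQuotIrr χ) (hfix : h.cj d (χ : Q → ℂ) = χ) :
    ∃ y ∈ Q, y ∉ h.zSub ∧ (d : G) * y = y * d := by
  classical
  haveI : Fact p.Prime := ⟨hp⟩
  haveI := Fintype.ofFinite Q
  haveI := h.zQ_normal
  have hpodd : p ≠ 2 := by
    intro e
    subst e
    have h2 : 2 ∣ Nat.card (twoStab a t) := hd ▸ orderOf_dvd_natCard d
    exact (Nat.not_even_iff_odd.2 h.hS.odd_card) (even_iff_two_dvd.2 h2)
  obtain ⟨n, -, hn⟩ := h.exists_card_zSub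
  have hpq : ¬ p ∣ Nat.card h.zQ := by
    rw [h.card_zQ, hn]
    intro e
    exact hpodd ((Nat.prime_dvd_prime_iff_eq hp Nat.prime_two).1 (hp.dvd_of_dvd_pow e))
  have hpow : ∀ m : ℕ, ∀ x : Q,
      ((h.qConj d).toEquiv ^ m : Equiv.Perm Q) x = h.qConj (d ^ m) x := by
    intro m
    induction m with
    | zero => intro x; rw [pow_zero, pow_zero, h.qConj_one]; rfl
    | succ m ih =>
      intro x
      rw [pow_succ', Equiv.Perm.mul_apply, ih, pow_succ, h.qConj_mul]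
      rfl
  -- a set of size prime to `p`, invariant under `d`, gives the element
  have key : ∀ S : Set Q, (∀ x, x ∈ S ↔ h.qConj d x ∈ S) → ¬ p ∣ Nat.card S →
      ∃ x ∈ S, h.qConj d x = x := by
    intro S hS hc
    let σ : Equiv.Perm S := Equiv.subtypeEquiv (h.qConj d).toEquiv hS
    have hσ : ∀ (m : ℕ) (x : S), ((σ ^ m) x : Q) = ((h.qConj d).toEquiv ^ m : Equiv.Perm Q) x := by
      intro m
      induction m with
      | zero => intro x; rfl
      | succ m ih => intro x; rw [pow_succ', pow_succ', Equiv.Perm.mul_apply,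
          Equiv.Perm.mul_apply, ← ih x]; rfl
    obtain ⟨x, hx⟩ := Equiv.Perm.exists_fixed_point_of_prime (α := S) (p := p) (n := 1)
      (by rwa [← Nat.card_eq_fintype_card]) (σ := σ) (by
        refine Equiv.ext fun x => Subtype.ext ?_
        rw [hσ, pow_one, hpow, ← hd, pow_orderOf_eq_one, h.qConj_one]
        rfl)
    exact ⟨x, x.2, congrArg Subtype.val hx⟩
  have finish : ∀ x : Q, x ∉ h.zQ → h.qConj d x = x →
      ∃ y ∈ Q, y ∉ h.zSub ∧ (d : G) * y = y * d := by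
    intro x hx hxd
    refine ⟨x, x.2, fun e => hx (Subgroup.mem_subgroupOf.2 e), ?_⟩
    have e : (d : G)⁻¹ * x * d = x := congrArg Subtype.val hxd
    calc (d : G) * x = d * ((d : G)⁻¹ * x * d) := by rw [e]
      _ = (x : G) * d := by group
  by_cases hpN : p ∣ Nat.card Q
  · obtain ⟨x, hx, hxd⟩ := key {x : Q | x ∉ h.zQ} (fun x => by
      refine not_congr ⟨h.qConj_mem_zQ d, fun hx => ?_⟩
      rw [← h.qConj_map_zQ d] at hx
      obtain ⟨z, hz, e⟩ := hx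
      rwa [← (h.qConj d).injective e]) (by
      intro e
      refine hpq ?_
      have e1 : Nat.card h.zQ + Nat.card {x : Q | x ∉ h.zQ} = Nat.card Q := by
        have := Set.ncard_add_ncard_compl (h.zQ : Set Q)
        rwa [← Nat.card_coe_set_eq, ← Nat.card_coe_set_eq] at this
      exact (Nat.dvd_add_left e).1 (e1 ▸ hpN))
    exact finish x hx hxd
  obtain ⟨ψ, hψ⟩ := exists_irr_quotient h.zQ χ fun z hz => hχ.1 z (Subgroup.mem_subgroupOf.1 hz)
  let α : (Q ⧸ h.zQ) ≃* (Q ⧸ h.zQ) := QuotientGroup.congr _ _ (h.qConj d) (h.qConj_map_zQ d)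
  have hα : ∀ x : Q, α (QuotientGroup.mk x) = QuotientGroup.mk (h.qConj d x) := fun x => rfl
  have h2 : 1 < Nat.card {φ : IrrCharacter (Q ⧸ h.zQ) // (φ : _ → ℂ) ∘ α = φ} := by
    refine Finite.one_lt_card_iff_nontrivial.2 ⟨⟨trivialIrr _, rfl⟩, ⟨ψ, funext fun x => ?_⟩,
      fun e => hχ.2 (Subtype.ext (funext fun x => ?_))⟩
    · obtain ⟨x, rfl⟩ := QuotientGroup.mk_surjective x
      rw [Function.comp_apply, hα, hψ, hψ]
      exact congrFun hfix x
    · rw [← hψ, show ψ = trivialIrr _ from (congrArg Subtype.val e).symm]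
      rfl
  rw [Burnside.card_fixed_irrCharacter] at h2
  obtain ⟨⟨C, hC⟩, hne⟩ := @exists_ne _ (Finite.one_lt_card_iff_nontrivial.1 h2)
    ⟨ConjClasses.mk 1, by
      show ConjClasses.mk (α 1) = ConjClasses.mk 1
      rw [map_one]⟩
  obtain ⟨c, rfl⟩ := ConjClasses.exists_rep C
  have hc1 : ∀ y, IsConj c y → y ≠ 1 := by
    rintro y hy rfl
    exact hne (Subtype.ext (ConjClasses.mk_eq_mk_iff_isConj.2 hy))
  have hCα : IsConj c (α c) := (ConjClasses.mk_eq_mk_iff_isConj.1 hC).symm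
  set T : Set (Q ⧸ h.zQ) := {y | IsConj c y}
  have hTα : ∀ y, y ∈ T ↔ α y ∈ T := by
    intro y
    show IsConj c y ↔ IsConj c (α y)
    refine ⟨fun e => hCα.trans (α.toMonoidHom.map_isConj e), fun e => ?_⟩
    have e2 : IsConj (α c) (α y) := hCα.symm.trans e
    simpa using α.symm.toMonoidHom.map_isConj e2
  obtain ⟨x, hx, hxd⟩ := key (QuotientGroup.mk ⁻¹' T) (fun x => by
      rw [Set.mem_preimage, Set.mem_preimage, hTα, hα]) (by
    rw [Nat.card_congr (QuotientGroup.preimageMkEquivSubgroupProdSet h.zQ T), Nat.card_prod]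
    intro e
    rcases (Nat.Prime.dvd_mul hp).1 e with e | e
    · exact hpq e
    · rw [show Nat.card T = Nat.card {y : Q ⧸ h.zQ // IsConj c y} from rfl,
        card_conjClass_eq_index] at e
      exact hpN ((e.trans (Subgroup.index_dvd_card _)).trans
        (Subgroup.card_quotient_dvd_card _)))
  exact finish x (fun e => hc1 _ hx ((QuotientGroup.eq_one_iff x).2 e)) hxd

/-- An element of `D` centralising an element outside `Z` is conjugate in `D` into `V`, with an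
element outside `Z` still centralised. -/
theorem exists_conj_V {d : G} (hd : d ∈ twoStab a t) {y : G} (hy : y ∈ Q) (hyz : y ∉ h.zSub)
    (e : d * y = y * d) :
    ∃ k ∈ twoStab a t, k * d * k⁻¹ ∈ vSub a t ∧ k * y * k⁻¹ ∈ Q ∧ k * y * k⁻¹ ∉ h.zSub ∧
      k * d * k⁻¹ * (k * y * k⁻¹) = k * y * k⁻¹ * (k * d * k⁻¹) := by
  have hX : ({d} : Set G) ⊆ (twoStab a t : Set G) := by simpa using hd
  obtain ⟨ha, hb⟩ := fix_of_subset_D h.hS hX
  have hy1 : y ≠ 1 := fun e' => hyz (e' ▸ one_mem h.zSub)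
  have hqb : y • t • a ≠ t • a := fun e' => hy1 (eq_one_of_fix h.hS hy e')
  have hqa : y • t • a ≠ a := fun e' =>
    t_smul_ne h.hS (MulAction.injective y (e'.trans (Q_fix h.hS hy).symm))
  have h3 : ∃ b c p : Ω, b ≠ c ∧ b ≠ p ∧ c ≠ p ∧
      ∀ x ∈ ({d} : Set G), x • b = b ∧ x • c = c ∧ x • p = p :=
    ⟨a, t • a, y • t • a, (t_smul_ne h.hS).symm, hqa.symm, hqb.symm, fun x hx => ⟨ha x hx, hb x hx,
      by
        rw [Set.mem_singleton_iff] at hx
        subst hx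
        rw [smul_smul, e, mul_smul, hb x rfl]⟩⟩
  obtain ⟨k, hk, hkt⟩ := exists_conj_into_centralizer h.hS hX h3
  refine ⟨k, hk, h.mem_vSub.2 ⟨mul_mem (mul_mem hk hd) (inv_mem hk), hkt d rfl⟩,
    conj_Q h.hS (D_le h.hS hk) hy, fun e' => hyz ?_, ?_⟩
  · simpa [mul_assoc] using h.conj_z (inv_mem (D_le h.hS hk)) e'
  · calc k * d * k⁻¹ * (k * y * k⁻¹) = k * (d * y) * k⁻¹ := by group
      _ = k * y * k⁻¹ * (k * d * k⁻¹) := by rw [e]; group

variable [FaithfulSMul G Ω] (IH : IndHyp.{u, v} (Nat.card G)) (hab : TwoAbelian Q)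
include IH hab

theorem cz_two {d : G} (hd : d ∈ vSub a t) (hd1 : d ≠ 1) {y : G} (hy : y ∈ Q) (hyz : y ∉ h.zSub)
    (e : d * y = y * d) {z : G} (hz : z ∈ h.zSub) (ez : d * z = z * d) :
    z = 1 ∨ z = h.sElt := by
  by_contra hcon
  rw [not_or] at hcon
  obtain ⟨c1, c2, -⟩ := h.induced hd hd1 IH hz hcon.1 hcon.2 ez
  exact hyz (c2 (fun x hx x' hx' ex ex' => hab x hx x' hx' (c1 x hx ex) (c1 x' hx' ex')) y hy e)

theorem not_w {d : G} (hd : d ∈ wSub a t) (hd1 : d ≠ 1) {y : G} (hy : y ∈ Q)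
    (e : d * y = y * d) : y ∈ h.zSub := by
  by_contra hyz
  have h4 := h.four_le_card_zSub
  have hsub : (h.zSub : Set G) ⊆ {1, h.sElt} := fun z hz =>
    h.cz_two IH hab hd.1 hd1 hy hyz e hz (h.w_z hd hz)
  have h2 : Set.ncard (h.zSub : Set G) ≤ 2 :=
    le_trans (Set.ncard_le_ncard hsub) (le_trans (Set.ncard_insert_le _ _) (by simp))
  rw [← Nat.card_coe_set_eq] at h2
  exact absurd (le_trans h4 h2) (by norm_num)

theorem stab_inf_kw {χ : IrrCharacter Q} (hχ : h.IsQuotIrr χ) :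
    h.stabCj (χ : Q → ℂ) ⊓ h.kwSub = ⊥ := by
  rw [eq_bot_iff]
  intro x hx
  rw [Subgroup.mem_bot]
  by_contra hx1
  obtain ⟨p, hp, hpd⟩ := Nat.exists_prime_and_dvd (mt orderOf_eq_one_iff.1 hx1)
  set d := x ^ (orderOf x / p) with hd
  have hdp : orderOf d = p := orderOf_pow_orderOf_div (orderOf_pos x).ne' hpd
  have hd1 : (d : G) ≠ 1 := fun e => hp.ne_one (by
    rw [← hdp, orderOf_eq_one_iff]; exact Subtype.ext e)
  obtain ⟨y, hy, hyz, e⟩ :=
    h.exists_fix_outside hp hdp hχ (h.mem_stabCj.1 (pow_mem hx.1 _))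
  obtain ⟨k, hk, hkV, hky, hkyz, hke⟩ := h.exists_conj_V d.2 hy hyz e
  have hkw : k * d * k⁻¹ ∈ wSub a t := by
    refine h.mem_kw_v ?_ hkV
    haveI := h.kw_normal
    have := Subgroup.Normal.conj_mem ‹h.kwSub.Normal› d (pow_mem hx.2 _) ⟨k, hk⟩
    simpa using Subgroup.mem_subgroupOf.1 this
  exact hkyz (h.not_w IH hab hkw (fun e' => hd1 (conj_eq_one_iff.1 e')) hky hke)

theorem stab_cz {χ : IrrCharacter Q} (hχ : h.IsQuotIrr χ) {x : twoStab a t}
    (hx : h.cj x (χ : Q → ℂ) = χ) (hx1 : x ≠ 1)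
    (hV : ∀ y ∈ h.stabCj (χ : Q → ℂ), (y : G) ∈ vSub a t) {z : G} (hz : z ∈ h.zSub)
    (ez : (x : G) * z = z * x) : z = 1 ∨ z = h.sElt := by
  obtain ⟨p, hp, hpd⟩ := Nat.exists_prime_and_dvd (mt orderOf_eq_one_iff.1 hx1)
  set d := x ^ (orderOf x / p) with hd
  have hdp : orderOf d = p := orderOf_pow_orderOf_div (orderOf_pos x).ne' hpd
  have hd1 : (d : G) ≠ 1 := fun e => hp.ne_one (by
    rw [← hdp, orderOf_eq_one_iff]; exact Subtype.ext e)
  obtain ⟨y, hy, hyz, e⟩ :=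
    h.exists_fix_outside hp hdp hχ (h.mem_stabCj.1 (pow_mem (h.mem_stabCj.2 hx) _))
  refine h.cz_two IH hab (hV d (pow_mem (h.mem_stabCj.2 hx) _)) hd1 hy hyz e hz ?_
  rw [hd, SubmonoidClass.coe_pow]
  exact Commute.pow_left ez _

/-- A conjugate of the character has its inertia group inside `V`. -/
theorem exists_normal_rep {χ : IrrCharacter Q} (hχ : h.IsQuotIrr χ) :
    ∃ k : twoStab a t, ∀ x ∈ h.stabCj (h.cj k (χ : Q → ℂ)), (x : G) ∈ vSub a t := by
  by_cases hbot : h.stabCj (χ : Q → ℂ) = ⊥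
  · refine ⟨1, fun x hx => ?_⟩
    rw [h.cj_one, hbot, Subgroup.mem_bot] at hx
    subst hx
    exact one_mem _
  obtain ⟨⟨x, hx⟩, hx1⟩ := Subgroup.ne_bot_iff_exists_ne_one.1 hbot
  have hx1' : x ≠ 1 := fun e => hx1 (Subtype.ext e)
  obtain ⟨p, hp, hpd⟩ := Nat.exists_prime_and_dvd (mt orderOf_eq_one_iff.1 hx1')
  set d := x ^ (orderOf x / p) with hd
  have hdp : orderOf d = p := orderOf_pow_orderOf_div (orderOf_pos x).ne' hpd
  obtain ⟨y, hy, hyz, e⟩ :=
    h.exists_fix_outside hp hdp hχ (h.mem_stabCj.1 (pow_mem hx _))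
  obtain ⟨k, hk, hkV, hky, hkyz, hke⟩ := h.exists_conj_V d.2 hy hyz e
  refine ⟨⟨k, hk⟩, fun g hg => ?_⟩
  have hχ' := h.cj_quotIrr ⟨k, hk⟩ hχ
  have hd' : (⟨k, hk⟩ * d * ⟨k, hk⟩⁻¹ : twoStab a t) ∈
      h.stabCj (h.cj ⟨k, hk⟩ (χ : Q → ℂ)) := by
    rw [mem_stabCj, ← h.cj_mul, mul_assoc _ _ (⟨k, hk⟩ : twoStab a t), mul_assoc,
      inv_mul_cancel, mul_one, h.cj_mul, h.mem_stabCj.1 (pow_mem hx _)]
  have hd'1 : (k * d * k⁻¹ : G) ≠ 1 := fun e' => hp.ne_one (by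
    rw [← hdp, orderOf_eq_one_iff]; exact Subtype.ext (conj_eq_one_iff.1 e'))
  haveI := h.isCyclic_of_inf_kw (h.stab_inf_kw IH hab hχ')
  letI := IsCyclic.commGroup (α := h.stabCj (h.cj ⟨k, hk⟩ (χ : Q → ℂ)))
  have hc : (g : G) * (k * d * k⁻¹) = k * d * k⁻¹ * g :=
    congrArg (fun w : h.stabCj (h.cj ⟨k, hk⟩ (χ : Q → ℂ)) => ((w : twoStab a t) : G))
      (mul_comm (⟨g, hg⟩ : h.stabCj (h.cj ⟨k, hk⟩ (χ : Q → ℂ))) ⟨_, hd'⟩)
  have hs : k * d * k⁻¹ * h.sElt = h.sElt * (k * d * k⁻¹) := (h.v_iff_s hkV.1).1 hkV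
  have hgs : (g : G) * h.sElt * (g : G)⁻¹ ∈ h.zSub := h.conj_z (D_le h.hS g.2) h.s_mem
  rcases h.cz_two IH hab hkV hd'1 hky hkyz hke hgs (by
    calc k * d * k⁻¹ * ((g : G) * h.sElt * (g : G)⁻¹)
        = (k * d * k⁻¹ * g) * h.sElt * (g : G)⁻¹ := by group
      _ = (g : G) * (k * d * k⁻¹ * h.sElt) * (g : G)⁻¹ := by rw [← hc]; group
      _ = (g : G) * h.sElt * ((k * d * k⁻¹) * (g : G)⁻¹) := by rw [hs]; group
      _ = (g : G) * h.sElt * (g : G)⁻¹ * (k * d * k⁻¹) := by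
        rw [show k * d * k⁻¹ * (g : G)⁻¹ = (g : G)⁻¹ * (g * (k * d * k⁻¹)) * (g : G)⁻¹ by group,
          hc]
        group) with e' | e'
  · exact absurd (conj_eq_one_iff.1 e') h.s_ne
  · exact (h.v_iff_s g.2).2 (mul_inv_eq_iff_eq_mul.1 e')

end Setup

end Cfsg.Agent.Lib.SplitRankOne70
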