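import Cfsg.Agent.Lib.SplitRankOne70.Stab
import Cfsg.Agent.Lib.SplitRankOne70.Inertia
import Cfsg.Agent.Lib.SuzukiTwo.Second

/-!
`Q = S × O` with `S` a Suzuki 2-group, and the irreducible characters of the two factors.
-/

set_option autoImplicit false
set_option linter.unusedSectionVars false
set_option linter.style.haveILetI false

namespace Cfsg.Agent.Lib.SplitRankOne70

open Cfsg MulAction Cfsg.Agent.Lib.RankOne Cfsg.Agent.Lib.Chars
open scoped ComplexConjugate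

universe u v

/-- `χ` is trivial on `N`. -/
def TrivOn {L : Type u} [Group L] (N : Subgroup L) (χ : IrrCharacter L) : Prop :=
  ∀ x ∈ N, (χ : L → ℂ) x = (χ : L → ℂ) 1

theorem TrivOn.mul_right {L : Type u} [Group L] [Finite L] {N : Subgroup L} [N.Normal]
    {χ : IrrCharacter L} (hχ : TrivOn N χ) (x : L) {y : L} (hy : y ∈ N) :
    (χ : L → ℂ) (x * y) = (χ : L → ℂ) x := by
  obtain ⟨ψ, hψ⟩ := exists_irr_quotient N χ hχ
  rw [← hψ, ← hψ, QuotientGroup.mk_mul, (QuotientGroup.eq_one_iff y).2 hy, mul_one]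

theorem TrivOn.sup {L : Type u} [Group L] [Finite L] {M N : Subgroup L} {χ : IrrCharacter L}
    (hM : TrivOn M χ) (hN : TrivOn N χ) : TrivOn (M ⊔ N) χ := by
  obtain ⟨n, ρ, -, hχ⟩ := χ.2
  have hle : M ⊔ N ≤ MonoidHom.ker ρ := by
    refine sup_le (fun x hx => ?_) (fun x hx => ?_)
    · rw [MonoidHom.mem_ker, rep_eq_one_iff, hχ]; exact hM x hx
    · rw [MonoidHom.mem_ker, rep_eq_one_iff, hχ]; exact hN x hx
  intro x hx
  rw [← hχ, ← rep_eq_one_iff]
  exact MonoidHom.mem_ker.1 (hle hx)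

theorem sum_image_inflate {L : Type u} [Group L] [Fintype L] (N : Subgroup L) [N.Normal]
    [DecidablePred (TrivOn N)] :
    ∑ χ ∈ (Finset.univ : Finset (IrrCharacter L)).filter (TrivOn N),
      ((χ : L → ℂ) 1) ^ 2 = (Nat.card (L ⧸ N) : ℂ) := by
  classical
  rw [← sum_degree_sq (G := L ⧸ N)]
  have himg : (Finset.univ : Finset (IrrCharacter L)).filter (TrivOn N) =
      (Finset.univ : Finset (IrrCharacter (L ⧸ N))).image (inflate N) := by
    ext χ
    simp only [Finset.mem_filter, Finset.mem_univ, true_and, Finset.mem_image]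
    constructor
    · intro hχ
      obtain ⟨ψ, hψ⟩ := exists_irr_quotient N χ hχ
      exact ⟨ψ, Subtype.ext (funext hψ)⟩
    · rintro ⟨ψ, rfl⟩ x hx
      show (ψ : L ⧸ N → ℂ) (QuotientGroup.mk x) = (ψ : L ⧸ N → ℂ) (QuotientGroup.mk 1)
      rw [(QuotientGroup.eq_one_iff x).2 hx]
      rfl
  rw [himg, Finset.sum_image fun x _ y _ e => inflate_injective _ e]
  rfl

variable {G : Type u} {Ω : Type v} [Group G] [MulAction G Ω] [Finite G] {a : Ω} {t : G}
  {Q : Subgroup G}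

/-- `Q = S × O`. -/
structure Split (h : Setup a t Q) (S O : Subgroup Q) : Prop where
  normS : S.Normal
  normO : O.Normal
  compl : Subgroup.IsComplement' S O
  comm : ∀ x ∈ S, ∀ y ∈ O, x * y = y * x
  memS : ∀ x, x ∈ S ↔ ∃ i : ℕ, x ^ 2 ^ i = 1
  memO : ∀ x, x ∈ O ↔ Odd (orderOf x)
  suzuki : IsSuzukiTwoGroup S

namespace Setup

variable (h : Setup a t Q)
include h

theorem exists_split (hna : ¬ TwoAbelian Q) : ∃ S O : Subgroup Q, Split h S O := by
  classical
  haveI : Fact (Nat.Prime 2) := ⟨Nat.prime_two⟩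
  have hnil := nilpotent_Q h.hS h.h2
  let P : Sylow 2 Q := default
  haveI hPn : (P : Subgroup Q).Normal := Coprime.normal_of_isNilpotent hnil P
  haveI : Subsingleton (Sylow 2 Q) := P.unique_of_normal hPn |>.instSubsingleton
  have hmemS : ∀ x : Q, x ∈ (P : Subgroup Q) ↔ ∃ i : ℕ, x ^ 2 ^ i = 1 := by
    intro x
    constructor
    · intro hx
      obtain ⟨i, hi⟩ := P.2 ⟨x, hx⟩
      exact ⟨i, congrArg Subtype.val hi⟩
    · rintro ⟨i, hi⟩
      have hp : IsPGroup 2 (Subgroup.zpowers x) := by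
        obtain ⟨j, -, hj⟩ := (Nat.dvd_prime_pow Nat.prime_two).1 (orderOf_dvd_of_pow_eq_one hi)
        exact IsPGroup.of_card (n := j) (by rw [Nat.card_zpowers, hj])
      obtain ⟨R, hR⟩ := hp.exists_le_sylow
      rw [Subsingleton.elim P R]
      exact hR (Subgroup.mem_zpowers x)
  obtain ⟨O, hO⟩ := Subgroup.exists_right_complement'_of_coprime P.card_coprime_index
  have hOodd : Odd (Nat.card O) := by
    rw [← hO.symm.index_eq_card, ← Nat.not_even_iff_odd, even_iff_two_dvd]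
    exact P.not_dvd_index
  have hcomm : ∀ x ∈ (P : Subgroup Q), ∀ y ∈ O, x * y = y * x := by
    intro x hx y hy
    obtain ⟨i, hi⟩ := (hmemS x).1 hx
    refine NilpotentPerm.commute_of_coprime_orderOf hnil ?_
    exact Nat.Coprime.coprime_dvd_left (orderOf_dvd_of_pow_eq_one hi)
      (Nat.Coprime.coprime_dvd_right (Subgroup.orderOf_dvd_natCard O hy)
        (Nat.Coprime.pow_left i (Nat.coprime_two_left.2 hOodd)))
  have hdec : ∀ x : Q, ∃ u ∈ (P : Subgroup Q), ∃ w ∈ O, x = u * w := by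
    intro x
    obtain ⟨⟨u, w⟩, e⟩ := hO.2 x
    exact ⟨u, u.2, w, w.2, e.symm⟩
  have hmemO : ∀ x : Q, x ∈ O ↔ Odd (orderOf x) := by
    intro x
    refine ⟨fun hx => hOodd.of_dvd_nat (Subgroup.orderOf_dvd_natCard O hx), fun hx => ?_⟩
    obtain ⟨u, hu, w, hw, rfl⟩ := hdec x
    obtain ⟨i, hi⟩ := (hmemS u).1 hu
    have hc : Commute u w := hcomm u hu w hw
    have e1 : u ^ orderOf (u * w) * w ^ orderOf (u * w) = 1 := by
      rw [← hc.mul_pow, pow_orderOf_eq_one]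
    have e2 : u ^ orderOf (u * w) = 1 := by
      refine Subgroup.disjoint_def.1 hO.disjoint (pow_mem hu _) ?_
      rw [eq_inv_of_mul_eq_one_left e1]
      exact inv_mem (pow_mem hw _)
    have e3 : u = 1 := by
      refine orderOf_eq_one_iff.1 (Nat.eq_one_of_dvd_coprimes ?_ (orderOf_dvd_of_pow_eq_one hi)
        (orderOf_dvd_of_pow_eq_one e2))
      exact Nat.Coprime.pow_left i (Nat.coprime_two_left.2 hx)
    rwa [e3, one_mul]
  refine ⟨P, O, hPn, ⟨fun y hy g => ?_⟩, hO, hcomm, hmemS, hmemO, ?_⟩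
  · rw [hmemO] at hy ⊢
    rwa [show g * y * g⁻¹ = MulAut.conj g y from rfl,
      show orderOf (MulAut.conj g y) = orderOf y from
        orderOf_injective (MulAut.conj g).toMonoidHom (MulEquiv.injective _) y]
  · refine (OddCond.sylowTwo_suzuki_or_abelian h.hS h.h2 h.oddSolvable P).resolve_left
      fun hab => hna ?_
    intro x hx y hy hxi hyi
    have hxP : (⟨x, hx⟩ : Q) ∈ (P : Subgroup Q) := (hmemS _).2 (by
      obtain ⟨i, hi⟩ := hxi; exact ⟨i, Subtype.ext hi⟩)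
    have hyP : (⟨y, hy⟩ : Q) ∈ (P : Subgroup Q) := (hmemS _).2 (by
      obtain ⟨i, hi⟩ := hyi; exact ⟨i, Subtype.ext hi⟩)
    exact congrArg (fun w : (P : Subgroup Q) => ((w : Q) : G))
      (hab.1.1 ⟨_, hxP⟩ ⟨_, hyP⟩)

theorem exists_lam0 : ∃ lam : h.zSub →* ℂˣ, (lam ⟨h.sElt, h.s_mem⟩ : ℂ) = -1 ∧
    ∀ d : twoStab a t, (d : G) ∈ vSub a t → ∀ (z : h.zSub)
      (hz : (d : G)⁻¹ * z * d ∈ h.zSub), lam ⟨_, hz⟩ = lam z := by
  classical
  letI := OddCond.invSubCommGroup h.hS h.h2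
  have hs1 : (⟨h.sElt, h.s_mem⟩ : h.zSub) ≠ 1 := fun e => h.s_ne (congrArg Subtype.val e)
  obtain ⟨χ, hχ⟩ := CommGroup.exists_apply_ne_one_of_hasEnoughRootsOfUnity h.zSub ℂ hs1
  have hχs : (χ ⟨h.sElt, h.s_mem⟩ : ℂ) = -1 := by
    have h2 : (χ ⟨h.sElt, h.s_mem⟩ : ℂ) ^ 2 = 1 := by
      rw [← Units.val_pow_eq_pow_val, ← map_pow, pow_two,
        show (⟨h.sElt, h.s_mem⟩ : h.zSub) * ⟨h.sElt, h.s_mem⟩ = 1 from
          Subtype.ext (h.z_sq h.s_mem), map_one, Units.val_one]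
    rcases sq_eq_one_iff.1 h2 with e' | e'
    · exact absurd (Units.ext e') hχ
    · exact e'
  haveI : Fintype (vSub a t) := Fintype.ofFinite _
  let c : vSub a t → h.zSub →* h.zSub := fun v => MonoidHom.mk'
    (fun z => ⟨(v : G)⁻¹ * z * v, by
      simpa using h.conj_z (inv_mem (D_le h.hS v.2.1)) z.2⟩)
    (fun z w => Subtype.ext (by push_cast; group))
  refine ⟨∏ v : vSub a t, χ.comp (c v), ?_, fun d hd z hz => ?_⟩
  · have hfix : ∀ v, c v ⟨h.sElt, h.s_mem⟩ = ⟨h.sElt, h.s_mem⟩ := fun v => Subtype.ext (by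
      have := h.v_s (inv_mem v.2)
      simpa [c] using this)
    rw [MonoidHom.finsetProd_apply, Units.coe_prod,
      Finset.prod_congr rfl (g := fun _ => (-1 : ℂ)) fun v _ => by
        rw [MonoidHom.comp_apply, hfix, hχs],
      Finset.prod_const, Finset.card_univ]
    refine Odd.neg_one_pow ?_
    rw [← Nat.card_eq_fintype_card]
    exact h.hS.odd_card.of_dvd_nat (Subgroup.card_dvd_of_le inf_le_left)
  · rw [MonoidHom.finsetProd_apply, MonoidHom.finsetProd_apply]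
    refine Fintype.prod_equiv (Equiv.mulLeft (⟨d, hd⟩ : vSub a t)) _ _ fun v => ?_
    simp only [MonoidHom.comp_apply, Equiv.coe_mulLeft]
    refine congrArg χ (Subtype.ext ?_)
    show (v : G)⁻¹ * ((d : G)⁻¹ * z * d) * v = ((d : G) * v)⁻¹ * z * ((d : G) * v)
    group

end Setup

namespace Split

variable {h : Setup a t Q} {S O : Subgroup Q} (hSp : Split h S O)
include hSp

theorem qConj_memS (d : twoStab a t) {x : Q} : h.qConj d x ∈ S ↔ x ∈ S := by
  simp only [hSp.memS, ← map_pow]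
  refine exists_congr fun i => ?_
  exact MulEquiv.map_eq_one_iff _

theorem qConj_memO (d : twoStab a t) {x : Q} : h.qConj d x ∈ O ↔ x ∈ O := by
  rw [hSp.memO, hSp.memO, show orderOf (h.qConj d x) = orderOf x from
    orderOf_injective (h.qConj d).toMonoidHom (h.qConj d).injective x]

theorem trivS_cj (d : twoStab a t) {χ : IrrCharacter Q} (hχ : TrivOn S χ) :
    TrivOn S ⟨_, h.cj_irr d χ.2⟩ := fun x hx => by
  show (χ : Q → ℂ) (h.qConj d x) = (χ : Q → ℂ) (h.qConj d 1)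
  rw [map_one, hχ _ ((hSp.qConj_memS d).2 hx)]

theorem trivO_cj (d : twoStab a t) {χ : IrrCharacter Q} (hχ : TrivOn O χ) :
    TrivOn O ⟨_, h.cj_irr d χ.2⟩ := fun x hx => by
  show (χ : Q → ℂ) (h.qConj d x) = (χ : Q → ℂ) (h.qConj d 1)
  rw [map_one, hχ _ ((hSp.qConj_memO d).2 hx)]

theorem zQ_le : h.zQ ≤ S := fun z hz => (hSp.memS z).2 ⟨1, by
  rw [pow_one, pow_two]
  exact Subtype.ext (h.z_sq (Subgroup.mem_subgroupOf.1 hz))⟩

theorem classInner_prod [Fintype Q] {χ χ' ψ ψ' : IrrCharacter Q} (hχ : TrivOn S χ)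
    (hχ' : TrivOn S χ') (hψ : TrivOn O ψ) (hψ' : TrivOn O ψ') :
    classInner ((χ : Q → ℂ) * (ψ : Q → ℂ)) ((χ' : Q → ℂ) * (ψ' : Q → ℂ)) =
      classInner (χ : Q → ℂ) (χ' : Q → ℂ) * classInner (ψ : Q → ℂ) (ψ' : Q → ℂ) := by
  classical
  haveI : Fintype S := Fintype.ofFinite _
  haveI : Fintype O := Fintype.ofFinite _
  haveI := hSp.normS
  haveI := hSp.normO
  have hsum : ∀ F : Q → ℂ, ∑ x : Q, F x = ∑ u : S, ∑ w : O, F ((u : Q) * w) := by
    intro F
    rw [← Fintype.sum_prod_type']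
    exact (hSp.compl.sum_comp F).symm
  have e1 : ∀ (f : IrrCharacter Q), TrivOn S f → ∀ (u : S) (w : O),
      (f : Q → ℂ) ((u : Q) * w) = (f : Q → ℂ) w := fun f hf u w => by
    rw [hSp.comm u u.2 w w.2]
    exact hf.mul_right _ u.2
  have e2 : ∀ (f : IrrCharacter Q), TrivOn O f → ∀ (u : S) (w : O),
      (f : Q → ℂ) ((u : Q) * w) = (f : Q → ℂ) u := fun f hf u w => hf.mul_right _ w.2
  have e3 : (Nat.card Q : ℂ) = (Fintype.card S : ℂ) * (Fintype.card O : ℂ) := by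
    rw [← Nat.cast_mul, ← Nat.card_eq_fintype_card, ← Nat.card_eq_fintype_card,
      hSp.compl.card_mul]
  have hS0 : (Fintype.card S : ℂ) ≠ 0 := Nat.cast_ne_zero.2 Fintype.card_ne_zero
  have hO0 : (Fintype.card O : ℂ) ≠ 0 := Nat.cast_ne_zero.2 Fintype.card_ne_zero
  have k1 : classInner ((χ : Q → ℂ) * (ψ : Q → ℂ)) ((χ' : Q → ℂ) * (ψ' : Q → ℂ)) =
      (Nat.card Q : ℂ)⁻¹ * ((∑ w : O, (χ : Q → ℂ) w * conj ((χ' : Q → ℂ) w)) *
        ∑ u : S, (ψ : Q → ℂ) u * conj ((ψ' : Q → ℂ) u)) := by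
    rw [classInner, hsum, Finset.sum_mul_sum, Finset.sum_comm]
    refine congrArg _ (Finset.sum_congr rfl fun w _ => Finset.sum_congr rfl fun u _ => ?_)
    simp only [Pi.mul_apply, e1 χ hχ, e1 χ' hχ', e2 ψ hψ, e2 ψ' hψ', map_mul]
    ring
  have k2 : classInner (χ : Q → ℂ) (χ' : Q → ℂ) = (Nat.card Q : ℂ)⁻¹ *
      ((Fintype.card S : ℂ) * ∑ w : O, (χ : Q → ℂ) w * conj ((χ' : Q → ℂ) w)) := by
    simp only [classInner, hsum, e1 χ hχ, e1 χ' hχ', Finset.sum_const, Finset.card_univ,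
      nsmul_eq_mul]
  have k3 : classInner (ψ : Q → ℂ) (ψ' : Q → ℂ) = (Nat.card Q : ℂ)⁻¹ *
      ((Fintype.card O : ℂ) * ∑ u : S, (ψ : Q → ℂ) u * conj ((ψ' : Q → ℂ) u)) := by
    simp only [classInner, hsum, e2 ψ hψ, e2 ψ' hψ', Finset.sum_const, Finset.card_univ,
      nsmul_eq_mul, ← Finset.mul_sum]
  rw [k1, k2, k3, e3]
  field_simp

theorem center_eq {x : Q} (hxS : x ∈ S) (hx : (⟨x, hxS⟩ : S) ∈ Subgroup.center S) : x ∈ h.zQ := by
  rw [Subgroup.mem_subgroupOf]
  exact ⟨h.hS.le x.2, congrArg (fun w : S => ((w : Q) : G))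
    (SuzukiTwo.center_elementary hSp.suzuki _ hx)⟩

theorem card_center : Nat.card (Subgroup.center S) = Nat.card h.zSub := by
  rw [← h.card_zQ, ← Nat.card_congr (Subgroup.subgroupOfEquivOfLe hSp.zQ_le).toEquiv]
  congr 2
  ext x
  constructor
  · intro hx; exact hSp.center_eq x.2 hx
  · intro hx
    refine Subgroup.mem_center_iff.2 fun y => Subtype.ext (Subtype.ext ?_)
    exact (h.z_central (Subgroup.mem_subgroupOf.1 (Subgroup.mem_subgroupOf.1 hx)) (y : Q).2).symm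

theorem sq_mem {x : Q} (hx : x ∈ S) : x * x ∈ h.zQ := by
  haveI : Finite S := inferInstance
  obtain ⟨k, hk⟩ := SuzukiTwo.exists_regGen hSp.suzuki
  exact hSp.center_eq (mul_mem hx hx) ((SuzukiTwo.squares_central hSp.suzuki hk).1 ⟨x, hx⟩)

theorem comm_mem {x y : Q} (hx : x ∈ S) (hy : y ∈ S) : x * y * x⁻¹ * y⁻¹ ∈ h.zQ := by
  obtain ⟨k, hk⟩ := SuzukiTwo.exists_regGen hSp.suzuki
  exact hSp.center_eq (mul_mem (mul_mem (mul_mem hx hy) (inv_mem hx)) (inv_mem hy))
    ((SuzukiTwo.squares_central hSp.suzuki hk).2 ⟨x, hx⟩ ⟨y, hy⟩)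

/-- `Z O`. -/
abbrev nSub (_hN : Split h S O) : Subgroup Q := O ⊔ h.zQ

theorem nSub_normal : hSp.nSub.Normal := by
  haveI := hSp.normO
  haveI := h.zQ_normal
  infer_instance

theorem exists_commutator_s : ∃ x y : Q,
    ((x * y * x⁻¹ * y⁻¹ : Q) : G) = h.sElt := by
  obtain ⟨-, -, ⟨x, y, hxy⟩, -, -⟩ := hSp.suzuki
  have hne : (x : Q) * y * (x : Q)⁻¹ * (y : Q)⁻¹ ≠ 1 := by
    intro e
    refine hxy (Subtype.ext ?_)
    show (x : Q) * y = y * x
    calc (x : Q) * y = ((x : Q) * y * (x : Q)⁻¹ * (y : Q)⁻¹) * (y * x) := by group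
      _ = (y : Q) * x := by rw [e, one_mul]
  obtain ⟨k, hk, hks⟩ := h.exists_k_conj (Subgroup.mem_subgroupOf.1 (hSp.comm_mem x.2 y.2))
    (fun e => hne (Subtype.ext e))
  refine ⟨h.qConj ⟨k, h.kSub_le hk⟩ x, h.qConj ⟨k, h.kSub_le hk⟩ y, ?_⟩
  rw [← map_inv, ← map_inv, ← map_mul, ← map_mul, ← map_mul]
  show k⁻¹ * (((x : Q) * y * (x : Q)⁻¹ * (y : Q)⁻¹ : Q) : G) * k = h.sElt
  rw [← hks]
  group

theorem quotient_comm (x y : Q) : x * y * x⁻¹ * y⁻¹ ∈ hSp.nSub := by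
  haveI := hSp.nSub_normal
  obtain ⟨⟨u, w⟩, e⟩ := hSp.compl.2 x
  obtain ⟨⟨u', w'⟩, e'⟩ := hSp.compl.2 y
  have e1 : (u : Q) * w = x := e
  have e2 : (u' : Q) * w' = y := e'
  rw [← e1, ← e2, ← QuotientGroup.eq_one_iff]
  have hw : ∀ z : O, (QuotientGroup.mk (z : Q) : Q ⧸ hSp.nSub) = 1 := fun z =>
    (QuotientGroup.eq_one_iff _).2 (Subgroup.mem_sup_left z.2)
  simp only [QuotientGroup.mk_mul, QuotientGroup.mk_inv, hw, mul_one, one_mul, inv_one]
  rw [← QuotientGroup.mk_inv, ← QuotientGroup.mk_inv, ← QuotientGroup.mk_mul,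
    ← QuotientGroup.mk_mul, ← QuotientGroup.mk_mul, QuotientGroup.eq_one_iff]
  exact Subgroup.mem_sup_right (hSp.comm_mem u.2 u'.2)

theorem nSub_inf {x : Q} (hx : x ∈ hSp.nSub) (hxS : x ∈ S) : x ∈ h.zQ := by
  haveI := h.zQ_normal
  obtain ⟨w, hw, z, hz, rfl⟩ := Subgroup.mem_sup_of_normal_right.1 hx
  have hwS : w ∈ S := by simpa using mul_mem hxS (inv_mem (hSp.zQ_le hz))
  rw [Subgroup.disjoint_def.1 hSp.compl.disjoint hwS hw, one_mul]
  exact hz

theorem card_S : Nat.card S = Nat.card h.zSub * Nat.card (Q ⧸ hSp.nSub) := by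
  haveI := hSp.nSub_normal
  let f : S →* Q ⧸ hSp.nSub := (QuotientGroup.mk' _).comp S.subtype
  have hf : Function.Surjective f := by
    intro x
    obtain ⟨x, rfl⟩ := QuotientGroup.mk_surjective x
    obtain ⟨⟨u, w⟩, e⟩ := hSp.compl.2 x
    refine ⟨u, ?_⟩
    rw [show x = (u : Q) * w from e.symm, QuotientGroup.mk_mul,
      (QuotientGroup.eq_one_iff (w : Q)).2 (Subgroup.mem_sup_left w.2), mul_one]
    rfl
  have hker : Nat.card f.ker = Nat.card h.zSub := by
    rw [← h.card_zQ]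
    refine Nat.card_eq_of_bijective (fun x : f.ker => (⟨((x : S) : Q), hSp.nSub_inf
      ((QuotientGroup.eq_one_iff _).1 (MonoidHom.mem_ker.1 x.2)) (x : S).2⟩ : h.zQ))
      ⟨fun x y e => Subtype.ext (Subtype.ext (congrArg (fun w : h.zQ => (w : Q)) e)), fun z => ?_⟩
    exact ⟨⟨⟨z, hSp.zQ_le z.2⟩, MonoidHom.mem_ker.2
      ((QuotientGroup.eq_one_iff _).2 (Subgroup.mem_sup_right z.2))⟩, rfl⟩
  rw [← hker, ← Subgroup.card_mul_index f.ker, Subgroup.index_ker,
    MonoidHom.range_eq_top.2 hf, Subgroup.card_top]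

theorem card_quotient_cases :
    Nat.card (Q ⧸ hSp.nSub) = Nat.card h.zSub ∨
      Nat.card (Q ⧸ hSp.nSub) = Nat.card h.zSub ^ 2 := by
  obtain ⟨k, hk⟩ := SuzukiTwo.exists_regGen hSp.suzuki
  have hq : 0 < Nat.card h.zSub := Nat.card_pos
  rcases (SuzukiTwo.card_exponent hSp.suzuki hk).1 with e | e <;>
    rw [hSp.card_S, hSp.card_center] at e
  · left
    exact Nat.eq_of_mul_eq_mul_left hq (e.trans (by ring))
  · right
    exact Nat.eq_of_mul_eq_mul_left hq (e.trans (by ring))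

/-- A bound on the elements of `S` centralised by an element of `V` with small fixed points. -/
theorem centralised_four {x : twoStab a t}
    (hcz : ∀ z ∈ h.zSub, (x : G) * z = z * x → z = 1 ∨ z = h.sElt) :
    ∃ a₀ b₀ : Q, ∀ y ∈ S, h.qConj x y = y →
      ∃ e ∈ ({1, a₀, b₀, a₀ * b₀} : Set Q), y * e⁻¹ ∈ h.zQ := by
  set C : Subgroup Q :=
    { carrier := {y | y ∈ S ∧ h.qConj x y = y}
      one_mem' := ⟨one_mem S, map_one _⟩
      mul_mem' := fun {y w} hy hw => ⟨mul_mem hy.1 hw.1, by rw [map_mul, hy.2, hw.2]⟩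
      inv_mem' := fun {y} hy => ⟨inv_mem hy.1, by rw [map_inv, hy.2]⟩ } with hC
  set s' : Q := ⟨h.sElt, h.zSub_le h.s_mem⟩
  have hCZ : ∀ y ∈ C, y ∈ h.zQ → y = 1 ∨ y = s' := by
    intro y hy hyz
    rw [Subgroup.mem_subgroupOf] at hyz
    have e : (x : G)⁻¹ * y * x = y := congrArg Subtype.val hy.2
    rcases hcz _ hyz (by
      calc (x : G) * y = x * ((x : G)⁻¹ * y * x) := by rw [e]
        _ = (y : G) * x := by group) with e1 | e1
    · exact Or.inl (Subtype.ext e1)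
    · exact Or.inr (Subtype.ext e1)
  have hsc : ∀ y : Q, s' * y = y * s' := fun y => Subtype.ext (h.z_central h.s_mem y.2)
  have hss : s' * s' = 1 := Subtype.ext (h.z_sq h.s_mem)
  have hsZ : s' ∈ h.zQ := Subgroup.mem_subgroupOf.2 h.s_mem
  have hsq : ∀ y ∈ C, y ∉ h.zQ → y * y = s' := by
    intro y hy hyz
    rcases hCZ _ (mul_mem hy hy) (hSp.sq_mem hy.1) with e | e
    · exact absurd (Subgroup.mem_subgroupOf.2
        (h.mem_zSub.2 ⟨h.hS.le y.2, congrArg Subtype.val e⟩)) hyz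
    · exact e
  have hanti : ∀ y ∈ C, ∀ w ∈ C, y ∉ h.zQ → w ∉ h.zQ → y * w ∉ h.zQ →
      y * w = w * y * s' := by
    intro y hy w hw hy1 hw1 hyw
    have e := hsq _ (mul_mem hy hw) hyw
    have e2 : y * w = s' * (w⁻¹ * y⁻¹) := by
      rw [← e]; group
    rw [e2]
    have ey : y⁻¹ = y * s' := by
      refine inv_eq_of_mul_eq_one_right ?_
      rw [← mul_assoc, hsq y hy hy1, hss]
    have ew : w⁻¹ = w * s' := by
      refine inv_eq_of_mul_eq_one_right ?_
      rw [← mul_assoc, hsq w hw hw1, hss]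
    rw [ey, ew, hsc (w * s' * (y * s'))]
    calc w * s' * (y * s') * s' = w * (s' * y) * (s' * s') := by group
      _ = w * y * s' := by rw [hss, hsc y, mul_one, mul_assoc]
  by_cases h1 : ∀ y ∈ C, y ∈ h.zQ
  · exact ⟨1, 1, fun y hyS hy => ⟨1, by simp, by
      rw [inv_one, mul_one]; exact h1 y ⟨hyS, hy⟩⟩⟩
  push Not at h1
  obtain ⟨a₀, haC, ha⟩ := h1
  by_cases h2 : ∀ y ∈ C, y ∈ h.zQ ∨ y * a₀⁻¹ ∈ h.zQ
  · refine ⟨a₀, 1, fun y hyS hy => ?_⟩
    rcases h2 y ⟨hyS, hy⟩ with e | e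
    · exact ⟨1, by simp, by rwa [inv_one, mul_one]⟩
    · exact ⟨a₀, by simp, e⟩
  push Not at h2
  obtain ⟨b₀, hbC, hb, hba⟩ := h2
  refine ⟨a₀, b₀, fun y hyS hy => ?_⟩
  by_contra hno
  push Not at hno
  have hyC : y ∈ C := ⟨hyS, hy⟩
  have n1 : y ∉ h.zQ := fun e => hno 1 (by simp) (by rwa [inv_one, mul_one])
  have n2 := hno a₀ (by simp)
  have n3 := hno b₀ (by simp)
  have n4 := hno (a₀ * b₀) (by simp)
  have hdiv : ∀ p q : Q, q ∈ C → q ∉ h.zQ → p * q⁻¹ ∉ h.zQ → p * q ∉ h.zQ := by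
    intro p q hq hq1 hn e
    refine hn ?_
    have : p * q⁻¹ = (p * q) * (q * q)⁻¹ := by group
    rw [this, hsq q hq hq1]
    exact mul_mem e (inv_mem hsZ)
  have hab : a₀ * b₀ ∉ h.zQ := by
    intro e
    refine hdiv b₀ a₀ haC ha hba ?_
    haveI := h.zQ_normal
    have := Subgroup.Normal.conj_mem ‹h.zQ.Normal› _ e b₀
    simpa [mul_assoc] using this
  have hay : a₀ * y ∉ h.zQ := by
    intro e
    refine hdiv y a₀ haC ha n2 ?_
    haveI := h.zQ_normal
    have := Subgroup.Normal.conj_mem ‹h.zQ.Normal› _ e y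
    simpa [mul_assoc] using this
  have hby : b₀ * y ∉ h.zQ := by
    intro e
    refine hdiv y b₀ hbC hb n3 ?_
    haveI := h.zQ_normal
    have := Subgroup.Normal.conj_mem ‹h.zQ.Normal› _ e y
    simpa [mul_assoc] using this
  have haby : a₀ * b₀ * y ∉ h.zQ := by
    intro e
    refine hdiv y (a₀ * b₀) (mul_mem haC hbC) hab n4 ?_
    haveI := h.zQ_normal
    have := Subgroup.Normal.conj_mem ‹h.zQ.Normal› _ e y
    simpa [mul_assoc] using this
  have A1 := hanti (a₀ * b₀) (mul_mem haC hbC) y hyC hab n1 haby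
  have A2 := hanti a₀ haC y hyC ha n1 hay
  have A3 := hanti b₀ hbC y hyC hb n1 hby
  have A4 : a₀ * b₀ * y = y * (a₀ * b₀) := by
    calc a₀ * b₀ * y = a₀ * (y * b₀ * s') := by rw [mul_assoc, A3]
      _ = (a₀ * y) * b₀ * s' := by group
      _ = y * a₀ * (s' * b₀) * s' := by rw [A2]; group
      _ = y * a₀ * b₀ * (s' * s') := by rw [hsc b₀]; group
      _ = y * (a₀ * b₀) := by rw [hss, mul_one, mul_assoc]
  rw [A4] at A1
  exact h.s_ne (congrArg Subtype.val (left_eq_mul.1 A1) :)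

theorem card_fixed_lin [Fintype Q] {x : twoStab a t} {p : ℕ} (hp : p.Prime) (hxp : orderOf x = p)
    (hcz : ∀ z ∈ h.zSub, (x : G) * z = z * x → z = 1 ∨ z = h.sElt) :
    ∃ c : ℕ, c ≤ 4 ∧ Nat.card {χ : IrrCharacter Q // TrivOn hSp.nSub χ ∧
        h.cj x (χ : Q → ℂ) = χ} = c ∧
      c ≡ Nat.card {χ : IrrCharacter Q // TrivOn hSp.nSub χ} [MOD p] := by
  classical
  haveI : Fact p.Prime := ⟨hp⟩
  haveI := hSp.nSub_normal
  have hp2 : p ≠ 2 := by
    intro e
    subst e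
    have h2 : 2 ∣ Nat.card (twoStab a t) := hxp ▸ orderOf_dvd_natCard x
    exact (Nat.not_even_iff_odd.2 h.hS.odd_card) (even_iff_two_dvd.2 h2)
  have hmapN : hSp.nSub.map ((h.qConj x : Q ≃* Q) : Q →* Q) = hSp.nSub := by
    refine Subgroup.eq_of_le_of_card_ge ?_ (by
      rw [Subgroup.card_map_of_injective (h.qConj x).injective])
    rw [Subgroup.map_le_iff_le_comap]
    refine sup_le (fun y hy => Subgroup.mem_sup_left ((hSp.qConj_memO x).2 hy))
      (fun y hy => Subgroup.mem_sup_right (h.qConj_mem_zQ x hy))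
  refine ⟨_, ?_, rfl, ?_⟩
  · -- the bound
    let α : (Q ⧸ hSp.nSub) ≃* (Q ⧸ hSp.nSub) := QuotientGroup.congr _ _ (h.qConj x) hmapN
    letI : CommGroup (Q ⧸ hSp.nSub) :=
      { (inferInstance : Group (Q ⧸ hSp.nSub)) with
        mul_comm := fun p q => by
          obtain ⟨p, rfl⟩ := QuotientGroup.mk_surjective p
          obtain ⟨q, rfl⟩ := QuotientGroup.mk_surjective q
          rw [← QuotientGroup.mk_mul, ← QuotientGroup.mk_mul, QuotientGroup.eq]
          have := hSp.quotient_comm q⁻¹ p⁻¹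
          simpa [mul_assoc] using this }
    have e1 : Nat.card {χ : IrrCharacter Q // TrivOn hSp.nSub χ ∧ h.cj x (χ : Q → ℂ) = χ} ≤
        Nat.card {ψ : IrrCharacter (Q ⧸ hSp.nSub) // (ψ : _ → ℂ) ∘ α = ψ} := by
      choose g hg using fun χ : {χ : IrrCharacter Q // TrivOn hSp.nSub χ ∧
          h.cj x (χ : Q → ℂ) = χ} => exists_irr_quotient hSp.nSub χ.1 χ.2.1
      refine Nat.card_le_card_of_injective (fun χ => ⟨g χ, funext fun y => ?_⟩) fun χ χ' e => ?_
      · obtain ⟨y, rfl⟩ := QuotientGroup.mk_surjective y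
        rw [Function.comp_apply, show α (QuotientGroup.mk y) = QuotientGroup.mk (h.qConj x y)
          from rfl, hg, hg]
        exact congrFun χ.2.2 y
      · refine Subtype.ext (Subtype.ext (funext fun y => ?_))
        rw [← hg χ y, ← hg χ' y, show g χ = g χ' from congrArg Subtype.val e]
    refine e1.trans ?_
    rw [Burnside.card_fixed_irrCharacter]
    obtain ⟨a₀, b₀, hab⟩ := hSp.centralised_four hcz
    have hfix : ∀ C : {C : ConjClasses (Q ⧸ hSp.nSub) // ConjClasses.map α.toMonoidHom C = C},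
        ∃ e : ({1, a₀, b₀, a₀ * b₀} : Set Q),
          (C : ConjClasses (Q ⧸ hSp.nSub)) = ConjClasses.mk (QuotientGroup.mk (e : Q)) := by
      rintro ⟨C, hC⟩
      obtain ⟨c, rfl⟩ := ConjClasses.exists_rep C
      have hc : α c = c := isConj_iff_eq.1 (ConjClasses.mk_eq_mk_iff_isConj.1 hC)
      obtain ⟨c, rfl⟩ := QuotientGroup.mk_surjective c
      obtain ⟨⟨u, w⟩, e⟩ := hSp.compl.2 c
      have hcu : (QuotientGroup.mk c : Q ⧸ hSp.nSub) = QuotientGroup.mk (u : Q) := by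
        rw [show c = (u : Q) * w from e.symm, QuotientGroup.mk_mul,
          (QuotientGroup.eq_one_iff (w : Q)).2 (Subgroup.mem_sup_left w.2), mul_one]
      rw [hcu] at hc
      set T : Set Q := {y | y ∈ S ∧ (QuotientGroup.mk y : Q ⧸ hSp.nSub) = QuotientGroup.mk (u : Q)}
      have hTinv : ∀ y, y ∈ T ↔ h.qConj x y ∈ T := by
        intro y
        refine and_congr (hSp.qConj_memS x).symm ?_
        show _ ↔ α (QuotientGroup.mk y) = _
        conv_rhs => rw [← hc]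
        exact α.injective.eq_iff.symm
      have hTcard : Nat.card T = Nat.card h.zQ := by
        refine (Nat.card_eq_of_bijective (fun z : h.zQ => (⟨(u : Q) * z,
          mul_mem u.2 (hSp.zQ_le z.2), by
            rw [QuotientGroup.mk_mul, (QuotientGroup.eq_one_iff (z : Q)).2
              (Subgroup.mem_sup_right z.2), mul_one]⟩ : T))
          ⟨fun z z' e' => Subtype.ext (mul_left_cancel (congrArg Subtype.val e')), ?_⟩).symm
        rintro ⟨y, hyS, hy⟩
        exact ⟨⟨(u : Q)⁻¹ * y, hSp.nSub_inf (QuotientGroup.eq.1 hy.symm)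
          (mul_mem (inv_mem u.2) hyS)⟩, Subtype.ext (mul_inv_cancel_left _ _)⟩
      let σ : Equiv.Perm T := Equiv.subtypeEquiv (h.qConj x).toEquiv hTinv
      have hσ : σ ^ p ^ 1 = 1 := by
        have hpow : ∀ m : ℕ, ∀ y : T, ((σ ^ m) y : Q) = h.qConj (x ^ m) y := by
          intro m
          induction m with
          | zero => intro y; rw [pow_zero, pow_zero, h.qConj_one]; rfl
          | succ m ih =>
            intro y
            rw [pow_succ', Equiv.Perm.mul_apply, pow_succ, h.qConj_mul, ← ih]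
            rfl
        refine Equiv.ext fun y => Subtype.ext ?_
        rw [hpow, pow_one, ← hxp, pow_orderOf_eq_one, h.qConj_one]
        rfl
      obtain ⟨y, hy⟩ := Equiv.Perm.exists_fixed_point_of_prime (α := T) (p := p) (n := 1)
        (by
          rw [← Nat.card_eq_fintype_card, hTcard, h.card_zQ]
          obtain ⟨n, -, hn⟩ := h.exists_card_zSub
          rw [hn]
          intro e'
          exact hp2 ((Nat.prime_dvd_prime_iff_eq hp Nat.prime_two).1 (hp.dvd_of_dvd_pow e')))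
        hσ
      obtain ⟨e0, he0, hye⟩ := hab y y.2.1 (congrArg Subtype.val hy)
      refine ⟨⟨e0, he0⟩, ?_⟩
      show ConjClasses.mk (QuotientGroup.mk c) = _
      rw [hcu, ← y.2.2]
      congr 1
      rw [QuotientGroup.eq_iff_div_mem, div_eq_mul_inv]
      exact Subgroup.mem_sup_right hye
    choose f hf using hfix
    refine (Nat.card_le_card_of_injective f fun C C' e => Subtype.ext ?_).trans ?_
    · rw [hf C, hf C', e]
    · rw [show Nat.card ({1, a₀, b₀, a₀ * b₀} : Set Q) =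
        Set.ncard ({1, a₀, b₀, a₀ * b₀} : Set Q) from Nat.card_coe_set_eq _]
      refine (Set.ncard_insert_le _ _).trans ?_
      refine Nat.succ_le_succ ((Set.ncard_insert_le _ _).trans ?_)
      exact Nat.succ_le_succ ((Set.ncard_insert_le _ _).trans (by simp))
  · -- the congruence
    set Lin := {χ : IrrCharacter Q // TrivOn hSp.nSub χ}
    have hcj : ∀ (d : twoStab a t) (χ : IrrCharacter Q), TrivOn hSp.nSub χ →
        TrivOn hSp.nSub ⟨_, h.cj_irr d χ.2⟩ := by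
      intro d χ hχ
      refine TrivOn.sup (hSp.trivO_cj d fun y hy => hχ y (Subgroup.mem_sup_left hy)) fun z hz => ?_
      show (χ : Q → ℂ) (h.qConj d z) = (χ : Q → ℂ) (h.qConj d 1)
      rw [map_one, hχ _ (Subgroup.mem_sup_right (h.qConj_mem_zQ d hz))]
    let σ : Equiv.Perm Lin :=
      { toFun := fun χ => ⟨⟨_, h.cj_irr x χ.1.2⟩, hcj x χ.1 χ.2⟩
        invFun := fun χ => ⟨⟨_, h.cj_irr x⁻¹ χ.1.2⟩, hcj x⁻¹ χ.1 χ.2⟩
        left_inv := fun χ => Subtype.ext (Subtype.ext (by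
          show h.cj x⁻¹ (h.cj x (χ.1 : Q → ℂ)) = _
          rw [← h.cj_mul, inv_mul_cancel, h.cj_one]))
        right_inv := fun χ => Subtype.ext (Subtype.ext (by
          show h.cj x (h.cj x⁻¹ (χ.1 : Q → ℂ)) = _
          rw [← h.cj_mul, mul_inv_cancel, h.cj_one])) }
    have hpow : ∀ m : ℕ, ∀ χ : Lin, (((σ ^ m) χ).1 : Q → ℂ) = h.cj (x ^ m) (χ.1 : Q → ℂ) := by
      intro m
      induction m with
      | zero => intro χ; rw [pow_zero, pow_zero, h.cj_one]; rfl
      | succ m ih =>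
        intro χ
        rw [pow_succ', Equiv.Perm.mul_apply, pow_succ', h.cj_mul, ← ih]
        rfl
    have hσ : σ ^ p ^ 1 = 1 := Equiv.ext fun χ => Subtype.ext (Subtype.ext (by
      rw [hpow, pow_one, ← hxp, pow_orderOf_eq_one, h.cj_one]; rfl))
    haveI : Fintype Lin := Fintype.ofFinite _
    have e := Equiv.Perm.card_compl_support_modEq (p := p) (n := 1) hσ
    rw [← Nat.card_eq_fintype_card (α := Lin)] at e
    refine Nat.ModEq.trans ?_ e
    refine congrArg (· % p) ?_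
    rw [← Nat.card_eq_finsetCard]
    refine Nat.card_congr ?_
    exact
      { toFun := fun χ => ⟨⟨χ.1, χ.2.1⟩, by
          rw [Finset.mem_compl, Equiv.Perm.notMem_support]
          exact Subtype.ext (Subtype.ext χ.2.2)⟩
        invFun := fun χ => ⟨χ.1.1, χ.1.2, by
          have e' := χ.2
          rw [Finset.mem_compl, Equiv.Perm.notMem_support] at e'
          exact congrArg Subtype.val (congrArg Subtype.val e')⟩
        left_inv := fun χ => rfl
        right_inv := fun χ => rfl }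

end Split

end Cfsg.Agent.Lib.SplitRankOne70
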