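import Cfsg.Agent.Lib.SplitRankOne70.LinearCase
import Cfsg.Agent.Lib.SplitRankOne70.Torus
import Cfsg.Agent.Lib.SplitRankOne70.TwoSplit
import Cfsg.Agent.Lib.Zassenhaus.TwoKernel.Final
import Cfsg.Agent.S0205

/-!
`|Q| = q³` with `r ∈ Z`: the elements outside `Z` are parametrised by `SL₂(q)`, and squaring is the
inverse of an anisotropic quadratic form on the second row.
-/

set_option autoImplicit false
set_option linter.unusedSectionVars false
set_option linter.style.haveILetI false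

namespace Cfsg.Agent.Lib.SplitRankOne70

open Cfsg MulAction Cfsg.Agent.Lib.RankOne
open scoped MatrixGroups

universe u v

variable {G : Type u} {Ω : Type v} [Group G] [MulAction G Ω] [Finite G] {a : Ω} {t : G}
  {Q : Subgroup G}

@[simp] theorem mkM_00 {F : Type} [Field F] (x y z w : F) (hd) : mkM x y z w hd 0 0 = x := rfl
@[simp] theorem mkM_01 {F : Type} [Field F] (x y z w : F) (hd) : mkM x y z w hd 0 1 = y := rfl
@[simp] theorem mkM_10 {F : Type} [Field F] (x y z w : F) (hd) : mkM x y z w hd 1 0 = z := rfl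
@[simp] theorem mkM_11 {F : Type} [Field F] (x y z w : F) (hd) : mkM x y z w hd 1 1 = w := rfl

namespace Setup

variable (h : Setup a t Q)
include h

theorem not_twoAbelian (hp : IsPGroup 2 Q) (hna : ∃ u ∈ Q, ∃ v ∈ Q, u * v ≠ v * u) :
    ¬ TwoAbelian Q := by
  intro hab
  obtain ⟨u, hu, v, hv, huv⟩ := hna
  obtain ⟨i, hi⟩ := hp ⟨u, hu⟩
  obtain ⟨j, hj⟩ := hp ⟨v, hv⟩
  exact huv (hab u hu v hv ⟨i, congrArg Subtype.val hi⟩ ⟨j, congrArg Subtype.val hj⟩)

theorem sq_mem_zSub (hp : IsPGroup 2 Q) (hna : ∃ u ∈ Q, ∃ v ∈ Q, u * v ≠ v * u) {x : G}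
    (hx : x ∈ Q) : x * x ∈ h.zSub := by
  classical
  letI := Fintype.ofFinite G
  obtain ⟨S, O, hSp⟩ := h.exists_split (h.not_twoAbelian hp hna)
  obtain ⟨i, hi⟩ := hp ⟨x, hx⟩
  exact Subgroup.mem_subgroupOf.1 (hSp.sq_mem ((hSp.memS ⟨x, hx⟩).2 ⟨i, hi⟩))

/-- An element of `K` in the two-point stabiliser of `L`. -/
def kD {k : G} (hk : k ∈ h.kSub) : ↥(lSub t Q ⊓ twoStab a t) :=
  ⟨k, Subgroup.mem_inf.2 ⟨h.kSub_le_lSub hk, h.kSub_le hk⟩⟩

/-- The two-point stabiliser of `L` is bigger than `K`. -/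
theorem cube_not_zassenhaus [FaithfulSMul G Ω] (hp : IsPGroup 2 Q)
    (hna : ∃ u ∈ Q, ∃ v ∈ Q, u * v ≠ v * u) (hQ : Nat.card Q = Nat.card h.zSub ^ 3) (hDK : lSub t Q ⊓ twoStab a t ≤ h.kSub) : False := by
  classical
  haveI := h.lSub_simple hp
  haveI : Finite Ω := finite_points h.hS
  letI := Fintype.ofFinite Ω
  letI := Fintype.ofFinite (lSub t Q)
  set U : Subgroup (lSub t Q) := Q.subgroupOf (lSub t Q) with hU
  have hmem : ∀ u : lSub t Q, u ∈ U ↔ (u : G) ∈ Q := fun u => Subgroup.mem_subgroupOf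
  have hZ := h.lSub_zassenhaus hp hDK
  obtain ⟨hh, ee, q, d⟩ := Zassenhaus.TwoKernel.exists_data (U := U) hZ (t_smul_ne h.hS).symm
    (fun u hu => Q_fix h.hS ((hmem u).1 hu))
    (fun g hg u hu => (hmem _).2 (h.hS.conj_mem (g : G) hg u ((hmem u).1 hu)))
    (fun c c' hc hc' => by
      obtain ⟨x, hx, ex⟩ := exists_Q_move' h.hS hc hc'
      refine ⟨⟨⟨x, Q_le_lSub hx⟩, (hmem _).2 hx⟩, ex, fun y hy => ?_⟩
      obtain ⟨p, hpQ, rfl⟩ := exists_Q_move h.hS hc
      refine Subtype.ext (Subtype.ext (mul_right_cancel (b := p) ?_))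
      refine h.q_pt_inj (mul_mem ((hmem _).1 y.2) hpQ) (mul_mem hx hpQ) ?_
      rw [mul_smul, mul_smul, ex]
      exact hy)
    (fun x => by
      obtain ⟨i, hi⟩ := hp ⟨((x : lSub t Q) : G), (hmem _).1 x.2⟩
      exact ⟨i, Subtype.ext (Subtype.ext (by simpa using congrArg Subtype.val hi))⟩)
    (by
      obtain ⟨u, hu, v, hv, huv⟩ := hna
      exact ⟨⟨u, Q_le_lSub hu⟩, (hmem _).2 hu, ⟨v, Q_le_lSub hv⟩, (hmem _).2 hv,
        fun e => huv (congrArg Subtype.val e)⟩)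
  obtain ⟨n, -, -, -, hh2⟩ := d.structure_theorem
  have hcU : Nat.card U = Nat.card Q :=
    Nat.card_congr (Subgroup.subgroupOfEquivOfLe Q_le_lSub).toEquiv
  have hcD : Nat.card ↥(stabilizer (lSub t Q) a ⊓ stabilizer (lSub t Q) (t • a)) =
      Nat.card h.kSub := by
    refine Nat.card_congr
      { toFun := fun g => ⟨((g : lSub t Q) : G), hDK ⟨(g : lSub t Q).2, mem_twoStab.2 g.2⟩⟩
        invFun := fun k => ⟨⟨(k : G), h.kSub_le_lSub k.2⟩, (mem_twoStab.1 (h.kSub_le k.2))⟩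
        left_inv := fun g => rfl
        right_inv := fun k => rfl }
  have h3 := d.setup.pair
  have h4 := d.setup.cardH_eq
  have h5 := d.q_eq
  rw [hcD] at h3
  rw [hcU, hQ, hh2, h5, ← h3, ← h.card_zSub] at h4
  exact absurd ((Nat.pow_right_injective (le_trans (by norm_num) h.four_le_card_zSub)) h4) (by norm_num)

end Setup

/-- The data of the torsor. -/
structure Tor (h : Setup a t Q) (F : Type) [Field F] [Fintype F] where
  Φ : ZField h F
  hr : h.rElt ∈ h.zSub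
  hQ : Nat.card Q = Nat.card h.zSub ^ 3
  hp : IsPGroup 2 Q
  hna : ∃ u ∈ Q, ∃ v ∈ Q, u * v ≠ v * u
  x0 : G
  x0_mem : x0 ∈ Q
  x0_out : x0 ∉ h.zSub

theorem exists_completion {F : Type} [Field F] [CharP F 2] {v : F × F} (hv : v ≠ 0) :
    ∃ M : SL(2, F), (M 1 0, M 1 1) = v := by
  by_cases h1 : v.1 = 0
  · have h2 : v.2 ≠ 0 := fun h2 => hv (Prod.ext h1 h2)
    exact ⟨mkM (1 / v.2) 0 v.1 v.2 (by field_simp; ring), rfl⟩
  · exact ⟨mkM 0 (1 / v.1) v.1 v.2 (by
      field_simp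
      linear_combination -CharTwo.two_eq_zero (R := F)), rfl⟩

namespace Tor

variable {h : Setup a t Q} {F : Type} [Field F] [Fintype F] [CharP F 2] (T : Tor h F)
include T

theorem base_out : ∀ o, T.x0 • t • a ≠ T.Φ.circle o :=
  T.Φ.point_outside T.hr T.x0_mem T.x0_out

theorem exists_el (M : SL(2, F)) :
    ∃ x ∈ Q, x • t • a = T.Φ.rho M • T.x0 • t • a :=
  exists_Q_move h.hS (T.Φ.outside T.hr T.base_out none)

/-- The element of `Q` given by a matrix. -/
noncomputable def el (M : SL(2, F)) : G := (T.exists_el M).choose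

theorem el_mem (M : SL(2, F)) : T.el M ∈ Q := (T.exists_el M).choose_spec.1

theorem el_pt (M : SL(2, F)) : T.el M • t • a = T.Φ.rho M • T.x0 • t • a :=
  (T.exists_el M).choose_spec.2

theorem el_out (M : SL(2, F)) : T.el M ∉ h.zSub := by
  intro hz
  obtain ⟨y, hy⟩ := (T.Φ.e_mem _).1 hz
  refine T.Φ.outside T.hr T.base_out (M := M) (some y) ?_
  rw [← T.el_pt, ← hy]; rfl

theorem el_ne (M : SL(2, F)) : T.el M ≠ 1 := fun e => T.el_out M (e ▸ one_mem _)

theorem el_inj : Function.Injective T.el := fun M N e =>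
  T.Φ.orbit_injective T.hr T.base_out (by
    show T.Φ.rho M • T.x0 • t • a = T.Φ.rho N • T.x0 • t • a
    rw [← T.el_pt, e, T.el_pt])

theorem el_eq {M : SL(2, F)} {x : G} (hx : x ∈ Q) (e : x • t • a = T.Φ.rho M • T.x0 • t • a) :
    T.el M = x := h.q_pt_inj (T.el_mem M) hx ((T.el_pt M).trans e.symm)

theorem exists_mat {x : G} (hx : x ∈ Q) (hxZ : x ∉ h.zSub) : ∃ M, T.el M = x := by
  obtain ⟨M, hM⟩ := T.Φ.regular_outside T.hr T.hQ T.base_out (T.Φ.point_outside T.hr hx hxZ)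
  exact ⟨M, T.el_eq hx hM.symm⟩

theorem el_mU (c : F) (M : SL(2, F)) : T.el (mU c * M) = T.Φ.e c * T.el M :=
  T.el_eq (mul_mem (h.zSub_le (T.Φ.mem c)) (T.el_mem M)) (by
    rw [T.Φ.rho_mU_mul, mul_smul, mul_smul, T.el_pt])

theorem el_mD (l : Fˣ) (M : SL(2, F)) :
    T.el (mD l * M) = T.Φ.kl l * T.el M * (T.Φ.kl l)⁻¹ := by
  have hk := h.kSub_le (T.Φ.kl_mem l)
  refine T.el_eq (h.conj_Q_D hk (T.el_mem M)) ?_
  rw [T.Φ.rho_mD_mul, mul_smul, mul_smul, inv_smul_eq_iff.2 (mem_twoStab.1 hk).2.symm, T.el_pt,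
    mul_smul]

theorem el_mT (M : SL(2, F)) : T.el (mT * M) = gE h (T.el M) :=
  T.el_eq (h.gE_mem _) (by
    rw [← h.t_smul_pt (T.el_mem M) (T.el_ne M), T.el_pt, T.Φ.rho_mT_mul T.hr, mul_smul])

theorem sq_central {x : G} (hx : x ∈ Q) (z : F) :
    T.Φ.e z * x * (T.Φ.e z * x) = x * x := by
  rw [mul_assoc, ← mul_assoc x, ← h.z_central (T.Φ.mem z) hx, mul_assoc (T.Φ.e z) x,
    ← mul_assoc, h.z_sq (T.Φ.mem z), one_mul]

theorem exists_inv (M : SL(2, F)) : ∃ c : F, (T.el M)⁻¹ = T.el (mU c * M) ∧ c ≠ 0 ∧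
    T.el M * T.el M = T.Φ.e c := by
  have hQ := T.el_mem M
  obtain ⟨N, hN⟩ := T.exists_mat (inv_mem hQ) (fun hz => T.el_out M (by
    simpa using inv_mem hz))
  -- the class of the inverse
  have hsq : T.el M * T.el M ∈ h.zSub := h.sq_mem_zSub T.hp T.hna hQ
  obtain ⟨c, hc⟩ := (T.Φ.e_mem _).1 hsq
  refine ⟨c, ?_, fun e => ?_, hc.symm⟩
  · rw [T.el_mU, hc]
    refine inv_eq_of_mul_eq_one_right ?_
    rw [← mul_assoc, ← h.z_central hsq hQ, mul_assoc, h.z_sq hsq]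
  · refine T.el_out M ((h.mem_zSub).2 ⟨Q_fix h.hS hQ, ?_⟩)
    rw [← hc, e, T.Φ.e_zero]


/-- The two-point stabiliser of `L` is bigger than `K`. -/
theorem not_zassenhaus [FaithfulSMul G Ω] (hDK : lSub t Q ⊓ twoStab a t ≤ h.kSub) : False :=
  h.cube_not_zassenhaus T.hp T.hna T.hQ hDK

open scoped Classical in
/-- The square of an element, as a function of the second row. -/
noncomputable def Sv (v : F × F) : F :=
  if hv : v = 0 then 0 else (T.exists_inv (exists_completion hv).choose).choose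

theorem Sv_spec (M : SL(2, F)) :
    (T.el M)⁻¹ = T.el (mU (T.Sv (M 1 0, M 1 1)) * M) ∧ T.Sv (M 1 0, M 1 1) ≠ 0 ∧
      T.el M * T.el M = T.Φ.e (T.Sv (M 1 0, M 1 1)) := by
  classical
  have hv : (M 1 0, M 1 1) ≠ (0 : F × F) := by
    intro e
    obtain ⟨e1, e2⟩ := Prod.mk.inj e
    exact one_ne_zero (α := F) (by rw [← det_two M, e1, e2]; ring)
  obtain ⟨c, hc1, hc2, hc3⟩ := T.exists_inv M
  set M' := (exists_completion hv).choose
  have hc3' := (T.exists_inv M').choose_spec.2.2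
  obtain ⟨c', heq⟩ : ∃ c', c' = T.Sv (M 1 0, M 1 1) := ⟨_, rfl⟩
  have heq' : c' = (T.exists_inv M').choose := by rw [heq, Sv, dif_neg hv]
  rw [← heq'] at hc3'
  obtain ⟨e10, e11⟩ := Prod.mk.inj (exists_completion hv).choose_spec
  have hM : M' = mU (bd (M' 0 0, M' 0 1) (M 0 0, M 0 1)) * M := by
    have hd := det_two M
    have hd' := det_two M'
    rw [e10, e11] at hd'
    have two := CharTwo.two_eq_zero (R := F)
    refine mat_ext ?_ ?_ ?_ ?_
    · simp [mul_00, bd]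
      linear_combination -(M' 0 0) * hd + (M 0 0) * hd' - M 0 0 * two * (M' 0 1 * M 1 0)
    · simp [mul_01, bd]
      linear_combination -(M' 0 1) * hd + (M 0 1) * hd' - M 0 1 * two * (M' 0 0 * M 1 1)
    · rw [mul_10, mU_10, mU_11, zero_mul, one_mul, zero_add]; exact e10
    · rw [mul_11, mU_10, mU_11, zero_mul, one_mul, zero_add]; exact e11
  have : c' = c := by
    refine T.Φ.e_inj ?_
    rw [← hc3, ← hc3', hM, T.el_mU, T.sq_central (T.el_mem M)]
  rw [← heq, this]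
  exact ⟨hc1, hc2, hc3⟩

theorem Sv_ne {v : F × F} (hv : v ≠ 0) : T.Sv v ≠ 0 := by
  obtain ⟨M, hM⟩ := exists_completion hv
  rw [← hM]; exact (T.Sv_spec M).2.1

theorem Sv_smul {v : F × F} (hv : v ≠ 0) (l : Fˣ) : T.Sv ((l : F) • v) * ((l : F) * l) = T.Sv v := by
  obtain ⟨M, hM⟩ := exists_completion hv
  have e : ((mD l⁻¹ * M) 1 0, (mD l⁻¹ * M) 1 1) = (l : F) • v := by
    rw [← hM]; simp [mul_10, mul_11]
  have h1 := (T.Sv_spec M).2.2
  have h2 := (T.Sv_spec (mD l⁻¹ * M)).2.2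
  rw [e, T.el_mD] at h2
  rw [hM] at h1
  have h3 : T.Φ.kl l⁻¹ * (T.el M * T.el M) * (T.Φ.kl l⁻¹)⁻¹ = T.Φ.e (T.Sv ((l : F) • v)) := by
    rw [← h2]; group
  rw [h1, T.Φ.kl_e, mul_inv_cancel_right] at h3
  have h4 := T.Φ.e_inj h3
  rw [← h4]
  simp only [Units.val_inv_eq_inv_val]
  field_simp

section cocycle

variable {Γ : Type u} [CommGroup Γ]
  (φ : ↥(lSub t Q ⊓ twoStab a t) →* Γ)

/-- The value of the torus component. -/
noncomputable def hD (M : SL(2, F)) :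
    ↥(lSub t Q ⊓ twoStab a t) :=
  ⟨hE h (T.el M), h.hE_mem_lSub (T.el_mem M), h.hE_mem _⟩

theorem el_mU_triple {c : F} (hc : c ≠ 0) (M : SL(2, F)) :
    ∃ k ∈ h.kSub, ∃ k' ∈ h.kSub,
      hE h (T.el (mU c * M)) = k * hE h (T.el (mU (1 / c) * (mT * M))) * k' * hE h (T.el M) := by
  have hx := T.el_mem M
  have hx1 := T.el_ne M
  set k := T.Φ.kl (Units.mk0 c hc)⁻¹
  have hk : k ∈ h.kSub := T.Φ.kl_mem _
  have hkD := h.kSub_le hk
  set e' := T.Φ.e (((Units.mk0 c hc)⁻¹ : Fˣ) : F)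
  have hy : T.el (mU (1 / c) * (mT * M)) = e' * gE h (T.el M) := by
    rw [T.el_mU, T.el_mT, one_div]; rfl
  rw [hy]
  set g := gE h (T.el M)
  set hh := hE h (T.el M)
  set f := fE h (T.el M)
  have hye : e' * g ∈ Q := mul_mem (h.zSub_le (T.Φ.mem _)) (h.gE_mem _)
  have hyne : e' * g ≠ 1 := hy ▸ T.el_ne _
  have ht' : t * hh * t ∈ twoStab a t := conj_t_mem_D h.hS (h.hE_mem _)
  refine ⟨k, hk, 1, one_mem _, ?_⟩
  rw [mul_one, T.el_mU]
  refine (h.triple_eq (mul_mem (h.zSub_le (T.Φ.mem c)) hx) (T.el_mU c M ▸ T.el_ne (mU c * M))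
    (mul_mem (h.zSub_le (T.Φ.mem (((Units.mk0 c hc)⁻¹ : Fˣ) : F))) (h.conj_Q_D hkD (h.gE_mem (e' * g))))
    (mul_mem (mul_mem hkD (h.hE_mem (e' * g))) (h.hE_mem _))
    (mul_mem (h.conj_Q_D' ht' (h.fE_mem (e' * g))) (h.fE_mem (T.el M))) ?_).2.1
  have e1 : t * (T.Φ.e c * T.el M) * t = t * T.Φ.e c * t * (t * T.el M * t) := by
    simp only [mul_assoc, h.tt]
  have e2 : t * T.Φ.e c * t = e' * k * t * e' := by
    have := T.Φ.t_e T.hr (Units.mk0 c hc)
    rwa [Units.val_mk0] at this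
  rw [e1, e2, h.rw_eq hx hx1]
  calc e' * k * t * e' * (g * hh * t * f) = e' * k * (t * (e' * g) * t) * (t * hh * t) * f := by
        simp only [mul_assoc, h.tt]
    _ = e' * (k * gE h (e' * g) * k⁻¹) * (k * hE h (e' * g) * hh) * t *
        ((t * hh * t)⁻¹ * fE h (e' * g) * (t * hh * t) * f) := by
      rw [h.rw_eq hye hyne]
      simp only [mul_assoc, mul_inv_rev, h.t_inv, h.tt, inv_mul_cancel_left, mul_inv_cancel_left]

variable (hφk : ∀ d : ↥(lSub t Q ⊓ twoStab a t), (d : G) ∈ h.kSub → φ d = 1)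

include hφk

theorem phi_mU {c : F} (hc : c ≠ 0) (M : SL(2, F)) :
    φ (T.hD (mU c * M)) = φ (T.hD (mU (1 / c) * (mT * M))) * φ (T.hD M) := by
  obtain ⟨k, hk, k', hk', e⟩ := T.el_mU_triple hc M
  have e' : T.hD (mU c * M) = h.kD hk *
      T.hD (mU (1 / c) * (mT * M)) * h.kD hk' * T.hD M :=
    Subtype.ext e
  rw [e', map_mul, map_mul, map_mul, hφk (h.kD hk) hk, hφk (h.kD hk') hk', one_mul, mul_one]

theorem phi_mD (l : Fˣ) (M : SL(2, F)) : φ (T.hD (mD l * M)) = φ (T.hD M) := by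
  have hk := T.Φ.kl_mem l
  have e : T.hD (mD l * M) = h.kD (inv_mem hk) * T.hD M * h.kD (inv_mem hk) := Subtype.ext (by
    show hE h (T.el (mD l * M)) = (T.Φ.kl l)⁻¹ * hE h (T.el M) * (T.Φ.kl l)⁻¹
    rw [T.el_mD, (h.triple_k (T.el_mem M) (T.el_ne M) hk).2.1])
  rw [e, map_mul, map_mul, hφk (h.kD (inv_mem hk)) (inv_mem hk), one_mul, mul_one]

theorem phi_mT (M : SL(2, F)) : φ (T.hD (mT * M)) = (φ (T.hD M))⁻¹ := by
  rw [← map_inv]
  congr 1
  refine Subtype.ext ?_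
  show hE h (T.el (mT * M)) = (hE h (T.el M))⁻¹
  rw [T.el_mT, (h.triple_g (T.el_mem M) (T.el_ne M)).2.1]

theorem phi_inv (M : SL(2, F)) :
    φ (T.hD (mU (T.Sv (M 1 0, M 1 1)) * M)) = (φ (T.hD M))⁻¹ := by
  set d := T.hD M
  obtain ⟨v, hv, k, hk, e⟩ := h.exists_vk (inv_mem d.2.2)
  have hkk : k⁻¹ * k⁻¹ ∈ h.kSub := mul_mem (inv_mem hk) (inv_mem hk)
  have e' : T.hD (mU (T.Sv (M 1 0, M 1 1)) * M) = d⁻¹ * h.kD hkk := Subtype.ext (by
    show hE h (T.el (mU _ * M)) = (d : G)⁻¹ * (k⁻¹ * k⁻¹)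
    rw [← (T.Sv_spec M).1, (h.triple_inv (T.el_mem M) (T.el_ne M)).2.1]
    show t * (d : G)⁻¹ * t = _
    rw [e]
    have ev : t * v * t = v := h.v_t hv
    calc t * (v * k) * t = (t * v * t) * (t * k * t) := by simp only [mul_assoc, h.tt]
      _ = v * k * (k⁻¹ * k⁻¹) := by rw [ev, h.k_t hk]; group)
  rw [e', map_mul, map_inv, hφk (h.kD hkk) hkk, mul_one]

end cocycle

open scoped Classical in
/-- The value on a pair of independent rows. -/
noncomputable def pairVal {Γ : Type u} [CommGroup Γ] (φ : ↥(lSub t Q ⊓ twoStab a t) →* Γ) (u v : F × F) : Γ :=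
  if hd : bd u v = 0 then 1
  else φ (T.hD (mkM (u.1 / bd u v) (u.2 / bd u v) v.1 v.2 (by
    rw [CharTwo.sub_eq_add, div_mul_eq_mul_div, div_mul_eq_mul_div, ← add_div]
    exact div_self hd)))

theorem pairVal_eq {Γ : Type u} [CommGroup Γ] (φ : ↥(lSub t Q ⊓ twoStab a t) →* Γ) {u v : F × F}
    (hd : bd u v ≠ 0) {M : SL(2, F)} (h00 : M 0 0 = u.1 / bd u v) (h01 : M 0 1 = u.2 / bd u v)
    (h10 : M 1 0 = v.1) (h11 : M 1 1 = v.2) : T.pairVal φ u v = φ (T.hD M) := by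
  rw [pairVal, dif_neg hd]
  congr 2
  exact mat_ext h00.symm h01.symm h10.symm h11.symm

/-- The main statement: squaring is the inverse of an anisotropic quadratic form. -/
theorem exists_qform_Sv [FaithfulSMul G Ω] :
    ∃ p r : F, (∀ v : F × F, v ≠ 0 → qform p r v ≠ 0) ∧
      ∀ v : F × F, v ≠ 0 → T.Sv v * qform p r v = 1 := by
  classical
  set D0 := lSub t Q ⊓ twoStab a t with hD0
  set K0 : Subgroup D0 := h.kSub.subgroupOf D0 with hK0
  haveI hK0n : K0.Normal := ⟨fun k hk d => Subgroup.mem_subgroupOf.2 (by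
    simpa using h.conj_k d.2.2 (Subgroup.mem_subgroupOf.1 hk))⟩
  set N0 : Subgroup D0 := K0 ⊔ commutator D0 with hN0
  haveI : N0.Normal := Subgroup.sup_normal K0 (commutator D0)
  letI : CommGroup (D0 ⧸ N0) :=
    { (inferInstance : Group (D0 ⧸ N0)) with
      mul_comm := fun x y => by
        obtain ⟨x, rfl⟩ := QuotientGroup.mk_surjective x
        obtain ⟨y, rfl⟩ := QuotientGroup.mk_surjective y
        rw [← QuotientGroup.mk_mul, ← QuotientGroup.mk_mul, QuotientGroup.eq]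
        refine Subgroup.mem_sup_right ?_
        have e : (x * y)⁻¹ * (y * x) = y⁻¹ * x⁻¹ * y⁻¹⁻¹ * x⁻¹⁻¹ := by group
        rw [e]
        exact Subgroup.commutator_mem_commutator (Subgroup.mem_top _) (Subgroup.mem_top _) }
  let φ : D0 →* D0 ⧸ N0 := QuotientGroup.mk' N0
  have hφk : ∀ d : D0, (d : G) ∈ h.kSub → φ d = 1 := fun d hd =>
    (QuotientGroup.eq_one_iff d).2 (Subgroup.mem_sup_left (Subgroup.mem_subgroupOf.2 hd))
  have hodd : ∀ g : D0 ⧸ N0, g * g = 1 → g = 1 := by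
    intro g hg
    have h1 : orderOf g ∣ 2 := orderOf_dvd_of_pow_eq_one (by rw [pow_two, hg])
    have h2 : Odd (orderOf g) := Odd.of_dvd_nat h.hS.odd_card
      ((orderOf_dvd_natCard g).trans ((Subgroup.card_quotient_dvd_card N0).trans
        (Subgroup.card_dvd_of_le inf_le_right)))
    rcases (Nat.dvd_prime Nat.prime_two).1 h1 with e | e
    · exact orderOf_eq_one_iff.1 e
    · exact absurd (e ▸ h2) (by decide)
  set P := T.pairVal φ with hP
  have hcomp : ∀ u v : F × F, bd u v ≠ 0 → ∀ l m : F, l ≠ 0 → m ≠ 0 → P (l • u) (m • v) = P u v := by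
    intro u v hd l m hl hm
    have hd' : bd (l • u) (m • v) ≠ 0 := by
      rw [bd_smul, bd_comm, bd_smul, bd_comm]; exact mul_ne_zero hl (mul_ne_zero hm hd)
    set M0 : SL(2, F) := mkM (u.1 / bd u v) (u.2 / bd u v) v.1 v.2 (by
      rw [CharTwo.sub_eq_add, div_mul_eq_mul_div, div_mul_eq_mul_div, ← add_div]; exact div_self hd)
    rw [hP, T.pairVal_eq φ hd (M := M0) rfl rfl rfl rfl,
      T.pairVal_eq φ hd' (M := mD (Units.mk0 m hm)⁻¹ * M0) ?_ ?_ ?_ ?_, T.phi_mD φ hφk]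
    all_goals simp [mul_00, mul_01, mul_10, mul_11, M0, bd]
    all_goals field_simp
    all_goals ring
  have hanti : ∀ u v : F × F, bd u v ≠ 0 → P v u = (P u v)⁻¹ := by
    intro u v hd
    set M0 : SL(2, F) := mkM (u.1 / bd u v) (u.2 / bd u v) v.1 v.2 (by
      rw [CharTwo.sub_eq_add, div_mul_eq_mul_div, div_mul_eq_mul_div, ← add_div]; exact div_self hd)
    have hb : bd ((1 : F) • v) ((bd u v)⁻¹ • u) = 1 := by
      rw [one_smul, bd_comm, bd_smul, inv_mul_cancel₀ hd]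
    rw [← hcomp v u (by rwa [bd_comm]) 1 (bd u v)⁻¹ one_ne_zero (inv_ne_zero hd), hP,
      T.pairVal_eq φ hd (M := M0) rfl rfl rfl rfl,
      T.pairVal_eq φ (by rw [hb]; exact one_ne_zero) (M := mT * M0)
        ?_ ?_ ?_ ?_, T.phi_mT φ hφk]
    all_goals (try rw [hb])
    all_goals simp [mul_00, mul_01, mul_10, mul_11, M0, div_eq_inv_mul]
  have hcoc : ∀ A B C : F × F, bd A B ≠ 0 → bd C B ≠ 0 → bd C A ≠ 0 → P C B = P C A * P A B := by
    intro A B C hAB hCB hCA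
    set A' := (bd A B)⁻¹ • A with hA'
    have hA'B : bd A' B = 1 := by rw [hA', bd_smul, inv_mul_cancel₀ hAB]
    set M0 : SL(2, F) := mkM A'.1 A'.2 B.1 B.2 (by rw [CharTwo.sub_eq_add]; exact hA'B) with hM0
    set α := bd C B with hα
    set β := bd C A' with hβ
    have hβ0 : β ≠ 0 := by
      rw [hβ, bd_comm, hA', bd_smul, bd_comm A C]; exact mul_ne_zero (inv_ne_zero hAB) hCA
    set c := β / α with hcdef
    have hc : c ≠ 0 := div_ne_zero hβ0 hCB
    have hC : C = α • A' + β • B := expand hA'B C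
    have e1 : P C B = φ (T.hD (mU c * M0)) := by
      rw [← hcomp C B hCB α⁻¹ 1 (inv_ne_zero hCB) one_ne_zero, one_smul, hP]
      have hb : bd (α⁻¹ • C) B = 1 := by rw [bd_smul, hα, inv_mul_cancel₀ hCB]
      refine T.pairVal_eq φ (by rw [hb]; exact one_ne_zero) ?_ ?_ ?_ ?_ <;> (try rw [hb]) <;>
        (try rw [hC]) <;> simp [mul_00, mul_01, mul_10, mul_11, hM0, hcdef] <;> field_simp
    have e2 : P C A = φ (T.hD (mU (1 / c) * (mT * M0))) := by
      rw [← hcomp C A hCA β⁻¹ (bd A B)⁻¹ (inv_ne_zero hβ0) (inv_ne_zero hAB), hP, ← hA']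
      have hb : bd (β⁻¹ • C) A' = 1 := by rw [bd_smul, ← hβ, inv_mul_cancel₀ hβ0]
      refine T.pairVal_eq φ (by rw [hb]; exact one_ne_zero) ?_ ?_ ?_ ?_ <;> (try rw [hb]) <;>
        (try rw [hC]) <;> simp [mul_00, mul_01, mul_10, mul_11, hM0, hcdef] <;> field_simp <;> ring
    have e3 : P A B = φ (T.hD M0) := by
      rw [← hcomp A B hAB (bd A B)⁻¹ 1 (inv_ne_zero hAB) one_ne_zero, one_smul, hP, ← hA']
      refine T.pairVal_eq φ (by rw [hA'B]; exact one_ne_zero) ?_ ?_ ?_ ?_ <;> (try rw [hA'B]) <;>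
        simp [hM0]
    rw [e1, e2, e3, T.phi_mU φ hφk hc]
  -- the potential
  let av : F × F → D0 ⧸ N0 := fun A => P A (0, 1)
  have hzero : ∀ u v : F × F, bd u v = 0 → P u v = 1 := fun u v hd => by
    rw [hP, pairVal, dif_pos hd]
  have hdiff : ∀ A B : F × F, bd A B ≠ 0 → P A B * av B = av A := by
    intro A B hAB
    show P A B * P B (0, 1) = P A (0, 1)
    by_cases hA : bd A (0, 1) = 0
    · rw [hzero A _ hA]
      have hA0 : A ≠ 0 := by rintro rfl; simp [bd] at hAB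
      obtain ⟨l, hl⟩ := eq_smul_of_bd (v := ((0 : F), (1 : F))) (by simp) hA
      have hl0 : l ≠ 0 := fun e => hA0 (by rw [hl, e, zero_smul])
      have hd : bd (0, 1) B ≠ 0 := fun e => hAB (by rw [hl, bd_smul, e, mul_zero])
      rw [hl, show B = (1 : F) • B from (one_smul F B).symm, hcomp _ _ hd l 1 hl0 one_ne_zero,
        one_smul, hanti B (0, 1) (by rwa [bd_comm]), inv_mul_cancel]
    by_cases hB : bd B (0, 1) = 0
    · rw [hzero B _ hB, mul_one]
      have hB0 : B ≠ 0 := by rintro rfl; simp [bd] at hAB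
      obtain ⟨l, hl⟩ := eq_smul_of_bd (v := ((0 : F), (1 : F))) (by simp) hB
      have hl0 : l ≠ 0 := fun e => hB0 (by rw [hl, e, zero_smul])
      rw [hl, show A = (1 : F) • A from (one_smul F A).symm, hcomp _ _ hA 1 l one_ne_zero hl0,
        one_smul]
    exact (hcoc B (0, 1) A hB hA hAB).symm
  have hT : ∀ A B : F × F, A ≠ 0 → B ≠ 0 →
      av (mAct (trB T.Sv B) A) * av A = av B * av B := by
    intro A B hA hB
    by_cases hAB : bd A B = 0
    · obtain ⟨l, hl⟩ := eq_smul_of_bd hB hAB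
      have hl0 : l ≠ 0 := fun e => hA (by rw [hl, e, zero_smul])
      have e1 : av A = av B := by
        show P A (0, 1) = P B (0, 1)
        by_cases hB' : bd B (0, 1) = 0
        · rw [hzero B _ hB', hzero A _ (by rw [hl, bd_smul, hB', mul_zero])]
        · rw [hl]
          conv_lhs => rw [show ((0 : F), (1 : F)) = (1 : F) • ((0 : F), (1 : F)) from (one_smul F _).symm]
          rw [hcomp _ _ hB' l 1 hl0 one_ne_zero]
      rw [trB_act, hAB, mul_zero, zero_smul, add_zero, e1]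
    · set A' := mAct (trB T.Sv B) A with hA'
      have hA'B : bd A' B ≠ 0 := by
        rw [hA']
        conv_lhs => arg 2; rw [← trB_self T.Sv B]
        rwa [mAct_bd]
      set M0 : SL(2, F) := mkM (A.1 / bd A B) (A.2 / bd A B) B.1 B.2 (by
        rw [CharTwo.sub_eq_add, div_mul_eq_mul_div, div_mul_eq_mul_div, ← add_div]
        exact div_self hAB) with hM0
      have hbd' : bd A' B = bd A B := by
        rw [hA']
        conv_lhs => arg 2; rw [← trB_self T.Sv B]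
        rw [mAct_bd]
      have e1 : P A' B = (P A B)⁻¹ := by
        rw [hP, T.pairVal_eq φ hAB (M := M0) rfl rfl rfl rfl, ← T.phi_inv φ hφk M0]
        refine T.pairVal_eq φ hA'B ?_ ?_ ?_ ?_
        all_goals (try rw [hbd'])
        all_goals (try rw [hA', trB_act])
        all_goals simp [mul_00, mul_01, mul_10, mul_11, hM0]
        all_goals field_simp
      rw [← hdiff A' B hA'B, ← hdiff A B hAB, e1, mul_mul_mul_comm, inv_mul_cancel, one_mul]
  refine exists_qform T.Sv av hodd ?_ (fun B hB => T.Sv_ne hB) hT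
  by_contra hconst
  push Not at hconst
  -- all torus components are trivial
  have hh : ∀ x ∈ Q, x ≠ 1 → hE h x ∈ N0.map D0.subtype := by
    intro x hx hx1
    refine ⟨⟨hE h x, h.hE_mem_lSub hx, h.hE_mem x⟩, (QuotientGroup.eq_one_iff _).1 ?_, rfl⟩
    show φ ⟨hE h x, _⟩ = 1
    by_cases hxZ : x ∈ h.zSub
    · obtain ⟨y, rfl⟩ := (T.Φ.e_mem x).1 hxZ
      have hy : y ≠ 0 := fun e => hx1 (by rw [e, T.Φ.e_zero])
      refine hφk _ ?_
      have := T.Φ.t_e T.hr (Units.mk0 y hy)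
      rw [Units.val_mk0] at this
      obtain ⟨-, e, -⟩ := h.triple_eq hx hx1 (h.zSub_le (T.Φ.mem _)) (h.kSub_le (T.Φ.kl_mem _))
        (h.zSub_le (T.Φ.mem _)) this
      show hE h (T.Φ.e y) ∈ h.kSub
      rw [e]; exact T.Φ.kl_mem _
    · obtain ⟨M, rfl⟩ := T.exists_mat hx hxZ
      show φ (T.hD M) = 1
      have hd : bd (M 0 0, M 0 1) (M 1 0, M 1 1) = 1 := det_two M
      rw [← T.pairVal_eq φ (u := (M 0 0, M 0 1)) (v := (M 1 0, M 1 1)) (by rw [hd]; exact one_ne_zero)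
        (by rw [hd, div_one]) (by rw [hd, div_one]) rfl rfl]
      have e := hdiff (M 0 0, M 0 1) (M 1 0, M 1 1) (by rw [hd]; exact one_ne_zero)
      rw [hconst (M 1 0, M 1 1) (M 0 0, M 0 1) ?_ ?_] at e
      · exact mul_eq_right.1 e
      all_goals
        intro e'
        rw [e'] at hd
        simp [bd] at hd
  have htop : N0 = ⊤ := by
    refine eq_top_iff.2 fun d _ => ?_
    have hle := h.lSub_inf_le (D1 := N0.map D0.subtype)
      (fun y hy => ((Subgroup.map_subtype_le N0) hy).2) ?_ hh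
    · obtain ⟨d', hd', e⟩ := hle d.2
      rwa [← Subtype.ext e]
    rintro _ ⟨⟨d, hdL, hdD⟩, hd, rfl⟩
    obtain ⟨v, hv, k, hk, rfl⟩ := h.exists_vk hdD
    have hkk : k⁻¹ * k⁻¹ ∈ h.kSub := mul_mem (inv_mem hk) (inv_mem hk)
    refine ⟨⟨v * k, hdL, hdD⟩ * ⟨k⁻¹ * k⁻¹, h.kSub_le_lSub hkk, h.kSub_le hkk⟩,
      mul_mem hd (Subgroup.mem_sup_left (Subgroup.mem_subgroupOf.2 hkk)), ?_⟩
    show v * k * (k⁻¹ * k⁻¹) = t * (v * k) * t
    have ev : t * v * t = v := h.v_t hv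
    calc v * k * (k⁻¹ * k⁻¹) = (t * v * t) * (t * k * t) := by rw [ev, h.k_t hk]; group
      _ = t * (v * k) * t := by simp only [mul_assoc, h.tt]
  -- so the two-point stabiliser of `L` is `K`
  have hDK : lSub t Q ⊓ twoStab a t ≤ h.kSub := by
    haveI : Group.IsSolvable D0 :=
      h.oddSolvable D0 (h.hS.odd_card.of_dvd_nat (Subgroup.card_dvd_of_le inf_le_right))
    have hsub : commutator (D0 ⧸ K0) = ⊤ := by
      have e : (commutator D0).map (QuotientGroup.mk' K0) = ⊤ := by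
        rw [← Subgroup.map_top_of_surjective _ (QuotientGroup.mk'_surjective K0), ← htop, hN0,
          Subgroup.map_sup, QuotientGroup.map_mk'_self, bot_sup_eq]
      rw [commutator_def, Subgroup.map_commutator, Subgroup.map_top_of_surjective _
        (QuotientGroup.mk'_surjective K0)] at e
      rwa [commutator_def]
    intro d hd
    by_contra hdk
    haveI : Nontrivial (D0 ⧸ K0) := ⟨⟨QuotientGroup.mk ⟨d, hd⟩, 1, fun e =>
      hdk (Subgroup.mem_subgroupOf.1 ((QuotientGroup.eq_one_iff _).1 e))⟩⟩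
    exact (Group.IsSolvable.commutator_lt_top_of_nontrivial (D0 ⧸ K0)).ne hsub
  exact T.not_zassenhaus hDK

end Tor

end Cfsg.Agent.Lib.SplitRankOne70
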