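import Cfsg.Agent.Lib.SplitRankOne70.LinearCase
import Cfsg.Agent.Lib.SplitRankOne70.Torsor
import Cfsg.Agent.Lib.SuzukiUniq.Final

/-!
`|Q| = q²`: coordinates of Suzuki type, and the Suzuki groups. The algebra follows the uniqueness
proof for the Suzuki groups, without assuming that the torus is the whole two-point stabiliser.
-/

set_option autoImplicit false
set_option linter.unusedSectionVars false
set_option linter.style.haveILetI false

namespace Cfsg.Agent.Lib.SplitRankOne70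

open Cfsg MulAction Cfsg.Agent.Lib.RankOne
open Cfsg.Agent.Lib.SuzukiUniq (pw pw_one pw_zero pw_mul pw_inv pw_ne_zero pw_sq pw_one_add umul uinv
  usc umul_assoc umul_zero zero_umul umul_uinv usc_umul usc_usc usc_one wpt fam fam_eq wpt_mul
  usc_uinv fam_mul lmap lmap_apply lmap_one fam_one)

universe u v

section Algebra

variable {G Ω : Type*} [Group G] [MulAction G Ω]
variable {F : Type*} [Field F] [Fintype F] [CharP F 2] {φ : F ≃+* F}

/-- The coordinates. -/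
structure PreFrame (G Ω : Type*) [Group G] [MulAction G Ω] (F : Type*) [Field F] [Fintype F]
    (φ : F ≃+* F) where
  a : Ω
  b : Ω
  ne : a ≠ b
  u : F × F → G
  u_mul : ∀ X Y, u X * u Y = u (umul φ X Y)
  u_fix : ∀ X, u X • a = a
  u_reg : ∀ c, c ≠ a → ∃! X, u X • b = c
  hh : Fˣ →* G
  hh_fix : ∀ s, hh s • a = a ∧ hh s • b = b
  hh_inj : Function.Injective hh
  hh_conj : ∀ (s : Fˣ) X, hh s * u X = u (usc φ (s : F) X) * hh s
  t : G
  t_a : t • a = b
  t_b : t • b = a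
  t_sq : t * t = 1
  t_hh : ∀ s, t * hh s = hh s⁻¹ * t
  pw_inj : ∀ s s' : F, s ≠ 0 → pw φ s = pw φ s' → s = s'

namespace PreFrame

variable (D : PreFrame G Ω F φ) {β : F}
include D

/-- `τ u(X) τ = u(A) h(r) τ u(C)`. -/
def Rw (X A : F × F) (r : Fˣ) (C : F × F) : Prop :=
  D.t * D.u X * D.t = D.u A * D.hh r * D.t * D.u C

theorem u_zero : D.u 0 = 1 := by
  have h := D.u_mul 0 0
  rw [umul_zero] at h
  exact mul_eq_left.1 h

theorem u_inv (X : F × F) : (D.u X)⁻¹ = D.u (uinv φ X) :=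
  inv_eq_of_mul_eq_one_right (by rw [D.u_mul, umul_uinv, u_zero])

theorem t_inv : D.t⁻¹ = D.t := inv_eq_of_mul_eq_one_right D.t_sq

theorem u_b_ne (X : F × F) : D.u X • D.b ≠ D.a := fun e =>
  D.ne (smul_left_cancel (D.u X) ((D.u_fix X).trans e.symm))

theorem u_b_inj {X Y : F × F} (h : D.u X • D.b = D.u Y • D.b) : X = Y :=
  (D.u_reg _ (D.u_b_ne X)).unique rfl h.symm

theorem u_inj {X Y : F × F} (h : D.u X = D.u Y) : X = Y := D.u_b_inj (by rw [h])

theorem u_hh (s : Fˣ) (X : F × F) : D.u X * D.hh s = D.hh s * D.u (usc φ ((s⁻¹ : Fˣ) : F) X) := by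
  rw [D.hh_conj, usc_usc, Units.mul_inv, usc_one]

theorem big_a (A C : F × F) (r : Fˣ) :
    (D.u A * D.hh r * D.t * D.u C) • D.a = D.u A • D.b := by
  rw [mul_smul, mul_smul, mul_smul, D.u_fix, D.t_a, (D.hh_fix r).2]

theorem big_unique {A A' C C' : F × F} {r r' : Fˣ}
    (h : D.u A * D.hh r * D.t * D.u C = D.u A' * D.hh r' * D.t * D.u C') :
    A = A' ∧ r = r' ∧ C = C' := by
  obtain rfl : A = A' := D.u_b_inj (by rw [← D.big_a A C r, h, D.big_a])
  rw [mul_assoc, mul_assoc, mul_assoc, mul_assoc] at h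
  have h1 : D.t * (D.hh r'⁻¹ * D.hh r) * D.t * D.u C = D.u C' := by
    have h' := mul_left_cancel h
    calc D.t * (D.hh r'⁻¹ * D.hh r) * D.t * D.u C
        = D.t * D.hh r'⁻¹ * (D.hh r * (D.t * D.u C)) := by group
      _ = D.t * D.hh r'⁻¹ * (D.hh r' * (D.t * D.u C')) := by rw [h']
      _ = D.t * (D.hh r'⁻¹ * D.hh r') * D.t * D.u C' := by group
      _ = D.u C' := by rw [← map_mul, inv_mul_cancel, map_one, mul_one, D.t_sq, one_mul]
  rw [← map_mul, D.t_hh, mul_assoc (D.hh _) D.t D.t, D.t_sq, mul_one] at h1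
  have hC : C' = usc φ (((r'⁻¹ * r)⁻¹ : Fˣ) : F) C := D.u_b_inj (by
    rw [← h1, D.hh_conj, mul_smul, (D.hh_fix _).2])
  rw [D.hh_conj, ← hC] at h1
  have hr : (r'⁻¹ * r)⁻¹ = 1 := D.hh_inj (by rw [map_one]; exact mul_eq_left.1 h1)
  rw [hr, Units.val_one, usc_one] at hC
  rw [inv_eq_one, inv_mul_eq_one] at hr
  exact ⟨rfl, hr.symm, hC.symm⟩

theorem rw_unique {X A A' C C' : F × F} {r r' : Fˣ} (h : D.Rw X A r C) (h' : D.Rw X A' r' C') :
    A = A' ∧ r = r' ∧ C = C' := D.big_unique (h.symm.trans h')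

theorem rw_inv {X A C : F × F} {r : Fˣ} (h : D.Rw X A r C) :
    D.Rw (uinv φ X) (uinv φ C) r (uinv φ A) := by
  have h' : (D.t * D.u X * D.t)⁻¹ = (D.u A * D.hh r * D.t * D.u C)⁻¹ := congrArg _ h
  rw [mul_inv_rev, mul_inv_rev, D.u_inv, D.t_inv, mul_inv_rev, mul_inv_rev, mul_inv_rev, D.u_inv,
    D.u_inv, D.t_inv, ← map_inv] at h'
  show D.t * D.u _ * D.t = _
  rw [mul_assoc, h']
  calc D.u (uinv φ C) * (D.t * (D.hh r⁻¹ * D.u (uinv φ A)))
      = D.u (uinv φ C) * ((D.t * D.hh r⁻¹) * D.u (uinv φ A)) := by group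
    _ = D.u (uinv φ C) * D.hh r * D.t * D.u (uinv φ A) := by rw [D.t_hh, inv_inv]; group

theorem rw_scale {X A C : F × F} {r : Fˣ} (h : D.Rw X A r C) (s : Fˣ) :
    D.Rw (usc φ (s : F) X) (usc φ ((s⁻¹ : Fˣ) : F) A) (r * (s * s)⁻¹)
      (usc φ ((s⁻¹ : Fˣ) : F) C) := by
  show D.t * D.u _ * D.t = _
  have e1 : D.u (usc φ (s : F) X) = D.hh s * D.u X * D.hh s⁻¹ := by
    rw [D.hh_conj, mul_assoc, ← map_mul, mul_inv_cancel, map_one, mul_one]
  have e2 : D.hh s⁻¹ * D.t = D.t * D.hh s := (D.t_hh s).symm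
  calc D.t * D.u (usc φ (s : F) X) * D.t
      = (D.t * D.hh s) * D.u X * (D.hh s⁻¹ * D.t) := by rw [e1]; group
    _ = (D.hh s⁻¹ * D.t) * D.u X * (D.t * D.hh s) := by rw [e2]
    _ = D.hh s⁻¹ * (D.t * D.u X * D.t) * D.hh s := by group
    _ = D.hh s⁻¹ * D.u A * D.hh r * D.t * (D.u C * D.hh s) := by
        rw [h]; group
    _ = D.u (usc φ ((s⁻¹ : Fˣ) : F) A) * (D.hh s⁻¹ * D.hh r) * (D.t * D.hh s) *
          D.u (usc φ ((s⁻¹ : Fˣ) : F) C) := by rw [D.hh_conj s⁻¹ A, D.u_hh s C]; group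
    _ = D.u (usc φ ((s⁻¹ : Fˣ) : F) A) * (D.hh s⁻¹ * D.hh r * D.hh s⁻¹) * D.t *
          D.u (usc φ ((s⁻¹ : Fˣ) : F) C) := by rw [D.t_hh]; group
    _ = _ := by rw [← map_mul, ← map_mul]; congr 3; rw [mul_inv_rev]; ac_rfl

/-- Composition of two relations. -/
theorem rw_mul {X Y A C A' C' : F × F} {r r' : Fˣ} (h : D.Rw X A r C) (h' : D.Rw Y A' r' C') :
    D.t * D.u (umul φ X Y) * D.t =
      D.u A * D.hh r * (D.t * D.u (umul φ C A') * D.t) * D.hh r'⁻¹ * D.u C' := by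
  calc D.t * D.u (umul φ X Y) * D.t = (D.t * D.u X * D.t) * (D.t * D.u Y * D.t) := by
        rw [← D.u_mul]
        calc D.t * (D.u X * D.u Y) * D.t = D.t * D.u X * 1 * D.u Y * D.t := by group
          _ = _ := by rw [← D.t_sq]; group
    _ = D.u A * D.hh r * D.t * (D.u C * D.u A') * (D.hh r' * D.t) * D.u C' := by
        rw [h, h']; group
    _ = _ := by
        rw [D.u_mul, show D.hh r' * D.t = D.t * D.hh r'⁻¹ by rw [D.t_hh, inv_inv]]
        group

/-- Change of scale. -/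
def rescale (c : Fˣ) : PreFrame G Ω F φ where
  a := D.a
  b := D.b
  ne := D.ne
  u X := D.u (usc φ (c : F) X)
  u_mul X Y := by rw [D.u_mul, usc_umul]
  u_fix _ := D.u_fix _
  u_reg x hx := by
    obtain ⟨X, hX, huniq⟩ := D.u_reg x hx
    refine ⟨usc φ ((c⁻¹ : Fˣ) : F) X, ?_, fun Y hY => ?_⟩
    · show D.u _ • D.b = x
      rw [usc_usc, Units.mul_inv, usc_one, hX]
    · rw [← huniq _ hY, usc_usc, Units.inv_mul, usc_one]
  hh := D.hh
  hh_fix := D.hh_fix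
  hh_inj := D.hh_inj
  hh_conj s X := by rw [D.hh_conj, usc_usc, usc_usc, mul_comm]
  t := D.t
  t_a := D.t_a
  t_b := D.t_b
  t_sq := D.t_sq
  t_hh := D.t_hh
  pw_inj := D.pw_inj

theorem rw_rescale {c : Fˣ} {X A C : F × F} {r : Fˣ}
    (h : D.Rw (usc φ (c : F) X) (usc φ (c : F) A) r (usc φ (c : F) C)) :
    (D.rescale c).Rw X A r C := h

/-- The normalised relation. -/
def Normal (β : F) : Prop := D.Rw (0, 1) (uinv φ (1, β)) 1 (1, β)

theorem rw_w {w z : F × F} (h : D.Rw z (uinv φ w) 1 w) : D.Rw w w 1 z := by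
  have h' : D.t * D.u z * D.t = (D.u w)⁻¹ * D.t * D.u w := by
    rw [show D.t * D.u z * D.t = _ from h, map_one, mul_one, D.u_inv]
  show D.t * D.u w * D.t = _
  rw [map_one, mul_one]
  calc D.t * D.u w * D.t = D.u w * ((D.u w)⁻¹ * D.t * D.u w) * D.t := by group
    _ = D.u w * (D.t * D.u z) * (D.t * D.t) := by rw [← h']; group
    _ = D.u w * D.t * D.u z := by rw [D.t_sq]; group

/-- Normalised coordinates. -/
theorem exists_rw_normal {y : F} {w : F × F} (hR : D.Rw (0, y) (uinv φ w) 1 w) (hw1 : w.1 ≠ 0) :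
    ∃ (c : Fˣ) (β : F), (D.rescale c).Normal β := by
  classical
  -- rescale so that `w` has first coordinate one
  set c' : Fˣ := Units.mk0 w.1 hw1
  have hc1 : (c' : F) = w.1 := rfl
  let wn : F × F := usc φ ((c'⁻¹ : Fˣ) : F) w
  let zn : F × F := usc φ ((c'⁻¹ : Fˣ) : F) (0, y)
  have hR' : (D.rescale c').Rw zn (uinv φ wn) 1 wn := D.rw_rescale (by
    simp only [wn, zn, ← usc_uinv, usc_usc, Units.mul_inv, usc_one]
    exact hR)
  obtain ⟨β, hwn⟩ : ∃ β, wn = (1, β) := ⟨wn.2, Prod.ext (by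
    simp [wn, usc, hc1, inv_mul_cancel₀ hw1]) rfl⟩
  obtain ⟨ζ, hzn⟩ : ∃ ζ, zn = (0, ζ) := ⟨zn.2, Prod.ext (by simp [zn, usc]) rfl⟩
  rw [hwn, hzn] at hR'
  refine ⟨c', β, ?_⟩
  set E := D.rescale c'
  suffices hζ : ζ = 1 by rwa [hζ] at hR'
  have hζ0 : ζ ≠ 0 := by
    rintro rfl
    have h0 : E.t * E.u 0 * E.t = _ := hR'
    rw [E.u_zero, mul_one, E.t_sq, map_one, mul_one] at h0
    apply E.ne
    have := congrArg (· • E.a) h0
    simp only [mul_smul, E.u_fix, E.t_a, one_smul] at this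
    by_contra hne
    exact E.u_b_ne _ this.symm
  -- the power of `ζ`
  obtain ⟨t, ht0, htp⟩ : ∃ t : F, t ≠ 0 ∧ pw φ t = ζ := by
    have hinj : Function.Injective (pw φ) := by
      intro s s' h
      by_cases hs : s = 0
      · subst hs
        by_contra hs'
        rw [pw_zero] at h
        exact pw_ne_zero φ (Ne.symm hs') h.symm
      · exact D.pw_inj s s' hs h
    obtain ⟨t, ht⟩ := Finite.surjective_of_injective hinj ζ
    exact ⟨t, fun h => hζ0 (by rw [← ht, h, pw_zero]), ht⟩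
  set T : Fˣ := Units.mk0 t ht0
  have hT : ((T⁻¹ : Fˣ) : F) = t⁻¹ := by simp [T]
  have hW := E.rw_w hR'
  -- `(0,1)` rewritten in two ways
  have hone : E.Rw (0, 1) (usc φ t (uinv φ (1, β))) (T * T) (usc φ t (1, β)) := by
    have h := E.rw_scale hR' T⁻¹
    rw [inv_inv, one_mul, mul_inv_rev, inv_inv, hT] at h
    have e : usc φ t⁻¹ ((0 : F), ζ) = (0, 1) := by
      simp [usc, pw_inv, htp, inv_mul_cancel₀ hζ0]
    rwa [e] at h
  -- `z w` in two ways
  set iw : F × F := uinv φ (1, β) with hiw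
  have hzw : E.Rw (umul φ (0, ζ) (1, β)) (umul φ iw (usc φ t iw)) (T * T)
      (umul φ (usc φ t (1, β)) (0, ζ)) := by
    have e : umul φ (1, β) (1, β) = ((0, 1) : F × F) := by
      refine Prod.ext ?_ ?_ <;> simp only [umul, map_one]
      · exact CharTwo.add_self_eq_zero _
      · linear_combination β * CharTwo.two_eq_zero (R := F)
    show E.t * E.u _ * E.t = _
    rw [E.rw_mul hR' hW, inv_one, map_one, mul_one, mul_one, e,
      show E.t * E.u ((0 : F), 1) * E.t = _ from hone, ← E.u_mul, ← E.u_mul]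
    group
  have hzw2 : E.Rw (umul φ (0, ζ) iw) (umul φ (umul φ iw (umul φ iw (usc φ t iw))) 0) (T * T)
      (umul φ (umul φ (usc φ t (1, β)) (0, ζ)) iw) := by
    have e : umul φ (1, β) (0, ζ) = umul φ (0, ζ) (1, β) := by
      refine Prod.ext ?_ ?_ <;> simp [umul] <;> ring
    have hiR : E.Rw iw (uinv φ (0, ζ)) 1 iw := E.rw_inv hW
    have e' : uinv φ ((0 : F), ζ) = (0, ζ) := by simp [uinv]
    show E.t * E.u _ * E.t = _
    rw [E.rw_mul hR' hiR, inv_one, map_one, mul_one, mul_one, e', e,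
      show E.t * E.u (umul φ (0, ζ) (1, β)) * E.t = _ from hzw, umul_zero]
    simp only [← E.u_mul]
    group
  have hinvX : uinv φ (umul φ (0, ζ) (1, β)) = umul φ (0, ζ) iw := by
    refine Prod.ext ?_ ?_ <;> simp [umul, uinv, hiw] <;> ring
  have hA := (E.rw_unique (hinvX ▸ E.rw_inv hzw) hzw2).1
  have h2 := congrArg Prod.snd hA
  simp only [umul, uinv, usc, hiw, map_one, mul_zero, add_zero, Prod.snd_zero, mul_one,
    map_add, Prod.fst_zero, mul_zero, add_zero] at h2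
  rw [htp] at h2
  have hφt : φ t * t = ζ := htp
  linear_combination h2 - hφt + (1 + β + t) * CharTwo.two_eq_zero (R := F)

theorem pw_injective : Function.Injective (pw φ) := by
  intro s s' h
  by_cases hs : s = 0
  · subst hs
    by_contra hs'
    rw [pw_zero] at h
    exact pw_ne_zero φ (Ne.symm hs') h.symm
  · exact D.pw_inj s s' hs h

theorem pw_surjective : Function.Surjective (pw φ) := Finite.surjective_of_injective D.pw_injective

theorem exists_unit_pw {y : F} (hy : y ≠ 0) : ∃ s : Fˣ, pw φ (s : F) = y := by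
  obtain ⟨s, hs⟩ := D.pw_surjective y
  exact ⟨Units.mk0 s (fun h => hy (by rw [← hs, h, pw_zero])), by simpa using hs⟩

/-- The relation on the centre. -/
theorem rw_centre (h : D.Normal β) (t : Fˣ) :
    D.Rw (0, (pw φ (t : F))⁻¹) (uinv φ (wpt φ β t)) (t * t) (wpt φ β t) := by
  have hs := D.rw_scale h t⁻¹
  rw [inv_inv, one_mul, mul_inv_rev, inv_inv] at hs
  have e1 : usc φ ((t⁻¹ : Fˣ) : F) ((0 : F), (1 : F)) = (0, (pw φ (t : F))⁻¹) := by
    simp [usc, pw_inv]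
  have e2 : usc φ (t : F) ((1 : F), β) = wpt φ β t := by simp [usc, wpt, mul_comm]
  rw [e1, usc_uinv, e2] at hs
  exact hs

theorem rw_wpt (h : D.Normal β) (t : Fˣ) :
    D.Rw (wpt φ β t) (wpt φ β ((t⁻¹ : Fˣ) : F)) (t * t)⁻¹
      (0, pw φ ((t⁻¹ : Fˣ) : F)) := by
  have hs := D.rw_scale (D.rw_w h) t
  rw [one_mul] at hs
  have e2 : ∀ r : F, usc φ r ((1 : F), β) = wpt φ β r := fun r => by
    simp [usc, wpt, mul_comm]
  rw [e2, e2] at hs
  simpa [usc] using hs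

theorem rw_fam (h : D.Normal β) {t₁ t₂ t₃ : Fˣ}
    (he : (pw φ (t₁ : F))⁻¹ + (pw φ (t₂ : F))⁻¹ = (pw φ (t₃ : F))⁻¹) :
    D.Rw (fam φ β t₁ t₂) (usc φ (((t₁ * t₁)⁻¹ : Fˣ) : F) (fam φ β t₁ t₃))
      ((t₁ * t₁)⁻¹ * (t₃ * t₃) * (t₂ * t₂)⁻¹)
      (usc φ (((t₂ * t₂)⁻¹ : Fˣ) : F) (fam φ β t₃ t₂)) := by
  have h1 := D.rw_centre h t₁
  have h2 := D.rw_centre h t₂
  have h3 := D.rw_centre h t₃
  have hm := D.rw_mul h1 h2
  have e : umul φ ((0 : F), (pw φ (t₁ : F))⁻¹) (0, (pw φ (t₂ : F))⁻¹) =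
      (0, (pw φ (t₃ : F))⁻¹) := by simp [umul, he]
  rw [e, show D.t * D.u ((0 : F), (pw φ (t₃ : F))⁻¹) * D.t = _ from h3] at hm
  show D.t * D.u _ * D.t = _
  set r₁ := t₁ * t₁
  set r₂ := t₂ * t₂
  set r₃ := t₃ * t₃
  have hm' : D.t * D.u (fam φ β t₁ t₂) * D.t =
      D.hh r₁⁻¹ * D.u (fam φ β t₁ t₃) * D.hh r₃ * D.t * (D.u (fam φ β t₃ t₂) * D.hh r₂) := by
    have e1 : ∀ x y : F, D.u (fam φ β x y) = D.u (wpt φ β x) * (D.u (wpt φ β y))⁻¹ := fun x y => by
      rw [D.u_inv, D.u_mul]; rfl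
    rw [e1 (t₁ : F) t₃, e1 (t₃ : F) t₂]
    simp only [← D.u_inv] at hm
    rw [map_inv] at hm
    rw [show D.u (fam φ β t₁ t₂) = D.u (wpt φ β t₁) * (D.u (wpt φ β t₂))⁻¹ from e1 _ _,
      map_inv]
    calc D.t * (D.u (wpt φ β t₁) * (D.u (wpt φ β t₂))⁻¹) * D.t
        = (D.hh r₁)⁻¹ * D.u (wpt φ β t₁) * ((D.u (wpt φ β t₃))⁻¹ * D.hh r₃ * D.t *
            D.u (wpt φ β t₃)) * (D.u (wpt φ β t₂))⁻¹ * D.hh r₂ := by
          rw [hm, D.u_inv (wpt φ β t₂), D.u_mul]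
          simp only [← D.u_mul, ← D.u_inv]
          group
      _ = _ := by group
  rw [hm', D.hh_conj, D.u_hh r₂ (fam φ β t₃ t₂)]
  calc D.u (usc φ ((r₁⁻¹ : Fˣ) : F) (fam φ β t₁ t₃)) * D.hh r₁⁻¹ * D.hh r₃ * D.t *
        (D.hh r₂ * D.u (usc φ ((r₂⁻¹ : Fˣ) : F) (fam φ β t₃ t₂)))
      = D.u (usc φ ((r₁⁻¹ : Fˣ) : F) (fam φ β t₁ t₃)) * (D.hh r₁⁻¹ * D.hh r₃) * (D.t * D.hh r₂) *
          D.u (usc φ ((r₂⁻¹ : Fˣ) : F) (fam φ β t₃ t₂)) := by group
    _ = _ := by rw [D.t_hh]; simp only [map_mul, r₁, r₂, r₃]; group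

theorem exists_third {t₁ t₂ : Fˣ} (hne : t₁ ≠ t₂) :
    ∃ t₃ : Fˣ, (pw φ (t₁ : F))⁻¹ + (pw φ (t₂ : F))⁻¹ = (pw φ (t₃ : F))⁻¹ := by
  have h0 : (pw φ (t₁ : F))⁻¹ + (pw φ (t₂ : F))⁻¹ ≠ 0 := fun e => hne (Units.ext
    (D.pw_injective (inv_injective (CharTwo.add_eq_zero.1 e))))
  obtain ⟨s, hs⟩ := D.exists_unit_pw h0
  exact ⟨s⁻¹, by rw [Units.val_inv_eq_inv_val, pw_inv, inv_inv, hs]⟩

theorem lmap_injective (h : D.Normal β) : Function.Injective (lmap φ β) := by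
  rw [injective_iff_map_eq_zero]
  intro s hs
  by_contra hs0
  have hs1 : s ≠ 1 := by
    rintro rfl
    rw [lmap_one] at hs
    exact one_ne_zero hs
  have h1s : (1 : F) + s ≠ 0 := fun e => hs1 (CharTwo.add_eq_zero.1 e).symm
  set T₁ : Fˣ := Units.mk0 s hs0
  set T₂ : Fˣ := Units.mk0 (1 + s) h1s
  have hne : T₁ ≠ T₂ := fun e => one_ne_zero (α := F) (by
    have := congrArg Units.val e
    simpa [T₁, T₂] using this)
  obtain ⟨T₃, h3⟩ := D.exists_third hne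
  have hR := D.rw_fam h h3
  have e : fam φ β (T₁ : F) (T₂ : F) = uinv φ ((1 : F), β) := by
    show fam φ β s (1 + s) = _
    rw [fam_one, hs, zero_add]
    simp [uinv]
  have hI := D.rw_inv (D.rw_w h)
  rw [e] at hR
  obtain ⟨hA, -, -⟩ := D.rw_unique hR hI
  have hA1 := congrArg Prod.fst hA
  simp only [usc, uinv, fam_eq, mul_eq_zero, Units.ne_zero, false_or] at hA1
  have h13 : (T₁ : F) = T₃ := CharTwo.add_eq_zero.1 hA1
  rw [← h13] at h3
  exact inv_ne_zero (pw_ne_zero φ T₂.ne_zero) (add_eq_left.1 h3)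

theorem lmap_bijective (h : D.Normal β) : Function.Bijective (lmap φ β) :=
  ⟨D.lmap_injective h, Finite.surjective_of_injective (D.lmap_injective h)⟩


theorem exists_rw (hN : D.Normal β) {X : F × F} (hX : X ≠ 0) : ∃ A r C, D.Rw X A r C := by
  classical
  obtain ⟨x, y⟩ := X
  by_cases hx : x = 0
  · subst hx
    have hy : y ≠ 0 := fun e => hX (by rw [e]; rfl)
    obtain ⟨s, hs⟩ := D.exists_unit_pw (inv_ne_zero hy)
    have h1 := D.rw_centre hN s
    rw [hs, inv_inv] at h1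
    exact ⟨_, _, _, h1⟩
  set T : Fˣ := Units.mk0 x hx
  suffices H : ∀ c : F, ∃ A r C, D.Rw (1, c) A r C by
    obtain ⟨A, r, C, h1⟩ := H ((pw φ x)⁻¹ * y)
    have h2 := D.rw_scale h1 T
    have e : usc φ (T : F) ((1 : F), (pw φ x)⁻¹ * y) = (x, y) := by
      simp [usc, T, pw_ne_zero φ hx]
    rw [e] at h2
    exact ⟨_, _, _, h2⟩
  intro c
  obtain ⟨s, hs⟩ := Finite.surjective_of_injective (D.lmap_injective hN) (c + β + 1)
  have hc : ((1 : F), c) = fam φ β s (1 + s) := by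
    rw [fam_one, hs]
    refine Prod.ext rfl ?_
    show c = c + β + 1 + β + 1
    linear_combination -(β + 1) * CharTwo.two_eq_zero (R := F)
  rw [hc]
  have hw0 : wpt φ β (0 : F) = 0 := by simp [wpt, pw_zero]
  have hw1 : wpt φ β (1 : F) = (1, β) := by simp [wpt, pw_one]
  by_cases h0 : s = 0
  · rw [h0, add_zero, fam, hw0, hw1, zero_umul]
    exact ⟨_, _, _, D.rw_inv (D.rw_w hN)⟩
  by_cases h1 : s = 1
  · rw [h1, CharTwo.add_self_eq_zero, fam, hw0, hw1,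
      show uinv φ (0 : F × F) = 0 by simp [uinv], umul_zero]
    exact ⟨_, _, _, D.rw_w hN⟩
  have h1s : (1 : F) + s ≠ 0 := fun e => h1 (CharTwo.add_eq_zero.1 e).symm
  have hne : Units.mk0 s h0 ≠ Units.mk0 (1 + s) h1s := fun e => one_ne_zero (α := F)
    (right_eq_add.1 (congrArg Units.val e))
  obtain ⟨T₃, h3⟩ := D.exists_third hne
  exact ⟨_, _, _, D.rw_fam hN h3⟩

end PreFrame

end Algebra

variable {G : Type u} {Ω : Type v} [Group G] [MulAction G Ω] [Finite G] {a : Ω} {t : G}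
  {Q : Subgroup G} [FaithfulSMul G Ω]

namespace Setup

variable (h : Setup a t Q)
include h

theorem exists_preFrame (hp : IsPGroup 2 Q) (hna : ∃ u ∈ Q, ∃ v ∈ Q, u * v ≠ v * u)
    (hQ : Nat.card Q = Nat.card h.zSub ^ 2) :
    ∃ (F : Type) (_ : Field F) (_ : Fintype F) (_ : CharP F 2) (φ : F ≃+* F)
      (D : PreFrame G Ω F φ), D.a = a ∧ D.b = t • a ∧ D.t = t ∧
      (∀ X, D.u X ∈ Q) ∧ (∀ x ∈ Q, ∃ X, D.u X = x) ∧ ∀ s, D.hh s ∈ h.kSub := by
  classical
  letI := Fintype.ofFinite G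
  let ψ : h.kSub →* MulAut Q := MonoidHom.mk'
    (fun c => ({ toFun := fun x => ⟨(c : G) * x * (c : G)⁻¹, h.conj_Q_D (h.kSub_le c.2) x.2⟩
                 invFun := fun x => ⟨((c⁻¹ : h.kSub) : G) * x * ((c⁻¹ : h.kSub) : G)⁻¹,
                   h.conj_Q_D (h.kSub_le (c⁻¹).2) x.2⟩
                 left_inv := fun x => Subtype.ext (by simp [mul_assoc])
                 right_inv := fun x => Subtype.ext (by simp [mul_assoc])
                 map_mul' := fun x y => Subtype.ext (by simp [mul_assoc]) } : Q ≃* Q))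
    (fun c d => MulEquiv.ext fun x => Subtype.ext (by simp [mul_assoc]))
  have hψ : ∀ (c : h.kSub) (x : Q), ((ψ c) x : G) = (c : G) * x * (c : G)⁻¹ := fun c x => rfl
  have hqz : ∀ x : Q, x * x = 1 → (x : G) ∈ h.zSub := fun x hx =>
    h.mem_zSub.2 ⟨Q_fix h.hS x.2, congrArg Subtype.val hx⟩
  have htrans : ∀ x y : Q, x ≠ 1 → x * x = 1 → y ≠ 1 → y * y = 1 → ∃ c : h.kSub, ψ c x = y := by
    intro x y hx hx2 hy hy2
    obtain ⟨c1, hc1, e1⟩ := h.exists_k_conj (hqz x hx2) (fun e => hx (Subtype.ext e))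
    obtain ⟨c2, hc2, e2⟩ := h.exists_k_conj (hqz y hy2) (fun e => hy (Subtype.ext e))
    refine ⟨⟨c2 * c1⁻¹, mul_mem hc2 (inv_mem hc1)⟩, Subtype.ext ?_⟩
    rw [hψ, ← e2, ← e1]
    show c2 * c1⁻¹ * (c1 * h.sElt * c1⁻¹) * (c2 * c1⁻¹)⁻¹ = _
    group
  have hfree : ∀ (c : h.kSub) (x : Q), x ≠ 1 → x * x = 1 → ψ c x = x → c = 1 := by
    intro c x hx hx2 e
    refine Subtype.ext (h.k_inj c.2 (one_mem _) (hqz x hx2) (fun e' => hx (Subtype.ext e')) ?_)
    rw [← hψ, e]; simp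
  obtain ⟨S, O, hSp⟩ := h.exists_split (h.not_twoAbelian hp hna)
  have hSmem : ∀ x : Q, x ∈ S := fun x => (hSp.memS x).2 (by obtain ⟨i, hi⟩ := hp x; exact ⟨i, hi⟩)
  have hcen : Nat.card (Subgroup.center Q) = Nat.card h.zSub := by
    have e : Subgroup.center Q = h.zQ := by
      refine le_antisymm (fun x hx => hSp.center_eq (hSmem x) ?_) fun x hx => ?_
      · exact Subgroup.mem_center_iff.2 fun y => Subtype.ext (Subgroup.mem_center_iff.1 hx (y : Q))
      · exact Subgroup.mem_center_iff.2 fun y =>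
          Subtype.ext (h.z_central (Subgroup.mem_subgroupOf.1 hx) y.2).symm
    rw [e]
    exact Nat.card_congr (Subgroup.subgroupOfEquivOfLe h.zSub_le).toEquiv
  have hP : IsSuzukiTwoGroup Q := by
    refine ⟨inferInstance, hp, ?_, ?_, ψ.range, ?_, ?_⟩
    · obtain ⟨p, hp', q, hq', hpq⟩ := hna
      exact ⟨⟨p, hp'⟩, ⟨q, hq'⟩, fun e => hpq (congrArg Subtype.val e)⟩
    · have h4 := h.four_le_card_zSub
      haveI := Fintype.ofFinite h.zSub
      rw [Nat.card_eq_fintype_card] at h4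
      obtain ⟨z, -, hz⟩ := Finset.exists_mem_notMem_of_card_lt_card
        (s := ({1, ⟨h.sElt, h.s_mem⟩} : Finset h.zSub)) (t := Finset.univ)
        (Finset.card_le_two.trans_lt (by rw [Finset.card_univ]; omega))
      simp only [Finset.mem_insert, Finset.mem_singleton, not_or] at hz
      exact ⟨⟨h.sElt, h.zSub_le h.s_mem⟩, ⟨z, h.zSub_le z.2⟩,
        fun e => hz.2 (Subtype.ext (congrArg (fun q : Q => (q : G)) e.symm)),
        fun e => h.s_ne (congrArg Subtype.val e), Subtype.ext (h.z_sq h.s_mem),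
        fun e => hz.1 (Subtype.ext (congrArg (fun q : Q => (q : G)) e)), Subtype.ext (h.z_sq z.2)⟩
    · haveI := h.kSub_cyclic
      exact isCyclic_of_surjective ψ.rangeRestrict ψ.rangeRestrict_surjective
    · intro x y hx hx2 hy hy2
      obtain ⟨c, hc⟩ := htrans x y hx hx2 hy hy2
      refine ⟨⟨ψ c, c, rfl⟩, hc, ?_⟩
      rintro ⟨_, d, rfl⟩ hd
      have : c⁻¹ * d = 1 := hfree _ x hx hx2 (by
        rw [map_mul, MulAut.mul_apply, show ψ d x = y from hd, ← hc, map_inv, MulAut.inv_apply,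
          MulEquiv.symm_apply_apply])
      exact Subtype.ext (by rw [inv_mul_eq_one.1 this])
  haveI := h.kSub_cyclic
  obtain ⟨ε, hgen⟩ := IsCyclic.exists_generator (α := h.kSub)
  have hεo : orderOf (ε : G) = Nat.card h.kSub := by
    rw [Subgroup.orderOf_coe, orderOf_eq_card_of_forall_mem_zpowers hgen]
  have hnat : ∀ c : h.kSub, ∃ i : ℕ, ε ^ i = c := fun c =>
    (isOfFinOrder_of_finite _).mem_powers_iff_mem_zpowers.mpr (hgen c)
  have hreg : SuzukiTwo.IsRegGen (ψ ε) := by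
    refine ⟨fun x y hx hx2 hy hy2 => ?_, fun i x hx hx2 e => ?_⟩
    · obtain ⟨c, hc⟩ := htrans x y hx hx2 hy hy2
      obtain ⟨i, rfl⟩ := hnat c
      exact ⟨i, by rw [← map_pow, hc]⟩
    · rw [← map_pow] at e ⊢
      rw [hfree _ x hx hx2 e, map_one]
  obtain ⟨F, iF, iFF, iC, φ, g, Ψ, hcard, hΨ, hΨmul, hgen', hkΨ, hpw⟩ :=
    SuzukiUniq.exists_coord hP hreg (by rw [hcen, hQ])
  have hq4 := h.four_le_card_zSub
  have hFc : Fintype.card F = Nat.card h.kSub + 1 := by rw [hcard, hcen, h.card_zSub]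
  have hg0 : g ≠ 0 := fun e' => by
    have h1 := hgen'
    rw [SuzukiTwo.IsGen, e'] at h1
    simp at h1
    rw [hcard, hcen] at h1
    omega
  set gu : Fˣ := Units.mk0 g hg0
  have hguo : orderOf gu = Nat.card h.kSub := by
    rw [← orderOf_units, Units.val_mk0, hgen', hFc, Nat.add_sub_cancel]
  have hgu : ∀ x : Fˣ, x ∈ Subgroup.zpowers gu := by
    have htop : Subgroup.zpowers gu = ⊤ := Subgroup.eq_top_of_card_eq _ (by
      rw [Nat.card_zpowers, hguo, Nat.card_eq_fintype_card (α := Fˣ), Fintype.card_units, hFc,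
        Nat.add_sub_cancel])
    exact fun x => htop ▸ Subgroup.mem_top x
  let hm : Fˣ →* G := monoidHomOfForallMemZpowers hgu (by rw [hεo, hguo] : orderOf (ε : G) ∣ orderOf gu)
  have hmpow : ∀ i : ℕ, hm (gu ^ i) = (ε : G) ^ i := fun i => by
    rw [map_pow, monoidHomOfForallMemZpowers_apply_gen hgu _]
  have hunit : ∀ x : Fˣ, ∃ i : ℕ, gu ^ i = x := fun x =>
    (isOfFinOrder_of_finite _).mem_powers_iff_mem_zpowers.mpr (hgu x)
  have hmk : ∀ x, hm x ∈ h.kSub := fun x => by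
    obtain ⟨i, rfl⟩ := hunit x
    rw [hmpow]; exact pow_mem ε.2 _
  refine ⟨F, iF, iFF, iC, φ,
    { a := a
      b := t • a
      ne := (t_smul_ne h.hS).symm
      u := fun X => (Ψ X : G)
      u_mul := fun X Y => by rw [← Subgroup.coe_mul, hΨmul]
      u_fix := fun X => Q_fix h.hS (Ψ X).2
      u_reg := fun c hc => by
        obtain ⟨x, hx, rfl⟩ := exists_Q_move h.hS hc
        obtain ⟨X, hX⟩ := hΨ.2 ⟨x, hx⟩
        have hX' : (Ψ X : G) = x := congrArg Subtype.val hX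
        refine ⟨X, ?_, fun Y hY => hΨ.1 (Subtype.ext ?_)⟩
        · show (Ψ X : G) • t • a = _
          rw [hX']
        · rw [hX']
          exact h.q_pt_inj (Ψ Y).2 hx hY
      hh := hm
      hh_fix := fun x => mem_twoStab.1 (h.kSub_le (hmk x))
      hh_inj := by
        rw [injective_iff_map_eq_one]
        intro x hx
        obtain ⟨i, rfl⟩ := hunit x
        rw [hmpow, ← orderOf_dvd_iff_pow_eq_one, hεo, ← hguo, orderOf_dvd_iff_pow_eq_one] at hx
        exact hx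
      hh_conj := fun x X => by
        obtain ⟨i, rfl⟩ := hunit x
        rw [hmpow]
        induction i with
        | zero => simp [usc_one]
        | succ i ih =>
          rw [pow_succ', mul_assoc, ih, ← mul_assoc]
          have h1 : (ε : G) * (Ψ (usc φ ((gu ^ i : Fˣ) : F) X) : G) =
              (Ψ (usc φ g (usc φ ((gu ^ i : Fˣ) : F) X)) : G) * ε := by
            rw [← hkΨ, hψ, inv_mul_cancel_right]
          rw [h1, usc_usc, mul_assoc]
          simp only [pow_succ', Units.val_mul, gu, Units.val_mk0]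
      t := t
      t_a := rfl
      t_b := t_smul_smul h.hS a
      t_sq := h.hS.mul_self
      t_hh := fun x => by
        rw [map_inv, ← h.k_t (hmk x)]
        simp [mul_assoc, h.hS.mul_self]
      pw_inj := fun x y _ hxy => hpw hxy },
    rfl, rfl, rfl, fun X => (Ψ X).2, fun x hx => ?_, hmk⟩
  obtain ⟨X, hX⟩ := hΨ.2 ⟨x, hx⟩
  exact ⟨X, congrArg Subtype.val hX⟩

theorem suzuki_case (hp : IsPGroup 2 Q) (hna : ∃ u ∈ Q, ∃ v ∈ Q, u * v ≠ v * u)
    (hQ : Nat.card Q = Nat.card h.zSub ^ 2) : Cfsg.Lie.IsoSuzuki (lSub t Q) := by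
  classical
  obtain ⟨F, iF, iFF, iC, φ, D, hDa, hDb, hDt, huQ, husurj, hk⟩ := h.exists_preFrame hp hna hQ
  have hr : h.rElt ∉ h.zSub := fun hr => by
    obtain ⟨F', iF', iFF', iC', ⟨Φ⟩⟩ := h.exists_zField
    exact Φ.no_square hr hQ
  obtain ⟨Xs, hXs⟩ := husurj _ (h.zSub_le h.s_mem)
  obtain ⟨w, hw⟩ := husurj _ h.r_mem
  have hsq : ∀ X : F × F, X.1 = 0 ↔ D.u X * D.u X = 1 := by
    intro X
    rw [D.u_mul, ← D.u_zero]
    constructor
    · intro e
      congr 1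
      simp [umul, e, CharTwo.add_self_eq_zero]
    · intro e
      have h1 := congrArg Prod.snd (D.u_inj e)
      simp only [umul, Prod.snd_zero, CharTwo.add_self_eq_zero, zero_add] at h1
      by_contra h5
      exact pw_ne_zero φ h5 h1
  have hw1 : w.1 ≠ 0 := fun e => hr (h.mem_zSub.2 ⟨Q_fix h.hS h.r_mem, hw ▸ (hsq w).1 e⟩)
  have hs0 : Xs.1 = 0 := (hsq Xs).2 (by rw [hXs]; exact h.z_sq h.s_mem)
  have hR : D.Rw (0, Xs.2) (uinv φ w) 1 w := by
    show D.t * D.u _ * D.t = _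
    rw [show ((0 : F), Xs.2) = Xs from Prod.ext hs0.symm rfl, hXs, ← D.u_inv, hw, hDt, map_one,
      mul_one, h.tst]
  obtain ⟨c, β, hN⟩ := D.exists_rw_normal hR hw1
  have hhK : ∀ x ∈ Q, x ≠ 1 → hE h x ∈ h.kSub := by
    intro x hx hx1
    obtain ⟨X, rfl⟩ := husurj x hx
    set X' := usc φ ((c⁻¹ : Fˣ) : F) X
    have hX : usc φ (c : F) X' = X := by rw [usc_usc, Units.mul_inv, usc_one]
    obtain ⟨A, r, C, hrw⟩ := (D.rescale c).exists_rw hN (X := X') (fun e => hx1 (by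
      rw [← hX, e, show usc φ (c : F) 0 = 0 by simp [usc], D.u_zero]))
    have hrw' : D.t * D.u (usc φ (c : F) X') * D.t =
        D.u (usc φ (c : F) A) * D.hh r * D.t * D.u (usc φ (c : F) C) := hrw
    rw [hX, hDt] at hrw'
    obtain ⟨-, e, -⟩ := h.triple_eq hx hx1 (huQ _) (h.kSub_le (hk r)) (huQ _) hrw'
    rw [e]; exact hk r
  have hDK : lSub t Q ⊓ twoStab a t ≤ h.kSub :=
    h.lSub_inf_le h.kSub_le (fun d hd => by rw [h.k_t hd]; exact inv_mem hd) hhK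
  haveI := h.lSub_simple hp
  haveI := finite_points h.hS
  refine SuzukiUniq.isoSuzuki_of_zassenhaus (h.lSub_zassenhaus hp hDK) (t_smul_ne h.hS).symm
    (Q.subgroupOf (lSub t Q)) (fun u hu => Q_fix h.hS (Subgroup.mem_subgroupOf.1 hu)) ?_ ?_ ?_ ?_
  · intro g hg u hu
    exact Subgroup.mem_subgroupOf.2 (h.hS.conj_mem (g : G) hg u (Subgroup.mem_subgroupOf.1 hu))
  · intro c d hc hd
    obtain ⟨x, hx, ex⟩ := exists_Q_move' h.hS hc hd
    refine ⟨⟨⟨x, Q_le_lSub hx⟩, Subgroup.mem_subgroupOf.2 hx⟩, ex, fun y hy => ?_⟩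
    obtain ⟨p, hpQ, rfl⟩ := exists_Q_move h.hS hc
    refine Subtype.ext (Subtype.ext (mul_right_cancel (b := p) ?_))
    refine h.q_pt_inj (mul_mem (Subgroup.mem_subgroupOf.1 y.2) hpQ) (mul_mem hx hpQ) ?_
    rw [mul_smul, mul_smul, ex]
    exact hy
  · intro x
    obtain ⟨i, hi⟩ := hp ⟨((x : lSub t Q) : G), Subgroup.mem_subgroupOf.1 x.2⟩
    exact ⟨i, Subtype.ext (Subtype.ext (by simpa using congrArg Subtype.val hi))⟩
  · obtain ⟨p, hp', q, hq', hpq⟩ := hna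
    exact ⟨⟨p, Q_le_lSub hp'⟩, Subgroup.mem_subgroupOf.2 hp', ⟨q, Q_le_lSub hq'⟩,
      Subgroup.mem_subgroupOf.2 hq', fun e => hpq (congrArg Subtype.val e)⟩

end Setup

end Cfsg.Agent.Lib.SplitRankOne70
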