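import Cfsg.Agent.Lib.SplitRankOne70.TwoFamily
import Cfsg.Agent.Lib.SplitRankOne70.AbelianCase

/-!
If the 2-elements of `Q` do not commute then `Q` is a 2-group.
-/

set_option autoImplicit false
set_option linter.unusedSectionVars false
set_option linter.style.haveILetI false

namespace Cfsg.Agent.Lib.SplitRankOne70

open Cfsg MulAction Cfsg.Agent.Lib.RankOne Cfsg.Agent.Lib.Chars
open scoped ComplexConjugate

universe u v

namespace Setup

variable {G : Type u} {Ω : Type v} [Group G] [MulAction G Ω] [Finite G] {a : Ω} {t : G}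
  {Q : Subgroup G} (h : Setup a t Q)
include h

/-- If `|Z| = 4` then `V = W`. -/
theorem v_le_w_of_four (hq : Nat.card h.zSub = 4) : ∀ d ∈ vSub a t, d ∈ wSub a t := by
  classical
  intro d hd
  rw [h.mem_wSub_iff_z hd.1]
  intro z hz
  rcases eq_or_ne z 1 with rfl | hz1
  · rw [mul_one, one_mul]
  rcases eq_or_ne z h.sElt with rfl | hzs
  · exact (h.v_iff_s hd.1).1 hd
  have himg : ∀ y ∈ h.zSub, y ≠ 1 → y ≠ h.sElt →
      d * y * d⁻¹ ≠ 1 ∧ d * y * d⁻¹ ≠ h.sElt := by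
    intro y _ hy1 hys
    refine ⟨fun e' => hy1 (conj_eq_one_iff.1 e'), fun e' => hys ?_⟩
    rw [← h.v_s hd] at e'
    exact mul_left_cancel (mul_right_cancel e')
  have hthree : ∀ y y' w, y ∈ h.zSub → y' ∈ h.zSub → w ∈ h.zSub → y ≠ 1 → y' ≠ 1 → w ≠ 1 →
      y ≠ h.sElt → y' ≠ h.sElt → w ≠ h.sElt → y ≠ w → y' ≠ w → y = y' := by
    intro y y' w hy hy' hw a1 a2 a3 b1 b2 b3 c1 c2
    by_contra hne'
    have hsub : (({1, h.sElt, w, y, y'} : Finset G) : Set G) ⊆ (h.zSub : Set G) := by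
      intro x hx
      simp only [Finset.coe_insert, Finset.coe_singleton, Set.mem_insert_iff,
        Set.mem_singleton_iff] at hx
      rcases hx with rfl | rfl | rfl | rfl | rfl
      · exact one_mem h.zSub
      · exact h.s_mem
      all_goals assumption
    have := Set.ncard_le_ncard hsub
    rw [Set.ncard_coe_finset, ← Nat.card_coe_set_eq] at this
    rw [Finset.card_insert_of_notMem (by simp [h.s_ne.symm, a1.symm, a2.symm, a3.symm]),
      Finset.card_insert_of_notMem (by simp [b1.symm, b2.symm, b3.symm]),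
      Finset.card_insert_of_notMem (by simp [c1.symm, c2.symm]),
      Finset.card_pair hne'] at this
    have h4 : Nat.card ↑(h.zSub : Set G) = 4 := hq
    omega
  set z' := d * z * d⁻¹ with hz'
  have hz'm : z' ∈ h.zSub := h.conj_z (D_le h.hS hd.1) hz
  by_cases ez : z' = z
  · exact mul_inv_eq_iff_eq_mul.1 ez
  exfalso
  obtain ⟨a1, b1⟩ := himg z hz hz1 hzs
  obtain ⟨a2, b2⟩ := himg z' hz'm a1 b1
  have hz''m : d * z' * d⁻¹ ∈ h.zSub := h.conj_z (D_le h.hS hd.1) hz'm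
  have e1 : d * z' * d⁻¹ = z := by
    by_contra e1
    exact absurd (hthree (d * z' * d⁻¹) z z' hz''m hz hz'm a2 hz1 a1 b2 hzs b1
      (fun e' => ez (mul_left_cancel (mul_right_cancel (e' : d * z' * d⁻¹ = d * z * d⁻¹))))
      (Ne.symm ez)) e1
  have hfix : Commute (d * d) z := by
    have : d * d * z * (d * d)⁻¹ = z := by
      calc d * d * z * (d * d)⁻¹ = d * z' * d⁻¹ := by rw [hz']; group
        _ = z := e1
    exact mul_inv_eq_iff_eq_mul.1 this
  have hc2 : z * d = d * z := commute_of_commute_mul_self h.hS.odd_card hd.1 hfix.eq.symm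
  exact ez (by rw [hz', ← hc2]; group)

end Setup

theorem sum_dg_sq_base {G : Type u} {Ω : Type v} [Group G] [MulAction G Ω] [Finite G] {a : Ω}
    {t : G} {Q : Subgroup G} {h : Setup a t Q} {S O : Subgroup Q} (hSp : Split h S O) [Fintype Q]
    [DecidablePred (IsBase S)] :
    (∑ χ ∈ (Finset.univ : Finset (IrrCharacter Q)).filter (IsBase S), (dg χ : ℝ) ^ 2) + 1 =
      (Nat.card O : ℝ) := by
  classical
  have e := hSp.sum_trivS
  have hins : (Finset.univ : Finset (IrrCharacter Q)).filter (TrivOn S) =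
      insert (trivialIrr Q) ((Finset.univ : Finset (IrrCharacter Q)).filter (IsBase S)) := by
    ext χ
    simp only [Finset.mem_filter, Finset.mem_univ, true_and, Finset.mem_insert, IsBase]
    constructor
    · intro hχ
      by_cases e' : χ = trivialIrr Q
      · exact Or.inl e'
      · exact Or.inr ⟨hχ, e'⟩
    · rintro (rfl | hχ)
      · intro x _
        simp
      · exact hχ.1
  rw [hins, Finset.sum_insert (by simp [IsBase]), trivialIrr_apply, one_pow] at e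
  simp only [dg_eq] at e
  have e' : ((∑ χ ∈ (Finset.univ : Finset (IrrCharacter Q)).filter (IsBase S),
      dg χ ^ 2 : ℕ) : ℂ) + 1 = (Nat.card O : ℂ) := by
    push_cast
    rw [← e]; ring
  have e'' : (∑ χ ∈ (Finset.univ : Finset (IrrCharacter Q)).filter (IsBase S), dg χ ^ 2) + 1 =
      Nat.card O := by exact_mod_cast e'
  exact_mod_cast e''

variable {G : Type u} {Ω : Type v} [Group G] [MulAction G Ω] [Fintype G] {a : Ω} {t : G}
  {Q : Subgroup G} [Fintype (stabilizer G a)] [Fintype Q] [Fintype (twoStab a t)]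
  [FaithfulSMul G Ω]

set_option maxHeartbeats 4000000 in
theorem Split.card_O_eq_one {h : Setup a t Q} {S O : Subgroup Q} (hSp : Split h S O)
    (IH : IndHyp.{u, v} (Nat.card G)) : Nat.card O = 1 := by
  classical
  by_contra hO1
  haveI : Nonempty (IrrCharacter G) := ⟨trivialIrr G⟩
  haveI : Nonempty (IrrCharacter Q) := ⟨trivialIrr Q⟩
  haveI : Nonempty (twoStab a t) := ⟨1⟩
  obtain ⟨lam, hlam, hinv⟩ := h.exists_lam0
  set N := Nat.card Q with hN
  set q := Nat.card h.zSub with hq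
  set V := Nat.card (vSub a t) with hV
  set L := Nat.card (Q ⧸ hSp.nSub) with hL
  set m := Nat.card O with hm
  have hq4 : 4 ≤ q := h.four_le_card_zSub
  have hNcard : (N : ℝ) = (q : ℝ) * L * m := by
    rw [hN, ← hSp.compl.card_mul, hSp.card_S]
    push_cast
    ring
  have hLq : q ≤ L := by
    rcases hSp.card_quotient_cases with e | e
    · exact e.ge
    · rw [hL, e]; exact Nat.le_self_pow two_ne_zero _
  -- the characters of `Q / S`
  set B : Finset (IrrCharacter Q) := Finset.univ.filter (IsBase S) with hBdef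
  have hBm : ∀ χ, χ ∈ B ↔ IsBase S χ := fun χ => by simp [hBdef]
  have hS2 := sum_dg_sq_base hSp
  rw [← hBdef, ← hm] at hS2
  set S2 := ∑ χ ∈ B, (dg χ : ℝ) ^ 2 with hS2def
  have hBne : B.Nonempty := by
    by_contra he
    rw [Finset.not_nonempty_iff_eq_empty] at he
    rw [hS2def, he, Finset.sum_empty, zero_add] at hS2
    exact hO1 (by exact_mod_cast hS2.symm)
  have hBS2 : (B.card : ℝ) ≤ S2 := by
    have e : (B.card : ℝ) = ∑ χ ∈ B, (1 : ℝ) := by simp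
    rw [e]
    refine Finset.sum_le_sum fun χ _ => ?_
    have : (1 : ℝ) ≤ (dg χ : ℝ) := by exact_mod_cast dg_pos χ
    nlinarith
  -- normalised conjugates
  have hnorm : ∀ χ ∈ B, ∃ k : twoStab a t, h.SmallFix (h.stabCj (h.cj k (χ : Q → ℂ))) ∧
      ∀ y ∈ h.stabCj (h.cj k (χ : Q → ℂ)), (y : G) ∈ vSub a t := fun χ hχ =>
    h.exists_normal_conj (hSp.smallFix IH ((hBm χ).1 hχ).1 ((hBm χ).1 hχ).2)
  choose! cc hccI hccV using hnorm
  -- the characters over `lam`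
  set Ψ : Finset (IrrCharacter Q) := Finset.univ.filter (h.OverLam O lam) with hΨdef
  have hΨm : ∀ ψ, ψ ∈ Ψ ↔ h.OverLam O lam ψ := fun ψ => by simp [hΨdef]
  have hΨsum : ∑ ψ ∈ Ψ, (dg ψ : ℝ) ^ 2 = L := by
    have e := hSp.overLam_sum (lam := lam)
    simp only [dg_eq] at e
    have e' : ((∑ ψ ∈ Ψ, dg ψ ^ 2 : ℕ) : ℂ) = (L : ℂ) := by push_cast; exact e
    exact_mod_cast (Nat.cast_inj.1 e')
  have hΨf : ∀ ψ ∈ Ψ, 2 ≤ dg ψ ∧ dg ψ ^ 2 ≤ L := by
    intro ψ hψ
    constructor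
    · have h1 := dg_pos ψ
      by_contra hlt
      have : dg ψ = 1 := by omega
      refine hSp.overLam_degree_ne_one hlam ((hΨm ψ).1 hψ) ?_
      rw [dg_eq, this, Nat.cast_one]
    · have h1 := Finset.single_le_sum (f := fun ψ => (dg ψ : ℝ) ^ 2) (fun ψ _ => sq_nonneg _) hψ
      rw [hΨsum] at h1
      exact_mod_cast h1
  have hΨne : Ψ.Nonempty := by
    by_contra he
    rw [Finset.not_nonempty_iff_eq_empty] at he
    rw [he, Finset.sum_empty] at hΨsum
    have : (4 : ℝ) ≤ L := by exact_mod_cast le_trans hq4 hLq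
    linarith
  have hfam : ∀ χ ∈ B, ∀ ψ ∈ Ψ, 2 * dg ψ ≤ (hSp.famSet (dg χ)).card := fun χ hχ ψ hψ =>
    hSp.card_famSet IH ((hBm χ).1 hχ) (hΨf ψ hψ).2
  set E := B.image fun χ => dg χ with hE
  have hfam4 : ∀ e ∈ E, 4 ≤ (hSp.famSet e).card := by
    intro e he
    obtain ⟨χ, hχ, rfl⟩ := Finset.mem_image.1 he
    obtain ⟨ψ, hψ⟩ := hΨne
    have := hfam χ hχ ψ hψ
    have := (hΨf ψ hψ).1
    omega
  have hdegT : ∀ e, ∀ θ ∈ hSp.famSet e, ∀ θ' ∈ hSp.famSet e, θ 1 = θ' 1 := fun e θ hθ θ' hθ' => by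
    rw [hSp.famSet_one hθ, hSp.famSet_one hθ']
  have hsT : ∀ e, ∀ θ ∈ hSp.famSet e, ∀ θ' ∈ hSp.famSet e,
      θ ⟨h.sElt, h.s_mem.1⟩ = θ' ⟨h.sElt, h.s_mem.1⟩ := fun e θ hθ θ' hθ' => by
    rw [hSp.famSet_s hθ, hSp.famSet_s hθ']
  have himages : ∀ e ∈ E, ∃ ε X, h.IsImages (hSp.famSet e) ε X ∧
      ∃ θ, θ ∈ hSp.famSet e := fun e he => by
    have h4 := hfam4 e he
    obtain ⟨ε, X, hX⟩ := h.exists_images hSp.famSet_free (hdegT e) (by omega)
    exact ⟨ε, X, hX, Finset.card_pos.1 (by omega)⟩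
  haveI : Nonempty (stabilizer G a → ℂ) := ⟨0⟩
  choose! ε X hX θ₀ hθ₀ using himages
  have hEm : ∀ χ ∈ B, dg χ ∈ E := fun χ hχ => Finset.mem_image_of_mem _ hχ
  have hXX : ∀ e ∈ E, ∀ e' ∈ E, e ≠ e' → ∀ θ ∈ hSp.famSet e, ∀ η ∈ hSp.famSet e',
      X e θ ≠ X e' η := fun e he e' he' hne θ hθ η hη =>
    h.images_disjoint hSp.famSet_free (hdegT e) (hX e he) (by have := hfam4 e he; omega)
      hSp.famSet_free (hdegT e') (hX e' he') (by have := hfam4 e' he'; omega)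
      (hSp.famSet_disjoint hne) hθ hη
  -- tops
  set Ks : Finset (twoStab a t) :=
    Finset.univ.filter fun k => (k : G) ∈ h.kSub ∧ (k ≠ 1 ∨ q = 4) with hKdef
  have hKm : ∀ k, k ∈ Ks ↔ (k : G) ∈ h.kSub ∧ (k ≠ 1 ∨ q = 4) := fun k => by simp [hKdef]
  have hbot4 : q = 4 → ∀ χ ∈ B, h.stabCj (h.cj (cc χ) (χ : Q → ℂ)) = ⊥ := by
    intro hq' χ hχ
    rw [eq_bot_iff, ← h.smallFix_inf_kw (hccI χ hχ)]
    intro y hy
    exact ⟨hy, Subgroup.mem_subgroupOf.2 (Subgroup.mem_sup_right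
      (h.v_le_w_of_four hq' _ (hccV χ hχ y hy)))⟩
  set Tr := B ×ˢ Ks ×ˢ Ψ with hTrdef
  have hTr : ∀ x ∈ Tr, x.1 ∈ B ∧ x.2.1 ∈ Ks ∧ x.2.2 ∈ Ψ := fun x hx => by
    simpa [hTrdef, Finset.mem_product] using hx
  let φt : IrrCharacter Q × twoStab a t × IrrCharacter Q → Q → ℂ := fun x =>
    h.cj (cc x.1) (x.1 : Q → ℂ) * h.cj x.2.1 (x.2.2 : Q → ℂ)
  let top : IrrCharacter Q × twoStab a t × IrrCharacter Q → stabilizer G a → ℂ := fun x =>
    qInd a Q (φt x)
  have hμS : ∀ x ∈ Tr, TrivOn S (⟨_, h.cj_irr (cc x.1) x.1.2⟩ : IrrCharacter Q) := fun x hx =>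
    hSp.trivS_cj _ ((hBm _).1 (hTr x hx).1).1
  have hψO : ∀ x ∈ Tr, h.OverLam O lam x.2.2 := fun x hx => (hΨm _).1 (hTr x hx).2.2
  have hfree : ∀ x ∈ Tr, h.stabCj (φt x) = ⊥ := by
    intro x hx
    obtain ⟨h1, h2, -⟩ := hTr x hx
    obtain ⟨hk, hor⟩ := (hKm _).1 h2
    exact hSp.top_free hlam hinv (hμS x hx) (hψO x hx) (hccI _ h1) (hccV _ h1) hk
      (hor.imp id fun e => hbot4 e _ h1)
  have hirr : ∀ x ∈ Tr, IsIrrCharacter Q (φt x) := fun x hx =>
    hSp.prod_irr (ψ := ⟨_, h.cj_irr x.2.1 x.2.2.2⟩) (hμS x hx) (hSp.trivO_cj _ (hψO x hx).1)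
  have htopF : ∀ x ∈ Tr, h.FreeInd (top x) := fun x hx => ⟨⟨_, hirr x hx⟩, hfree x hx, rfl⟩
  have hdgμ : ∀ χ : IrrCharacter Q, dg (⟨_, h.cj_irr (cc χ) χ.2⟩ : IrrCharacter Q) = dg χ := by
    intro χ
    have e := h.cj_apply_one (cc χ) (χ : Q → ℂ)
    rw [show h.cj (cc χ) (χ : Q → ℂ) 1 =
      ((⟨_, h.cj_irr (cc χ) χ.2⟩ : IrrCharacter Q) : Q → ℂ) 1 from rfl, dg_eq, dg_eq] at e
    exact_mod_cast e
  have hnot : ∀ x ∈ Tr, ∀ e, top x ∉ hSp.famSet e := fun x hx e =>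
    hSp.top_not_famSet hlam (hμS x hx) (hψO x hx) _ (hfree x hx) e
  have hdf : ∀ x ∈ Tr, (dg x.2.2 : ℂ) * θ₀ (dg x.1) 1 = top x 1 := by
    intro x hx
    rw [hSp.famSet_one (hθ₀ _ (hEm _ (hTr x hx).1))]
    refine Eq.trans ?_ (hSp.top_one (hμS x hx) (hψO x hx).1 x.2.1).symm
    rw [hdgμ]
    ring
  let Y : IrrCharacter Q × twoStab a t × IrrCharacter Q → G → ℂ := fun x =>
    lift a ((dg x.2.2 : ℂ) • θ₀ (dg x.1) - top x)
  have hdata : ∀ x ∈ Tr, ∃ R ρ c, IsTopImage (hSp.famSet (dg x.1)) (ε (dg x.1)) (X (dg x.1))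
      (θ₀ (dg x.1)) (dg x.2.2) (Y x) R ρ c := by
    intro x hx
    obtain ⟨h1, -, h3⟩ := hTr x hx
    exact h.exists_topImage hSp.famSet_free (hdegT _) (hX _ (hEm _ h1)) (hθ₀ _ (hEm _ h1))
      (htopF x hx) (hnot x hx _) (hΨf _ h3).1 (hdf x hx) (hfam _ h1 _ h3)
  haveI : Nonempty ℤ := ⟨0⟩
  choose! R ρ cI hR using hdata
  have hδ : ∀ x ∈ Tr, (dg x.2.2 : ℂ) * θ₀ (dg x.1) ⟨h.sElt, h.s_mem.1⟩ -
      top x ⟨h.sElt, h.s_mem.1⟩ = (((q * V * dg x.1 * dg x.2.2 : ℕ) : ℤ) : ℂ) := by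
    intro x hx
    rw [hSp.famSet_s (hθ₀ _ (hEm _ (hTr x hx).1))]
    rw [show top x ⟨h.sElt, h.s_mem.1⟩ = -((V : ℂ) * ((dg x.1 : ℂ) * dg x.2.2)) from by
      rw [← hdgμ x.1]; exact hSp.top_s hlam (hμS x hx) (hψO x hx) x.2.1]
    push_cast
    ring
  have heq : ∀ x ∈ Tr, 2 * (ρ x : ℝ) * (tv t (R x) : ℝ) =
      ((q * V * dg x.1 * dg x.2.2 : ℕ) : ℝ) + h.kap * ρ x * dg (R x) ∧
      ∀ θ ∈ hSp.famSet (dg x.1), ∃ e : ℤ, (e = dg x.2.2 ∨ e = -(dg x.2.2 : ℤ)) ∧
        2 * (e : ℝ) * (tv t (X (dg x.1) θ) : ℝ) =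
          ((q * V * dg x.1 * dg x.2.2 : ℕ) : ℝ) + h.kap * e * dg (X (dg x.1) θ) := by
    intro x hx
    obtain ⟨h1, -, h3⟩ := hTr x hx
    have hδ0 : ((q * V * dg x.1 * dg x.2.2 : ℕ) : ℤ) ≠ 0 := by
      have := dg_pos x.1
      have := dg_pos x.2.2
      have : 0 < V := Nat.card_pos
      have : 0 < q := by omega
      positivity
    have e := h.topImage_equations hSp.famSet_free (hdegT _) (hX _ (hEm _ h1))
      (hθ₀ _ (hEm _ h1)) (htopF x hx) (hdf x hx) (hsT _) (hR x hx) (hδ x hx) hδ0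
    refine ⟨by exact_mod_cast e.1, fun θ hθ => ?_⟩
    obtain ⟨e', he', he''⟩ := e.2 θ hθ
    exact ⟨e', he', by exact_mod_cast he''⟩
  have hYcl : ∀ x ∈ Tr, VanishTwo a ((dg x.2.2 : ℂ) • θ₀ (dg x.1) - top x) ∧
      IsClassFunction (stabilizer G a) ((dg x.2.2 : ℂ) • θ₀ (dg x.1) - top x) := fun x hx =>
    ⟨h.top_vanish hSp.famSet_free (hθ₀ _ (hEm _ (hTr x hx).1)) (htopF x hx) (hdf x hx),
      h.top_class hSp.famSet_free (hθ₀ _ (hEm _ (hTr x hx).1)) (htopF x hx) (hdf x hx)⟩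
  have hfo : ∀ e ∈ E, ∀ x ∈ Tr, classInner (top x) (θ₀ e) = 0 ∧ classInner (θ₀ e) (top x) = 0 :=
    fun e he x hx =>
    ⟨h.freeInd_ortho (htopF x hx) (hSp.famSet_free _ (hθ₀ e he))
      fun e' => hnot x hx e (e' ▸ hθ₀ e he),
    h.freeInd_ortho (hSp.famSet_free _ (hθ₀ e he)) (htopF x hx)
      fun e' => hnot x hx e (e' ▸ hθ₀ e he)⟩
  have hforeign : ∀ x ∈ Tr, ∀ e ∈ E, dg x.1 ≠ e →
      ∀ η ∈ hSp.famSet e, X e η ≠ R x ∧ coef (Y x) (X e η) = 0 := by
    intro x hx e he hne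
    obtain ⟨h1, -, h3⟩ := hTr x hx
    refine (hR x hx).coef_foreign (hX e he).2.1 (by have := hfam4 e he; omega)
      (fun θ hθ η hη => hXX _ (hEm _ h1) e he hne θ hθ η hη) fun η hη η' hη' => ?_
    have hv' := h.freeInd_sub_vanish (hSp.famSet_free η hη) (hSp.famSet_free η' hη')
      (hdegT e η hη η' hη')
    have e0 : classInner (Y x) (lift a (η - η')) = 0 := by
      rw [h.classInner_lift (hYcl x hx).1 hv' (isClassFunction_sub
        (isClassFunction_of_isCharacter (h.freeInd_char (hSp.famSet_free η hη)))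
        (isClassFunction_of_isCharacter (h.freeInd_char (hSp.famSet_free η' hη'))))]
      have z : ∀ η ∈ hSp.famSet e, classInner (θ₀ (dg x.1)) η = 0 ∧ classInner (top x) η = 0 :=
        fun η hη => ⟨h.freeInd_ortho (hSp.famSet_free _ (hθ₀ _ (hEm _ h1))) (hSp.famSet_free η hη)
          fun e' => hSp.famSet_disjoint hne _ (hθ₀ _ (hEm _ h1)) (e' ▸ hη),
        h.freeInd_ortho (htopF x hx) (hSp.famSet_free η hη) fun e' => hnot x hx e (e' ▸ hη)⟩
      simp only [classInner_sub_left, classInner_sub_right, classInner_smul_left, (z η hη).1,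
        (z η hη).2, (z η' hη').1, (z η' hη').2, mul_zero, sub_zero]
    rw [(hX e he).2.2 η hη η' hη', classInner_smul_right, classInner_sub_right,
      coef_eq (hR x hx).virt, coef_eq (hR x hx).virt, map_intCast] at e0
    have hε : ((ε e : ℤ) : ℂ) ≠ 0 := by rcases (hX e he).1 with e1 | e1 <;> simp [e1]
    exact_mod_cast sub_eq_zero.1 ((mul_eq_zero.1 e0).resolve_left hε)
  have hRinj : ∀ x ∈ Tr, ∀ y ∈ Tr, R x = R y → top x = top y := by
    intro x hx y hy e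
    by_contra hne
    have z := h.freeInd_ortho (htopF x hx) (htopF y hy) hne
    have e0 : classInner (Y x) (Y y) = (dg x.2.2 : ℂ) * dg y.2.2 *
        classInner (θ₀ (dg x.1)) (θ₀ (dg y.1)) := by
      rw [h.classInner_lift (hYcl x hx).1 (hYcl y hy).1 (hYcl y hy).2]
      simp only [classInner_sub_left, classInner_sub_right, classInner_smul_left,
        classInner_smul_right, z, (hfo _ (hEm _ (hTr y hy).1) x hx).1,
        (hfo _ (hEm _ (hTr x hx).1) y hy).2, map_natCast, mul_zero, sub_zero]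
      ring
    by_cases he : dg x.1 = dg y.1
    · have hR' := hR y hy
      rw [← he] at hR' e0
      rw [h.freeInd_norm (hSp.famSet_free _ (hθ₀ _ (hEm _ (hTr x hx).1))), mul_one] at e0
      exact (hR x hx).rest_ne hR' (hX _ (hEm _ (hTr x hx).1)).2.1 (hθ₀ _ (hEm _ (hTr x hx).1))
        (hX _ (hEm _ (hTr x hx).1)).1 (hΨf _ (hTr x hx).2.2).1 (hΨf _ (hTr y hy).2.2).1 e0 e
    · rw [h.freeInd_ortho (hSp.famSet_free _ (hθ₀ _ (hEm _ (hTr x hx).1)))
        (hSp.famSet_free _ (hθ₀ _ (hEm _ (hTr y hy).1)))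
        (fun e' => hSp.famSet_disjoint he _ (hθ₀ _ (hEm _ (hTr x hx).1))
          (e' ▸ hθ₀ _ (hEm _ (hTr y hy).1))), mul_zero] at e0
      exact (hR x hx).rest_ne' (hR y hy)
        (fun θ hθ => (hforeign y hy _ (hEm _ (hTr x hx).1) (Ne.symm he) θ hθ).2)
        (hX _ (hEm _ (hTr x hx).1)).2.1 (hθ₀ _ (hEm _ (hTr x hx).1)) e0 e
  have hfib : ∀ W, (Tr.filter fun x => R x = W).card ≤ Nat.card (twoStab a t) := by
    intro W
    let key : IrrCharacter Q × twoStab a t × IrrCharacter Q → IrrCharacter Q := fun x =>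
      if hx : IsIrrCharacter Q (φt x) then ⟨_, h.cj_irr (cc x.1)⁻¹ hx⟩ else trivialIrr Q
    have hkey : ∀ x ∈ Tr, (key x : Q → ℂ) = h.cj (cc x.1)⁻¹ (φt x) := fun x hx => by
      simp only [key, dif_pos (hirr x hx)]
    have hkey' : ∀ x ∈ Tr, (key x : Q → ℂ) =
        (x.1 : Q → ℂ) * h.cj ((cc x.1)⁻¹ * x.2.1) (x.2.2 : Q → ℂ) := fun x hx => by
      rw [hkey x hx]
      show h.cj (cc x.1)⁻¹ (h.cj (cc x.1) (x.1 : Q → ℂ) * h.cj x.2.1 (x.2.2 : Q → ℂ)) = _
      rw [h.cj_mul_fun, ← h.cj_mul, inv_mul_cancel, h.cj_one, ← h.cj_mul]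
    refine h.card_fibre_le _ key (fun x hx y hy e => ?_) (fun x hx => ?_) fun x hx y hy => ?_
    · rw [Finset.mem_filter] at hx hy
      have e' := congrArg Subtype.val e
      rw [hkey' x hx.1, hkey' y hy.1] at e'
      obtain ⟨e1, e2⟩ := hSp.prod_inj (ψ := ⟨_, h.cj_irr _ x.2.2.2⟩)
        (ψ' := ⟨_, h.cj_irr _ y.2.2.2⟩) ((hBm _).1 (hTr x hx.1).1).1
        ((hBm _).1 (hTr y hy.1).1).1 (hSp.trivO_cj _ (hψO x hx.1).1)
        (hSp.trivO_cj _ (hψO y hy.1).1) e'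
      have e3 : h.cj x.2.1 (x.2.2 : Q → ℂ) = h.cj y.2.1 (y.2.2 : Q → ℂ) := by
        have e4 : h.cj ((cc x.1)⁻¹ * x.2.1) (x.2.2 : Q → ℂ) =
            h.cj ((cc y.1)⁻¹ * y.2.1) (y.2.2 : Q → ℂ) := congrArg Subtype.val e2
        rw [← e1, h.cj_mul, h.cj_mul] at e4
        exact h.cj_inj e4
      have hxK := ((hKm _).1 (hTr x hx.1).2.1).1
      have hyK := ((hKm _).1 (hTr y hy.1).2.1).1
      have ek : x.2.1 = y.2.1 := by
        have ekk : ((x.2.1⁻¹ * y.2.1 : twoStab a t) : G) = 1 := by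
          refine hSp.lam_fix_k hlam (mul_mem (inv_mem hxK) hyK) fun z hz => ?_
          have e5 : (x.2.2 : Q → ℂ) = h.cj (x.2.1⁻¹ * y.2.1) (y.2.2 : Q → ℂ) := by
            rw [h.cj_mul, ← e3, ← h.cj_mul, inv_mul_cancel, h.cj_one]
          have e6 := congrFun e5 ⟨(z : G), h.zSub_le z.2⟩
          rw [(hψO x hx.1).2] at e6
          change _ = (y.2.2 : Q → ℂ) (h.qConj (x.2.1⁻¹ * y.2.1) ⟨(z : G), h.zSub_le z.2⟩) at e6
          rw [show h.qConj (x.2.1⁻¹ * y.2.1) ⟨(z : G), h.zSub_le z.2⟩ =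
              (⟨_, h.zSub_le hz⟩ : Q) from Subtype.ext rfl,
            (hψO y hy.1).2 ⟨_, hz⟩,
            show (x.2.2 : Q → ℂ) 1 = (y.2.2 : Q → ℂ) 1 from by
              rw [e5, h.cj_apply_one]] at e6
          exact (Units.ext (mul_left_cancel₀ (irr_apply_one_ne_zero y.2.2) e6)).symm
        exact inv_mul_eq_one.1 (Subtype.ext ekk)
      rw [ek] at e3
      exact Prod.ext e1 (Prod.ext ek (Subtype.ext (h.cj_inj e3)))
    · rw [Finset.mem_filter] at hx
      rw [eq_bot_iff]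
      intro d hd
      rw [hkey x hx.1, h.mem_stabCj_cj, hfree x hx.1, Subgroup.mem_bot, inv_inv, conj_eq_one_iff] at hd
      exact Subgroup.mem_bot.2 hd
    · rw [Finset.mem_filter] at hx hy
      have e := hRinj x hx.1 y hy.1 (hx.2.trans hy.2.symm)
      rw [hkey x hx.1, hkey y hy.1,
        h.qInd_cj _ (isClassFunction_of_isCharacter (isCharacter_of_isIrrCharacter (hirr x hx.1))),
        h.qInd_cj _ (isClassFunction_of_isCharacter (isCharacter_of_isIrrCharacter (hirr y hy.1)))]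
      exact e
  -- weights
  have hwt : ∀ x ∈ Tr, ((q * V * dg x.1 * dg x.2.2 : ℕ) : ℝ) ≤ h.wt (R x) := by
    intro x hx
    have e := (heq x hx).1
    have hd : 0 ≤ h.kap * (dg (R x) : ℝ) := mul_nonneg h.kap_pos.le (Nat.cast_nonneg _)
    have := le_abs_self (tv t (R x) : ℝ)
    have := neg_abs_le (tv t (R x) : ℝ)
    have := abs_nonneg (tv t (R x) : ℝ)
    rw [Setup.wt]
    rcases (hR x hx).unit with e1 | e1 <;> rw [e1] at e <;> push_cast at e ⊢ <;> linarith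
  have htopsum : ((q : ℝ) * V) ^ 2 * (Ks.card : ℝ) * L * S2 ≤
      ∑ x ∈ Tr, h.wt (R x) ^ 2 := by
    have e : ((q : ℝ) * V) ^ 2 * (Ks.card : ℝ) * L * S2 =
        ∑ x ∈ Tr, ((q * V * dg x.1 * dg x.2.2 : ℕ) : ℝ) ^ 2 := by
      rw [hTrdef, Finset.sum_product, hS2def, Finset.mul_sum]
      refine Finset.sum_congr rfl fun χ _ => ?_
      rw [Finset.sum_product, Finset.sum_congr rfl (g := fun _ : twoStab a t =>
        ((q : ℝ) * V * dg χ) ^ 2 * L) fun k _ => by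
          rw [← hΨsum, Finset.mul_sum]
          exact Finset.sum_congr rfl fun ψ _ => by push_cast; ring,
        Finset.sum_const, nsmul_eq_mul]
      ring
    rw [e]
    exact Finset.sum_le_sum fun x hx => pow_le_pow_left₀ (Nat.cast_nonneg _) (hwt x hx) 2
  have hb := htopsum.trans
    (sum_comp_le_of_fibre Tr R (fun W => h.wt W ^ 2) (fun W => sq_nonneg _) _ hfib)
  have hD : (Nat.card (twoStab a t) : ℝ) = (V : ℝ) * ((q : ℝ) - 1) := by
    rw [h.card_twoStab, hq, h.card_zSub]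
    push_cast
    ring
  have hVpos : (0 : ℝ) < V := by exact_mod_cast Nat.card_pos
  have hKall : ((Finset.univ : Finset (twoStab a t)).filter fun k : twoStab a t => (k : G) ∈ h.kSub).card + 1 =
      q := by
    rw [← Fintype.card_subtype, ← Nat.card_eq_fintype_card, hq, h.card_zSub]
    exact congrArg (· + 1)
      (Nat.card_congr (Equiv.subtypeSubtypeEquivSubtype fun hx => h.kSub_le hx))
  have hL4 : (4 : ℝ) ≤ L := by exact_mod_cast le_trans hq4 hLq
  rcases Nat.lt_or_ge 4 q with hq8 | hq44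
  · -- at least eight elements
    have hq8' : 8 ≤ q := by
      obtain ⟨n, hn, e⟩ := h.exists_card_zSub
      rw [← hq] at e
      rcases Nat.lt_or_ge n 3 with h3 | h3
      · have : n = 2 := by omega
        subst this
        omega
      · rw [e]
        exact le_trans (by norm_num) (Nat.pow_le_pow_right (by norm_num) h3)
    have hKcard : (Ks.card : ℝ) = (q : ℝ) - 2 := by
      have e1 : Ks = ((Finset.univ : Finset (twoStab a t)).filter
          fun k : twoStab a t => (k : G) ∈ h.kSub).erase 1 := by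
        ext k
        simp [hKm, and_comm, (show q ≠ 4 by omega)]
      have e2 : Ks.card + 2 = q := by
        rw [e1, ← hKall, Finset.card_erase_of_mem (by simp [one_mem])]
        have : 0 < ((Finset.univ : Finset (twoStab a t)).filter
            fun k : twoStab a t => (k : G) ∈ h.kSub).card := Finset.card_pos.2 ⟨1, by simp [one_mem]⟩
        omega
      rw [← e2]; push_cast; ring
    have hB7 : (q : ℝ) - 1 ≤ S2 := by
      obtain ⟨χ, hχ⟩ := hBne
      have hK : ((Finset.univ : Finset (twoStab a t)).filter fun k : twoStab a t => (k : G) ∈ h.kSub).card ≤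
          B.card := by
        refine Finset.card_le_card_of_injOn
          (fun k => (⟨_, h.cj_irr k χ.2⟩ : IrrCharacter Q)) (fun k _ => ?_) ?_
        · refine (hBm _).2 ⟨hSp.trivS_cj k ((hBm _).1 hχ).1, fun e => ((hBm _).1 hχ).2 ?_⟩
          have e' : (⟨_, h.cj_irr k χ.2⟩ : IrrCharacter Q) = trivialIrr Q := e
          refine Subtype.ext (h.cj_inj (d := k) ?_)
          rw [show h.cj k (χ : Q → ℂ) =
            ((⟨_, h.cj_irr k χ.2⟩ : IrrCharacter Q) : Q → ℂ) from rfl, e']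
          funext y
          simp [Setup.cj]
        · intro k hk k' hk' e
          simp only [Finset.coe_filter, Finset.mem_univ, true_and, Set.mem_setOf_eq] at hk hk'
          have e1 : k⁻¹ * k' ∈ h.stabCj (χ : Q → ℂ) := by
            have e0 : h.cj k (χ : Q → ℂ) = h.cj k' (χ : Q → ℂ) := congrArg Subtype.val e
            rw [Setup.mem_stabCj, h.cj_mul, ← e0, ← h.cj_mul, inv_mul_cancel, h.cj_one]
          have e2 : k⁻¹ * k' ∈ h.stabCj (χ : Q → ℂ) ⊓ h.kwSub :=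
            ⟨e1, Subgroup.mem_subgroupOf.2 (Subgroup.mem_sup_left (mul_mem (inv_mem hk) hk'))⟩
          rw [h.smallFix_inf_kw (hSp.smallFix IH ((hBm _).1 hχ).1 ((hBm _).1 hχ).2),
            Subgroup.mem_bot, inv_mul_eq_one] at e2
          exact e2
      have : q ≤ B.card + 1 := by omega
      have : (q : ℝ) ≤ (B.card : ℝ) + 1 := by exact_mod_cast this
      linarith
    have hb2 := mul_le_mul_of_nonneg_left (h.sum_wt_sq (Tr.image R))
      (Nat.cast_nonneg (Nat.card (twoStab a t)) : (0 : ℝ) ≤ _)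
    have e := hb.trans hb2
    rw [hD, ← hV, ← hq, ← hN, hNcard, hKcard] at e
    have hqr : (8 : ℝ) ≤ q := by exact_mod_cast hq8'
    have hL8 : (8 : ℝ) ≤ L := by exact_mod_cast le_trans hq8' hLq
    have e' : (q : ℝ) * V ^ 2 * ((q : ℝ) * ((q : ℝ) - 2) * L * S2) ≤
        (q : ℝ) * V ^ 2 * (((q : ℝ) - 1) * (4.5 * L * (S2 + 1) + 9)) := by
      rw [hS2]
      linear_combination e
    have e'' := le_of_mul_le_mul_left e' (by positivity)
    have hA : 16.5 ≤ (q : ℝ) ^ 2 - 6.5 * q + 4.5 := by nlinarith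
    have h1 : 16.5 * (L : ℝ) * S2 ≤ ((q : ℝ) - 1) * (4.5 * L + 9) := by
      nlinarith [mul_le_mul_of_nonneg_right hA
        (mul_nonneg (by linarith : (0 : ℝ) ≤ L) (by linarith : (0 : ℝ) ≤ S2))]
    nlinarith [mul_le_mul_of_nonneg_left hB7 (by linarith : (0 : ℝ) ≤ 16.5 * (L : ℝ)),
      mul_le_mul_of_nonneg_left hL8 (by linarith : (0 : ℝ) ≤ (q : ℝ) - 1)]
  -- four elements
  have hq' : q = 4 := by omega
  have hKcard : (Ks.card : ℝ) = 3 := by
    have e1 : Ks = (Finset.univ : Finset (twoStab a t)).filter fun k : twoStab a t => (k : G) ∈ h.kSub := by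
      ext k
      simp [hKm, hq']
    have e2 : Ks.card + 1 = 4 := by rw [e1, hKall, hq']
    have e3 : Ks.card = 3 := by omega
    exact_mod_cast e3
  have hstab : ∀ χ ∈ B, h.stabCj (χ : Q → ℂ) = ⊥ := by
    intro χ hχ
    rw [eq_bot_iff]
    intro d hd
    have e1 : cc χ * d * (cc χ)⁻¹ ∈ h.stabCj (h.cj (cc χ) (χ : Q → ℂ)) := by
      rw [h.mem_stabCj_cj]
      simpa [mul_assoc] using hd
    rw [hbot4 hq' χ hχ, Subgroup.mem_bot, conj_eq_one_iff] at e1
    exact Subgroup.mem_bot.2 e1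
  set LinF : Finset (IrrCharacter Q) := Finset.univ.filter (TrivOn hSp.nSub) with hLinF
  have hLinm : ∀ l, l ∈ LinF ↔ TrivOn hSp.nSub l := fun l => by simp [hLinF]
  have hLinc : LinF.card = L := by
    rw [hL, ← hSp.card_lin, hLinF, Nat.card_eq_fintype_card, Fintype.card_subtype]
  set S' := B ×ˢ LinF with hS'def
  have hS'm : ∀ x ∈ S', IsBase S x.1 ∧ TrivOn hSp.nSub x.2 := fun x hx => by
    rw [hS'def, Finset.mem_product, hBm, hLinm] at hx; exact hx
  have hfree' : ∀ x ∈ S', h.stabCj ((x.1 : Q → ℂ) * (x.2 : Q → ℂ)) = ⊥ := by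
    intro x hx
    obtain ⟨h1, h2⟩ := hS'm x hx
    rw [eq_bot_iff, ← hstab x.1 ((hBm _).2 h1)]
    exact fun d hd => ((hSp.stab_prod h1.1 (hSp.lin_trivO h2) d).1 hd).1
  let θm : IrrCharacter Q × IrrCharacter Q → stabilizer G a → ℂ := fun x =>
    qInd a Q ((x.1 : Q → ℂ) * (x.2 : Q → ℂ))
  have hθm : ∀ x ∈ S', θm x ∈ hSp.famSet (dg x.1) := fun x hx =>
    hSp.mem_famSet.2 ⟨x.1, x.2, (hS'm x hx).1, rfl, (hS'm x hx).2, hfree' x hx, rfl⟩
  let mem : IrrCharacter Q × IrrCharacter Q → IrrCharacter G := fun x => X (dg x.1) (θm x)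
  have hBx : ∀ x ∈ S', x.1 ∈ B := fun x hx => (hBm _).2 (hS'm x hx).1
  have hfib' : ∀ W, (S'.filter fun x => mem x = W).card ≤ Nat.card (twoStab a t) := by
    intro W
    let key : IrrCharacter Q × IrrCharacter Q → IrrCharacter Q := fun x =>
      if hx : IsIrrCharacter Q ((x.1 : Q → ℂ) * (x.2 : Q → ℂ)) then ⟨_, hx⟩ else trivialIrr Q
    have hkey : ∀ x ∈ S', (key x : Q → ℂ) = (x.1 : Q → ℂ) * (x.2 : Q → ℂ) := fun x hx => by
      simp only [key, dif_pos (hSp.prod_irr (hS'm x hx).1.1 (hSp.lin_trivO (hS'm x hx).2))]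
    refine h.card_fibre_le _ key (fun x hx y hy e => ?_) (fun x hx => ?_) fun x hx y hy => ?_
    · rw [Finset.mem_filter] at hx hy
      have e' := congrArg Subtype.val e
      rw [hkey x hx.1, hkey y hy.1] at e'
      obtain ⟨e1, e2⟩ := hSp.prod_inj (hS'm x hx.1).1.1 (hS'm y hy.1).1.1
        (hSp.lin_trivO (hS'm x hx.1).2) (hSp.lin_trivO (hS'm y hy.1).2) e'
      exact Prod.ext e1 e2
    · rw [Finset.mem_filter] at hx
      rw [hkey x hx.1]
      exact hfree' x hx.1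
    · rw [Finset.mem_filter] at hx hy
      rw [hkey x hx.1, hkey y hy.1]
      have e : X (dg x.1) (θm x) = X (dg y.1) (θm y) := hx.2.trans hy.2.symm
      by_cases he : dg x.1 = dg y.1
      · rw [← he] at e
        exact (hX _ (hEm _ (hBx x hx.1))).2.1 _ (hθm x hx.1) _ (he ▸ hθm y hy.1) e
      · exact absurd e (hXX _ (hEm _ (hBx x hx.1)) _ (hEm _ (hBx y hy.1)) he _ (hθm x hx.1) _
          (hθm y hy.1))
  have hdisj : Disjoint (Tr.image R) (S'.image mem) := by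
    rw [Finset.disjoint_left]
    intro W hW hW'
    obtain ⟨x, hx, rfl⟩ := Finset.mem_image.1 hW
    obtain ⟨y, hy, e⟩ := Finset.mem_image.1 hW'
    by_cases he : dg x.1 = dg y.1
    · exact (hR x hx).notMem _ (he ▸ hθm y hy) (by rw [he]; exact e)
    · exact (hforeign x hx _ (hEm _ (hBx y hy)) he _ (hθm y hy)).1 e
  obtain ⟨ψ₁, hψ₁⟩ := hΨne
  obtain ⟨k₁, hk₁⟩ : Ks.Nonempty := by
    refine Finset.card_pos.1 ?_
    have : (0 : ℝ) < (Ks.card : ℝ) := by rw [hKcard]; norm_num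
    exact_mod_cast this
  have hmemeq : ∀ x ∈ S', ∃ σ : ℤ, (σ = 1 ∨ σ = -1) ∧ 2 * (σ : ℝ) * (tv t (mem x) : ℝ) =
      ((4 * V * dg x.1 : ℕ) : ℝ) + h.kap * σ * dg (mem x) := by
    intro x hx
    have hxT : (x.1, k₁, ψ₁) ∈ Tr := by
      simp only [hTrdef, Finset.mem_product]
      exact ⟨hBx x hx, hk₁, hψ₁⟩
    obtain ⟨e, he, hee⟩ := (heq _ hxT).2 (θm x) (hθm x hx)
    have hf0 : (dg ψ₁ : ℝ) ≠ 0 := Nat.cast_ne_zero.2 (dg_pos _).ne'
    rcases he with rfl | rfl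
    · refine ⟨1, Or.inl rfl, mul_left_cancel₀ hf0 ?_⟩
      push_cast [hq'] at hee ⊢
      linear_combination hee
    · refine ⟨-1, Or.inr rfl, mul_left_cancel₀ hf0 ?_⟩
      push_cast [hq'] at hee ⊢
      linear_combination hee
  have hkapge : ∀ x ∈ S', 2 ≤ h.kap * (dg (mem x) : ℝ) := by
    intro x hx
    obtain ⟨σ, hσ, e⟩ := hmemeq x hx
    have hpos : 0 < h.kap * (dg (mem x) : ℝ) :=
      mul_pos h.kap_pos (by exact_mod_cast dg_pos (mem x))
    obtain ⟨j, hj⟩ : ∃ j : ℤ, h.kap * (dg (mem x) : ℝ) = 2 * (j : ℝ) := by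
      rcases hσ with rfl | rfl
      · exact ⟨tv t (mem x) - 2 * V * dg x.1, by push_cast at e ⊢; linarith⟩
      · exact ⟨tv t (mem x) + 2 * V * dg x.1, by push_cast at e ⊢; linarith⟩
    rw [hj] at hpos ⊢
    have h0 : (0 : ℤ) < j := by
      by_contra hle'
      push Not at hle'
      have : (j : ℝ) ≤ 0 := by exact_mod_cast hle'
      linarith
    have : (1 : ℝ) ≤ (j : ℝ) := by exact_mod_cast (h0 : (1 : ℤ) ≤ j)
    linarith
  have hS'ne : ∃ x, x ∈ S' := by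
    obtain ⟨χ, hχ⟩ := hBne
    obtain ⟨l, hl⟩ : LinF.Nonempty := Finset.card_pos.1 (by omega)
    exact ⟨(χ, l), Finset.mem_product.2 ⟨hχ, hl⟩⟩
  have hV3 : (3 : ℝ) ≤ V := by
    obtain ⟨x, hx⟩ := hS'ne
    have e4 := h.sum_kap_sq_sharp {mem x}
    rw [Finset.sum_singleton, ← hV, ← hq, hq'] at e4
    norm_num at e4
    nlinarith [hkapge x hx]
  have hB3 : 3 * (V : ℝ) ≤ B.card := by
    obtain ⟨χ, hχ⟩ := hBne
    have e : Nat.card (twoStab a t) ≤ B.card := by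
      rw [← Nat.card_eq_finsetCard]
      refine Nat.card_le_card_of_injective (fun d : twoStab a t =>
        (⟨⟨_, h.cj_irr d χ.2⟩, (hBm _).2 ⟨hSp.trivS_cj d ((hBm _).1 hχ).1, fun e =>
          ((hBm _).1 hχ).2 (Subtype.ext (h.cj_inj (d := d) (by
            rw [show h.cj d (χ : Q → ℂ) =
              ((⟨_, h.cj_irr d χ.2⟩ : IrrCharacter Q) : Q → ℂ) from rfl, e]
            funext y
            simp [Setup.cj])))⟩⟩ : B)) ?_
      intro d d' e'
      have e1 : d⁻¹ * d' ∈ h.stabCj (χ : Q → ℂ) := by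
        have e0 : h.cj d (χ : Q → ℂ) = h.cj d' (χ : Q → ℂ) :=
          congrArg Subtype.val (congrArg Subtype.val e')
        rw [Setup.mem_stabCj, h.cj_mul, ← e0, ← h.cj_mul, inv_mul_cancel, h.cj_one]
      rw [hstab χ hχ, Subgroup.mem_bot, inv_mul_eq_one] at e1
      exact e1
    have e' : (Nat.card (twoStab a t) : ℝ) ≤ B.card := by exact_mod_cast e
    rw [hD, hq'] at e'
    push_cast at e'
    linarith
  have e1 : (4 * (V : ℝ)) ^ 2 * L * S2 ≤ ∑ x ∈ S', h.wt (mem x) ^ 2 := by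
    have e : (4 * (V : ℝ)) ^ 2 * L * S2 = ∑ x ∈ S', ((4 * V * dg x.1 : ℕ) : ℝ) ^ 2 := by
      rw [hS'def, Finset.sum_product, hS2def, Finset.mul_sum]
      refine Finset.sum_congr rfl fun χ _ => ?_
      simp only [Finset.sum_const, hLinc, nsmul_eq_mul]
      push_cast
      ring
    rw [e]
    refine Finset.sum_le_sum fun x hx => pow_le_pow_left₀ (Nat.cast_nonneg _) ?_ 2
    obtain ⟨σ, hσ, e3⟩ := hmemeq x hx
    have hd : 0 ≤ h.kap * (dg (mem x) : ℝ) := mul_nonneg h.kap_pos.le (Nat.cast_nonneg _)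
    have := le_abs_self (tv t (mem x) : ℝ)
    have := neg_abs_le (tv t (mem x) : ℝ)
    have := abs_nonneg (tv t (mem x) : ℝ)
    rw [Setup.wt]
    rcases hσ with rfl | rfl <;> push_cast at e3 ⊢ <;> linarith
  have hb' := e1.trans
    (sum_comp_le_of_fibre S' mem (fun W => h.wt W ^ 2) (fun W => sq_nonneg _) _ hfib')
  have e4 := h.sum_wt_sq (Tr.image R ∪ S'.image mem)
  rw [Finset.sum_union hdisj, ← hV, ← hq, ← hN, hNcard, ← hS2, hq'] at e4
  rw [hKcard, hD, hq'] at hb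
  rw [hD, hq'] at hb'
  push_cast at e4 hb hb'
  have e5 := mul_le_mul_of_nonneg_left e4 (by positivity : (0 : ℝ) ≤ 3 * (V : ℝ))
  have e6 : (V : ℝ) ^ 2 * (64 * L * S2) ≤ (V : ℝ) ^ 2 * (54 * L * (S2 + 1) + 108) := by
    nlinarith [hb, hb', e5]
  have e7 := le_of_mul_le_mul_left e6 (by positivity)
  have h9 : (9 : ℝ) ≤ S2 := by linarith
  nlinarith [mul_le_mul_of_nonneg_left h9 (by linarith : (0 : ℝ) ≤ (L : ℝ))]

theorem Setup.two_case (h : Setup a t Q) (IH : IndHyp.{u, v} (Nat.card G))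
    (hna : ¬ TwoAbelian Q) : IsPGroup 2 Q := by
  obtain ⟨S, O, hSp⟩ := h.exists_split hna
  have hbot : O = ⊥ := Subgroup.card_eq_one.1 (hSp.card_O_eq_one IH)
  intro x
  obtain ⟨⟨u, w⟩, e⟩ := hSp.compl.2 x
  have hw : (w : Q) = 1 := Subgroup.mem_bot.1 (hbot ▸ w.2)
  have hx : x = (u : Q) := by rw [← e]; simp [hw]
  rw [hx]
  exact (hSp.memS u).1 u.2

end Cfsg.Agent.Lib.SplitRankOne70
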