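import Cfsg.Agent.Lib.SplitRankOne70.UCoord
import Cfsg.Agent.Lib.BoundedPresentation.U3.Main

/-!
`|Q| = q³` with `r ∈ Z`: the subgroup `L` is `PSU₃(q)`, and `W ≠ 1`.
-/

set_option autoImplicit false
set_option linter.unusedSectionVars false
set_option linter.style.haveILetI false

namespace Cfsg.Agent.Lib.SplitRankOne70

open Cfsg MulAction Cfsg.Agent.Lib.RankOne
open Cfsg.Agent.Lib.BoundedPresentation
open scoped MatrixGroups Matrix

universe u v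

variable {G : Type u} {Ω : Type v} [Group G] [MulAction G Ω] [Finite G] {a : Ω} {t : G}
  {Q : Subgroup G}

namespace UC

variable {h : Setup a t Q} {F : Type} [Field F] [Fintype F] [CharP F 2] {E : Type} [Field E]
  [Fintype E] [CharP E 2] (C : UC h F E)
include C

/-- The isotropic vectors. -/
def vec : Option C.Pr → Fin 3 → E
  | none => ![1, 0, 0]
  | some X => ![X.1.2, C.nc.D.σ X.1.1, 1]

/-- The points of `Ω`. -/
noncomputable def pt : Option C.Pr → Ω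
  | none => a
  | some X => C.P X • t • a

theorem pt_inj : Function.Injective C.pt := by
  rintro (_ | X) (_ | Y) e
  · rfl
  · exact absurd e.symm (h.q_pt_ne (C.P_mem Y))
  · exact absurd e (h.q_pt_ne (C.P_mem X))
  · exact congrArg some (C.P_inj (h.q_pt_inj (C.P_mem X) (C.P_mem Y) e))

theorem pt_surj : Function.Surjective C.pt := by
  intro c
  rcases eq_or_ne c a with rfl | hne
  · exact ⟨none, rfl⟩
  · obtain ⟨x, hx, rfl⟩ := exists_Q_move h.hS hne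
    obtain ⟨X, rfl⟩ := C.exists_P hx
    exact ⟨some X, rfl⟩

theorem vec_eq {o o' : Option C.Pr} {c : E} (e : C.vec o = c • C.vec o') : o = o' := by
  have e0 := congrFun e 0
  have e1 := congrFun e 1
  have e2 := congrFun e 2
  rcases o with _ | X <;> rcases o' with _ | Y <;> simp [vec] at e0 e1 e2
  · rfl
  · rw [← e2, zero_mul] at e0; exact absurd e0 one_ne_zero
  · rw [← e2, one_mul] at e0 e1
    exact congrArg some (Subtype.ext (Prod.ext (RingHom.injective _ e1) e0))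

/-- Pairs of compatible elements. -/
def rel : Subgroup (C.nc.D.G₀ × G) where
  carrier := {gl | gl.2 ∈ lSub t Q ∧ ∀ o, ∃ o' : Option C.Pr, ∃ c : E, c ≠ 0 ∧
    gl.1.1.1 *ᵥ C.vec o = c • C.vec o' ∧ gl.2 • C.pt o = C.pt o'}
  one_mem' := ⟨one_mem _, fun o => ⟨o, 1, one_ne_zero, by simp, one_smul _ _⟩⟩
  mul_mem' := by
    rintro ⟨g, l⟩ ⟨g', l'⟩ ⟨hl, hg⟩ ⟨hl', hg'⟩
    refine ⟨mul_mem hl hl', fun o => ?_⟩
    obtain ⟨o1, c1, hc1, e1, f1⟩ := hg' o
    obtain ⟨o2, c2, hc2, e2, f2⟩ := hg o1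
    refine ⟨o2, c1 * c2, mul_ne_zero hc1 hc2, ?_, ?_⟩
    · show (g.1.1 * g'.1.1) *ᵥ C.vec o = _
      rw [← Matrix.mulVec_mulVec, e1, Matrix.mulVec_smul, e2, smul_smul]
    · show (l * l') • C.pt o = _
      rw [mul_smul, f1, f2]
  inv_mem' := by
    rintro ⟨g, l⟩ ⟨hl, hg⟩
    refine ⟨inv_mem hl, fun o => ?_⟩
    choose π c hc he hf using hg
    have hπ : Function.Injective π := fun x y e =>
      C.pt_inj (MulAction.injective l (by
        show l • C.pt x = l • C.pt y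
        rw [hf, hf, e]))
    obtain ⟨o', rfl⟩ := Finite.surjective_of_injective hπ o
    refine ⟨o', (c o')⁻¹, inv_ne_zero (hc o'), ?_, inv_smul_eq_iff.2 (hf o').symm⟩
    show (g⁻¹ : C.nc.D.G₀).1.1 *ᵥ C.vec (π o') = _
    have e1 : C.vec (π o') = (c o')⁻¹ • (g.1.1 *ᵥ C.vec o') := by
      rw [he, smul_smul, inv_mul_cancel₀ (hc o'), one_smul]
    rw [e1, Matrix.mulVec_smul, Matrix.mulVec_mulVec]
    congr 1
    rw [show (g⁻¹ : C.nc.D.G₀).1.1 * g.1.1 = 1 from congrArg (fun y : C.nc.D.G₀ => y.1.1) (inv_mul_cancel g),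
      Matrix.one_mulVec]

theorem uEl_mem (X : C.Pr) : (U3.uEl C.nc.D.σσ X.1.1 X.1.2 X.2, C.P X) ∈ C.rel := by
  refine ⟨Q_le_lSub (C.P_mem X), fun o => ?_⟩
  rcases o with _ | Y
  · refine ⟨none, 1, one_ne_zero, ?_, Q_fix h.hS (C.P_mem X)⟩
    show U3.uMat C.nc.D.σ X.1.1 X.1.2 *ᵥ _ = _
    ext i; fin_cases i <;> simp [vec, U3.uMat, Matrix.mulVec, dotProduct, Fin.sum_univ_three]
  · refine ⟨some (C.pm X Y), 1, one_ne_zero, ?_, ?_⟩
    · show U3.uMat C.nc.D.σ X.1.1 X.1.2 *ᵥ _ = _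
      ext i; fin_cases i <;>
        simp [vec, pm, U3.uMat, Matrix.mulVec, dotProduct, Fin.sum_univ_three, CharTwo.neg_eq] <;> ring
    · show C.P X • C.P Y • t • a = C.P (C.pm X Y) • t • a
      rw [C.P_mul, mul_smul]

theorem P_t {X : C.Pr} (hB : X.1.2 ≠ 0) :
    ∃ Y : C.Pr, Y.1 = (X.1.1 / C.nc.D.σ X.1.2, 1 / X.1.2) ∧ t • C.P X • t • a = C.P Y • t • a := by
  obtain ⟨(y | M), rfl⟩ := C.par_bij.2 X
  · have hy : y ≠ 0 := fun e => hB (by simp [par, zp, e])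
    refine ⟨C.zp y⁻¹, by simp [par, zp, map_inv₀], ?_⟩
    simp only [par, Sum.elim_inl, P_zp]
    have e1 := congrArg (· • a) (C.T.Φ.t_e C.T.hr (Units.mk0 y hy))
    simp only [mul_smul, Units.val_inv_eq_inv_val, Units.val_mk0] at e1
    rw [e1, Q_fix h.hS (h.zSub_le (C.T.Φ.mem _)), (mem_twoStab.1 (h.kSub_le (C.T.Φ.kl_mem _))).2]
  · refine ⟨C.pi (mT * M), ?_, ?_⟩
    · have e1 : row2 (mT * M) = row1 M := by simp [row1, row2, mul_10, mul_11]
      have e2 : row1 (mT * M) = row2 M := by simp [row1, row2, mul_00, mul_01]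
      simp only [par, Sum.elim_inr, pi, e1, e2, map_div₀]
      have h1 := C.σκ_ne (row2_ne M)
      have h2 := C.κ_ne (row1_ne M)
      refine Prod.ext ?_ ?_
      · field_simp
      · rw [one_div_div]
    · simp only [par, Sum.elim_inr, P_pi]
      rw [C.T.el_mT, h.t_smul_pt (C.T.el_mem M) (C.T.el_ne M)]

theorem wEl_mem : ((U3.wEl : C.nc.D.G₀), t) ∈ C.rel := by
  refine ⟨t_mem_lSub, fun o => ?_⟩
  rcases o with _ | X
  · refine ⟨some (C.zp 0), 1, one_ne_zero, ?_, ?_⟩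
    · show U3.wMat *ᵥ _ = _
      ext i; fin_cases i <;> simp [vec, zp, U3.wMat, Matrix.mulVec, dotProduct, Fin.sum_univ_three]
    · show t • a = C.P (C.zp 0) • t • a
      rw [C.P_zp, C.T.Φ.e_zero, one_smul]
  · by_cases hB : X.1.2 = 0
    · have hA : X.1.1 = 0 := U3.Cond.a_eq_zero X.2 (by rw [hB, map_zero, add_zero])
      have hX : X = C.zp 0 := Subtype.ext (Prod.ext hA (hB.trans (map_zero C.nc.ι).symm))
      subst hX
      refine ⟨none, 1, one_ne_zero, ?_, ?_⟩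
      · show U3.wMat *ᵥ _ = _
        ext i; fin_cases i <;> simp [vec, zp, U3.wMat, Matrix.mulVec, dotProduct, Fin.sum_univ_three]
      · show t • C.P (C.zp 0) • t • a = a
        rw [C.P_zp, C.T.Φ.e_zero, one_smul, t_smul_smul h.hS]
    · obtain ⟨Y, hY, hYp⟩ := C.P_t hB
      refine ⟨some Y, X.1.2, hB, ?_, hYp⟩
      show U3.wMat *ᵥ _ = _
      ext i; fin_cases i <;>
        simp [vec, hY, U3.wMat, Matrix.mulVec, dotProduct, Fin.sum_univ_three, CharTwo.neg_eq, map_div₀,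
          C.nc.D.σσ] <;>
        field_simp

theorem exists_img (g : C.nc.D.G₀) : ∃ l : G, (g, l) ∈ C.rel := by
  suffices hle : (⊤ : Subgroup C.nc.D.G₀) ≤ C.rel.map (MonoidHom.fst _ _) by
    obtain ⟨⟨g', l⟩, hl, e⟩ := hle (Subgroup.mem_top g)
    exact ⟨l, (show g' = g from e) ▸ hl⟩
  have hu : ∀ {A B : E} (hc : U3.Cond C.nc.D.σ A B),
      U3.uEl C.nc.D.σσ A B hc ∈ C.rel.map (MonoidHom.fst _ _) :=
    fun {A B} hc => ⟨_, C.uEl_mem ⟨(A, B), hc⟩, rfl⟩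
  have hw : (U3.wEl : C.nc.D.G₀) ∈ C.rel.map (MonoidHom.fst _ _) := ⟨_, C.wEl_mem, rfl⟩
  rw [← C.nc.D.borel_sup_w, sup_le_iff, Subgroup.zpowers_le]
  refine ⟨?_, hw⟩
  rintro _ ⟨A, B, hAB, s, rfl⟩
  refine mul_mem (hu hAB) ?_
  have hσs : C.nc.D.σ (s : E) ≠ 0 := (map_ne_zero _).2 s.ne_zero
  set b : E := (C.nc.D.σ (s : E))⁻¹ with hb
  have hb0 : b ≠ 0 := inv_ne_zero hσs
  obtain ⟨x, hx⟩ := C.nc.fix_ι (b + C.nc.D.σ b) (by rw [map_add, C.nc.D.σσ, add_comm])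
  obtain ⟨y, hy⟩ := FiniteField.isSquare_of_char_two (ringChar.eq F 2) x
  have hc : U3.Cond C.nc.D.σ (C.nc.ι y) b := by
    show b + C.nc.D.σ b + C.nc.ι y * C.nc.D.σ (C.nc.ι y) = 0
    rw [C.nc.ι_fix, ← map_mul, ← hy, hx, CharTwo.add_self_eq_zero]
  have hs : U3.swapT C.nc.D.σ (Units.mk0 b hb0) = s := Units.ext (by
    rw [U3.swapT_val, Units.val_mk0, hb, map_inv₀, C.nc.D.σσ, inv_inv])
  have e := U3.decomp C.nc.D.σσ hc hb0
  rw [hs] at e
  have : U3.hEl C.nc.D.σσ s = (U3.uEl C.nc.D.σσ _ _ (hc.swapA C.nc.D.σσ hb0))⁻¹ *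
      ((U3.wEl : C.nc.D.G₀) * U3.uEl C.nc.D.σσ _ _ hc * U3.wEl) *
      (U3.uEl C.nc.D.σσ _ _ (hc.swapB C.nc.D.σσ hb0))⁻¹ * (U3.wEl)⁻¹ := by
    rw [e]; group
  rw [this]
  exact mul_mem (mul_mem (mul_mem (inv_mem (hu _)) (mul_mem (mul_mem hw (hu _)) hw))
    (inv_mem (hu _))) (inv_mem hw)

theorem img_unique [FaithfulSMul G Ω] {g : C.nc.D.G₀} {l l' : G} (e : (g, l) ∈ C.rel)
    (e' : (g, l') ∈ C.rel) : l = l' := by
  refine eq_of_smul_eq_smul fun p : Ω => ?_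
  obtain ⟨o, rfl⟩ := C.pt_surj p
  obtain ⟨o1, c1, hc1, v1, f1⟩ := e.2 o
  obtain ⟨o2, c2, hc2, v2, f2⟩ := e'.2 o
  rw [f1, f2]
  refine congrArg C.pt (C.vec_eq (c := c1⁻¹ * c2) ?_)
  rw [← smul_smul, ← v2, v1, smul_smul, inv_mul_cancel₀ hc1, one_smul]

/-- The representation of `SU₃` on `Ω`. -/
noncomputable def theta [FaithfulSMul G Ω] : C.nc.D.G₀ →* G :=
  MonoidHom.mk' (fun g => (C.exists_img g).choose) (fun g g' =>
    C.img_unique (C.exists_img (g * g')).choose_spec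
      (mul_mem (C.exists_img g).choose_spec (C.exists_img g').choose_spec :
        ((g, (C.exists_img g).choose) * (g', (C.exists_img g').choose) : C.nc.D.G₀ × G) ∈ C.rel))

theorem theta_rel [FaithfulSMul G Ω] (g : C.nc.D.G₀) : (g, C.theta g) ∈ C.rel :=
  (C.exists_img g).choose_spec

theorem diag_of_fix [FaithfulSMul G Ω] {g : C.nc.D.G₀} (ha : C.theta g • a = a)
    (hb : C.theta g • t • a = t • a) :
    ∃ c0 c1 c2 : E, c0 ≠ 0 ∧ c2 ≠ 0 ∧
      g.1.1 = Matrix.diagonal ![c0, c1, c2] := by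
  obtain ⟨o, c0, hc0, e0, f0⟩ := (C.theta_rel g).2 none
  obtain rfl : o = none := C.pt_inj (f0.symm.trans ha)
  obtain ⟨o, c2, hc2, e2, f2⟩ := (C.theta_rel g).2 (some (C.zp 0))
  have hp : C.pt (some (C.zp 0)) = t • a := by
    show C.P (C.zp 0) • t • a = t • a
    rw [C.P_zp, C.T.Φ.e_zero, one_smul]
  obtain rfl : o = some (C.zp 0) := C.pt_inj (by
    rw [hp] at f2 ⊢
    exact f2.symm.trans hb)
  have a0 := congrFun e0 0
  have a1 := congrFun e0 1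
  have a2 := congrFun e0 2
  have b0 := congrFun e2 0
  have b1 := congrFun e2 1
  have b2 := congrFun e2 2
  simp [vec, zp, Matrix.mulVec, dotProduct, Fin.sum_univ_three] at a0 a1 a2 b0 b1 b2
  have k0 := (U3.mem_SUJ _).1 g.2 ![0, 1, 0] ![1, 0, 0]
  have k2 := (U3.mem_SUJ _).1 g.2 ![0, 1, 0] ![0, 0, 1]
  simp [U3.formJ, Matrix.mulVec, dotProduct, Fin.sum_univ_three, a0, a1, a2, b0, b1, b2] at k0 k2
  have h21 : g.1.1 2 1 = 0 := k0.resolve_right hc0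
  have h01 : g.1.1 0 1 = 0 := k2.resolve_right hc2
  refine ⟨c0, g.1.1 1 1, c2, hc0, hc2, ?_⟩
  ext i j; fin_cases i <;> fin_cases j <;> simp [a0, a1, a2, b0, b1, b2, h21, h01]

theorem theta_ker [FaithfulSMul G Ω] {g : C.nc.D.G₀} (e : C.theta g = 1) :
    g ∈ Subgroup.center C.nc.D.G₀ := by
  obtain ⟨c0, c1, c2, hc0, hc2, hg⟩ := C.diag_of_fix (g := g) (by rw [e, one_smul]) (by rw [e, one_smul])
  obtain ⟨o, c, hc, e3, f3⟩ := (C.theta_rel g).2 (some (C.pi 1))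
  rw [e, one_smul] at f3
  obtain rfl : o = some (C.pi 1) := C.pt_inj f3.symm
  have hA : (C.pi 1).1.1 ≠ 0 := C.pi_A_ne 1
  have hσA : C.nc.D.σ (C.pi 1).1.1 ≠ 0 := (map_ne_zero _).2 hA
  have hB : (C.pi 1).1.2 ≠ 0 := fun hB => hA (U3.Cond.a_eq_zero (C.pi 1).2 (by rw [hB, map_zero, add_zero]))
  rw [hg] at e3
  have x0 := congrFun e3 0
  have x1 := congrFun e3 1
  have x2 := congrFun e3 2
  simp [vec, Matrix.mulVec_diagonal, hσA, hB] at x0 x1 x2
  subst x0 x1 x2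
  rw [Subgroup.mem_center_iff]
  intro k
  refine Subtype.ext (Subtype.ext ?_)
  show k.1.1 * g.1.1 = g.1.1 * k.1.1
  rw [hg]
  ext i j
  rw [Matrix.mul_diagonal, Matrix.diagonal_mul]
  fin_cases i <;> fin_cases j <;> simp [mul_comm]

theorem theta_range [FaithfulSMul G Ω] : C.theta.range = lSub t Q := by
  refine le_antisymm ?_ ((Subgroup.closure_le _).2 ?_)
  · rintro _ ⟨g, rfl⟩; exact (C.theta_rel g).1
  rintro x (hx | hx)
  · obtain ⟨X, rfl⟩ := C.exists_P hx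
    exact ⟨_, C.img_unique (C.theta_rel _) (C.uEl_mem X)⟩
  · rw [Set.mem_singleton_iff] at hx
    subst hx
    exact ⟨_, C.img_unique (C.theta_rel _) C.wEl_mem⟩

theorem nonempty_psu [FaithfulSMul G Ω] :
    Nonempty (lSub t Q ≃* Cfsg.PSU 3 E (Fintype.card F)) := by
  classical
  haveI := h.lSub_simple C.T.hp
  let φ : C.nc.D.G₀ →* lSub t Q := C.theta.codRestrict _ fun g => (C.theta_rel g).1
  have hφ : Function.Surjective φ := fun l => by
    obtain ⟨g, hg⟩ := C.theta_range.symm.le l.2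
    exact ⟨g, Subtype.ext hg⟩
  have hcent : Subgroup.center (lSub t Q) = ⊥ := by
    refine ((Subgroup.center (lSub t Q)).normal_of_characteristic.eq_bot_or_eq_top).resolve_right
      fun e => ?_
    obtain ⟨x, hx, y, hy, hxy⟩ := C.T.hna
    exact hxy (congrArg Subtype.val (Subgroup.mem_center_iff.1
      (e ▸ Subgroup.mem_top (⟨y, Q_le_lSub hy⟩ : lSub t Q)) ⟨x, Q_le_lSub hx⟩))
  have hker : φ.ker = Subgroup.center C.nc.D.G₀ := by
    refine le_antisymm (fun g hg => C.theta_ker (congrArg Subtype.val (MonoidHom.mem_ker.1 hg)))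
      fun g hg => ?_
    have : φ g ∈ Subgroup.center (lSub t Q) := by
      rw [Subgroup.mem_center_iff]
      intro l
      obtain ⟨k, rfl⟩ := hφ l
      rw [← map_mul, ← map_mul, Subgroup.mem_center_iff.1 hg k]
    rw [hcent, Subgroup.mem_bot] at this
    exact MonoidHom.mem_ker.2 this
  obtain ⟨e⟩ := U3.exists_equiv C.nc.D.card C.nc.D.σ_eq
  have hmap : (Subgroup.center C.nc.D.G₀).map (e : _ ≃* _).toMonoidHom =
      Subgroup.center (Cfsg.SU 3 E C.nc.D.q) := by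
    ext x
    constructor
    · rintro ⟨g, hg, rfl⟩
      refine Subgroup.mem_center_iff.2 fun k => ?_
      obtain ⟨k', rfl⟩ := e.surjective k
      show e k' * e g = e g * e k'
      rw [← map_mul, ← map_mul, Subgroup.mem_center_iff.1 hg k']
    · intro hx
      obtain ⟨g, rfl⟩ := e.surjective x
      refine ⟨g, Subgroup.mem_center_iff.2 fun k => e.injective ?_, rfl⟩
      rw [map_mul, map_mul, Subgroup.mem_center_iff.1 hx (e k)]
  rw [← C.nc.q_eq]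
  exact ⟨((QuotientGroup.quotientKerEquivOfSurjective φ hφ).symm.trans
    (QuotientGroup.quotientMulEquivOfEq hker)).trans (QuotientGroup.congr _ _ e hmap)⟩

theorem exists_w [FaithfulSMul G Ω] : ∃ v ∈ wSub a t, v ≠ 1 := by
  obtain ⟨d, ⟨hdL, hdD⟩, hdK⟩ : ∃ d ∈ lSub t Q ⊓ twoStab a t, d ∉ h.kSub := by
    by_contra hno
    push Not at hno
    exact C.T.not_zassenhaus hno
  obtain ⟨v, hv, k, hk, rfl⟩ := h.exists_vk hdD
  have hvL : v ∈ lSub t Q := by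
    have : v * k * k⁻¹ ∈ lSub t Q :=
      mul_mem (show v * k ∈ lSub t Q from hdL) (inv_mem (h.kSub_le_lSub hk))
    rwa [mul_inv_cancel_right] at this
  refine ⟨v, ?_, fun e => hdK (by rw [e, one_mul]; exact hk)⟩
  rw [← C.theta_range] at hvL
  obtain ⟨g, rfl⟩ := hvL
  obtain ⟨c0, c1, c2, hc0, hc2, hg⟩ := C.diag_of_fix (g := g) (mem_twoStab.1 hv.1).1 (mem_twoStab.1 hv.1).2
  have key : ∀ y : F, ∀ y' : F, C.theta g • C.T.Φ.e y • t • a = C.T.Φ.e y' • t • a →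
      c0 * C.nc.ι y = c2 * C.nc.ι y' := by
    intro y y' e
    obtain ⟨o, c, hc, e1, f1⟩ := (C.theta_rel g).2 (some (C.zp y))
    obtain rfl : o = some (C.zp y') := C.pt_inj (f1.symm.trans (by
      show C.theta g • C.P (C.zp y) • t • a = C.P (C.zp y') • t • a
      rw [C.P_zp, C.P_zp, e]))
    rw [hg] at e1
    have x0 := congrFun e1 0
    have x2 := congrFun e1 2
    simp [vec, zp, Matrix.mulVec_diagonal] at x0 x2
    rw [x0, ← x2]
  have hvb : (C.theta g)⁻¹ • t • a = t • a := inv_smul_eq_iff.2 (mem_twoStab.1 hv.1).2.symm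
  have hmove : ∀ y : F, C.theta g • C.T.Φ.e y • t • a =
      (C.theta g * C.T.Φ.e y * (C.theta g)⁻¹) • t • a := by
    intro y; rw [mul_smul, mul_smul, hvb]
  have h1 := key 1 1 (by rw [hmove, C.T.Φ.e_one, h.v_s hv])
  rw [map_one, mul_one, mul_one] at h1
  rw [h.mem_wSub_iff_z hv.1]
  intro z hz
  obtain ⟨y, rfl⟩ := (C.T.Φ.e_mem z).1 hz
  obtain ⟨y', hy'⟩ := (C.T.Φ.e_mem _).1 (h.conj_z (D_le h.hS hv.1) hz)
  have h2 := key y y' (by rw [hmove, hy'])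
  rw [h1] at h2
  rw [← C.nc.ι.injective (mul_left_cancel₀ hc2 h2)] at hy'
  exact mul_inv_eq_iff_eq_mul.1 hy'.symm

end UC

/-- `|Q| = q³` with `r ∈ Z`. -/
theorem Setup.unitary_case [FaithfulSMul G Ω] (h : Setup a t Q) (hp : IsPGroup 2 Q)
    (hna : ∃ u ∈ Q, ∃ v ∈ Q, u * v ≠ v * u) (hQ : Nat.card Q = Nat.card h.zSub ^ 3)
    (hr : h.rElt ∈ h.zSub) :
    (∃ v ∈ wSub a t, v ≠ 1) ∧
    ∃ (E : Type) (_ : Field E) (_ : Fintype E) (n : ℕ), 2 ≤ n ∧ Fintype.card E = (2 ^ n) ^ 2 ∧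
      Nonempty (lSub t Q ≃* Cfsg.PSU 3 E (2 ^ n)) := by
  obtain ⟨F, iF, iFin, iC, ⟨Φ⟩⟩ := h.exists_zField
  obtain ⟨x0, hx0, hx0'⟩ : ∃ x ∈ Q, x ∉ h.zSub := by
    by_contra hno
    push Not at hno
    obtain ⟨u, hu, v, hv, huv⟩ := hna
    exact huv (h.z_central (hno u hu) hv)
  let T : Tor h F := ⟨Φ, hr, hQ, hp, hna, x0, hx0, hx0'⟩
  obtain ⟨p, r, han, hS⟩ := T.exists_qform_Sv
  obtain ⟨E, iE, iEF, iEC, ⟨nc⟩⟩ := exists_normCoord han
  let C : UC h F E := ⟨T, p, r, hS, nc⟩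
  refine ⟨C.exists_w, E, iE, iEF, ?_⟩
  obtain ⟨n, hn, hq⟩ := h.exists_card_zSub
  rw [Φ.card_eq] at hq
  refine ⟨n, hn, ?_, hq ▸ C.nonempty_psu⟩
  rw [nc.D.card, nc.q_eq, hq]

end Cfsg.Agent.Lib.SplitRankOne70
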