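import Cfsg.Agent.Lib.SplitRankOne70.AbelianCase
import Cfsg.Agent.Lib.SplitRankOne70.TwoGroupCase
import Cfsg.Agent.Lib.SplitRankOne70.CubeOutside
import Cfsg.Agent.Lib.SplitRankOne70.SuzukiCase
import Cfsg.Agent.Lib.SplitRankOne70.UnitaryCase

/-!
The induction, and the groups with a split BN-pair of rank one in characteristic two.
-/

set_option autoImplicit false
set_option linter.unusedSectionVars false
set_option linter.style.haveILetI false

namespace Cfsg.Agent.Lib.SplitRankOne70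

open Cfsg MulAction Cfsg.Agent.Lib.RankOne

universe u v

variable {G : Type u} {Ω : Type v} [Group G] [MulAction G Ω] [Finite G] [FaithfulSMul G Ω] {a : Ω}
  {t : G} {Q : Subgroup G}

/-- `Q ≤ Z`, or `Q` is a non-abelian 2-group of order `q²` or `q³`. -/
theorem Setup.shape (h : Setup a t Q) (IH : IndHyp.{u, v} (Nat.card G)) :
    Q ≤ h.zSub ∨ IsPGroup 2 Q ∧ (∃ x ∈ Q, ∃ y ∈ Q, x * y ≠ y * x) ∧
      (Nat.card Q = Nat.card h.zSub ^ 2 ∨ Nat.card Q = Nat.card h.zSub ^ 3) := by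
  classical
  letI := Fintype.ofFinite G
  letI := Fintype.ofFinite (stabilizer G a)
  letI := Fintype.ofFinite Q
  letI := Fintype.ofFinite (twoStab a t)
  by_cases hab : TwoAbelian Q
  · obtain ⟨ξ, hξs, hξ⟩ := h.exists_xi hab
    exact Or.inl (h.abelian_case hξs hξ IH hab)
  have hp : IsPGroup 2 Q := h.two_case IH hab
  have hna : ∃ x ∈ Q, ∃ y ∈ Q, x * y ≠ y * x := by
    by_contra! hc
    exact hab fun x hx y hy _ _ => hc x hx y hy
  exact Or.inr ⟨hp, hna, h.card_Q_cases hp hna⟩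

theorem Setup.isPGroup_of_le (h : Setup a t Q) (hQ : Q ≤ h.zSub) : IsPGroup 2 Q := fun x =>
  ⟨1, Subtype.ext (by rw [pow_one, pow_two]; exact h.z_sq (hQ x.2))⟩

theorem Setup.concl (h : Setup a t Q) (IH : IndHyp.{u, v} (Nat.card G)) : Concl h := by
  rcases h.shape IH with hQ | ⟨hp, hna, hcard⟩
  · refine ⟨h.isPGroup_of_le hQ, fun _ => hQ, fun e => ?_⟩
    have h4 := h.four_le_card_zSub
    have h1 : Nat.card h.zSub ^ 3 ≤ Nat.card h.zSub :=
      e ▸ Nat.card_le_card_of_injective (Subgroup.inclusion hQ) (Subgroup.inclusion_injective hQ)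
    nlinarith [Nat.pow_le_pow_left h4 2]
  · refine ⟨hp, fun hc => ?_, fun e => ?_⟩
    · obtain ⟨x, hx, y, hy, hxy⟩ := hna
      exact absurd (hc x hx y hy) hxy
    · obtain ⟨⟨w, hw, hw1⟩, -⟩ := h.unitary_case hp hna e (h.cube_r_mem hp hna IH e)
      exact fun hb => hw1 (Subgroup.mem_bot.1 (hb ▸ hw))

/-- The inductive statement holds in every order. -/
theorem indHyp (N : ℕ) : IndHyp.{u, v} N := by
  induction N using Nat.strong_induction_on with
  | _ N ih =>
    intro G Ω _ _ _ _ a t Q h hlt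
    exact h.concl (ih _ hlt)

/-- The classification of the rank-one groups. -/
theorem Setup.classification (h : Setup a t Q) :
    ∃ L : Subgroup G, L.Normal ∧ Odd L.index ∧ IsSimpleGroup L ∧
      ((∃ (F : Type) (_ : Field F) (_ : Fintype F), (∃ n : ℕ, 2 ≤ n ∧ Fintype.card F = 2 ^ n) ∧
          Nonempty (L ≃* Matrix.ProjectiveSpecialLinearGroup (Fin 2) F)) ∨
        Cfsg.Lie.IsoSuzuki L ∨
        (∃ (F : Type) (_ : Field F) (_ : Fintype F) (n : ℕ), 2 ≤ n ∧ Fintype.card F = (2 ^ n) ^ 2 ∧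
          Nonempty (L ≃* Cfsg.PSU 3 F (2 ^ n)))) := by
  classical
  have IH := indHyp.{u, v} (Nat.card G)
  rcases h.shape IH with hQ | ⟨hp, hna, hcard⟩
  · refine ⟨lSub t Q, h.lSub_normal, h.lSub_index_odd, h.lSub_simple (h.isPGroup_of_le hQ), Or.inl ?_⟩
    obtain ⟨F, iF, iFF, iC, ⟨Φ⟩⟩ := h.exists_zField
    obtain ⟨n, hn, hc⟩ := h.exists_card_zSub
    exact ⟨F, iF, iFF, ⟨n, hn, Φ.card_eq.symm.trans hc⟩, Φ.nonempty_psl (hQ h.r_mem) hQ⟩
  refine ⟨lSub t Q, h.lSub_normal, h.lSub_index_odd, h.lSub_simple hp, Or.inr ?_⟩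
  rcases hcard with e | e
  · exact Or.inl (h.suzuki_case hp hna e)
  · exact Or.inr (h.unitary_case hp hna e (h.cube_r_mem hp hna IH e)).2

end Cfsg.Agent.Lib.SplitRankOne70
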