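import Cfsg.Agent.Lib.SplitRankOne70.BNLines
import Cfsg.Agent.Lib.SplitRankOne70.Induction

/-!
The group induced on a line is a rank-one group, hence `U` is a 2-group.
-/

set_option autoImplicit false
set_option linter.unusedSectionVars false
set_option linter.style.haveILetI false

namespace Cfsg.Agent.Lib.SplitRankOne70

open MulAction

universe u v

variable {G : Type u} {Ω : Type v} [Group G] [MulAction G Ω] [Finite G] [FaithfulSMul G Ω]
  {a : Ω} {U : Subgroup G}

namespace OddStab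

variable (h : OddStab G Ω a U)
include h

theorem mem_line_normalizer {b : Ω} (hb : b ≠ a) {g : G} (ga : g • a ∈ h.line a b)
    (gb : g • b ∈ h.line a b) : g ∈ Subgroup.normalizer (h.rAt a b : Set G) := by
  have hne : g • a ≠ g • b := fun e => hb (smul_left_cancel g e).symm
  have hm : ∀ x ∈ h.rAt a b, g * x * g⁻¹ ∈ h.rAt a b := fun x hx => by
    rw [← h.rAt_eq_of_mem_line hb.symm ga gb hne]
    exact h.conj_rAt g hx
  refine Subgroup.mem_normalizer_iff.2 fun x => ⟨hm x, fun hx => ?_⟩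
  obtain ⟨⟨y, hy⟩, e⟩ := (Finite.surjective_of_injective
    (f := fun z : h.rAt a b => (⟨g * z * g⁻¹, hm z z.2⟩ : h.rAt a b))
    (fun z z' e => Subtype.ext (by simpa using congrArg Subtype.val e))) ⟨_, hx⟩
  have : g * y * g⁻¹ = g * x * g⁻¹ := congrArg Subtype.val e
  rwa [← mul_left_cancel (mul_right_cancel this)]

theorem normalizer_smul_line {b : Ω} {g : G}
    (hg : g ∈ Subgroup.normalizer (h.rAt a b : Set G)) {e : Ω} (he : e ∈ h.line a b) :
    g • e ∈ h.line a b :=
  h.smul_mem_line (fun x hx => (Subgroup.mem_normalizer_iff.1 hg _).2 (by simpa [mul_assoc] using hx))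
    he

/-- An element of `U` normalising `U ∩ G_b` has a power of 2-power exponent fixing `b`. -/
theorem pow_two_mem_rAt {b : Ω} (hb : b ≠ a) {x : G} (hxU : x ∈ U)
    (hx : x ∈ Subgroup.normalizer (h.rAt a b : Set G)) : ∃ i : ℕ, x ^ 2 ^ i ∈ h.rAt a b := by
  classical
  haveI := h.finiteΩ
  set R := h.rAt a b with hR
  set N : Subgroup G := Subgroup.normalizer (R : Set G) with hN
  set F := h.line a b with hF
  let π : N →* Equiv.Perm F :=
    { toFun := fun g =>
        { toFun := fun e => ⟨(g : G) • (e : Ω), h.normalizer_smul_line g.2 e.2⟩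
          invFun := fun e => ⟨((g⁻¹ : N) : G) • (e : Ω), h.normalizer_smul_line (g⁻¹).2 e.2⟩
          left_inv := fun e => Subtype.ext (inv_smul_smul (g : G) (e : Ω))
          right_inv := fun e => Subtype.ext (smul_inv_smul (g : G) (e : Ω)) }
      map_one' := Equiv.ext fun e => Subtype.ext (one_smul G (e : Ω))
      map_mul' := fun g g' => Equiv.ext fun e => Subtype.ext (mul_smul (g : G) (g' : G) (e : Ω)) }
  let H := π.range
  let π' : N →* H := π.rangeRestrict
  haveI : FaithfulSMul H F := ⟨fun {p q} e => Subtype.ext (Equiv.ext e)⟩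
  have hact : ∀ (g : N) (e : F), ((π' g • e : F) : Ω) = (g : G) • (e : Ω) := fun g e => rfl
  let A : F := ⟨a, h.mem_line_left a b⟩
  let B : F := ⟨b, h.mem_line_right a b⟩
  have hRN : R ≤ N := fun r hr => h.mem_line_normalizer hb
    (by rw [show r • a = a from h.nil.le (h.nil.uAt_a ▸ hr.1)]; exact A.2)
    (by rw [show r • b = b from hr.2]; exact B.2)
  obtain ⟨z, hz, z', hz', hz1, hz1', hzne⟩ := h.exists_two_z a
  obtain ⟨w, hw, hw1⟩ := h.exists_z_at b
  obtain ⟨e₀, τ, hτ, hτ1, -, hτa, hτb, -⟩ := h.exists_swap hb.symm hz hz1 hw hw1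
  have hτN : τ ∈ N := h.mem_line_normalizer hb (by rw [hτa]; exact B.2) (by rw [hτb]; exact A.2)
  let T : H := π' ⟨τ, hτN⟩
  have hTA : T • A = B := Subtype.ext ((hact _ _).trans hτa)
  let Q' : Subgroup H := (U.subgroupOf N).map π'
  have hmemQ : ∀ {q : H}, q ∈ Q' ↔ ∃ g : N, (g : G) ∈ U ∧ π' g = q := by
    intro q
    constructor
    · rintro ⟨g, hg, rfl⟩
      exact ⟨g, Subgroup.mem_subgroupOf.1 hg, rfl⟩
    · rintro ⟨g, hg, rfl⟩
      exact ⟨g, Subgroup.mem_subgroupOf.2 hg, rfl⟩
  have hzero : ∀ g : N, (g : G) ∈ R → π' g = 1 := fun g hg =>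
    Subtype.ext (Equiv.ext fun e => Subtype.ext (e.2 _ hg))
  have hUa : ∀ {g : G}, g ∈ U → g ∈ h.nil.uAt a := fun {g} hg => by rwa [h.nil.uAt_a]
  have hZU : ∀ {g : G}, g ∈ h.zAt a → g ∈ U := fun {g} hg => h.nil.uAt_a ▸ hg.1
  have hzN : ∀ {g : G}, g ∈ h.zAt a → g ∈ N := fun {g} hg => by
    refine Subgroup.mem_normalizer_iff.2 fun x => ?_
    constructor
    · intro hx
      rwa [h.z_comm_rAt hg hx, mul_inv_cancel_right]
    · intro hx
      have := h.z_comm_rAt hg hx
      rw [show g * x * g⁻¹ * g = g * x by group] at this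
      rwa [mul_left_cancel this] at hx
  have hzinj : ∀ {g g' : G} (hg : g ∈ h.zAt a) (hg' : g' ∈ h.zAt a),
      π' ⟨g, hzN hg⟩ = π' ⟨g', hzN hg'⟩ → g = g' := fun {g g'} hg hg' e => by
    have e' : g • b = g' • b := congrArg Subtype.val (congrArg (fun p : H => p • B) e)
    refine inv_mul_eq_one.1 (h.z_eq_one (mul_mem (inv_mem hg) hg') hb ?_)
    rw [mul_smul, ← e', inv_smul_smul]
  have hS : Cfsg.IsRankOneSetup H F A T Q' := by
    refine ⟨?_, ?_, ?_, ?_, ?_, ?_, ?_, ?_, ?_, ?_⟩
    · rw [MulAction.is_two_pretransitive_iff]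
      intro c d c' d' hcd hcd'
      obtain ⟨g, e1, e2⟩ := (is_two_pretransitive_iff.1 h.nil.two)
        (show (c : Ω) ≠ d from fun e => hcd (Subtype.ext e))
        (show (c' : Ω) ≠ d' from fun e => hcd' (Subtype.ext e))
      have hne : (c : Ω) ≠ d := fun e => hcd (Subtype.ext e)
      have hne' : (c' : Ω) ≠ d' := fun e => hcd' (Subtype.ext e)
      have hg : g ∈ N := by
        refine Subgroup.mem_normalizer_iff.2 fun x => ?_
        have e3 := h.rAt_eq_of_mem_line hb.symm c.2 d.2 hne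
        have e4 := h.rAt_eq_of_mem_line hb.symm c'.2 d'.2 hne'
        constructor
        · intro hx
          rw [hR, ← e3] at hx
          have := h.conj_rAt g hx
          rwa [e1, e2, e4] at this
        · intro hx
          rw [hR, ← e4, ← e1, ← e2] at hx
          have := h.conj_rAt g⁻¹ hx
          rw [inv_smul_smul, inv_smul_smul, e3] at this
          simpa [mul_assoc] using this
      exact ⟨π' ⟨g, hg⟩, Subtype.ext e1, Subtype.ext e2⟩
    · rw [← map_mul, show (⟨τ, hτN⟩ : N) * ⟨τ, hτN⟩ = 1 from Subtype.ext hτ.2.2, map_one]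
    · intro e
      refine hb ?_
      have := congrArg Subtype.val (show (1 : H) • A = B from e ▸ hTA)
      rw [one_smul] at this
      exact this.symm
    · intro e
      exact hb (congrArg Subtype.val (hTA.symm.trans e))
    · rintro q hq
      obtain ⟨g, hg, rfl⟩ := hmemQ.1 hq
      exact Subtype.ext (h.nil.le hg)
    · intro p hp q hq
      obtain ⟨g, rfl⟩ := π.rangeRestrict_surjective p
      obtain ⟨g', hg', rfl⟩ := hmemQ.1 hq
      have hga : (g : G) • a = a := congrArg Subtype.val (mem_stabilizer_iff.1 hp)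
      exact hmemQ.2 ⟨g * g' * g⁻¹, h.nil.conj_mem g hga g' hg', by rw [map_mul, map_mul, map_inv]⟩
    · rw [eq_bot_iff]
      rintro q ⟨hq, hqb⟩
      obtain ⟨g, hg, rfl⟩ := hmemQ.1 hq
      rw [hTA] at hqb
      exact Subgroup.mem_bot.2 (hzero g ⟨hUa hg, congrArg Subtype.val (mem_stabilizer_iff.1 hqb)⟩)
    · refine le_antisymm (sup_le ?_ inf_le_left) ?_
      · intro q hq
        obtain ⟨g, hg, rfl⟩ := hmemQ.1 hq
        exact Subtype.ext (h.nil.le hg)
      · intro p hp
        obtain ⟨g, rfl⟩ := π.rangeRestrict_surjective p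
        have hga : (g : G) • a = a := congrArg Subtype.val (mem_stabilizer_iff.1 hp)
        have hgb : (g : G) • b ≠ a := fun e => hb (smul_left_cancel (g : G) (e.trans hga.symm))
        obtain ⟨x, hx, e⟩ := h.nil.move b hb _ hgb
        have hxN : x ∈ N := h.mem_line_normalizer hb
          (by rw [show x • a = a from h.nil.le hx]; exact A.2)
          (by rw [e]; exact h.normalizer_smul_line g.2 B.2)
        have he : g = ⟨x, hxN⟩ * ((⟨x, hxN⟩ : N)⁻¹ * g) := by group
        rw [he, map_mul]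
        refine mul_mem (Subgroup.mem_sup_left (hmemQ.2 ⟨⟨x, hxN⟩, hx, rfl⟩))
          (Subgroup.mem_sup_right ⟨Subtype.ext ?_, ?_⟩)
        · show (x⁻¹ * (g : G)) • a = a
          rw [mul_smul, hga, inv_smul_eq_iff, h.nil.le hx]
        · rw [hTA]
          refine Subtype.ext ?_
          show (x⁻¹ * (g : G)) • b = b
          rw [mul_smul, inv_smul_eq_iff, e]
    · have hmem : π' ⟨z, hzN hz⟩ ∈ Q' := hmemQ.2 ⟨_, hZU hz, rfl⟩
      have h1 : orderOf (⟨_, hmem⟩ : Q') = 2 := by
        refine orderOf_eq_prime (Subtype.ext ?_) fun e => hz1 ?_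
        · rw [Subgroup.coe_pow, pow_two, ← map_mul,
            show (⟨z, hzN hz⟩ : N) * ⟨z, hzN hz⟩ = 1 from Subtype.ext hz.2.2, map_one]
          rfl
        · exact hzinj hz (one_mem _) ((congrArg Subtype.val e).trans (map_one π').symm)
      rw [even_iff_two_dvd, ← h1]
      exact orderOf_dvd_natCard _
    · rw [hTA]
      set D : Subgroup G := stabilizer G a ⊓ stabilizer G b with hD
      have hDN : D ≤ N := fun g hg => h.mem_line_normalizer hb
        (by rw [show g • a = a from hg.1]; exact A.2) (by rw [show g • b = b from hg.2]; exact B.2)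
      have hsurj : ∀ p ∈ stabilizer H A ⊓ stabilizer H B, ∃ g : G, ∃ hg : g ∈ D, π' ⟨g, hDN hg⟩ = p := by
        rintro p ⟨hpa, hpb⟩
        obtain ⟨g, rfl⟩ := π.rangeRestrict_surjective p
        exact ⟨g, ⟨congrArg Subtype.val (mem_stabilizer_iff.1 hpa),
          congrArg Subtype.val (mem_stabilizer_iff.1 hpb)⟩, rfl⟩
      -- every element of `D` has an odd power in `R`
      rw [Nat.odd_iff]
      by_contra hev
      haveI : Fact (Nat.Prime 2) := ⟨Nat.prime_two⟩
      obtain ⟨p, hp⟩ := exists_prime_orderOf_dvd_card'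
        (G := ↥(stabilizer H A ⊓ stabilizer H B)) 2 (by omega)
      obtain ⟨g, hg, e⟩ := hsurj p p.2
      -- a 2-part of `g`
      obtain ⟨k, m, hm, hkm⟩ := Nat.exists_eq_two_pow_mul_odd (orderOf_pos g).ne'
      have hgm : (g ^ m) ^ 2 ^ k = 1 := by rw [← pow_mul, mul_comm, ← hkm, pow_orderOf_eq_one]
      have hmU : g ^ m ∈ U := h.two_elt_mem (pow_mem (show g ∈ stabilizer G a from hg.1) m) hgm
      have hmR : g ^ m ∈ R := ⟨hUa hmU, pow_mem hg.2 m⟩
      have e1 : ((p : H)) ^ m = 1 := by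
        rw [← e, ← map_pow]
        exact hzero _ (by rw [SubmonoidClass.coe_pow]; exact hmR)
      have e2 : p ^ m = 1 := Subtype.ext (by rw [SubmonoidClass.coe_pow]; exact e1)
      have := orderOf_dvd_of_pow_eq_one e2
      rw [hp] at this
      exact Nat.not_even_iff_odd.2 hm (even_iff_two_dvd.2 this)
  have h2 : ∃ p q : H, p ≠ 1 ∧ q ≠ 1 ∧ p ≠ q ∧ p * p = 1 ∧ q * q = 1 ∧ p * q = q * p := by
    refine ⟨π' ⟨z, hzN hz⟩, π' ⟨z', hzN hz'⟩, fun e => hz1 (hzinj hz (one_mem _) (e.trans (map_one π').symm)),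
      fun e => hz1' (hzinj hz' (one_mem _) (e.trans (map_one π').symm)),
      fun e => hzne (hzinj hz hz' e), ?_, ?_, ?_⟩
    · rw [← map_mul, show (⟨z, hzN hz⟩ : N) * ⟨z, hzN hz⟩ = 1 from Subtype.ext hz.2.2, map_one]
    · rw [← map_mul, show (⟨z', hzN hz'⟩ : N) * ⟨z', hzN hz'⟩ = 1 from Subtype.ext hz'.2.2, map_one]
    · rw [← map_mul, ← map_mul]
      exact congrArg π' (Subtype.ext (hz.2.1 z' hz'.1))
  have hs : Setup A T Q' := ⟨hS, h2⟩
  have hp2 : IsPGroup 2 Q' := (hs.concl (indHyp _)).1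
  obtain ⟨i, hi⟩ := hp2 ⟨π' ⟨x, hx⟩, hmemQ.2 ⟨⟨x, hx⟩, hxU, rfl⟩⟩
  refine ⟨i, pow_mem (hUa hxU) _, ?_⟩
  have e1 : π' (⟨x, hx⟩ ^ 2 ^ i) = 1 := by rw [map_pow]; exact congrArg Subtype.val hi
  have e2 := congrArg Subtype.val (congrArg (fun p : H => p • B) e1)
  rw [hact, one_smul, SubmonoidClass.coe_pow] at e2
  exact e2

theorem isPGroup_U : IsPGroup 2 U := by
  classical
  haveI := h.nil.nilp
  haveI : Fact (Nat.Prime 2) := ⟨Nat.prime_two⟩
  suffices H : ∀ p : ℕ, p.Prime → p ∣ Nat.card U → p = 2 by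
    rw [IsPGroup.iff_card]
    exact ⟨_, Nat.eq_prime_pow_of_unique_prime_dvd Nat.card_pos.ne' fun {d} hd hdvd => H d hd hdvd⟩
  intro p hp hdvd
  by_contra hp2
  haveI := Fact.mk hp
  obtain ⟨z, hz, hzc, hzp⟩ := h.nil.exists_central_prime hdvd
  have hnorm : ∀ (q : ℕ) [Fact q.Prime] (S : Sylow q U), (S : Subgroup U).Normal :=
    fun q _ S => ((Group.isNilpotent_of_finite_tfae (G := U)).out 0 3 rfl rfl).mp h.nil.nilp q ‹_› S
  let P : Sylow p U := default
  haveI := hnorm p P
  haveI : Subsingleton (Sylow p U) := (P.unique_of_normal ‹_›).instSubsingleton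
  have hP : ∀ (x : U) (k : ℕ), orderOf x = p ^ k → x ∈ (P : Subgroup U) := by
    intro x k hk
    obtain ⟨S, hS⟩ := (IsPGroup.of_card (by rw [Nat.card_zpowers, hk]) :
      IsPGroup p (Subgroup.zpowers x)).exists_le_sylow
    rw [Subsingleton.elim S P] at hS
    exact hS (Subgroup.mem_zpowers x)
  -- `P` fixes every point
  have main : ∀ b : Ω, b ≠ a → ∀ x : U, x ∈ (P : Subgroup U) → (x : G) • b = b := by
    intro b hb
    set Rp : Subgroup (P : Subgroup U) :=
      ((h.rAt a b).subgroupOf U).subgroupOf (P : Subgroup U) with hRp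
    suffices hall : Rp = ⊤ by
      intro x hx
      have hm : (⟨x, hx⟩ : (P : Subgroup U)) ∈ Rp := hall ▸ Subgroup.mem_top _
      exact (Subgroup.mem_subgroupOf.1 (Subgroup.mem_subgroupOf.1 hm)).2
    by_contra hne
    haveI : Group.IsNilpotent (P : Subgroup U) := P.2.isNilpotent
    have hlt := Group.normalizerCondition_of_isNilpotent Rp (lt_top_iff_ne_top.2 hne)
    obtain ⟨⟨x, hxP⟩, hxn, hxR⟩ := SetLike.exists_of_lt hlt
    refine hxR ?_
    -- `x` normalises `R`
    have hxN : (x : G) ∈ Subgroup.normalizer (h.rAt a b : Set G) := by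
      have hsub : ∀ r ∈ h.rAt a b, (x : G) * r * (x : G)⁻¹ ∈ h.rAt a b := by
        suffices H' : ∀ n : ℕ, ∀ r ∈ h.rAt a b, orderOf r = n →
            (x : G) * r * (x : G)⁻¹ ∈ h.rAt a b from fun r hr => H' _ r hr rfl
        intro n
        induction n using Nat.recOnPrimeCoprime with
        | zero => exact fun r _ e => absurd e (orderOf_pos r).ne'
        | prime_pow q k hq =>
          intro r hr hord
          have hrU : r ∈ U := h.nil.uAt_a ▸ hr.1
          by_cases hqp : q = p
          · subst hqp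
            have hrP : (⟨r, hrU⟩ : U) ∈ (P : Subgroup U) :=
              hP _ k (by rw [← hord, ← Subgroup.orderOf_coe])
            have := (Subgroup.mem_normalizer_iff.1 hxn ⟨_, hrP⟩).1
              (Subgroup.mem_subgroupOf.2 (Subgroup.mem_subgroupOf.2 hr))
            exact Subgroup.mem_subgroupOf.1 (Subgroup.mem_subgroupOf.1 this)
          · haveI := Fact.mk hq
            obtain ⟨S, hS⟩ := (IsPGroup.of_card (by
              rw [Nat.card_zpowers, ← Subgroup.orderOf_coe]; exact hord) :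
              IsPGroup q (Subgroup.zpowers (⟨r, hrU⟩ : U))).exists_le_sylow
            haveI := hnorm q S
            have hdis : Disjoint (P : Subgroup U) (S : Subgroup U) :=
              IsPGroup.disjoint_of_ne p q (Ne.symm hqp) _ _ P.2 S.2
            have hcm := Subgroup.commute_of_normal_of_disjoint _ _ inferInstance inferInstance hdis
              x ⟨r, hrU⟩ hxP (hS (Subgroup.mem_zpowers _))
            have hcm' : (x : G) * r = r * x := congrArg Subtype.val hcm
            rw [hcm', mul_inv_cancel_right]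
            exact hr
        | coprime m l hm hl hco ihm ihl =>
          intro r hr e
          have hbez := Nat.gcd_eq_gcd_ab m l
          rw [hco] at hbez
          have h1 := ihl _ (pow_mem hr m) (by
            rw [orderOf_pow' _ (by omega), e, Nat.gcd_eq_right (Dvd.intro l rfl),
              Nat.mul_div_cancel_left _ (by omega)])
          have h2 := ihm _ (pow_mem hr l) (by
            rw [orderOf_pow' _ (by omega), e, Nat.gcd_eq_right (Dvd.intro_left m rfl),
              Nat.mul_div_cancel _ (by omega)])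
          have hr' : r = (r ^ m) ^ (m.gcdA l) * (r ^ l) ^ (m.gcdB l) := by
            rw [← zpow_natCast r m, ← zpow_natCast r l, ← zpow_mul, ← zpow_mul, ← zpow_add, ← hbez,
              Nat.cast_one, zpow_one]
          rw [hr', ← conj_mul, ← conj_zpow, ← conj_zpow]
          exact mul_mem (zpow_mem h1 _) (zpow_mem h2 _)
      refine Subgroup.mem_normalizer_iff.2 fun r => ⟨hsub r, fun hr => ?_⟩
      obtain ⟨⟨y, hy⟩, e⟩ := (Finite.surjective_of_injective
        (f := fun w : h.rAt a b => (⟨(x : G) * w * (x : G)⁻¹, hsub w w.2⟩ : h.rAt a b))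
        (fun w w' e => Subtype.ext (by simpa using congrArg Subtype.val e))) ⟨_, hr⟩
      have : (x : G) * y * (x : G)⁻¹ = (x : G) * r * (x : G)⁻¹ := congrArg Subtype.val e
      rwa [← mul_left_cancel (mul_right_cancel this)]
    obtain ⟨i, hi⟩ := h.pow_two_mem_rAt hb x.2 hxN
    obtain ⟨k, hk⟩ := IsPGroup.iff_orderOf.1 P.2 ⟨x, hxP⟩
    rw [← Subgroup.orderOf_coe, ← Subgroup.orderOf_coe] at hk
    have hco : Nat.Coprime (2 ^ i) (orderOf (x : G)) :=
      hk ▸ (Nat.Coprime.pow _ _ ((Nat.coprime_primes Nat.prime_two hp).2 (Ne.symm hp2)))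
    obtain ⟨l, hl⟩ := exists_pow_eq_self_of_coprime hco
    refine Subgroup.mem_subgroupOf.2 (Subgroup.mem_subgroupOf.2 ?_)
    show (x : G) ∈ h.rAt a b
    rw [← hl]
    exact pow_mem hi l
  have hz1 : z = 1 := by
    refine eq_of_smul_eq_smul (α := Ω) fun c => ?_
    rw [one_smul]
    by_cases hc : c = a
    · rw [hc]; exact h.nil.le hz
    · exact main c hc ⟨z, hz⟩ (hP _ 1 (by rw [← Subgroup.orderOf_coe, pow_one]; exact hzp))
  rw [hz1, orderOf_one] at hzp
  exact hp.ne_one hzp.symm

end OddStab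

end Cfsg.Agent.Lib.SplitRankOne70
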