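import Cfsg.Agent.Lib.SplitRankOne70.Torsor
import Cfsg.Agent.Lib.SplitRankOne70.Induced

/-!
The order of a non-abelian `Q`; its classes modulo `Z`.
-/

set_option autoImplicit false
set_option linter.unusedSectionVars false
set_option linter.style.haveILetI false

namespace Cfsg.Agent.Lib.SplitRankOne70

open Cfsg MulAction Cfsg.Agent.Lib.RankOne

universe u v

variable {G : Type u} {Ω : Type v} [Group G] [MulAction G Ω] [Finite G] {a : Ω} {t : G}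
  {Q : Subgroup G}

namespace Setup

variable (h : Setup a t Q)
include h

theorem card_Q_cases (hp : IsPGroup 2 Q) (hna : ∃ u ∈ Q, ∃ v ∈ Q, u * v ≠ v * u) :
    Nat.card Q = Nat.card h.zSub ^ 2 ∨ Nat.card Q = Nat.card h.zSub ^ 3 := by
  classical
  letI := Fintype.ofFinite G
  obtain ⟨S, O, hSp⟩ := h.exists_split (h.not_twoAbelian hp hna)
  have hS : Nat.card S = Nat.card Q := Nat.card_congr
    { toFun := fun x => (x : Q)
      invFun := fun x => ⟨x, (hSp.memS x).2 (by obtain ⟨i, hi⟩ := hp x; exact ⟨i, hi⟩)⟩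
      left_inv := fun x => rfl
      right_inv := fun x => rfl }
  rw [← hS, hSp.card_S]
  rcases hSp.card_quotient_cases with e | e <;> rw [e]
  · exact Or.inl (pow_two _).symm
  · exact Or.inr (by ring)

theorem comm_mem_zSub (hp : IsPGroup 2 Q) (hna : ∃ u ∈ Q, ∃ v ∈ Q, u * v ≠ v * u) {x y : G}
    (hx : x ∈ Q) (hy : y ∈ Q) : x * y * x⁻¹ * y⁻¹ ∈ h.zSub := by
  classical
  letI := Fintype.ofFinite G
  obtain ⟨S, O, hSp⟩ := h.exists_split (h.not_twoAbelian hp hna)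
  obtain ⟨i, hi⟩ := hp ⟨x, hx⟩
  obtain ⟨j, hj⟩ := hp ⟨y, hy⟩
  exact Subgroup.mem_subgroupOf.1
    (hSp.comm_mem ((hSp.memS ⟨x, hx⟩).2 ⟨i, hi⟩) ((hSp.memS ⟨y, hy⟩).2 ⟨j, hj⟩))

theorem sq_mul_z {x z : G} (hx : x ∈ Q) (hz : z ∈ h.zSub) : x * z * (x * z) = x * x := by
  calc x * z * (x * z) = x * (z * x) * z := by group
    _ = x * x * (z * z) := by rw [h.z_central hz hx]; group
    _ = x * x := by rw [h.z_sq hz, mul_one]

theorem sq_ne_one {x : G} (hx : x ∈ Q) (hxZ : x ∉ h.zSub) : x * x ≠ 1 :=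
  fun e => hxZ (h.mem_zSub.2 ⟨Q_fix h.hS hx, e⟩)

/-- `v ∈ V` fixes `r`. -/
theorem v_r {v : G} (hv : v ∈ vSub a t) : v * h.rElt * v⁻¹ = h.rElt := by
  have hs := h.zSub_le h.s_mem
  have hr := h.conj_Q_D hv.1 h.r_mem
  obtain ⟨e1, -, -⟩ := h.triple_eq hs h.s_ne (inv_mem h.r_mem) (one_mem _) h.r_mem
    (by rw [mul_one]; exact h.tst)
  obtain ⟨e2, -, -⟩ := h.triple_eq hs h.s_ne (inv_mem hr) (one_mem _) hr (by
    have hvt : v * t = t * v := (h.mem_vSub.1 hv).2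
    have hvt' : v⁻¹ * t = t * v⁻¹ := (h.mem_vSub.1 (inv_mem hv)).2
    rw [mul_one]
    conv_lhs => rw [← h.v_s hv]
    calc t * (v * h.sElt * v⁻¹) * t = (t * v) * h.sElt * (v⁻¹ * t) := by group
      _ = v * (t * h.sElt * t) * v⁻¹ := by rw [← hvt, hvt']; group
      _ = v * (h.rElt⁻¹ * t * h.rElt) * v⁻¹ := by rw [h.tst]
      _ = (v * h.rElt⁻¹ * v⁻¹) * (v * t * v⁻¹) * (v * h.rElt * v⁻¹) := by group
      _ = (v * h.rElt * v⁻¹)⁻¹ * t * (v * h.rElt * v⁻¹) := by rw [hvt, mul_inv_cancel_right]; group)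
  exact (inv_injective (e1.symm.trans e2)).symm

variable (hp : IsPGroup 2 Q) (hna : ∃ u ∈ Q, ∃ v ∈ Q, u * v ≠ v * u)
include hp hna

/-- An element of `M ⊇ Z` outside `Z`, `M` invariant under `K`, gives `|M| ≥ q²`, with equality only
if squaring separates the classes. -/
theorem card_ge_sq {M : Subgroup G} (hMQ : M ≤ Q) (hZM : h.zSub ≤ M)
    (hinv : ∀ k ∈ h.kSub, ∀ x ∈ M, k * x * k⁻¹ ∈ M) {m : G} (hm : m ∈ M) (hmZ : m ∉ h.zSub) :
    Nat.card h.zSub ^ 2 ≤ Nat.card M ∧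
      (Nat.card M ≤ Nat.card h.zSub ^ 2 → ∀ x ∈ M, ∀ y ∈ M, x ∉ h.zSub → y ∉ h.zSub →
        x * x = y * y → x⁻¹ * y ∈ h.zSub) := by
  classical
  let f : Option h.kSub × h.zSub → M := fun p =>
    match p.1 with
    | none => ⟨p.2, hZM p.2.2⟩
    | some k => ⟨(k : G) * m * (k : G)⁻¹ * p.2, mul_mem (hinv k k.2 m hm) (hZM p.2.2)⟩
  have hout : ∀ (k : h.kSub) (z : h.zSub), (k : G) * m * (k : G)⁻¹ * z ∉ h.zSub := by
    intro k z hz
    have hz' : (k : G) * m * (k : G)⁻¹ ∈ h.zSub := by simpa using mul_mem hz (inv_mem z.2)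
    have := h.conj_z (inv_mem (D_le h.hS (h.kSub_le k.2))) hz'
    exact hmZ (by simpa [mul_assoc] using this)
  have hsqk : ∀ (k : h.kSub) (z : h.zSub),
      (k : G) * m * (k : G)⁻¹ * z * ((k : G) * m * (k : G)⁻¹ * z) = (k : G) * (m * m) * (k : G)⁻¹ := by
    intro k z
    rw [h.sq_mul_z (hMQ (hinv k k.2 m hm)) z.2]
    group
  have hf : Function.Injective f := by
    rintro ⟨_ | k, z⟩ ⟨_ | k', z'⟩ e <;> have e' := congrArg Subtype.val e <;> simp only [f] at e'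
    · rw [Subtype.ext e']
    · exact absurd (e' ▸ z.2) (hout k' z')
    · exact absurd (e'.symm ▸ z'.2) (hout k z)
    · have e2 := hsqk k z
      rw [e', hsqk] at e2
      obtain rfl : k = k' := Subtype.ext (h.k_inj k.2 k'.2 (h.sq_mem_zSub hp hna (hMQ hm))
        (h.sq_ne_one (hMQ hm) hmZ) e2.symm)
      rw [Subtype.ext (mul_left_cancel e')]
  have hcard : Nat.card (Option h.kSub × h.zSub) = Nat.card h.zSub ^ 2 := by
    rw [Nat.card_prod, Finite.card_option, ← h.card_zSub, pow_two]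
  refine ⟨hcard ▸ Nat.card_le_card_of_injective f hf, fun hle x hx y hy hxZ hyZ e => ?_⟩
  have hb : Function.Bijective f := hf.bijective_of_nat_card_le (hle.trans hcard.ge)
  obtain ⟨⟨_ | k, z⟩, hfx⟩ := hb.2 ⟨x, hx⟩
  · exact absurd ((show (z : G) = x from congrArg Subtype.val hfx) ▸ z.2) hxZ
  obtain ⟨⟨_ | k', z'⟩, hfy⟩ := hb.2 ⟨y, hy⟩
  · exact absurd ((show (z' : G) = y from congrArg Subtype.val hfy) ▸ z'.2) hyZ
  have ex : (k : G) * m * (k : G)⁻¹ * z = x := congrArg Subtype.val hfx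
  have ey : (k' : G) * m * (k' : G)⁻¹ * z' = y := congrArg Subtype.val hfy
  rw [← ex, ← ey, hsqk, hsqk] at e
  obtain rfl : k = k' := Subtype.ext (h.k_inj k.2 k'.2 (h.sq_mem_zSub hp hna (hMQ hm))
    (h.sq_ne_one (hMQ hm) hmZ) e)
  rw [← ex, ← ey, show ((k : G) * m * (k : G)⁻¹ * z)⁻¹ * ((k : G) * m * (k : G)⁻¹ * z') =
    (z : G)⁻¹ * z' by group]
  exact mul_mem (inv_mem z.2) z'.2

variable [FaithfulSMul G Ω]

/-- `W = 1` when `|Q| = q³` and `r ∉ Z`. -/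
theorem w_trivial (hQ : Nat.card Q = Nat.card h.zSub ^ 3) (hr : h.rElt ∉ h.zSub) {w : G}
    (hw : w ∈ wSub a t) : w = 1 := by
  classical
  set zQ : Subgroup Q := h.zSub.subgroupOf Q with hzQ
  haveI : zQ.Normal := ⟨fun z hz x => Subgroup.mem_subgroupOf.2
    (h.conj_z (Q_fix h.hS x.2) (Subgroup.mem_subgroupOf.1 hz))⟩
  have hwD : w ∈ twoStab a t := hw.1.1
  have hd : ∀ x ∈ Q, w * x * w⁻¹ * x⁻¹ ∈ Q := fun x hx => mul_mem (h.conj_Q_D hwD hx) (inv_mem hx)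
  let δ : Q → Q := fun x => ⟨w * x * w⁻¹ * (x : G)⁻¹, hd x x.2⟩
  have hwz : ∀ z ∈ h.zSub, w * z * w⁻¹ = z := fun z hz => by rw [h.w_z hw hz, mul_inv_cancel_right]
  let φ : Q →* Q ⧸ zQ := MonoidHom.mk' (fun x => QuotientGroup.mk (δ x)) fun x y => by
    rw [← QuotientGroup.mk_mul, QuotientGroup.eq, Subgroup.mem_subgroupOf]
    have e : ((δ (x * y))⁻¹ * (δ x * δ y) : Q).1 =
        (x : G) * (δ y : G)⁻¹ * (x : G)⁻¹ * ((δ y : G)⁻¹)⁻¹ := by
      simp only [δ, Subgroup.coe_mul, Subgroup.coe_inv]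
      group
    rw [e]
    exact h.comm_mem_zSub hp hna x.2 (inv_mem (δ y).2)
  set Kr : Subgroup G := φ.ker.map Q.subtype with hKr
  set Im : Subgroup G := (φ.range.comap (QuotientGroup.mk' zQ)).map Q.subtype with hIm
  have hZKr : h.zSub ≤ Kr := fun z hz => ⟨⟨z, h.zSub_le hz⟩, by
    show QuotientGroup.mk (δ _) = (1 : Q ⧸ zQ)
    refine (QuotientGroup.eq_one_iff _).2 (Subgroup.mem_subgroupOf.2 ?_)
    show w * z * w⁻¹ * z⁻¹ ∈ h.zSub
    rw [hwz z hz, mul_inv_cancel]; exact one_mem _, rfl⟩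
  have hkδ : ∀ k ∈ h.kSub, ∀ x : G, w * (k * x * k⁻¹) * w⁻¹ * (k * x * k⁻¹)⁻¹ =
      k * (w * x * w⁻¹ * x⁻¹) * k⁻¹ := by
    intro k hk x
    have e := (h.mem_wSub.1 hw).2 k hk
    calc w * (k * x * k⁻¹) * w⁻¹ * (k * x * k⁻¹)⁻¹
        = (w * k) * x * (w * k)⁻¹ * (k * x * k⁻¹)⁻¹ := by group
      _ = k * (w * x * w⁻¹ * x⁻¹) * k⁻¹ := by rw [← e]; group
  have hKrinv : ∀ k ∈ h.kSub, ∀ x ∈ Kr, k * x * k⁻¹ ∈ Kr := by
    rintro k hk _ ⟨x, hx, rfl⟩
    refine ⟨⟨_, h.conj_Q_D (h.kSub_le hk) x.2⟩, ?_, rfl⟩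
    show QuotientGroup.mk (δ _) = (1 : Q ⧸ zQ)
    refine (QuotientGroup.eq_one_iff _).2 (Subgroup.mem_subgroupOf.2 ?_)
    show w * (k * x * k⁻¹) * w⁻¹ * (k * (x : G) * k⁻¹)⁻¹ ∈ h.zSub
    rw [hkδ k hk]
    exact h.conj_z (D_le h.hS (h.kSub_le hk))
      (Subgroup.mem_subgroupOf.1 ((QuotientGroup.eq_one_iff _).1 (MonoidHom.mem_ker.1 hx)))
  have hrKr : h.rElt ∈ Kr := ⟨⟨_, h.r_mem⟩, by
    show QuotientGroup.mk (δ _) = (1 : Q ⧸ zQ)
    refine (QuotientGroup.eq_one_iff _).2 (Subgroup.mem_subgroupOf.2 ?_)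
    show w * h.rElt * w⁻¹ * h.rElt⁻¹ ∈ h.zSub
    rw [h.v_r hw.1, mul_inv_cancel]; exact one_mem _, rfl⟩
  have hKr2 := (h.card_ge_sq hp hna (Subgroup.map_subtype_le _) hZKr hKrinv hrKr hr).1
  rw [Subgroup.card_map_of_injective (Subgroup.subtype_injective Q)] at hKr2
  have hcard := Subgroup.card_mul_index φ.ker
  rw [Subgroup.index_ker, hQ] at hcard
  have hq := h.four_le_card_zSub
  have hR : Nat.card φ.range ≤ Nat.card h.zSub := by
    by_contra hlt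
    push Not at hlt
    have := Nat.mul_le_mul hKr2 (Nat.succ_le_of_lt hlt)
    rw [hcard, pow_succ _ 2, Nat.mul_succ] at this
    have h0 : 0 < Nat.card h.zSub ^ 2 := pow_pos (by omega) _
    omega
  have hIm2 : Nat.card Im ≤ Nat.card h.zSub ^ 2 := by
    rw [hIm, Subgroup.card_map_of_injective (Subgroup.subtype_injective Q)]
    have h1 := Subgroup.card_mul_index (φ.range.comap (QuotientGroup.mk' zQ))
    rw [Subgroup.index_comap_of_surjective _ (QuotientGroup.mk'_surjective zQ)] at h1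
    have h2' := Subgroup.card_mul_index φ.range
    have h3 := Subgroup.card_eq_card_quotient_mul_card_subgroup zQ
    rw [← h1, ← h2', Nat.card_congr (Subgroup.subgroupOfEquivOfLe h.zSub_le).toEquiv] at h3
    have hi : φ.range.index ≠ 0 := Subgroup.index_ne_zero_of_finite
    have e : Nat.card (φ.range.comap (QuotientGroup.mk' zQ)) = Nat.card φ.range * Nat.card h.zSub :=
      Nat.eq_of_mul_eq_mul_right (Nat.pos_of_ne_zero hi) (by rw [h3]; ring)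
    rw [e, pow_two]
    exact Nat.mul_le_mul_right _ hR
  have hδIm : ∀ x ∈ Q, w * x * w⁻¹ * x⁻¹ ∈ Im := fun x hx =>
    ⟨δ ⟨x, hx⟩, ⟨⟨x, hx⟩, rfl⟩, rfl⟩
  have hImQ : Im ≤ Q := Subgroup.map_subtype_le _
  have hZIm : h.zSub ≤ Im := fun z hz => ⟨⟨z, h.zSub_le hz⟩, ⟨1, by
    show QuotientGroup.mk (δ 1) = (QuotientGroup.mk _ : Q ⧸ zQ)
    rw [QuotientGroup.eq, Subgroup.mem_subgroupOf]
    simpa [δ] using hz⟩, rfl⟩
  have hIminv : ∀ k ∈ h.kSub, ∀ x ∈ Im, k * x * k⁻¹ ∈ Im := by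
    rintro k hk _ ⟨y, ⟨x, hx⟩, rfl⟩
    refine ⟨⟨_, h.conj_Q_D (h.kSub_le hk) y.2⟩,
      ⟨⟨_, h.conj_Q_D (h.kSub_le hk) x.2⟩, ?_⟩, rfl⟩
    have hx' : (QuotientGroup.mk (δ x) : Q ⧸ zQ) = QuotientGroup.mk y := hx
    show (QuotientGroup.mk (δ _) : Q ⧸ zQ) = QuotientGroup.mk _
    rw [QuotientGroup.eq, Subgroup.mem_subgroupOf] at hx' ⊢
    show (w * (k * x * k⁻¹) * w⁻¹ * (k * (x : G) * k⁻¹)⁻¹)⁻¹ * (k * (y : G) * k⁻¹) ∈ h.zSub
    rw [hkδ k hk]
    have := h.conj_z (D_le h.hS (h.kSub_le hk)) hx'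
    simpa [δ, mul_assoc] using this
  -- `w²` centralises every class
  have h2 : ∀ x ∈ Q, (w * w) * x * (w * w)⁻¹ * x⁻¹ ∈ h.zSub := by
    intro x hx
    set y := w * x * w⁻¹ * x⁻¹ with hy
    have hyQ : y ∈ Q := hd x hx
    have hyy : w * y * w⁻¹ * y⁻¹ ∈ h.zSub := by
      by_cases hyZ : y ∈ h.zSub
      · rw [hwz y hyZ, mul_inv_cancel]; exact one_mem _
      have hwy : w * y * w⁻¹ ∈ Im := by
        have := hδIm (w * x * w⁻¹) (h.conj_Q_D hwD hx)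
        rwa [show w * (w * x * w⁻¹) * w⁻¹ * (w * x * w⁻¹)⁻¹ = w * y * w⁻¹ by rw [hy]; group] at this
      have hwyZ : w * y * w⁻¹ ∉ h.zSub := fun e => hyZ (by
        have := h.conj_z (inv_mem (D_le h.hS hwD)) e
        rwa [inv_inv, show w⁻¹ * (w * y * w⁻¹) * w = y by group] at this)
      have := (h.card_ge_sq hp hna hImQ hZIm hIminv (hδIm x hx) hyZ).2 hIm2 _ (hδIm x hx) _ hwy hyZ
        hwyZ (by
          rw [show w * y * w⁻¹ * (w * y * w⁻¹) = w * (y * y) * w⁻¹ by group,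
            hwz _ (h.sq_mem_zSub hp hna hyQ)])
      have h3 := h.conj_z (Q_fix h.hS hyQ) this
      rwa [show y * (y⁻¹ * (w * y * w⁻¹)) * y⁻¹ = w * y * w⁻¹ * y⁻¹ by group] at h3
    have e : (w * w) * x * (w * w)⁻¹ * x⁻¹ = (w * y * w⁻¹ * y⁻¹) * (y * y) := by rw [hy]; group
    rw [e]
    exact mul_mem hyy (h.sq_mem_zSub hp hna hyQ)
  have h3 : ∀ x ∈ Q, w * w * x = x * (w * w) := by
    intro x hx
    set z := (w * w) * x * (w * w)⁻¹ * x⁻¹ with hz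
    have hzZ := h2 x hx
    have hit : ∀ n : ℕ, (w * w) ^ n * x * ((w * w) ^ n)⁻¹ = z ^ n * x := by
      intro n
      induction n with
      | zero => simp
      | succ n ih =>
        have e : (w * w) * z ^ n * (w * w)⁻¹ = z ^ n := by
          have hzn := pow_mem hzZ n
          calc (w * w) * z ^ n * (w * w)⁻¹ = w * (w * z ^ n * w⁻¹) * w⁻¹ := by group
            _ = z ^ n := by rw [hwz _ hzn, hwz _ hzn]
        calc (w * w) ^ (n + 1) * x * ((w * w) ^ (n + 1))⁻¹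
            = (w * w) * ((w * w) ^ n * x * ((w * w) ^ n)⁻¹) * (w * w)⁻¹ := by
              rw [pow_succ', mul_inv_rev]; simp [mul_assoc]
          _ = ((w * w) * z ^ n * (w * w)⁻¹) * ((w * w) * x * (w * w)⁻¹) := by rw [ih]; group
          _ = z ^ (n + 1) * x := by rw [e, pow_succ, hz]; group
    have hodd : Odd (orderOf (w * w)) := h.hS.odd_card.of_dvd_nat
      (Subgroup.orderOf_dvd_natCard _ (mul_mem hwD hwD))
    have := hit (orderOf (w * w))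
    rw [pow_orderOf_eq_one, inv_one, one_mul, mul_one] at this
    have hz1 : z ^ orderOf (w * w) = 1 := (mul_eq_right.1 this.symm)
    obtain ⟨j, hj⟩ := hodd
    rw [hj, pow_succ, pow_mul, pow_two, h.z_sq hzZ, one_pow, one_mul] at hz1
    exact mul_inv_eq_iff_eq_mul.1 (mul_inv_eq_one.1 hz1)
  exact D_no_involution h.hS hwD (h.eq_one_of_centralises_Q (mul_mem hwD hwD) h3)

end Setup

end Cfsg.Agent.Lib.SplitRankOne70
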