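import Cfsg.Agent.Lib.SplitRankOne70.Core
import Cfsg.Agent.Lib.Chars.Induced
import Cfsg.Agent.Lib.Coherence.Virtual

/-!
Lifting of class functions from the point stabiliser, the involution pair identity, and the bound
on weights of irreducible characters.
-/

set_option autoImplicit false
set_option linter.unusedSectionVars false
set_option linter.style.haveILetI false

namespace Cfsg.Agent.Lib.SplitRankOne70

open Cfsg MulAction Cfsg.Agent.Lib.RankOne Cfsg.Agent.Lib.Chars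
open scoped ComplexConjugate

universe u v

variable {G : Type u} {Ω : Type v} [Group G] [MulAction G Ω]

/-- The degree of an irreducible character. -/
noncomputable def dg (χ : IrrCharacter G) : ℕ :=
  (isIrrCharacter_exists_degree_pos χ.2).choose

theorem dg_pos (χ : IrrCharacter G) : 0 < dg χ :=
  (isIrrCharacter_exists_degree_pos χ.2).choose_spec.1

theorem dg_eq (χ : IrrCharacter G) : (χ : G → ℂ) 1 = dg χ :=
  (isIrrCharacter_exists_degree_pos χ.2).choose_spec.2

theorem exists_int_of_involution [Finite G] {χ : G → ℂ} (hχ : IsCharacter G χ) {t : G}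
    (ht : t * t = 1) : ∃ k : ℤ, χ t = k := by
  obtain ⟨n, ρ, rfl⟩ := hχ
  obtain ⟨ι, _, μ, -, hm, h1, -⟩ := exists_roots_sum ρ t
  have hsq : ∀ i, μ i = 1 ∨ μ i = -1 := by
    intro i
    have hd : orderOf t ∣ 2 := orderOf_dvd_of_pow_eq_one (by rw [pow_two, ht])
    obtain ⟨j, hj⟩ := hd
    have h2 : μ i ^ 2 = 1 := by rw [hj, pow_mul, hm i, one_pow]
    rwa [sq_eq_one_iff] at h2
  classical
  refine ⟨∑ i, if μ i = 1 then 1 else -1, ?_⟩
  rw [h1, Int.cast_sum]
  refine Finset.sum_congr rfl fun i _ => ?_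
  rcases hsq i with h | h <;> norm_num [h]

/-- The value at an involution, as an integer. -/
noncomputable def tv [Finite G] (t : G) (χ : IrrCharacter G) : ℤ :=
  open scoped Classical in
  if ht : t * t = 1 then (exists_int_of_involution (irr_isCharacter χ) ht).choose else 0

theorem tv_eq [Finite G] {t : G} (ht : t * t = 1) (χ : IrrCharacter G) :
    (χ : G → ℂ) t = tv t χ := by
  rw [tv, dif_pos ht]
  exact (exists_int_of_involution (irr_isCharacter χ) ht).choose_spec

/-- The sum of an irreducible character over the products of two elements of a class. -/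
theorem sum_sum_class [Fintype G] [DecidableEq G] (g : G) (C : Finset G)
    (hC : ∀ x, x ∈ C ↔ IsConj g x) (χ : IrrCharacter G) :
    (∑ x ∈ C, ∑ y ∈ C, (χ : G → ℂ) (x * y)) * (χ : G → ℂ) 1 =
      ((C.card : ℂ) * (χ : G → ℂ) g) ^ 2 := by
  obtain ⟨n, ρ, hρ, hχ⟩ := χ.2
  set T : Module.End ℂ (Fin n → ℂ) := ∑ x ∈ C, ρ x with hT
  have hcomm : ∀ h : G, T ∘ₗ ρ h = ρ h ∘ₗ T := by
    intro h
    show T * ρ h = ρ h * T
    rw [hT, Finset.sum_mul, Finset.mul_sum]
    refine Finset.sum_bij' (fun x _ => h⁻¹ * x * h) (fun x _ => h * x * h⁻¹) ?_ ?_ ?_ ?_ ?_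
    · intro x hx
      rw [hC] at hx ⊢
      exact hx.trans (isConj_iff.mpr ⟨h⁻¹, by group⟩)
    · intro x hx
      rw [hC] at hx ⊢
      exact hx.trans (isConj_iff.mpr ⟨h, by group⟩)
    · intro x _; group
    · intro x _; group
    · intro x _
      rw [← map_mul, ← map_mul]; congr 1; group
  obtain ⟨c, hc⟩ := exists_scalar_of_commute ρ T hcomm
  have h1 : (C.card : ℂ) * (χ : G → ℂ) g = c * (χ : G → ℂ) 1 := by
    have htr := congrArg (LinearMap.trace ℂ _) hc
    rw [hT, map_sum, map_smul, LinearMap.trace_one, smul_eq_mul] at htr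
    rw [← hχ, ρ.char_one, ← htr, Finset.sum_congr rfl (g := fun _ => ρ.character g),
      Finset.sum_const, nsmul_eq_mul]
    intro x hx
    obtain ⟨d, rfl⟩ := isConj_iff.mp ((hC x).1 hx)
    exact ρ.char_conj g d
  have h2 : ∑ x ∈ C, ∑ y ∈ C, (χ : G → ℂ) (x * y) = c * c * (χ : G → ℂ) 1 := by
    rw [← hχ]
    have htr := congrArg (LinearMap.trace ℂ _) (congrArg₂ (· * ·) hc hc)
    simp only [smul_mul_smul_comm, one_mul, map_smul, LinearMap.trace_one, smul_eq_mul] at htr
    rw [ρ.char_one, ← htr, hT, Finset.sum_mul_sum, map_sum]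
    simp only [map_sum, ← map_mul]
    rfl
  rw [h1, h2]
  ring

/-- The class function vanishes on elements fixing a point different from `a`. -/
def VanishTwo (a : Ω) (α : stabilizer G a → ℂ) : Prop :=
  ∀ x : stabilizer G a, (∃ c : Ω, c ≠ a ∧ (x : G) • c = c) → α x = 0

/-- The lift of a class function of the point stabiliser. -/
noncomputable def lift [Fintype G] (a : Ω) (α : stabilizer G a → ℂ) : G → ℂ :=
  indFun (stabilizer G a) α

namespace Setup

variable [Fintype G] {a : Ω} {t : G} {Q : Subgroup G} (h : Setup a t Q)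
include h

theorem lift_apply {α : stabilizer G a → ℂ} (hc : IsClassFunction (stabilizer G a) α)
    (hv : VanishTwo a α) {g : stabilizer G a}
    (hg : ∀ c : Ω, c ≠ a → (g : G) • c ≠ c) : lift a α g = α g := by
  classical
  have key : ∀ x : G, extendByZero (stabilizer G a) α (x⁻¹ * g * x) =
      if x ∈ stabilizer G a then α g else 0 := by
    intro x
    split
    · next hx =>
      have hm : x⁻¹ * (g : G) * x ∈ stabilizer G a := mul_mem (mul_mem (inv_mem hx) g.2) hx
      rw [extendByZero_of_mem _ hm]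
      exact isClassFunction_apply_eq hc
        (isConj_iff.mpr ⟨⟨x, hx⟩⁻¹, Subtype.ext (by simp)⟩)
    · next hx =>
      by_cases hm : x⁻¹ * (g : G) * x ∈ stabilizer G a
      · rw [extendByZero_of_mem _ hm]
        refine hv _ ⟨x⁻¹ • a, ?_, ?_⟩
        · intro e
          exact hx (mem_stabilizer_iff.2 (eq_inv_smul_iff.1 e.symm))
        · show (x⁻¹ * (g : G) * x) • x⁻¹ • a = x⁻¹ • a
          rw [mul_smul, smul_inv_smul, mul_smul]
          exact congrArg (x⁻¹ • ·) g.2
      · exact extendByZero_of_not_mem _ hm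
  simp only [lift, indFun, key]
  rw [← Finset.sum_filter, Finset.sum_const, nsmul_eq_mul, ← Fintype.card_subtype,
    Fintype.card_eq_nat_card]
  exact inv_mul_cancel_left₀ (Nat.cast_ne_zero.mpr Nat.card_pos.ne') _

omit h in
theorem lift_eq_zero {α : stabilizer G a → ℂ} (hv : VanishTwo a α) {g : G}
    (hg : ∀ c : Ω, g • c = c → ∃ c' : Ω, c' ≠ c ∧ g • c' = c') : lift a α g = 0 := by
  simp only [lift, indFun]
  rw [Finset.sum_eq_zero, mul_zero]
  intro x _
  by_cases hm : x⁻¹ * g * x ∈ stabilizer G a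
  · rw [extendByZero_of_mem _ hm]
    have hxa : g • x • a = x • a := by
      have e := mem_stabilizer_iff.1 hm
      rwa [mul_smul, mul_smul, inv_smul_eq_iff] at e
    obtain ⟨c', hc', hgc'⟩ := hg _ hxa
    refine hv _ ⟨x⁻¹ • c', fun e => hc' ?_, ?_⟩
    · rw [← e, smul_inv_smul]
    · show (x⁻¹ * g * x) • x⁻¹ • c' = x⁻¹ • c'
      rw [mul_smul, smul_inv_smul, mul_smul, hgc']
  · exact extendByZero_of_not_mem _ hm

theorem vanishTwo_one {α : stabilizer G a → ℂ} (hv : VanishTwo a α) : α 1 = 0 :=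
  hv 1 ⟨t • a, t_smul_ne h.hS, one_smul G (t • a)⟩

theorem lift_one {α : stabilizer G a → ℂ} (hv : VanishTwo a α) : lift a α 1 = 0 := by
  rw [lift, indFun_one_eq, h.vanishTwo_one hv, mul_zero]

theorem classInner_lift [Fintype (stabilizer G a)] {α β : stabilizer G a → ℂ}
    (hα : VanishTwo a α) (hβ : VanishTwo a β) (hcβ : IsClassFunction (stabilizer G a) β) :
    classInner (lift a α) (lift a β) = classInner α β := by
  simp only [lift]
  rw [classInner_indFun_left _ _ _ (isClassFunction_indFun _ _)]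
  simp only [classInner]
  congr 1
  refine Finset.sum_congr rfl fun x _ => ?_
  by_cases hx : ∃ c : Ω, c ≠ a ∧ (x : G) • c = c
  · rw [hα x hx, zero_mul, zero_mul]
  · push Not at hx
    have e := h.lift_apply hcβ hβ hx
    rw [lift] at e
    rw [e]

omit h in
theorem lift_isGeneralized {α : stabilizer G a → ℂ}
    (hα : IsGeneralizedCharacter (stabilizer G a) α) : IsGeneralizedCharacter G (lift a α) := by
  obtain ⟨θ, η, hθ, hη, rfl⟩ := hα
  exact ⟨indFun _ θ, indFun _ η, isCharacter_indFun _ hθ, isCharacter_indFun _ hη,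
    indFun_sub _ θ η⟩

theorem fix_of_inv_fix {i : G} (hi : i * i = 1) (hi1 : i ≠ 1) (hia : i • a = a) :
    ∀ c : Ω, c ≠ a → i • c ≠ c := fun _ hc e => hc (fixed_unique h.hS hi hi1 e hia)

theorem lift_t {α : stabilizer G a → ℂ} (hc : IsClassFunction (stabilizer G a) α)
    (hv : VanishTwo a α) : lift a α t = α ⟨h.sElt, h.s_mem.1⟩ := by
  obtain ⟨g, hg⟩ := exists_conj_eq_t h.hS h.s_ne (h.z_sq h.s_mem)
  rw [← h.lift_apply hc hv (g := ⟨h.sElt, h.s_mem.1⟩)
    (h.fix_of_inv_fix (h.z_sq h.s_mem) h.s_ne h.s_mem.1)]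
  exact (isClassFunction_apply_eq (isClassFunction_indFun _ _) (isConj_iff.2 ⟨g, hg⟩)).symm

theorem isConj_t_iff {x : G} : IsConj t x ↔ x ≠ 1 ∧ x * x = 1 := by
  constructor
  · intro hc
    obtain ⟨g, rfl⟩ := isConj_iff.1 hc
    refine ⟨fun e => h.hS.ne_one (conj_eq_one_iff.1 e), ?_⟩
    calc g * t * g⁻¹ * (g * t * g⁻¹) = g * (t * t) * g⁻¹ := by group
      _ = 1 := by rw [h.hS.mul_self]; group
  · rintro ⟨h1, h2⟩
    exact isConj_iff.2 (exists_conj_eq_t h.hS h1 h2)

theorem card_involutions :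
    Nat.card {x : G // x ≠ 1 ∧ x * x = 1} = (Nat.card Q + 1) * (Nat.card h.zSub - 1) := by
  classical
  have hidx : (Subgroup.centralizer {h.sElt} : Subgroup G).index =
      Nat.card {x : G // x ≠ 1 ∧ x * x = 1} := by
    rw [← card_conjClass_eq_index]
    refine Nat.card_congr (Equiv.subtypeEquivRight fun x => ?_)
    rw [← h.isConj_t_iff]
    have hst : IsConj t h.sElt := h.isConj_t_iff.2 ⟨h.s_ne, h.z_sq h.s_mem⟩
    exact ⟨fun e => hst.trans e, fun e => hst.symm.trans e⟩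
  have h1 := Subgroup.card_mul_index (Subgroup.centralizer {h.sElt} : Subgroup G)
  rw [hidx, h.card_centralizer_s, h.card_G] at h1
  rw [show Nat.card h.zSub - 1 = Nat.card h.kSub by rw [h.card_zSub]; omega]
  refine Nat.eq_of_mul_eq_mul_left (Nat.mul_pos (Nat.card_pos (α := Q))
    (Nat.card_pos (α := vSub a t))) ?_
  rw [h1]
  ring

theorem card_commuting {u : G} (hu1 : u ≠ 1) (hu : u * u = 1) :
    Nat.card {v : G // (v ≠ 1 ∧ v * v = 1) ∧ v ≠ u ∧ u * v = v * u} =
      Nat.card h.zSub - 2 := by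
  classical
  have hset : ∀ w : G, ((w ≠ 1 ∧ w * w = 1) ∧ w ≠ h.sElt ∧ h.sElt * w = w * h.sElt) ↔
      (w ∈ h.zSub ∧ w ≠ 1 ∧ w ≠ h.sElt) := by
    intro w
    constructor
    · rintro ⟨⟨hw1, hw⟩, hne, hc⟩
      exact ⟨⟨h.mem_centralizer_z h.s_mem h.s_ne hc.symm, hw⟩, hw1, hne⟩
    · rintro ⟨hw, hw1, hne⟩
      exact ⟨⟨hw1, hw.2⟩, hne, h.z_comm h.s_mem hw⟩
  have hs : Nat.card {v : G // v ∈ h.zSub ∧ v ≠ 1 ∧ v ≠ h.sElt} = Nat.card h.zSub - 2 := by
    have e : {v : G | v ∈ h.zSub ∧ v ≠ 1 ∧ v ≠ h.sElt} = (h.zSub : Set G) \ {1, h.sElt} := by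
      ext v
      simp [not_or]
    rw [show Nat.card {v : G // v ∈ h.zSub ∧ v ≠ 1 ∧ v ≠ h.sElt} =
      Set.ncard {v : G | v ∈ h.zSub ∧ v ≠ 1 ∧ v ≠ h.sElt} from Nat.card_coe_set_eq _, e,
      Set.ncard_sdiff (by
        intro v hv
        rcases hv with rfl | rfl
        · exact one_mem h.zSub
        · exact h.s_mem), Set.ncard_pair h.s_ne.symm, ← Nat.card_coe_set_eq]
    rfl
  obtain ⟨g, hg⟩ := involutions_conj h.hS h.s_ne (h.z_sq h.s_mem) hu1 hu
  rw [← hs]
  refine (Nat.card_congr ?_).symm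
  refine Equiv.subtypeEquiv (MulAut.conj g).toEquiv fun w => ?_
  rw [← hset w, ← hg]
  simp only [MulEquiv.toEquiv_eq_coe, EquivLike.coe_coe, MulAut.conj_apply, ne_eq,
    conj_eq_one_iff, mul_left_inj, mul_right_inj]
  have e : ∀ x y : G, g * x * g⁻¹ * (g * y * g⁻¹) = g * (x * y) * g⁻¹ := fun x y => by group
  simp only [e, conj_eq_one_iff, mul_left_inj, mul_right_inj]

theorem lift_mul_eq_zero {α : stabilizer G a → ℂ} (hv : VanishTwo a α) {x y : G}
    (hx1 : x ≠ 1) (hx : x * x = 1) (hy1 : y ≠ 1) (hy : y * y = 1) (hc : x * y ≠ y * x) :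
    lift a α (x * y) = 0 := by
  refine lift_eq_zero hv fun c hcc => ?_
  by_contra hall
  push Not at hall
  have key : ∀ i : G, i * i = 1 → i * (x * y) = (x * y)⁻¹ * i → i • c = c := by
    intro i _ hi
    by_contra hne
    refine hall (i • c) hne ?_
    have hxy : (x * y)⁻¹ • c = c := inv_smul_eq_iff.2 hcc.symm
    calc (x * y) • i • c = (x * y) • i • (x * y) • c := by rw [hcc]
      _ = ((x * y) * (i * (x * y))) • c := by rw [smul_smul, smul_smul, mul_assoc]
      _ = i • c := by rw [hi]; rw [mul_inv_cancel_left]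
  have hxi : x⁻¹ = x := inv_eq_of_mul_eq_one_right hx
  have hyi : y⁻¹ = y := inv_eq_of_mul_eq_one_right hy
  have hxc : x • c = c := key x hx (by rw [mul_inv_rev, hxi, hyi, mul_assoc y x x, hx,
    mul_one, ← mul_assoc, hx, one_mul])
  have hyc : y • c = c := key y hy (by rw [mul_inv_rev, hxi, hyi, ← mul_assoc]; )
  haveI := isPretransitive h.hS
  obtain ⟨g, hg⟩ := MulAction.exists_smul_eq G c a
  have hgc : g⁻¹ • a = c := by rw [← hg, inv_smul_smul]
  have hZ : ∀ i : G, i * i = 1 → i • c = c → g * i * g⁻¹ ∈ h.zSub := by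
    intro i hi hic
    refine ⟨?_, ?_⟩
    · show (g * i * g⁻¹) • a = a
      rw [mul_smul, mul_smul, hgc, hic, hg]
    · calc g * i * g⁻¹ * (g * i * g⁻¹) = g * (i * i) * g⁻¹ := by group
        _ = 1 := by rw [hi]; group
  have e := h.z_comm (hZ x hx hxc) (hZ y hy hyc)
  exact hc (mul_left_cancel (mul_right_cancel (
    show g * (x * y) * g⁻¹ = g * (y * x) * g⁻¹ by
      calc g * (x * y) * g⁻¹ = g * x * g⁻¹ * (g * y * g⁻¹) := by group
        _ = g * y * g⁻¹ * (g * x * g⁻¹) := e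
        _ = g * (y * x) * g⁻¹ := by group)))

theorem sum_sum_lift {α : stabilizer G a → ℂ} (hv : VanishTwo a α)
    (C : Finset G) (hC : ∀ x, x ∈ C ↔ x ≠ 1 ∧ x * x = 1) :
    ∑ x ∈ C, ∑ y ∈ C, lift a α (x * y) =
      (C.card : ℂ) * ((Nat.card h.zSub - 2 : ℕ) : ℂ) * lift a α t := by
  classical
  have hin : ∀ x ∈ C, ∑ y ∈ C, lift a α (x * y) =
      ((Nat.card h.zSub - 2 : ℕ) : ℂ) * lift a α t := by
    intro x hx
    rw [hC] at hx
    rw [← Finset.sum_filter_add_sum_filter_not C (fun y => y ≠ x ∧ x * y = y * x),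
      Finset.sum_congr rfl (g := fun _ => lift a α t), Finset.sum_const, nsmul_eq_mul,
      Finset.sum_eq_zero (s := C.filter fun y => ¬ (y ≠ x ∧ x * y = y * x)), add_zero]
    · congr 2
      rw [← h.card_commuting hx.1 hx.2, Nat.card_eq_fintype_card, Fintype.card_subtype]
      congr 1
      ext y
      simp [hC, and_assoc]
    · intro y hy
      rw [Finset.mem_filter, hC] at hy
      by_cases hxy : y = x
      · rw [hxy, hx.2]; exact h.lift_one hv
      · exact h.lift_mul_eq_zero hv hx.1 hx.2 hy.1.1 hy.1.2 fun e => hy.2 ⟨hxy, e⟩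
    · intro y hy
      rw [Finset.mem_filter, hC] at hy
      refine isClassFunction_apply_eq (isClassFunction_indFun _ _) (h.isConj_t_iff.2 ⟨?_, ?_⟩)
      · intro e
        exact hy.2.1 (by rw [← inv_eq_of_mul_eq_one_right hx.2]; exact (inv_eq_of_mul_eq_one_right e).symm)
      · calc x * y * (x * y) = x * (y * x) * y := by group
          _ = (x * x) * (y * y) := by rw [← hy.2.2]; group
          _ = 1 := by rw [hx.2, hy.1.2, one_mul]
  rw [Finset.sum_congr rfl hin, Finset.sum_const, nsmul_eq_mul]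
  ring

/-- `(q - 2) / ((N + 1) (q - 1))`. -/
noncomputable def kap : ℝ :=
  ((Nat.card h.zSub : ℝ) - 2) / (((Nat.card Q : ℝ) + 1) * ((Nat.card h.zSub : ℝ) - 1))

theorem kap_pos : 0 < h.kap := by
  have h4 : (4 : ℝ) ≤ Nat.card h.zSub := by exact_mod_cast h.four_le_card_zSub
  exact div_pos (by linarith) (mul_pos (by positivity) (by linarith))

/-- The three equations for a lift written in irreducible characters. -/
theorem lift_equations {α : stabilizer G a → ℂ} (hc : IsClassFunction (stabilizer G a) α)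
    (hv : VanishTwo a α) {δ : ℤ} (hδ : α ⟨h.sElt, h.s_mem.1⟩ = δ) {ι : Type*} (S : Finset ι)
    (c : ι → ℤ) (X : ι → IrrCharacter G)
    (hY : lift a α = ∑ i ∈ S, (c i : ℂ) • (X i : G → ℂ)) :
    (∑ i ∈ S, c i * (dg (X i) : ℤ) = 0) ∧ (∑ i ∈ S, c i * tv t (X i) = δ) ∧
      ∑ i ∈ S, (c i : ℝ) * (tv t (X i) : ℝ) ^ 2 / (dg (X i) : ℝ) = h.kap * δ := by
  classical
  have hval : ∀ g : G, lift a α g = ∑ i ∈ S, (c i : ℂ) * (X i : G → ℂ) g := fun g => by
    rw [hY]; simp [Finset.sum_apply]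
  refine ⟨?_, ?_, ?_⟩
  · have e := hval 1
    rw [h.lift_one hv] at e
    simp only [dg_eq] at e
    exact_mod_cast e.symm
  · have e := hval t
    rw [h.lift_t hc hv, hδ] at e
    simp only [tv_eq h.hS.mul_self] at e
    exact_mod_cast e.symm
  · set C : Finset G := Finset.univ.filter fun x => x ≠ 1 ∧ x * x = 1 with hCdef
    have hC : ∀ x, x ∈ C ↔ x ≠ 1 ∧ x * x = 1 := fun x => by simp [hCdef]
    have hcard : C.card = (Nat.card Q + 1) * (Nat.card h.zSub - 1) := by
      rw [← h.card_involutions, Nat.card_eq_fintype_card, Fintype.card_subtype]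
    have e := h.sum_sum_lift hv C hC
    rw [h.lift_t hc hv, hδ] at e
    simp only [hval, Finset.mul_sum] at e
    rw [Finset.sum_congr rfl (fun x _ => Finset.sum_comm), Finset.sum_comm] at e
    simp only [← Finset.mul_sum] at e
    have hχ : ∀ i, ∑ x ∈ C, ∑ y ∈ C, (X i : G → ℂ) (x * y) =
        ((C.card : ℂ) * (tv t (X i) : ℂ)) ^ 2 / (dg (X i) : ℂ) := by
      intro i
      rw [eq_div_iff (Nat.cast_ne_zero.2 (dg_pos _).ne'), ← dg_eq, ← tv_eq h.hS.mul_self]
      exact sum_sum_class t C (fun x => by rw [hC, h.isConj_t_iff]) (X i)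
    simp only [hχ] at e
    have h4 := h.four_le_card_zSub
    have e' : ∑ i ∈ S, (c i : ℝ) * (((C.card : ℝ) * (tv t (X i) : ℝ)) ^ 2 / (dg (X i) : ℝ)) =
        (C.card : ℝ) * ((Nat.card h.zSub : ℝ) - 2) * δ := by
      have e2 : ((∑ i ∈ S, (c i : ℝ) * (((C.card : ℝ) * (tv t (X i) : ℝ)) ^ 2 /
          (dg (X i) : ℝ)) : ℝ) : ℂ) =
          (((C.card : ℝ) * ((Nat.card h.zSub : ℝ) - 2) * δ : ℝ) : ℂ) := by
        push_cast
        rw [e, Nat.cast_sub (by omega)]
        push_cast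
        ring
      exact_mod_cast e2
    have hC0 : (C.card : ℝ) ≠ 0 := by
      rw [hcard]
      exact Nat.cast_ne_zero.2 (Nat.mul_pos (Nat.succ_pos _) (by omega)).ne'
    have hkap : h.kap = ((Nat.card h.zSub : ℝ) - 2) / C.card := by
      rw [kap, hcard, Nat.cast_mul, Nat.cast_sub (by omega)]
      push_cast
      rfl
    rw [hkap]
    have e3 : (C.card : ℝ) ^ 2 * ∑ i ∈ S, (c i : ℝ) * (tv t (X i) : ℝ) ^ 2 / (dg (X i) : ℝ) =
        (C.card : ℝ) * ((Nat.card h.zSub : ℝ) - 2) * δ := by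
      rw [← e', Finset.mul_sum]
      exact Finset.sum_congr rfl fun i _ => by ring
    refine mul_left_cancel₀ (pow_ne_zero 2 hC0) ?_
    rw [e3]
    field_simp

/-- The weight of an irreducible character. -/
noncomputable def wt (χ : IrrCharacter G) : ℝ := 2 * |(tv t χ : ℝ)| + h.kap * dg χ

theorem wt_nonneg (χ : IrrCharacter G) : 0 ≤ h.wt χ := by
  have := h.kap_pos
  rw [wt]; positivity

theorem sum_kap_sq (S : Finset (IrrCharacter G)) :
    ∑ χ ∈ S, (h.kap * dg χ) ^ 2 ≤ Nat.card (vSub a t) * Nat.card h.zSub := by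
  have h1 : ∑ χ ∈ S, (h.kap * dg χ) ^ 2 ≤ h.kap ^ 2 * Nat.card G := by
    calc ∑ χ ∈ S, (h.kap * dg χ) ^ 2 ≤ ∑ χ : IrrCharacter G, (h.kap * dg χ) ^ 2 :=
          Finset.sum_le_univ_sum_of_nonneg fun χ => sq_nonneg _
      _ = h.kap ^ 2 * Nat.card G := by
        simp only [mul_pow, ← Finset.mul_sum]
        congr 1
        have e := sum_degree_sq (G := G)
        simp only [dg_eq] at e
        exact_mod_cast e
  refine h1.trans ?_
  have h4 : (4 : ℝ) ≤ Nat.card h.zSub := by exact_mod_cast h.four_le_card_zSub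
  have hk : (Nat.card h.kSub : ℝ) = (Nat.card h.zSub : ℝ) - 1 := by
    rw [h.card_zSub]; push_cast; ring
  rw [kap, h.card_G]
  push_cast
  rw [hk]
  set N : ℝ := (Nat.card Q : ℝ)
  set V : ℝ := (Nat.card (vSub a t) : ℝ)
  set q : ℝ := (Nat.card h.zSub : ℝ)
  have hN : 0 ≤ N := by positivity
  have hV : 0 ≤ V := by positivity
  have hd : (0 : ℝ) < (N + 1) * (q - 1) := mul_pos (by linarith) (by linarith)
  rw [div_pow, div_mul_eq_mul_div, div_le_iff₀ (by positivity)]
  have : (q - 2) ^ 2 * N ≤ q * ((N + 1) * (q - 1)) := by nlinarith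
  nlinarith [mul_le_mul_of_nonneg_left this (mul_nonneg hV hd.le)]

theorem sum_wt_sq (S : Finset (IrrCharacter G)) :
    ∑ χ ∈ S, h.wt χ ^ 2 ≤
      Nat.card (vSub a t) * (4.5 * Nat.card Q + 9 * Nat.card h.zSub : ℝ) := by
  have hT : ∑ χ ∈ S, (tv t χ : ℝ) ^ 2 ≤ Nat.card Q * Nat.card (vSub a t) := by
    calc ∑ χ ∈ S, (tv t χ : ℝ) ^ 2 ≤ ∑ χ : IrrCharacter G, (tv t χ : ℝ) ^ 2 :=
          Finset.sum_le_univ_sum_of_nonneg fun χ => sq_nonneg _
      _ = Nat.card Q * Nat.card (vSub a t) := by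
        have e := column_orthogonality_of_isConj (IsConj.refl t)
        rw [card_centralizer_eq_of_isConj (h.isConj_t_iff.2 ⟨h.s_ne, h.z_sq h.s_mem⟩),
          h.card_centralizer_s] at e
        simp only [tv_eq h.hS.mul_self, map_intCast] at e
        simp only [pow_two]
        exact_mod_cast e
  have hle : ∀ χ, h.wt χ ^ 2 ≤ 4.5 * (tv t χ : ℝ) ^ 2 + 9 * (h.kap * dg χ) ^ 2 := by
    intro χ
    have e := sq_nonneg (|(tv t χ : ℝ)| - 4 * (h.kap * dg χ))
    have e2 : |(tv t χ : ℝ)| ^ 2 = (tv t χ : ℝ) ^ 2 := sq_abs _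
    rw [wt]
    nlinarith [e, e2]
  calc ∑ χ ∈ S, h.wt χ ^ 2
      ≤ ∑ χ ∈ S, (4.5 * (tv t χ : ℝ) ^ 2 + 9 * (h.kap * dg χ) ^ 2) :=
        Finset.sum_le_sum fun χ _ => hle χ
    _ ≤ _ := by
        rw [Finset.sum_add_distrib, ← Finset.mul_sum, ← Finset.mul_sum]
        nlinarith [hT, h.sum_kap_sq S]

end Setup

end Cfsg.Agent.Lib.SplitRankOne70
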