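import Cfsg.Agent.Lib.OddCond.RankOne
import Cfsg.Agent.S0205
import Cfsg.Agent.S1127

/-!
Basic data of the split rank-one set-up with two commuting involutions, for the classification:
`D = V K`, the central group `Z` of involutions, the fixed point freeness facts.
-/

set_option autoImplicit false
set_option linter.unusedSectionVars false
set_option linter.style.haveILetI false

namespace Cfsg.Agent.Lib.SplitRankOne70

open Cfsg MulAction Cfsg.Agent.Lib.RankOne Cfsg.Agent.Lib.OddCond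

universe u v

variable {G : Type u} {Ω : Type v} [Group G] [MulAction G Ω]

/-- The set-up with two commuting involutions. -/
structure Setup (a : Ω) (t : G) (Q : Subgroup G) : Prop where
  hS : IsRankOneSetup G Ω a t Q
  h2 : ∃ x y : G, x ≠ 1 ∧ y ≠ 1 ∧ x ≠ y ∧ x * x = 1 ∧ y * y = 1 ∧ x * y = y * x

/-- `V = C_D(t)`. -/
abbrev vSub (a : Ω) (t : G) : Subgroup G := twoStab a t ⊓ Subgroup.centralizer {t}

/-- `W = C_V(K)`. -/
abbrev wSub (a : Ω) (t : G) : Subgroup G :=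
  vSub a t ⊓ Subgroup.centralizer (invertedBy (twoStab a t) t)

variable [Finite G] {a : Ω} {t : G} {Q : Subgroup G}

namespace Setup

variable (h : Setup a t Q)
include h

theorem oddSolvable : OddSolvable.{u} := fun _ _ _ hodd => Cfsg.Agent.S0205.result hodd

/-- `Z`, the involutions of `G_a` with `1`. -/
abbrev zSub : Subgroup G := invSub h.hS h.h2

theorem mem_zSub {z : G} : z ∈ h.zSub ↔ z • a = a ∧ z * z = 1 := Iff.rfl

theorem zSub_le : h.zSub ≤ Q := fun _ hz => involution_mem_Q h.hS hz.1 hz.2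

theorem z_sq {z : G} (hz : z ∈ h.zSub) : z * z = 1 := hz.2

theorem z_inv {z : G} (hz : z ∈ h.zSub) : z⁻¹ = z := inv_eq_of_mul_eq_one_right hz.2

theorem z_inv_mem {z : G} (hz : z ∈ h.zSub) (hz1 : z ≠ 1) :
    z ∈ involutionsIn (stabilizer G a : Set G) := ⟨hz.1, hz1, hz.2⟩

theorem z_central {z y : G} (hz : z ∈ h.zSub) (hy : y ∈ Q) : z * y = y * z := by
  rcases eq_or_ne z 1 with rfl | hz1
  · rw [one_mul, mul_one]
  · exact involution_central h.hS h.h2 (h.z_inv_mem hz hz1) hy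

theorem z_comm {z z' : G} (hz : z ∈ h.zSub) (hz' : z' ∈ h.zSub) : z * z' = z' * z :=
  h.z_central hz (h.zSub_le hz')

theorem conj_z {d z : G} (hd : d ∈ stabilizer G a) (hz : z ∈ h.zSub) : d * z * d⁻¹ ∈ h.zSub :=
  invSub_conj h.hS h.h2 hd hz

theorem exists_kSub : ∃ C : Subgroup G, (C : Set G) = invertedBy (twoStab a t) t ∧ IsCyclic C ∧
    ∀ d ∈ twoStab a t, ∀ c ∈ C, d * c * d⁻¹ ∈ C :=
  (structure_from_odd_order h.hS h.h2 h.oddSolvable).1

/-- `K`, the elements of `D` inverted by `t`. -/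
noncomputable def kSub : Subgroup G := h.exists_kSub.choose

theorem coe_kSub : (h.kSub : Set G) = invertedBy (twoStab a t) t := h.exists_kSub.choose_spec.1

theorem kSub_cyclic : IsCyclic h.kSub := h.exists_kSub.choose_spec.2.1

theorem conj_k {d k : G} (hd : d ∈ twoStab a t) (hk : k ∈ h.kSub) : d * k * d⁻¹ ∈ h.kSub :=
  h.exists_kSub.choose_spec.2.2 d hd k hk

theorem mem_kSub {k : G} : k ∈ h.kSub ↔ k ∈ twoStab a t ∧ t * k * t = k⁻¹ := by
  rw [← SetLike.mem_coe, h.coe_kSub]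
  exact inverted_iff h.hS

theorem kSub_le : h.kSub ≤ twoStab a t := fun _ hk => (h.mem_kSub.1 hk).1

theorem k_t {k : G} (hk : k ∈ h.kSub) : t * k * t = k⁻¹ := (h.mem_kSub.1 hk).2

theorem k_comm {k k' : G} (hk : k ∈ h.kSub) (hk' : k' ∈ h.kSub) : k * k' = k' * k := by
  haveI := h.kSub_cyclic
  letI := IsCyclic.commGroup (α := h.kSub)
  exact congrArg Subtype.val (mul_comm (⟨k, hk⟩ : h.kSub) ⟨k', hk'⟩)

theorem k_inverted {k : G} (hk : k ∈ h.kSub) : k ∈ invertedBy (twoStab a t) t :=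
  h.coe_kSub.le hk

theorem mem_vSub {v : G} : v ∈ vSub a t ↔ v ∈ twoStab a t ∧ v * t = t * v := by
  rw [Subgroup.mem_inf, Subgroup.mem_centralizer_singleton_iff]

theorem v_t {v : G} (hv : v ∈ vSub a t) : t * v * t = v := by
  rw [← (h.mem_vSub.1 hv).2, mul_assoc, h.hS.mul_self, mul_one]

theorem mem_wSub {w : G} : w ∈ wSub a t ↔ w ∈ vSub a t ∧ ∀ k ∈ h.kSub, k * w = w * k := by
  rw [Subgroup.mem_inf, Subgroup.mem_centralizer_iff, ← h.coe_kSub]
  rfl

theorem exists_vk {d : G} (hd : d ∈ twoStab a t) :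
    ∃ v ∈ vSub a t, ∃ k ∈ h.kSub, d = v * k := by
  obtain ⟨y, z, hy, hyt, hz, e⟩ := exists_fixed_mul_inverted h.hS.odd_card h.hS.mul_self
    (fun x hx => conj_t_mem_D h.hS hx) hd
  exact ⟨y, h.mem_vSub.2 ⟨hy, hyt⟩, z, h.mem_kSub.2 ((inverted_iff h.hS).1 hz), e⟩

theorem v_inf_k {x : G} (hv : x ∈ vSub a t) (hk : x ∈ h.kSub) : x = 1 := by
  refine D_no_involution h.hS hv.1 ?_
  have h1 := h.v_t hv
  rw [h.k_t hk] at h1
  nth_rewrite 1 [← h1]
  exact inv_mul_cancel x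

theorem card_twoStab :
    Nat.card (twoStab a t) = Nat.card (vSub a t) * Nat.card h.kSub := by
  rw [← Nat.card_prod]
  refine (Nat.card_eq_of_bijective (fun p : vSub a t × h.kSub =>
    (⟨(p.1 : G) * p.2, mul_mem p.1.2.1 (h.kSub_le p.2.2)⟩ : twoStab a t)) ⟨?_, ?_⟩).symm
  · rintro ⟨⟨x, hx⟩, ⟨k, hk⟩⟩ ⟨⟨x', hx'⟩, ⟨k', hk'⟩⟩ e
    have e' : x * k = x' * k' := congrArg Subtype.val e
    have e1 : x'⁻¹ * x = k' * k⁻¹ := by
      calc x'⁻¹ * x = x'⁻¹ * (x * k) * k⁻¹ := by group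
        _ = k' * k⁻¹ := by rw [e']; group
    have h1 := h.v_inf_k (mul_mem (inv_mem hx') hx) (e1 ▸ mul_mem hk' (inv_mem hk))
    have hxx : x = x' := (inv_mul_eq_one.1 h1).symm
    subst hxx
    obtain rfl := mul_left_cancel e'
    rfl
  · rintro ⟨d, hd⟩
    obtain ⟨x, hx, k, hk, rfl⟩ := h.exists_vk hd
    exact ⟨⟨⟨x, hx⟩, ⟨k, hk⟩⟩, rfl⟩

theorem card_k_eq : Nat.card h.kSub = Nat.card (involutionsIn (stabilizer G a : Set G)) := by
  rw [← card_inverted h.hS]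
  exact Nat.card_congr (Equiv.setCongr h.coe_kSub)

theorem card_zSub : Nat.card h.zSub = Nat.card h.kSub + 1 := by
  haveI := finite_involutions h.hS
  rw [h.card_k_eq, ← Finite.card_option]
  refine (Nat.card_eq_of_bijective
    (fun o : Option (involutionsIn (stabilizer G a : Set G)) =>
      o.elim (1 : h.zSub) fun u => ⟨(u : G), u.2.1, u.2.2.2⟩) ⟨?_, ?_⟩).symm
  · rintro (_ | u) (_ | v) e
    · rfl
    · exact absurd (congrArg Subtype.val e).symm v.2.2.1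
    · exact absurd (congrArg Subtype.val e) u.2.2.1
    · exact congrArg some (Subtype.ext (congrArg (Subtype.val : h.zSub → G) e))
  · rintro ⟨z, hz⟩
    rcases eq_or_ne z 1 with rfl | hz1
    · exact ⟨none, rfl⟩
    · exact ⟨some ⟨z, h.z_inv_mem hz hz1⟩, rfl⟩

theorem exists_card_zSub : ∃ n : ℕ, 2 ≤ n ∧ Nat.card h.zSub = 2 ^ n := by
  haveI : Fact (Nat.Prime 2) := ⟨Nat.prime_two⟩
  have hp : IsPGroup 2 h.zSub := fun z => ⟨1, by
    rw [pow_one, pow_two]; exact Subtype.ext z.2.2⟩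
  obtain ⟨n, hn⟩ := IsPGroup.iff_card.1 hp
  refine ⟨n, ?_, hn⟩
  obtain ⟨u, w, hu, hw, hne⟩ := exists_two_involutions h.hS h.h2
  have h3 : 3 ≤ Nat.card h.zSub := by
    rw [h.card_zSub, h.card_k_eq]
    haveI := finite_involutions h.hS
    have h1 : 1 < Nat.card (involutionsIn (stabilizer G a : Set G)) :=
      Finite.one_lt_card_iff_nontrivial.2
        ⟨⟨u, hu⟩, ⟨w, hw⟩, fun e => hne (congrArg Subtype.val e)⟩
    omega
  rw [hn] at h3
  rcases n with _ | _ | n <;> simp_all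

theorem four_le_card_zSub : 4 ≤ Nat.card h.zSub := by
  obtain ⟨n, hn, e⟩ := h.exists_card_zSub
  rw [e]
  exact le_trans (by norm_num) (Nat.pow_le_pow_right (by norm_num) hn)

/-- The special involution `s` with `t s t = r⁻¹ t r`. -/
noncomputable def sElt : G := (exists_structure h.hS).choose

/-- The element `r` with `t s t = r⁻¹ t r`. -/
noncomputable def rElt : G := (exists_structure h.hS).choose_spec.choose

theorem s_inv_mem : h.sElt ∈ involutionsIn (stabilizer G a : Set G) :=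
  (exists_structure h.hS).choose_spec.choose_spec.1

theorem r_mem : h.rElt ∈ Q := (exists_structure h.hS).choose_spec.choose_spec.2.1

theorem tst : t * h.sElt * t = h.rElt⁻¹ * t * h.rElt :=
  (exists_structure h.hS).choose_spec.choose_spec.2.2

theorem s_mem : h.sElt ∈ h.zSub := ⟨h.s_inv_mem.1, h.s_inv_mem.2.2⟩

theorem s_ne : h.sElt ≠ 1 := h.s_inv_mem.2.1

theorem v_iff_s {v : G} (hv : v ∈ twoStab a t) :
    v ∈ vSub a t ↔ v * h.sElt = h.sElt * v := by
  rw [h.mem_vSub, ← commute_t_iff h.hS h.s_inv_mem h.r_mem h.tst hv]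
  exact and_iff_right hv

theorem v_s {v : G} (hv : v ∈ vSub a t) : v * h.sElt * v⁻¹ = h.sElt := by
  rw [(h.v_iff_s hv.1).1 hv, mul_inv_cancel_right]

/-- Every non-identity element of `Z` is `k s k⁻¹` for a unique `k ∈ K`. -/
theorem exists_k_conj {z : G} (hz : z ∈ h.zSub) (hz1 : z ≠ 1) :
    ∃ k ∈ h.kSub, k * h.sElt * k⁻¹ = z := by
  obtain ⟨k, hk, e⟩ := exists_conj_inverted h.hS h.s_inv_mem (h.z_inv_mem hz hz1)
  exact ⟨k⁻¹, inv_mem (h.mem_kSub.2 ((inverted_iff h.hS).1 hk)), by rwa [inv_inv]⟩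

/-- A non-identity element of `K` centralises nothing in `Q`. -/
theorem k_fpf {k q : G} (hk : k ∈ h.kSub) (hk1 : k ≠ 1) (hq : q ∈ Q) (e : k * q = q * k) :
    q = 1 := by
  have hmem : q ∈ Q ⊓ Subgroup.centralizer {k} :=
    ⟨hq, Subgroup.mem_centralizer_singleton_iff.2 e.symm⟩
  rwa [inverted_fixedPointFree h.hS (h.k_inverted hk) hk1, Subgroup.mem_bot] at hmem

theorem k_inj {k k' z : G} (hk : k ∈ h.kSub) (hk' : k' ∈ h.kSub) (hz : z ∈ h.zSub) (hz1 : z ≠ 1)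
    (e : k * z * k⁻¹ = k' * z * k'⁻¹) : k = k' := by
  by_contra hne
  refine hz1 (h.k_fpf (mul_mem (inv_mem hk') hk) ?_ (h.zSub_le hz) ?_)
  · exact fun e' => hne (inv_mul_eq_one.1 e').symm
  · calc k'⁻¹ * k * z = k'⁻¹ * (k * z * k⁻¹) * k := by group
      _ = z * (k'⁻¹ * k) := by rw [e]; group

/-- An element of `D` centralising three points has a fixed involution in `Z`. -/
theorem exists_z_comm {d : G} (hd : d ∈ twoStab a t) {q : G} (hq : q ∈ Q) (hq1 : q ≠ 1)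
    (e : d * q = q * d) : ∃ z ∈ h.zSub, z ≠ 1 ∧ d * z = z * d := by
  have hX : ({d} : Set G) ⊆ (twoStab a t : Set G) := by simpa using hd
  obtain ⟨ha, hb⟩ := fix_of_subset_D h.hS hX
  have hqb : q • t • a ≠ t • a := fun e' => hq1 (eq_one_of_fix h.hS hq e')
  have hqa : q • t • a ≠ a := fun e' =>
    t_smul_ne h.hS (MulAction.injective q (e'.trans (Q_fix h.hS hq).symm))
  have h3 : ∃ b c p : Ω, b ≠ c ∧ b ≠ p ∧ c ≠ p ∧
      ∀ y ∈ ({d} : Set G), y • b = b ∧ y • c = c ∧ y • p = p :=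
    ⟨a, t • a, q • t • a, (t_smul_ne h.hS).symm, hqa.symm, hqb.symm, fun y hy => ⟨ha y hy, hb y hy,
      by
        rw [Set.mem_singleton_iff] at hy
        subst hy
        rw [smul_smul, e, mul_smul, hb y rfl]⟩⟩
  have hev := even_card_centralizer_Q h.hS hX h3
  haveI : Fact (Nat.Prime 2) := ⟨Nat.prime_two⟩
  obtain ⟨⟨z, hzc⟩, hz⟩ := exists_prime_orderOf_dvd_card' 2 (even_iff_two_dvd.1 hev)
  rw [Subgroup.orderOf_mk] at hz
  refine ⟨z, ⟨h.hS.le hzc.2, by rw [← pow_two, ← hz, pow_orderOf_eq_one]⟩, ?_, ?_⟩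
  · intro e'; rw [e', orderOf_one] at hz; omega
  · exact (Subgroup.mem_centralizer_singleton_iff.1 hzc.1).symm

theorem w_z {w z : G} (hw : w ∈ wSub a t) (hz : z ∈ h.zSub) : w * z = z * w := by
  rcases eq_or_ne z 1 with rfl | hz1
  · rw [one_mul, mul_one]
  have h1 : w ∈ twoStab a t ⊓ Subgroup.centralizer (involutionsIn (stabilizer G a : Set G)) :=
    (Cfsg.Agent.S1127.result h.hS).2.le hw
  exact (Subgroup.mem_centralizer_iff.1 h1.2 z (h.z_inv_mem hz hz1)).symm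

theorem mem_wSub_iff_z {d : G} (hd : d ∈ twoStab a t) :
    d ∈ wSub a t ↔ ∀ z ∈ h.zSub, d * z = z * d := by
  refine ⟨fun hw z hz => h.w_z hw hz, fun hz => ?_⟩
  refine (Cfsg.Agent.S1127.result h.hS).2.ge ⟨hd, Subgroup.mem_centralizer_iff.2 fun z hz' => ?_⟩
  exact (hz z ⟨hz'.1, hz'.2.2⟩).symm

/-- `w k` with `k ≠ 1` centralises nothing in `Q`. -/
theorem wk_fpf {w k q : G} (hw : w ∈ wSub a t) (hk : k ∈ h.kSub) (hk1 : k ≠ 1) (hq : q ∈ Q)
    (e : w * k * q = q * (w * k)) : q = 1 := by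
  by_contra hq1
  obtain ⟨z, hz, hz1, hz'⟩ := h.exists_z_comm (mul_mem hw.1.1 (h.kSub_le hk)) hq hq1 e
  refine hz1 (h.k_fpf hk hk1 (h.zSub_le hz) ?_)
  have hkz : k * z * k⁻¹ ∈ h.zSub := h.conj_z (D_le h.hS (h.kSub_le hk)) hz
  calc k * z = w⁻¹ * (w * (k * z * k⁻¹)) * k := by group
    _ = w⁻¹ * ((k * z * k⁻¹) * w) * k := by rw [h.w_z hw hkz]
    _ = w⁻¹ * (k * z * k⁻¹) * (w * k) := by group
    _ = w⁻¹ * (w * k * z * (w * k)⁻¹) * (w * k) := by
      congr 1; congr 1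
      calc k * z * k⁻¹ = (k * z * k⁻¹) * w * w⁻¹ := by group
        _ = w * (k * z * k⁻¹) * w⁻¹ := by rw [← h.w_z hw hkz]
        _ = w * k * z * (w * k)⁻¹ := by group
    _ = w⁻¹ * (z * (w * k)) := by rw [hz']; group
    _ = z * k := by rw [← mul_assoc z w k, ← h.w_z hw hz]; group

theorem exists_v_gen : ∃ v ∈ vSub a t, wSub a t ⊔ Subgroup.closure {v} = vSub a t :=
  (structure_from_odd_order h.hS h.h2 h.oddSolvable).2

theorem w_conj {d w : G} (hd : d ∈ twoStab a t) (hw : w ∈ wSub a t) :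
    d * w * d⁻¹ ∈ wSub a t := by
  rw [h.mem_wSub_iff_z (mul_mem (mul_mem hd hw.1.1) (inv_mem hd))]
  intro z hz
  have hz' : d⁻¹ * z * d ∈ h.zSub := by simpa using h.conj_z (inv_mem (D_le h.hS hd)) hz
  calc d * w * d⁻¹ * z = d * (w * (d⁻¹ * z * d)) * d⁻¹ := by group
    _ = d * ((d⁻¹ * z * d) * w) * d⁻¹ := by rw [h.w_z hw hz']
    _ = z * (d * w * d⁻¹) := by group

theorem mem_centralizer_z {z g : G} (hz : z ∈ h.zSub) (hz1 : z ≠ 1) (hg : g * z = z * g) :
    g • a = a :=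
  fixed_unique h.hS hz.2 hz1 (by rw [smul_smul, ← hg, mul_smul]; exact congrArg (g • ·) hz.1) hz.1

theorem card_centralizer_s :
    Nat.card (Subgroup.centralizer {h.sElt} : Subgroup G) = Nat.card Q * Nat.card (vSub a t) := by
  rw [← Nat.card_prod]
  refine (Nat.card_eq_of_bijective (fun p : Q × vSub a t =>
    (⟨(p.1 : G) * p.2, Subgroup.mem_centralizer_singleton_iff.2 (by
      rw [mul_assoc, (h.v_iff_s p.2.2.1).1 p.2.2, ← mul_assoc, ← h.z_central h.s_mem p.1.2,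
        mul_assoc])⟩ :
      (Subgroup.centralizer {h.sElt} : Subgroup G))) ⟨?_, ?_⟩).symm
  · rintro ⟨⟨x, hx⟩, ⟨d, hd⟩⟩ ⟨⟨x', hx'⟩, ⟨d', hd'⟩⟩ e
    obtain ⟨rfl, rfl⟩ := mul_unique h.hS hx hx' hd.1 hd'.1 (congrArg Subtype.val e)
    rfl
  · rintro ⟨g, hg⟩
    rw [Subgroup.mem_centralizer_singleton_iff] at hg
    obtain ⟨x, hx, d, hd, rfl⟩ := exists_mul_of_mem h.hS (h.mem_centralizer_z h.s_mem h.s_ne hg)
    have : d * h.sElt = h.sElt * d := by
      calc d * h.sElt = x⁻¹ * (x * d * h.sElt) := by group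
        _ = x⁻¹ * (h.sElt * x) * d := by rw [hg]; group
        _ = h.sElt * d := by rw [h.z_central h.s_mem hx]; group
    exact ⟨⟨⟨x, hx⟩, ⟨d, (h.v_iff_s hd).2 this⟩⟩, rfl⟩

theorem card_G : Nat.card G =
    Nat.card Q * (Nat.card (vSub a t) * Nat.card h.kSub) * (Nat.card Q + 1) := by
  rw [← h.card_twoStab]
  exact card_group h.hS

section faithful

variable [FaithfulSMul G Ω]

theorem eq_one_of_fix_all {g : G} (hg : ∀ c : Ω, g • c = c) : g = 1 :=
  eq_of_smul_eq_smul fun c : Ω => (hg c).trans (one_smul G c).symm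

theorem eq_one_of_centralises_Q {d : G} (hd : d ∈ twoStab a t) (hc : ∀ q ∈ Q, d * q = q * d) :
    d = 1 := by
  refine h.eq_one_of_fix_all fun c => ?_
  rcases eq_or_ne c a with rfl | hne
  · exact (mem_twoStab.1 hd).1
  · obtain ⟨q, hq, rfl⟩ := exists_Q_move h.hS hne
    rw [smul_smul, hc q hq, mul_smul, (mem_twoStab.1 hd).2]

end faithful

end Setup

end Cfsg.Agent.Lib.SplitRankOne70
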