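import Cfsg.Agent.Lib.SplitRankOne70.TopData
import Cfsg.Agent.Lib.Coherence.EqualDegree

/-!
Irreducible characters of the point stabiliser induced from characters of `Q` with trivial inertia
group, their images in `G`, and the constituent attached to a pair of degrees `d`, `f d`.
-/

set_option autoImplicit false
set_option linter.unusedSectionVars false
set_option linter.style.haveILetI false

namespace Cfsg.Agent.Lib.SplitRankOne70

open Cfsg MulAction Cfsg.Agent.Lib.RankOne Cfsg.Agent.Lib.Chars Cfsg.Agent.Lib.Coherence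
open scoped ComplexConjugate

universe u v

variable {G : Type u} {Ω : Type v} [Group G] [MulAction G Ω] [Fintype G] {a : Ω} {t : G}
  {Q : Subgroup G} [Fintype (stabilizer G a)] [Fintype Q] [Fintype (twoStab a t)]

/-- Induced from an irreducible character of `Q` with trivial inertia group. -/
def Setup.FreeInd (h : Setup a t Q) (θ : stabilizer G a → ℂ) : Prop :=
  ∃ φ : IrrCharacter Q, h.stabCj (φ : Q → ℂ) = ⊥ ∧ θ = qInd a Q (φ : Q → ℂ)

theorem lift_add (α β : stabilizer G a → ℂ) : lift a (α + β) = lift a α + lift a β := by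
  classical
  funext g
  simp only [lift, indFun, Pi.add_apply, ← mul_add, ← Finset.sum_add_distrib]
  refine congrArg _ (Finset.sum_congr rfl fun x _ => ?_)
  simp only [extendByZero]
  by_cases hx : x⁻¹ * g * x ∈ stabilizer G a
  · have e : ∀ γ : stabilizer G a → ℂ, Function.extend Subtype.val γ 0 (x⁻¹ * g * x) =
        γ ⟨x⁻¹ * g * x, hx⟩ := fun γ => Subtype.val_injective.extend_apply γ 0 ⟨_, hx⟩
    rw [e, e, e, Pi.add_apply]
  · have e : ∀ γ : stabilizer G a → ℂ, Function.extend Subtype.val γ 0 (x⁻¹ * g * x) = 0 :=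
      fun γ => Function.extend_apply' γ (0 : G → ℂ) (x⁻¹ * g * x)
        (fun ⟨y, hy⟩ => hx (by rw [← hy]; exact y.2))
    rw [e, e, e, add_zero]

theorem lift_zsmul (n : ℤ) (α : stabilizer G a → ℂ) : lift a (n • α) = n • lift a α :=
  map_zsmul (AddMonoidHom.mk' (lift (G := G) a) lift_add) n α

namespace Setup

variable (h : Setup a t Q)
include h

theorem freeInd_char {θ : stabilizer G a → ℂ} (hθ : h.FreeInd θ) :
    IsCharacter (stabilizer G a) θ := by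
  obtain ⟨φ, -, rfl⟩ := hθ
  exact h.isCharacter_qInd (irr_isCharacter φ)

theorem freeInd_irr {θ : stabilizer G a → ℂ} (hθ : h.FreeInd θ) :
    IsIrrCharacter (stabilizer G a) θ := by
  rw [isIrrCharacter_iff_classInner_eq_one (h.freeInd_char hθ)]
  obtain ⟨φ, hφ, rfl⟩ := hθ
  rw [h.classInner_qInd_self, hφ, Subgroup.card_bot, Nat.cast_one]

theorem freeInd_not_mem {θ : stabilizer G a → ℂ} (hθ : h.FreeInd θ) {x : stabilizer G a}
    (hx : (x : G) ∉ Q) : θ x = 0 := by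
  obtain ⟨φ, -, rfl⟩ := hθ
  exact h.qInd_not_mem hx

theorem freeInd_ortho {θ θ' : stabilizer G a → ℂ} (hθ : h.FreeInd θ) (hθ' : h.FreeInd θ')
    (hne : θ ≠ θ') : classInner θ θ' = 0 := irr_inner (h.freeInd_irr hθ) (h.freeInd_irr hθ') hne

theorem freeInd_norm {θ : stabilizer G a → ℂ} (hθ : h.FreeInd θ) : classInner θ θ = 1 :=
  irr_norm (h.freeInd_irr hθ)

theorem vanishTwo_of_off {α : stabilizer G a → ℂ} (h0 : ∀ x : stabilizer G a, (x : G) ∉ Q → α x = 0)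
    (h1 : α 1 = 0) : VanishTwo a α := by
  intro x hx
  by_cases hxQ : (x : G) ∈ Q
  · obtain ⟨c, hca, hxc⟩ := hx
    have hx1 : (x : G) = 1 :=
      Q_move_unique h.hS hca hxQ Q.one_mem (by rw [hxc, one_smul])
    rw [show x = 1 from Subtype.ext hx1, h1]
  · exact h0 x hxQ

theorem freeInd_vanish {θ θ' : stabilizer G a → ℂ} (hθ : h.FreeInd θ) (hθ' : h.FreeInd θ')
    (c : ℂ) (e : c * θ 1 = θ' 1) : VanishTwo a (c • θ - θ') :=
  h.vanishTwo_of_off (fun x hx => by simp [h.freeInd_not_mem hθ hx, h.freeInd_not_mem hθ' hx])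
    (by simp [e])

theorem freeInd_sub_vanish {θ θ' : stabilizer G a → ℂ} (hθ : h.FreeInd θ) (hθ' : h.FreeInd θ')
    (e : θ 1 = θ' 1) : VanishTwo a (θ - θ') := by
  have := h.freeInd_vanish hθ hθ' 1 (by rw [one_mul, e])
  rwa [one_smul] at this

/-- The images in `G` of a set of such characters of one degree. -/
def IsImages (_h : Setup a t Q) (T : Finset (stabilizer G a → ℂ)) (ε : ℤ)
    (X : (stabilizer G a → ℂ) → IrrCharacter G) : Prop :=
  (ε = 1 ∨ ε = -1) ∧ (∀ θ ∈ T, ∀ θ' ∈ T, X θ = X θ' → θ = θ') ∧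
    ∀ θ ∈ T, ∀ θ' ∈ T, lift a (θ - θ') = (ε : ℂ) • ((X θ : G → ℂ) - (X θ' : G → ℂ))

set_option maxHeartbeats 800000 in
theorem exists_images {T : Finset (stabilizer G a → ℂ)} (hT : ∀ θ ∈ T, h.FreeInd θ)
    (hdeg : ∀ θ ∈ T, ∀ θ' ∈ T, θ 1 = θ' 1) (h2 : 2 ≤ T.card) :
    ∃ ε X, h.IsImages T ε X := by
  classical
  haveI : Nonempty (IrrCharacter G) := ⟨trivialIrr G⟩
  have hsp : ∀ α ∈ Cfsg.zspan (↑T : Set (stabilizer G a → ℂ)),
      IsGeneralizedCharacter (stabilizer G a) α ∧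
        ∀ x : stabilizer G a, (x : G) ∉ Q → α x = 0 := by
    intro α hα
    refine Submodule.span_induction (p := fun α _ => IsGeneralizedCharacter (stabilizer G a) α ∧
      ∀ x : stabilizer G a, (x : G) ∉ Q → α x = 0) ?_ ?_ ?_ ?_ hα
    · intro θ hθ
      exact ⟨virt_of_char (h.freeInd_char (hT θ hθ)), fun x hx => h.freeInd_not_mem (hT θ hθ) hx⟩
    · exact ⟨virt_zero, fun x _ => rfl⟩
    · rintro α β - - ⟨a1, a2⟩ ⟨b1, b2⟩
      exact ⟨virt_add a1 b1, fun x hx => by simp [a2 x hx, b2 x hx]⟩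
    · rintro n α - ⟨a1, a2⟩
      exact ⟨virt_zsmul n a1, fun x hx => by simp [a2 x hx]⟩
  have hvan : ∀ α ∈ Cfsg.zspanOn (↑T : Set (stabilizer G a → ℂ)) {1}ᶜ, VanishTwo a α :=
    fun α hα => h.vanishTwo_of_off (hsp α hα.1).2 (hα.2 1 (by simp))
  have hτ : IsLinearIsometryOn (Cfsg.zspanOn (↑T : Set (stabilizer G a → ℂ)) {1}ᶜ)
      (lift (G := G) a) :=
    ⟨fun α _ β _ => lift_add α β, fun α _ n => lift_zsmul n α,
      fun α hα β hβ => h.classInner_lift (hvan α hα) (hvan β hβ)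
        (virt_classFunction (hsp β hβ.1).1),
      fun α hα => lift_isGeneralized (hsp α hα.1).1⟩
  have h2' : ∃ θ ∈ T, ∃ θ' ∈ T, θ ≠ θ' :=
    Finset.one_lt_card.1 (show 1 < T.card by omega)
  obtain ⟨-, σ, hσ, hag⟩ := coherent_irr_equal_degree (fun θ hθ => h.freeInd_irr (hT θ hθ)) h2'
    hdeg hτ (fun α hα => h.lift_one (hvan α hα))
  have hirr : ∀ θ ∈ (↑T : Set (stabilizer G a → ℂ)), IsIrrCharacter (stabilizer G a) θ :=
    fun θ hθ => h.freeInd_irr (hT θ hθ)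
  obtain ⟨e, he, heX⟩ := exists_sign hirr hσ fun α hα h1 => by
    rw [hag α (mem_on_one.mpr ⟨hα, h1⟩)]
    exact h.lift_one (hvan α (mem_on_one.mpr ⟨hα, h1⟩))
  obtain ⟨ε, hε, rfl⟩ : ∃ ε : ℤ, (ε = 1 ∨ ε = -1) ∧ e = (ε : ℂ) := by
    rcases he with rfl | rfl
    · exact ⟨1, Or.inl rfl, by simp⟩
    · exact ⟨-1, Or.inr rfl, by simp⟩
  have hεε : (ε : ℂ) * (ε : ℂ) = 1 := by rcases hε with rfl | rfl <;> simp
  refine ⟨ε, fun θ => if hθ : θ ∈ T then ⟨(ε : ℂ) • σ θ, heX θ hθ⟩ else trivialIrr G, hε,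
    fun θ hθ θ' hθ' e => ?_, fun θ hθ θ' hθ' => ?_⟩
  · by_contra hne
    simp only [dif_pos hθ, dif_pos hθ'] at e
    have e1 : (ε : ℂ) • σ θ = (ε : ℂ) • σ θ' := congrArg Subtype.val e
    have e2 : σ θ = σ θ' := by
      have := congrArg ((ε : ℂ) • ·) e1
      simpa [smul_smul, hεε] using this
    have e3 := hσ.2.2.1 θ (zspan_subset hθ) θ' (zspan_subset hθ')
    rw [e2, hσ.2.2.1 _ (zspan_subset hθ') _ (zspan_subset hθ'), h.freeInd_norm (hT θ' hθ'),
      h.freeInd_ortho (hT θ hθ) (hT θ' hθ') hne] at e3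
    exact one_ne_zero e3
  · simp only [dif_pos hθ, dif_pos hθ']
    rw [← hag _ (mem_on_one.mpr ⟨zspan_sub (zspan_subset hθ) (zspan_subset hθ'),
      by simp [hdeg θ hθ θ' hθ']⟩), map_sub_of_iso (iso_on_span hσ) (zspan_subset hθ)
      (zspan_subset hθ'), smul_sub, smul_smul, smul_smul, hεε, one_smul, one_smul]

variable {T T' : Finset (stabilizer G a → ℂ)} {ε ε' : ℤ}
  {X X' : (stabilizer G a → ℂ) → IrrCharacter G}
  (hT : ∀ θ ∈ T, h.FreeInd θ) (hdeg : ∀ θ ∈ T, ∀ θ' ∈ T, θ 1 = θ' 1) (hX : h.IsImages T ε X)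

include hT hdeg hX

theorem images_deg {θ θ' : stabilizer G a → ℂ} (hθ : θ ∈ T) (hθ' : θ' ∈ T) :
    dg (X θ) = dg (X θ') := by
  have hv := h.freeInd_sub_vanish (hT θ hθ) (hT θ' hθ') (hdeg θ hθ θ' hθ')
  have e := congrFun (hX.2.2 θ hθ θ' hθ') 1
  rw [h.lift_one hv] at e
  have hε : (ε : ℂ) ≠ 0 := by rcases hX.1 with rfl | rfl <;> simp
  simp only [Pi.smul_apply, Pi.sub_apply, smul_eq_mul, dg_eq] at e
  exact_mod_cast sub_eq_zero.1 ((mul_eq_zero.1 e.symm).resolve_left hε)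

theorem images_tv (hs : ∀ θ ∈ T, ∀ θ' ∈ T,
      θ ⟨h.sElt, h.s_mem.1⟩ = θ' ⟨h.sElt, h.s_mem.1⟩)
    {θ θ' : stabilizer G a → ℂ} (hθ : θ ∈ T) (hθ' : θ' ∈ T) : tv t (X θ) = tv t (X θ') := by
  have hv := h.freeInd_sub_vanish (hT θ hθ) (hT θ' hθ') (hdeg θ hθ θ' hθ')
  have e := congrFun (hX.2.2 θ hθ θ' hθ') t
  rw [h.lift_t (isClassFunction_sub (isClassFunction_of_isCharacter (h.freeInd_char (hT θ hθ)))
    (isClassFunction_of_isCharacter (h.freeInd_char (hT θ' hθ')))) hv, Pi.sub_apply,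
    hs θ hθ θ' hθ', sub_self] at e
  have hε : (ε : ℂ) ≠ 0 := by rcases hX.1 with rfl | rfl <;> simp
  simp only [Pi.smul_apply, Pi.sub_apply, smul_eq_mul, tv_eq h.hS.mul_self] at e
  exact_mod_cast sub_eq_zero.1 ((mul_eq_zero.1 e.symm).resolve_left hε)

theorem images_disjoint (h2 : 2 ≤ T.card) (hT' : ∀ θ ∈ T', h.FreeInd θ)
    (hdeg' : ∀ θ ∈ T', ∀ θ' ∈ T', θ 1 = θ' 1) (hX' : h.IsImages T' ε' X') (h2' : 2 ≤ T'.card)
    (hd : ∀ θ ∈ T, θ ∉ T') {θ η : stabilizer G a → ℂ} (hθ : θ ∈ T) (hη : η ∈ T') :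
    X θ ≠ X' η := by
  classical
  obtain ⟨θ₂, hθ₂, hθne⟩ := Finset.exists_mem_ne (by omega : 1 < T.card) θ
  obtain ⟨η₂, hη₂, hηne⟩ := Finset.exists_mem_ne (by omega : 1 < T'.card) η
  have hv := h.freeInd_sub_vanish (hT θ hθ) (hT θ₂ hθ₂) (hdeg θ hθ θ₂ hθ₂)
  have hv' := h.freeInd_sub_vanish (hT' η hη) (hT' η₂ hη₂) (hdeg' η hη η₂ hη₂)
  have hne : ∀ x ∈ T, ∀ y ∈ T', classInner x y = 0 := fun x hx y hy =>
    h.freeInd_ortho (hT x hx) (hT' y hy) fun e => hd x hx (e ▸ hy)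
  have e0 : classInner (lift (G := G) a (θ - θ₂)) (lift a (η - η₂)) = 0 := by
    rw [h.classInner_lift hv hv' (isClassFunction_sub
      (isClassFunction_of_isCharacter (h.freeInd_char (hT' η hη)))
      (isClassFunction_of_isCharacter (h.freeInd_char (hT' η₂ hη₂))))]
    simp [classInner_sub_left, classInner_sub_right, hne θ hθ η hη, hne θ hθ η₂ hη₂,
      hne θ₂ hθ₂ η hη, hne θ₂ hθ₂ η₂ hη₂]
  rw [hX.2.2 θ hθ θ₂ hθ₂, hX'.2.2 η hη η₂ hη₂, classInner_smul_left, classInner_smul_right] at e0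
  have hε : (ε : ℂ) ≠ 0 := by rcases hX.1 with rfl | rfl <;> simp
  have hε' : conj (ε' : ℂ) ≠ 0 := by rcases hX'.1 with rfl | rfl <;> simp
  have e1 := ((mul_eq_zero.1 e0).resolve_left hε)
  have e2 := ((mul_eq_zero.1 e1).resolve_left hε')
  have hb : dg (X θ) = dg (X θ₂) := h.images_deg hT hdeg hX hθ hθ₂
  have hb' : dg (X' η) = dg (X' η₂) := h.images_deg hT' hdeg' hX' hη hη₂
  intro e
  have hO := (orth_of_balanced (G := G) (Or.inl (X θ).2) (Or.inl (X θ₂).2) (Or.inl (X' η).2)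
    (Or.inl (X' η₂).2) (p := 1) (q := 1) (u := 1) (v := 1) one_ne_zero one_ne_zero one_ne_zero
    one_ne_zero (classInner_irr_of_ne fun e' => hθne (hX.2.1 θ₂ hθ₂ θ hθ e'.symm))
    (classInner_irr_of_ne fun e' => hηne (hX'.2.1 η₂ hη₂ η hη e'.symm))
    (by simpa using e2) (by simp [dg_eq, hb]) (by simp [dg_eq, hb'])).1
  rw [e, classInner_irr_self] at hO
  exact one_ne_zero hO

end Setup

/-- The shape of the lift of `f θ₀ - φ`. -/
structure IsTopImage (T : Finset (stabilizer G a → ℂ)) (ε : ℤ)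
    (X : (stabilizer G a → ℂ) → IrrCharacter G) (θ₀ : stabilizer G a → ℂ) (f : ℕ) (Y : G → ℂ)
    (R : IrrCharacter G) (ρ c : ℤ) : Prop where
  notMem : ∀ θ ∈ T, X θ ≠ R
  unit : ρ = 1 ∨ ρ = -1
  virt : IsGeneralizedCharacter G Y
  coef_rest : coef Y R = ρ
  coef_ne : ∀ θ ∈ T, θ ≠ θ₀ → coef Y (X θ) = ε * (0 - c)
  coef_base : coef Y (X θ₀) = ε * ((f : ℤ) - c)
  other : ∀ W, (∀ θ ∈ T, X θ ≠ W) → W ≠ R → coef Y W = 0
  cases : c = 0 ∨ (c = 1 ∧ T.card = 2 * f)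

namespace Setup

variable (h : Setup a t Q) {T : Finset (stabilizer G a → ℂ)} {ε : ℤ}
  {X : (stabilizer G a → ℂ) → IrrCharacter G}
  (hT : ∀ θ ∈ T, h.FreeInd θ) (hdeg : ∀ θ ∈ T, ∀ θ' ∈ T, θ 1 = θ' 1) (hX : h.IsImages T ε X)
  {θ₀ top : stabilizer G a → ℂ} {f : ℕ} (hθ₀ : θ₀ ∈ T) (htop : h.FreeInd top) (htopT : top ∉ T)
  (hf : 2 ≤ f) (hdf : (f : ℂ) * θ₀ 1 = top 1) (hcard : 2 * f ≤ T.card)

include h hT hθ₀ htop hdf

theorem top_vanish : VanishTwo a ((f : ℂ) • θ₀ - top) :=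
  h.freeInd_vanish (hT θ₀ hθ₀) htop _ hdf

theorem top_class : IsClassFunction (stabilizer G a) ((f : ℂ) • θ₀ - top) :=
  isClassFunction_sub (isClassFunction_smul _
      (isClassFunction_of_isCharacter (h.freeInd_char (hT θ₀ hθ₀))))
    (isClassFunction_of_isCharacter (h.freeInd_char htop))

theorem top_virt : IsGeneralizedCharacter G (lift a ((f : ℂ) • θ₀ - top)) := by
  refine lift_isGeneralized (virt_sub ?_ (virt_of_char (h.freeInd_char htop)))
  exact virt_of_char (isCharacter_nat_smul f (h.freeInd_char (hT θ₀ hθ₀)))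

include hdeg hX htopT hf hcard

set_option maxHeartbeats 1600000 in
theorem exists_topImage :
    ∃ R ρ c, IsTopImage T ε X θ₀ f (lift a ((f : ℂ) • θ₀ - top)) R ρ c := by
  classical
  obtain ⟨Y, hYdef⟩ : ∃ Y, Y = lift (G := G) a ((f : ℂ) • θ₀ - top) := ⟨_, rfl⟩
  rw [← hYdef]
  have hY : IsGeneralizedCharacter G Y := hYdef ▸ h.top_virt hT hθ₀ htop hdf
  have hv := h.top_vanish hT hθ₀ htop hdf
  have hcl := h.top_class hT hθ₀ htop hdf
  have hεε : ε * ε = 1 := by rcases hX.1 with rfl | rfl <;> simp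
  have hne : ∀ θ ∈ T, θ ≠ top := fun θ hθ e => htopT (e ▸ hθ)
  have hdiff : ∀ θ ∈ T, θ ≠ θ₀ → ε * (coef Y (X θ₀) - coef Y (X θ)) = f := by
    intro θ hθ hθne
    have hv' := h.freeInd_sub_vanish (hT θ₀ hθ₀) (hT θ hθ) (hdeg θ₀ hθ₀ θ hθ)
    have e : classInner Y (lift a (θ₀ - θ)) = (f : ℂ) := by
      rw [hYdef, h.classInner_lift hv hv' (isClassFunction_sub
        (isClassFunction_of_isCharacter (h.freeInd_char (hT θ₀ hθ₀)))
        (isClassFunction_of_isCharacter (h.freeInd_char (hT θ hθ))))]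
      simp only [classInner_sub_left, classInner_sub_right, classInner_smul_left,
        h.freeInd_norm (hT θ₀ hθ₀), h.freeInd_ortho (hT θ₀ hθ₀) (hT θ hθ) hθne.symm,
        h.freeInd_ortho htop (hT θ₀ hθ₀) (hne θ₀ hθ₀).symm,
        h.freeInd_ortho htop (hT θ hθ) (hne θ hθ).symm]
      ring
    rw [hX.2.2 θ₀ hθ₀ θ hθ, classInner_smul_right, classInner_sub_right, coef_eq hY, coef_eq hY,
      map_intCast] at e
    exact_mod_cast e
  set c : ℤ := (f : ℤ) - ε * coef Y (X θ₀) with hc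
  have hbase : coef Y (X θ₀) = ε * ((f : ℤ) - c) := by
    rw [hc, sub_sub_cancel, ← mul_assoc, hεε, one_mul]
  have hoth : ∀ θ ∈ T, θ ≠ θ₀ → coef Y (X θ) = ε * (0 - c) := by
    intro θ hθ hθne
    have e := hdiff θ hθ hθne
    have e' : ε * coef Y (X θ) = 0 - c := by rw [hc]; linear_combination -e
    calc coef Y (X θ) = ε * ε * coef Y (X θ) := by rw [hεε, one_mul]
      _ = ε * (0 - c) := by rw [mul_assoc, e']
  set W := T.image X with hW
  have hnorm : ∑ V : IrrCharacter G, coef Y V * coef Y V = (f : ℤ) ^ 2 + 1 := by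
    have e := classInner_eq_sum_coef hY hY
    rw [show classInner Y Y =
        classInner ((f : ℂ) • θ₀ - top) ((f : ℂ) • θ₀ - top) from by
      rw [hYdef, h.classInner_lift hv hv hcl]] at e
    simp only [classInner_sub_left, classInner_sub_right, classInner_smul_left,
      classInner_smul_right, h.freeInd_norm (hT θ₀ hθ₀), h.freeInd_norm htop,
      h.freeInd_ortho htop (hT θ₀ hθ₀) (hne θ₀ hθ₀).symm,
      h.freeInd_ortho (hT θ₀ hθ₀) htop (hne θ₀ hθ₀), map_natCast] at e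
    have e' : ((∑ V : IrrCharacter G, coef Y V * coef Y V : ℤ) : ℂ) =
        (((f : ℤ) ^ 2 + 1 : ℤ) : ℂ) := by
      rw [← e]; push_cast; ring
    exact_mod_cast e'
  have hin : ∑ V ∈ W, coef Y V * coef Y V =
      (f : ℤ) ^ 2 + c * ((T.card : ℤ) * c - 2 * f) := by
    rw [hW, Finset.sum_image fun x hx y hy e => hX.2.1 x hx y hy e,
      ← Finset.add_sum_erase T _ hθ₀, hbase,
      Finset.sum_congr rfl (g := fun _ => c * c) fun θ hθ => by
        rw [hoth θ (Finset.mem_of_mem_erase hθ) (Finset.ne_of_mem_erase hθ)]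
        linear_combination (c * c) * hεε,
      Finset.sum_const, Finset.card_erase_of_mem hθ₀, nsmul_eq_mul,
      Nat.cast_sub (by omega : 1 ≤ T.card), Nat.cast_one]
    linear_combination ((f : ℤ) - c) * ((f : ℤ) - c) * hεε
  have hsplit : ∑ V ∈ Finset.univ \ W, coef Y V * coef Y V =
      1 - c * ((T.card : ℤ) * c - 2 * f) := by
    have e := Finset.sum_sdiff (f := fun V => coef Y V * coef Y V) (Finset.subset_univ W)
    rw [hin, hnorm] at e
    linear_combination e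
  have hM : (2 * f : ℤ) ≤ T.card := by exact_mod_cast hcard
  have hpos : 0 ≤ c * ((T.card : ℤ) * c - 2 * f) := by
    rcases le_or_gt c 0 with hc0 | hc0
    · exact mul_nonneg_of_nonpos_of_nonpos hc0 (by nlinarith)
    · exact mul_nonneg hc0.le (by nlinarith)
  have hle : 0 ≤ ∑ V ∈ Finset.univ \ W, coef Y V * coef Y V :=
    Finset.sum_nonneg fun V _ => mul_self_nonneg _
  have hdval : ∀ θ ∈ T, dg (X θ) = dg (X θ₀) := fun θ hθ => h.images_deg hT hdeg hX hθ hθ₀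
  have hrest : c * ((T.card : ℤ) * c - 2 * f) = 0 := by
    by_contra hne1
    have h1 : c * ((T.card : ℤ) * c - 2 * f) = 1 := by omega
    have hz : ∀ V, V ∉ W → coef Y V = 0 := fun V hV => by
      have hs : ∑ V ∈ Finset.univ \ W, coef Y V * coef Y V = 0 := by rw [hsplit, h1, sub_self]
      exact mul_self_eq_zero.1 ((Finset.sum_eq_zero_iff_of_nonneg fun V _ => mul_self_nonneg _).1
        hs V (by simp [hV]))
    have ev := congrFun (eq_sum_coef hY) 1
    rw [show Y 1 = 0 by rw [hYdef, h.lift_one hv]] at ev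
    simp only [Finset.sum_apply, Pi.smul_apply, smul_eq_mul, dg_eq] at ev
    have e : ∑ V, coef Y V * (dg V : ℤ) = 0 := by exact_mod_cast ev.symm
    rw [← Finset.sum_subset (Finset.subset_univ W) (fun V _ hV => by simp [hz V hV]), hW,
      Finset.sum_image fun x hx y hy e => hX.2.1 x hx y hy e,
      ← Finset.add_sum_erase T _ hθ₀, hbase,
      Finset.sum_congr rfl (g := fun _ => ε * (0 - c) * (dg (X θ₀) : ℤ)) fun θ hθ => by
        rw [hoth θ (Finset.mem_of_mem_erase hθ) (Finset.ne_of_mem_erase hθ),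
          hdval θ (Finset.mem_of_mem_erase hθ)],
      Finset.sum_const, Finset.card_erase_of_mem hθ₀, nsmul_eq_mul,
      Nat.cast_sub (by omega : 1 ≤ T.card), Nat.cast_one] at e
    have hd0 : (0 : ℤ) < dg (X θ₀) := by exact_mod_cast dg_pos _
    have e2 : (ε * (dg (X θ₀) : ℤ)) * ((f : ℤ) - T.card * c) = 0 := by linear_combination e
    have hfc : (f : ℤ) = T.card * c := by
      rcases mul_eq_zero.1 e2 with e3 | e3
      · rcases hX.1 with rfl | rfl <;> omega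
      · linarith
    rw [← hfc] at h1
    rcases Int.eq_one_or_neg_one_of_mul_eq_one h1 with e4 | e4 <;> rw [e4] at h1 hfc <;> omega
  rw [hrest, sub_zero] at hsplit
  obtain ⟨R, hR, hR0⟩ := Finset.exists_ne_zero_of_sum_ne_zero (hsplit ▸ one_ne_zero)
  have hR1 : coef Y R * coef Y R = 1 := by
    have h1 := Finset.single_le_sum (f := fun V => coef Y V * coef Y V)
      (fun V _ => mul_self_nonneg _) hR
    rw [hsplit] at h1
    have h2 := mul_self_nonneg (coef Y R)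
    omega
  refine ⟨R, coef Y R, c, ⟨fun θ hθ e => ?_, Int.eq_one_or_neg_one_of_mul_eq_one hR1, hY, rfl,
    hoth, hbase, fun V hV hVR => ?_, ?_⟩⟩
  · exact (Finset.mem_sdiff.1 hR).2 (Finset.mem_image.2 ⟨θ, hθ, e⟩)
  · have hVW : V ∈ Finset.univ \ W := by
      simp only [Finset.mem_sdiff, Finset.mem_univ, true_and, hW, Finset.mem_image, not_exists,
        not_and]
      exact hV
    have h1 := Finset.add_le_sum (f := fun V => coef Y V * coef Y V)
      (fun V _ => mul_self_nonneg _) hVW hR hVR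
    rw [hsplit, hR1] at h1
    exact mul_self_eq_zero.1 (le_antisymm (by linarith) (mul_self_nonneg _))
  · rcases mul_eq_zero.1 hrest with e | e
    · exact Or.inl e
    · have h1 : (1 : ℤ) ≤ c := by
        by_contra hlt
        push Not at hlt
        nlinarith
      have h2 : c ≤ 1 := by
        by_contra hlt
        push Not at hlt
        nlinarith
      have hc1 : c = 1 := le_antisymm h2 h1
      rw [hc1, mul_one, sub_eq_zero] at e
      exact Or.inr ⟨hc1, by exact_mod_cast e⟩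

end Setup

theorem IsTopImage.sum_eq {T : Finset (stabilizer G a → ℂ)} {ε : ℤ}
    {X : (stabilizer G a → ℂ) → IrrCharacter G} {θ₀ : stabilizer G a → ℂ} {f : ℕ} {Y : G → ℂ}
    {R : IrrCharacter G} {ρ c : ℤ} (hI : IsTopImage T ε X θ₀ f Y R ρ c)
    (hinj : ∀ θ ∈ T, ∀ θ' ∈ T, X θ = X θ' → θ = θ') (hθ₀ : θ₀ ∈ T) (F : IrrCharacter G → ℤ) :
    ∑ V, coef Y V * F V =
      ε * ((f : ℤ) * F (X θ₀) - c * ∑ θ ∈ T, F (X θ)) + ρ * F R := by
  classical
  have hRW : R ∉ T.image X := by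
    simp only [Finset.mem_image, not_exists, not_and]
    exact hI.notMem
  rw [← Finset.sum_subset (Finset.subset_univ (insert R (T.image X))) fun V _ hV => by
    simp only [Finset.mem_insert, Finset.mem_image, not_or, not_exists, not_and] at hV
    rw [hI.other V hV.2 hV.1, zero_mul], Finset.sum_insert hRW,
    Finset.sum_image fun x hx y hy e => hinj x hx y hy e, hI.coef_rest,
    ← Finset.add_sum_erase T _ hθ₀, hI.coef_base,
    Finset.sum_congr rfl (g := fun θ => ε * (0 - c) * F (X θ)) fun θ hθ => by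
      rw [hI.coef_ne θ (Finset.mem_of_mem_erase hθ) (Finset.ne_of_mem_erase hθ)],
    ← Finset.mul_sum, ← Finset.add_sum_erase T (fun θ => F (X θ)) hθ₀]
  ring

/-- Two such lifts over the same set with inner product `f f'` have different last constituents. -/
theorem IsTopImage.rest_ne {T : Finset (stabilizer G a → ℂ)} {ε : ℤ}
    {X : (stabilizer G a → ℂ) → IrrCharacter G} {θ₀ : stabilizer G a → ℂ} {f f' : ℕ}
    {Y Y' : G → ℂ} {R R' : IrrCharacter G} {ρ ρ' c c' : ℤ}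
    (hI : IsTopImage T ε X θ₀ f Y R ρ c) (hI' : IsTopImage T ε X θ₀ f' Y' R' ρ' c')
    (hinj : ∀ θ ∈ T, ∀ θ' ∈ T, X θ = X θ' → θ = θ') (hθ₀ : θ₀ ∈ T) (hε : ε = 1 ∨ ε = -1)
    (hf : 2 ≤ f) (hf' : 2 ≤ f') (e : classInner Y Y' = (f : ℂ) * f') : R ≠ R' := by
  classical
  intro hRR
  subst hRR
  rw [classInner_eq_sum_coef hI.virt hI'.virt] at e
  have e' : ∑ V, coef Y V * coef Y' V = (f : ℤ) * f' := by exact_mod_cast e
  rw [hI.sum_eq hinj hθ₀, hI'.coef_base, hI'.coef_rest, ← Finset.add_sum_erase T _ hθ₀,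
    hI'.coef_base, Finset.sum_congr rfl (g := fun _ => ε * (0 - c')) fun θ hθ =>
      hI'.coef_ne θ (Finset.mem_of_mem_erase hθ) (Finset.ne_of_mem_erase hθ),
    Finset.sum_const, Finset.card_erase_of_mem hθ₀, nsmul_eq_mul,
    Nat.cast_sub (Finset.card_pos.2 ⟨θ₀, hθ₀⟩), Nat.cast_one] at e'
  have hεε : ε * ε = 1 := by rcases hε with rfl | rfl <;> simp
  have key : (T.card : ℤ) * c * c' - c * f' - c' * f + ρ * ρ' = 0 := by
    linear_combination e' - ((f : ℤ) * f' - c * f' - c' * f + T.card * c * c') * hεε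
  rcases hI.cases with rfl | ⟨rfl, hM⟩ <;> rcases hI'.cases with rfl | ⟨rfl, hM'⟩ <;>
    rcases hI.unit with rfl | rfl <;> rcases hI'.unit with rfl | rfl <;>
    simp at key <;> omega

/-- A lift orthogonal to the differences of the images of a foreign set avoids that set. -/
theorem IsTopImage.coef_foreign {T T' : Finset (stabilizer G a → ℂ)} {ε : ℤ}
    {X X' : (stabilizer G a → ℂ) → IrrCharacter G} {θ₀ : stabilizer G a → ℂ} {f : ℕ} {Y : G → ℂ}
    {R : IrrCharacter G} {ρ c : ℤ} (hI : IsTopImage T ε X θ₀ f Y R ρ c)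
    (hinj : ∀ θ ∈ T', ∀ θ' ∈ T', X' θ = X' θ' → θ = θ') (h3 : 3 ≤ T'.card)
    (hd : ∀ θ ∈ T, ∀ η ∈ T', X θ ≠ X' η)
    (he : ∀ η ∈ T', ∀ η' ∈ T', coef Y (X' η) = coef Y (X' η')) :
    ∀ η ∈ T', X' η ≠ R ∧ coef Y (X' η) = 0 := by
  classical
  intro η hη
  obtain ⟨η₂, hη₂, hne⟩ := Finset.exists_mem_ne (by omega : 1 < T'.card) η
  have hzero : coef Y (X' η) = 0 := by
    by_cases e1 : X' η = R
    · rw [he η hη η₂ hη₂]
      exact hI.other _ (fun θ hθ => hd θ hθ η₂ hη₂)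
        fun e2 => hne (hinj η₂ hη₂ η hη (e2.trans e1.symm))
    · exact hI.other _ (fun θ hθ => hd θ hθ η hη) e1
  refine ⟨fun e1 => ?_, hzero⟩
  rw [e1, hI.coef_rest] at hzero
  rcases hI.unit with e | e <;> omega

/-- Two such lifts over disjoint sets with inner product `0` have different last constituents. -/
theorem IsTopImage.rest_ne' {T T' : Finset (stabilizer G a → ℂ)} {ε ε' : ℤ}
    {X X' : (stabilizer G a → ℂ) → IrrCharacter G} {θ₀ θ₀' : stabilizer G a → ℂ} {f f' : ℕ}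
    {Y Y' : G → ℂ} {R R' : IrrCharacter G} {ρ ρ' c c' : ℤ}
    (hI : IsTopImage T ε X θ₀ f Y R ρ c) (hI' : IsTopImage T' ε' X' θ₀' f' Y' R' ρ' c')
    (h0 : ∀ θ ∈ T, coef Y' (X θ) = 0) (hinj : ∀ θ ∈ T, ∀ θ' ∈ T, X θ = X θ' → θ = θ')
    (hθ₀ : θ₀ ∈ T) (e : classInner Y Y' = 0) : R ≠ R' := by
  classical
  intro hRR
  subst hRR
  rw [classInner_eq_sum_coef hI.virt hI'.virt] at e
  have e' : ∑ V, coef Y V * coef Y' V = 0 := by exact_mod_cast e
  rw [hI.sum_eq hinj hθ₀, h0 θ₀ hθ₀, Finset.sum_eq_zero fun θ hθ => h0 θ hθ, hI'.coef_rest] at e'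
  rcases hI.unit with rfl | rfl <;> rcases hI'.unit with rfl | rfl <;> simp at e'

namespace Setup

variable (h : Setup a t Q) {T : Finset (stabilizer G a → ℂ)} {ε : ℤ}
  {X : (stabilizer G a → ℂ) → IrrCharacter G}
  (hT : ∀ θ ∈ T, h.FreeInd θ) (hdeg : ∀ θ ∈ T, ∀ θ' ∈ T, θ 1 = θ' 1) (hX : h.IsImages T ε X)
  {θ₀ top : stabilizer G a → ℂ} {f : ℕ} (hθ₀ : θ₀ ∈ T) (htop : h.FreeInd top)
  (hdf : (f : ℂ) * θ₀ 1 = top 1)
  (hs : ∀ θ ∈ T, ∀ θ' ∈ T, θ ⟨h.sElt, h.s_mem.1⟩ = θ' ⟨h.sElt, h.s_mem.1⟩)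

include h hT hdeg hX hθ₀ htop hdf hs

set_option maxHeartbeats 800000 in
/-- The values at `t`. -/
theorem topImage_equations {R : IrrCharacter G} {ρ c : ℤ}
    (hI : IsTopImage T ε X θ₀ f (lift a ((f : ℂ) • θ₀ - top)) R ρ c) {δ : ℤ}
    (hδ : (f : ℂ) * θ₀ ⟨h.sElt, h.s_mem.1⟩ - top ⟨h.sElt, h.s_mem.1⟩ = δ) (hδ0 : δ ≠ 0) :
    2 * (ρ : ℝ) * (tv t R : ℝ) = δ + h.kap * ρ * dg R ∧
      (∀ θ ∈ T, ∃ e : ℤ, (e = f ∨ e = -(f : ℤ)) ∧
        2 * (e : ℝ) * (tv t (X θ) : ℝ) = δ + h.kap * e * dg (X θ)) := by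
  classical
  set Y := lift (G := G) a ((f : ℂ) • θ₀ - top)
  have hv := h.top_vanish hT hθ₀ htop hdf
  have hcl := h.top_class hT hθ₀ htop hdf
  obtain ⟨e0, e1, e2⟩ := h.lift_equations hcl hv (δ := δ)
    (by rw [← hδ]; rfl) (ι := IrrCharacter G) Finset.univ (fun V => coef Y V) id
    (eq_sum_coef hI.virt)
  simp only [id_eq] at e0 e1 e2
  have hRW : R ∉ T.image X := by
    simp only [Finset.mem_image, not_exists, not_and]
    exact hI.notMem
  set d := dg (X θ₀)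
  set x := tv t (X θ₀)
  have hd : ∀ θ ∈ T, dg (X θ) = d := fun θ hθ => h.images_deg hT hdeg hX hθ hθ₀
  have hx : ∀ θ ∈ T, tv t (X θ) = x := fun θ hθ => h.images_tv hT hdeg hX hs hθ hθ₀
  set e : ℤ := ε * ((f : ℤ) - c * T.card) with he
  have hsum : ∀ F : IrrCharacter G → ℤ, (∀ θ ∈ T, F (X θ) = F (X θ₀)) →
      ∑ V, coef Y V * F V = e * F (X θ₀) + ρ * F R := by
    intro F hF
    rw [hI.sum_eq hX.2.1 hθ₀, Finset.sum_congr rfl hF, Finset.sum_const, nsmul_eq_mul, he]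
    ring
  rw [hsum _ fun θ hθ => by rw [hd θ hθ]] at e0
  rw [hsum _ fun θ hθ => by rw [hx θ hθ]] at e1
  have e2' : (e : ℝ) * (x : ℝ) ^ 2 / d + (ρ : ℝ) * (tv t R : ℝ) ^ 2 / (dg R : ℝ) = h.kap * δ := by
    rw [← e2, ← Finset.sum_subset (Finset.subset_univ (insert R (T.image X))) fun V _ hV => by
      simp only [Finset.mem_insert, Finset.mem_image, not_or, not_exists, not_and] at hV
      rw [hI.other V hV.2 hV.1, Int.cast_zero, zero_mul, zero_div], Finset.sum_insert hRW,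
      Finset.sum_image fun x hx y hy e => hX.2.1 x hx y hy e, hI.coef_rest,
      ← Finset.add_sum_erase T _ hθ₀, hI.coef_base,
      Finset.sum_congr rfl (g := fun _ => ((ε * (0 - c) : ℤ) : ℝ) * (x : ℝ) ^ 2 / d) fun θ hθ => by
        rw [hI.coef_ne θ (Finset.mem_of_mem_erase hθ) (Finset.ne_of_mem_erase hθ),
          hd θ (Finset.mem_of_mem_erase hθ), hx θ (Finset.mem_of_mem_erase hθ)],
      Finset.sum_const, Finset.card_erase_of_mem hθ₀, nsmul_eq_mul,
      Nat.cast_sub (Finset.card_pos.2 ⟨θ₀, hθ₀⟩), Nat.cast_one, he]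
    push_cast
    ring
  have hE : e = f ∨ e = -(f : ℤ) := by
    rcases hI.cases with rfl | ⟨rfl, hM⟩ <;> rcases hX.1 with rfl | rfl <;>
      simp only [he] <;> omega
  have a0 : (e : ℝ) * d + ρ * (dg R : ℝ) = 0 := by exact_mod_cast e0
  have a1 : (e : ℝ) * x + ρ * (tv t R : ℝ) = δ := by exact_mod_cast e1
  have hdR : (dg R : ℝ) ≠ 0 := Nat.cast_ne_zero.2 (dg_pos _).ne'
  have hd0 : (d : ℝ) ≠ 0 := Nat.cast_ne_zero.2 (dg_pos _).ne'
  have hρρ : (ρ : ℝ) * ρ = 1 := by rcases hI.unit with rfl | rfl <;> simp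
  have h3 : (e : ℝ) * (x : ℝ) ^ 2 * dg R + (ρ : ℝ) * (tv t R : ℝ) ^ 2 * d =
      h.kap * δ * d * dg R := by
    field_simp at e2'
    linear_combination e2'
  have key : (d : ℝ) * ((δ : ℝ) * (2 * (e : ℝ) * x - δ - h.kap * e * d)) = 0 := by
    linear_combination (-(ρ : ℝ)) * h3 + ((e : ℝ) * (x : ℝ) ^ 2 - h.kap * δ * d) * a0 +
      ((d : ℝ) * ((ρ : ℝ) * (tv t R : ℝ) + δ - (e : ℝ) * x)) * a1
  have hx2 : 2 * (e : ℝ) * x = δ + h.kap * e * d := by
    have h4 := ((mul_eq_zero.1 key).resolve_left hd0)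
    have h5 : (δ : ℝ) ≠ 0 := Int.cast_ne_zero.2 hδ0
    linear_combination (mul_eq_zero.1 h4).resolve_left h5
  refine ⟨by linear_combination 2 * a1 - hx2 - h.kap * a0, fun θ hθ => ⟨e, hE, ?_⟩⟩
  rw [hd θ hθ, hx θ hθ]
  exact hx2

end Setup

end Cfsg.Agent.Lib.SplitRankOne70
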