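import Cfsg.Agent.Lib.SplitRankOne70.Torsor

/-!
The law of composition of `Q` in the coordinates given by `SL₂(q)`.
-/

set_option autoImplicit false
set_option linter.unusedSectionVars false
set_option linter.style.haveILetI false

namespace Cfsg.Agent.Lib.SplitRankOne70

open Cfsg MulAction Cfsg.Agent.Lib.RankOne
open scoped MatrixGroups

universe u v

variable {G : Type u} {Ω : Type v} [Group G] [MulAction G Ω] [Finite G] {a : Ω} {t : G}
  {Q : Subgroup G}

namespace Tor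

variable {h : Setup a t Q} {F : Type} [Field F] [Fintype F] [CharP F 2] (T : Tor h F)
include T

/-- The second factor of the law. -/
noncomputable def lawY (c : F) (M : SL(2, F)) : SL(2, F) :=
  mT * mU c * mT * (mU (T.Sv (M 1 0, M 1 1)) * M)

theorem mT_sq : (mT : SL(2, F)) * mT = 1 :=
  mat_ext (by rw [mul_00]; simp) (by rw [mul_01]; simp) (by rw [mul_10]; simp) (by rw [mul_11]; simp)

theorem mU_sq (c : F) : mU c * mU c = 1 :=
  mat_ext (by rw [mul_00]; simp) (by rw [mul_01]; simp [CharTwo.add_self_eq_zero])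
    (by rw [mul_10]; simp) (by rw [mul_11]; simp)

theorem mU_row (c : F) (M : SL(2, F)) : (mU c * M) 1 0 = M 1 0 ∧ (mU c * M) 1 1 = M 1 1 := by
  simp [mul_10, mul_11]

theorem exists_law {c : F} (hc : c ≠ 0) (M : SL(2, F)) :
    ∃ d : F, d ≠ 0 ∧ T.el M * T.el (T.lawY c M) = T.el (mT * mU d * mT * M) := by
  set x := T.el M
  have hx : x ∈ Q := T.el_mem M
  have hx1 : x ≠ 1 := T.el_ne M
  set y := T.el (T.lawY c M) with hy
  set g := gE h x
  set hh := hE h x
  set f := fE h x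
  have hinv : T.el (mU c * (mT * (mU (T.Sv (M 1 0, M 1 1)) * M))) = T.Φ.e c * f⁻¹ := by
    rw [T.el_mU, T.el_mT, ← (T.Sv_spec M).1, (h.triple_inv hx hx1).1]
  have hty : t • y • t • a = (T.Φ.e c * f⁻¹) • t • a := by
    rw [← hinv, h.t_smul_pt (T.el_mem _) (T.el_ne _), ← T.el_mT]
    congr 2
    simp only [lawY, mul_assoc]
    rw [← mul_assoc mT mT, mT_sq T, one_mul]
  -- the image of `e(1/c)` under `h(x)`
  set c' : Fˣ := (Units.mk0 c hc)⁻¹
  obtain ⟨d, hd⟩ := (T.Φ.e_mem _).1 (h.conj_z (D_le h.hS (h.hE_mem x)) (T.Φ.mem (c' : F)))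
  have hd0 : d ≠ 0 := by
    intro e
    rw [e, T.Φ.e_zero] at hd
    refine c'.ne_zero (T.Φ.e_inj ?_)
    rw [T.Φ.e_zero]
    exact conj_eq_one_iff.1 hd.symm
  refine ⟨d, hd0, (T.el_eq (mul_mem hx (T.el_mem _)) ?_).symm⟩
  have e1 : T.Φ.rho (mT * mU d * mT * M) • T.x0 • t • a = t • T.Φ.e d • gE h x • t • a := by
    rw [mul_assoc, mul_assoc, T.Φ.rho_mT_mul T.hr, T.Φ.rho_mU_mul, T.Φ.rho_mT_mul T.hr, mul_smul,
      mul_smul, mul_smul, ← T.el_pt, ← h.t_smul_pt hx hx1]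
  rw [e1]
  have ex : x = t * (g * hh * t * f) * t := by
    rw [← h.rw_eq hx hx1]; simp only [mul_assoc, h.tt, h.hS.mul_self, mul_one]
  have e2 : t • T.Φ.e c • t • a = T.Φ.e (c' : F) • t • a := by
    have := congrArg (· • a) (T.Φ.t_e T.hr (Units.mk0 c hc))
    simp only [mul_smul, Units.val_mk0] at this
    rw [this, Q_fix h.hS (h.zSub_le (T.Φ.mem _)), (mem_twoStab.1 (h.kSub_le (T.Φ.kl_mem _))).2]
  show (x * y) • t • a = _
  calc (x * y) • t • a = t • g • hh • t • f • t • y • t • a := by rw [mul_smul, ex]; simp only [mul_smul]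
    _ = t • g • hh • t • T.Φ.e c • t • a := by
      rw [hty, ← mul_smul f, ← mul_assoc, ← h.z_central (T.Φ.mem c) (h.fE_mem x), mul_assoc,
        mul_inv_cancel, mul_one]
    _ = t • g • T.Φ.e d • t • a := by
      rw [e2, hd, ← mul_smul hh, mul_smul (hh * _), inv_smul_eq_iff.2
        (mem_twoStab.1 (h.hE_mem x)).2.symm]
    _ = t • T.Φ.e d • g • t • a := by
      rw [← mul_smul g, ← h.z_central (T.Φ.mem d) (h.gE_mem x), mul_smul]

theorem law {p r : F} (hS : ∀ v : F × F, v ≠ 0 → T.Sv v * qform p r v = 1) {c : F} (hc : c ≠ 0)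
    (M : SL(2, F)) :
    ∃ d : F, d * (c * qform p r (M 0 0, M 0 1)) = qform p r (M 1 0, M 1 1) ∧
      T.el M * T.el (T.lawY c M) = T.el (mT * mU d * mT * M) := by
  obtain ⟨d, -, hlaw⟩ := T.exists_law hc M
  refine ⟨d, ?_, hlaw⟩
  set S := T.Sv (M 1 0, M 1 1) with hSdef
  set Y := T.lawY c M with hY
  set Sy := T.Sv (Y 1 0, Y 1 1) with hSy
  obtain ⟨d2, -, hlaw2⟩ := T.exists_law hc (mU Sy * Y)
  have hY2 : T.lawY c (mU Sy * Y) = mU S * M := by
    rw [lawY, (mU_row T Sy Y).1, (mU_row T Sy Y).2, ← hSy, ← mul_assoc (mU Sy), mU_sq T, one_mul, hY,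
      lawY, ← hSdef]
    calc mT * mU c * mT * (mT * mU c * mT * (mU S * M))
        = mT * mU c * (mT * mT) * mU c * mT * (mU S * M) := by group
      _ = mT * (mU c * mU c) * mT * (mU S * M) := by rw [mT_sq T]; group
      _ = mU S * M := by rw [mU_sq T, mul_one, mT_sq T, one_mul]
  rw [hY2, ← (T.Sv_spec M).1, ← (T.Sv_spec Y).1, ← mul_inv_rev, hlaw,
    (T.Sv_spec (mT * mU d * mT * M)).1] at hlaw2
  have hM := T.el_inj hlaw2
  have hd := det_two M
  have r0 := congrArg (fun N : SL(2, F) => N 1 0) hM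
  have r1 := congrArg (fun N : SL(2, F) => N 1 1) hM
  simp only [hY, lawY, ← hSdef, mul_10, mul_11, mul_00, mul_01, mU_00, mU_01, mU_10, mU_11, mT_00,
    mT_01, mT_10, mT_11, zero_mul, one_mul, mul_zero, mul_one, add_zero, zero_add] at r0 r1
  set u1 := M 0 0
  set u2 := M 0 1
  set v1 := M 1 0
  set v2 := M 1 1
  have two := CharTwo.two_eq_zero (R := F)
  have E1 : d = c + d2 * (1 + c * Sy) := by
    linear_combination v2 * r0 + v1 * r1 - (d - c - d2 - d2 * c * Sy) * hd +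
      ((1 + c * S) + d2 * (S + Sy + c * S * Sy) - 1) * v1 * v2 * two
  have E2 : c * S = d2 * (S + Sy + c * S * Sy) := by
    linear_combination u2 * r0 + u1 * r1 - (-(c * S) - d2 * (S + Sy + c * S * Sy)) * hd -
      (d - c - d2 - d2 * c * Sy) * u1 * u2 * two + c * S * two
  have hv : (v1, v2) ≠ (0 : F × F) := by
    intro e
    obtain ⟨e1, e2⟩ := Prod.mk.inj e
    exact one_ne_zero (α := F) (by rw [← hd, e1, e2]; ring)
  have hN := hS _ hv
  have hYrow : (Y 1 0, Y 1 1) = ((1 + c * S) * v1 + c * u1, (1 + c * S) * v2 + c * u2) := by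
    simp [hY, lawY, mul_10, mul_11, mul_00, mul_01, ← hSdef]
    constructor <;> ring
  have hy0 : (Y 1 0, Y 1 1) ≠ (0 : F × F) := by
    intro e
    obtain ⟨e1, e2⟩ := Prod.mk.inj e
    exact one_ne_zero (α := F) (by rw [← det_two Y, e1, e2]; ring)
  have hNy := hS _ hy0
  rw [← hSy, hYrow] at hNy
  set Nu := qform p r (u1, u2) with hNu
  set Nv := qform p r (v1, v2) with hNv
  rw [← hSdef] at hN
  have hexp : qform p r ((1 + c * S) * v1 + c * u1, (1 + c * S) * v2 + c * u2) =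
      Nv + c + c ^ 2 * Nu := by
    simp only [hNu, hNv, qform] at hN ⊢
    linear_combination c * (1 + c * S) * hd + c ^ 2 * S * hN +
      (c * S * (p * v1 ^ 2 + v1 * v2 + r * v2 ^ 2) +
        c * (1 + c * S) * (p * u1 * v1 + r * u2 * v2) + c ^ 2 * S) * two
  rw [hexp] at hNy
  have E3 : c * (Nv + c + c ^ 2 * Nu) = d2 * (c ^ 2 * Nu) := by
    linear_combination ((Nv + c + c ^ 2 * Nu) * Nv) * E2
      - c * (Nv + c + c ^ 2 * Nu) * hN + d2 * (Nv + c + c ^ 2 * Nu) * hN + d2 * (Nv + c * (S * Nv)) * hNy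
      + d2 * c * hN + d2 * (Nv + c) * two
  have E4 : c * (d * (c * Nu)) = c * Nv := by
    linear_combination (c ^ 2 * Nu) * E1 - (1 + c * Sy) * E3 + c ^ 2 * hNy +
      (c ^ 2 + c ^ 3 * Nu) * two
  exact mul_left_cancel₀ hc E4

end Tor

end Cfsg.Agent.Lib.SplitRankOne70
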