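import Cfsg.Agent.Lib.SplitRankOne70.SLAct

/-!
`Q = Z`: the subgroup `L` is `PSL₂(q)`. If `|Q| = q²`, `r ∉ Z`; if `|Q| = q³` and `r ∈ Z`, the image of
`SL₂(q)` is regular on the points outside the circle.
-/

set_option autoImplicit false
set_option linter.unusedSectionVars false
set_option linter.style.haveILetI false

namespace Cfsg.Agent.Lib.SplitRankOne70

open Cfsg MulAction Cfsg.Agent.Lib.RankOne
open scoped MatrixGroups

universe u v

theorem card_SL2_eq {F : Type} [Field F] [Fintype F] [CharP F 2] :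
    Nat.card SL(2, F) = Fintype.card F * (Fintype.card F ^ 2 - 1) := by
  classical
  let f : (F × Fˣ) ⊕ (F × Fˣ × F) → SL(2, F) :=
    Sum.elim (fun p => mU p.1 * mD p.2) (fun p => mU p.1 * mD p.2.1 * mT * mU p.2.2)
  have hf : Function.Bijective f := by
    constructor
    · rintro (⟨c, l⟩ | ⟨c, l, d⟩) (⟨c', l'⟩ | ⟨c', l', d'⟩) e
      · have e0 := congrArg (fun M : SL(2, F) => M 0 0) e
        have e1 := congrArg (fun M : SL(2, F) => M 0 1) e
        simp [f, mul_00, mul_01] at e0 e1
        obtain rfl := Units.ext e0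
        simp at e1
        rw [e1]
      · have e0 := congrArg (fun M : SL(2, F) => M 1 0) e
        simp [f, mul_10, mul_11] at e0
        exact absurd e0.symm l'.ne_zero
      · have e0 := congrArg (fun M : SL(2, F) => M 1 0) e
        simp [f, mul_10, mul_11] at e0
      · have e0 := congrArg (fun M : SL(2, F) => M 1 0) e
        have e1 := congrArg (fun M : SL(2, F) => M 0 0) e
        have e2 := congrArg (fun M : SL(2, F) => M 1 1) e
        simp [f, mul_00, mul_01, mul_10, mul_11] at e0 e1 e2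
        obtain rfl := Units.ext e0
        simp at e1 e2
        rw [e1, e2]
    · intro M
      rcases decomp_mat M with ⟨h0, -, e⟩ | ⟨hc, e⟩
      · exact ⟨.inl (_, _), e.symm⟩
      · exact ⟨.inr (_, _, _), e.symm⟩
  rw [← Nat.card_eq_of_bijective f hf, Nat.card_sum, Nat.card_prod, Nat.card_prod, Nat.card_prod,
    Nat.card_units, Nat.card_eq_fintype_card]
  obtain ⟨m, hm⟩ : ∃ m, Fintype.card F = m + 1 := ⟨_, (Nat.succ_pred_eq_of_pos Fintype.card_pos).symm⟩
  rw [hm, Nat.add_sub_cancel, show (m + 1) ^ 2 - 1 = m * (m + 2) by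
    rw [show (m + 1) ^ 2 = m * (m + 2) + 1 by ring, Nat.add_sub_cancel]]
  ring

variable {G : Type u} {Ω : Type v} [Group G] [MulAction G Ω] [Finite G] {a : Ω} {t : G}
  {Q : Subgroup G} {h : Setup a t Q} {F : Type} [Field F] [Fintype F] [CharP F 2] (Φ : ZField h F)
  (hr : h.rElt ∈ h.zSub)

include Φ hr

theorem ZField.rho_mem (M : SL(2, F)) : Φ.rho M ∈ lSub t Q := by
  have hz : ∀ c, Φ.e c ∈ lSub t Q := fun c => Q_le_lSub (h.zSub_le (Φ.mem c))
  have hk : ∀ l, Φ.kl l ∈ lSub t Q := fun l => h.kSub_le_lSub (Φ.kl_mem l)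
  rcases decomp_mat M with ⟨h0, hc, -⟩ | ⟨hc, -⟩
  · rw [Φ.rho_upper hc h0]; exact mul_mem (hz _) (hk _)
  · rw [Φ.rho_lower hc]; exact mul_mem (mul_mem (mul_mem (hz _) (hk _)) t_mem_lSub) (hz _)

theorem ZField.nonempty_psl (hQ : Q ≤ h.zSub) :
    Nonempty (lSub t Q ≃* Matrix.ProjectiveSpecialLinearGroup (Fin 2) F) := by
  classical
  let φ : SL(2, F) →* lSub t Q := (Φ.rhoHom hr).codRestrict _ (Φ.rho_mem hr)
  have hφ : Function.Bijective φ := by
    refine ⟨(injective_iff_map_eq_one φ).2 fun M e => Φ.rho_eq_one hr (congrArg Subtype.val e),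
      fun l => ?_⟩
    have hle : lSub t Q ≤ (Φ.rhoHom hr).range := (Subgroup.closure_le _).2 (by
      rintro g (hg | hg)
      · obtain ⟨c, rfl⟩ := (Φ.e_mem g).1 (hQ hg)
        exact ⟨mU c, Φ.rho_mU hr c⟩
      · rw [Set.mem_singleton_iff] at hg
        subst hg
        exact ⟨mT, Φ.rho_mT hr⟩)
    obtain ⟨M, hM⟩ := hle l.2
    exact ⟨M, Subtype.ext hM⟩
  have hbot : Subgroup.center SL(2, F) = ⊥ := by
    rw [Subgroup.eq_bot_iff_forall]
    intro M hM
    have e1 := Subgroup.mem_center_iff.1 hM (mU 1)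
    have e2 := Subgroup.mem_center_iff.1 hM mT
    have h00 := congrArg (fun N : SL(2, F) => N 0 0) e1
    have t01 := congrArg (fun N : SL(2, F) => N 0 1) e2
    have t00 := congrArg (fun N : SL(2, F) => N 0 0) e2
    simp [mul_00, mul_01] at h00 t01 t00
    have hd := det_two M
    rw [h00, mul_zero, add_zero, t01] at hd
    have h1 : M 0 0 = 1 := CharTwo.add_eq_zero.1 (mul_self_eq_zero.1 (by
      rw [CharTwo.add_mul_self, hd, one_mul, CharTwo.add_self_eq_zero]))
    refine mat_ext h1 ?_ h00 ?_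
    · rw [← t00, h00]; rfl
    · rw [t01, h1]; rfl
  exact ⟨(MulEquiv.ofBijective φ hφ).symm.trans
    (QuotientGroup.quotientBot.symm.trans (QuotientGroup.quotientMulEquivOfEq hbot.symm))⟩

/-- The map from `SL₂(F)` to the points outside the circle given by a point. -/
theorem ZField.orbit_injective {c : Ω} (hout : ∀ o, c ≠ Φ.circle o) :
    Function.Injective fun M : SL(2, F) => Φ.rho M • c := by
  intro M N e
  have e' : Φ.rho (N⁻¹ * M) • c = c := by
    have e'' : Φ.rho M • c = Φ.rho N • c := e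
    rw [Φ.rho_mul hr, mul_smul, e'', ← mul_smul, ← Φ.rho_mul hr, inv_mul_cancel, Φ.rho_one hr,
      one_smul]
  by_contra hne
  exact Φ.semiregular hr (fun h1 => hne (inv_mul_eq_one.1 h1).symm) hout e'

theorem ZField.point_outside {x : G} (hx : x ∈ Q) (hxZ : x ∉ h.zSub) :
    ∀ o, x • t • a ≠ Φ.circle o := by
  rintro (_ | y) e
  · exact h.q_pt_ne hx e
  · exact hxZ ((h.q_pt_inj hx (h.zSub_le (Φ.mem y)) e) ▸ Φ.mem y)

theorem ZField.card_le {x : G} (hx : x ∈ Q) (hxZ : x ∉ h.zSub) :
    Fintype.card F * (Fintype.card F ^ 2 - 1) + Fintype.card F ≤ Nat.card Q := by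
  classical
  haveI : Finite Ω := finite_points h.hS
  let g : SL(2, F) ⊕ Option F → Ω := Sum.elim (fun M => Φ.rho M • x • t • a) Φ.circle
  have hg : Function.Injective g := by
    rintro (M | o) (N | o') e
    · exact congrArg Sum.inl (Φ.orbit_injective hr (Φ.point_outside hr hx hxZ) e)
    · exact absurd e (Φ.outside hr (Φ.point_outside hr hx hxZ) o')
    · exact absurd e.symm (Φ.outside hr (Φ.point_outside hr hx hxZ) o)
    · exact congrArg Sum.inr (Φ.circle_injective e)
  have := Nat.card_le_card_of_injective g hg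
  rw [card_points h.hS, Nat.card_sum, card_SL2_eq, Finite.card_option, Nat.card_eq_fintype_card (α := F)] at this
  omega

theorem ZField.no_square : Nat.card Q ≠ Nat.card h.zSub ^ 2 := by
  intro e
  obtain ⟨x, hx, hxZ⟩ : ∃ x ∈ Q, x ∉ h.zSub := by
    by_contra hno
    push Not at hno
    have : Nat.card Q ≤ Nat.card h.zSub := Subgroup.card_le_of_le hno
    have := h.four_le_card_zSub
    nlinarith
  have := Φ.card_le hr hx hxZ
  rw [e, Φ.card_eq] at this
  have h4 : 4 ≤ Fintype.card F := Φ.card_eq ▸ h.four_le_card_zSub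
  obtain ⟨q, hq⟩ : ∃ q, Fintype.card F = q := ⟨_, rfl⟩
  rw [hq] at this h4
  have h5 : q ^ 2 ≤ q * (q ^ 2 - 1) := by
    rw [pow_two]
    exact Nat.mul_le_mul_left q (by have : q * 2 ≤ q * q := Nat.mul_le_mul_left q (by omega); omega)
  omega

theorem ZField.regular_outside (hQ : Nat.card Q = Nat.card h.zSub ^ 3) {c0 : Ω}
    (hout : ∀ o, c0 ≠ Φ.circle o) {c : Ω} (hc : ∀ o, c ≠ Φ.circle o) :
    ∃ M : SL(2, F), Φ.rho M • c0 = c := by
  classical
  haveI : Finite Ω := finite_points h.hS
  let g : SL(2, F) ⊕ Option F → Ω := Sum.elim (fun M => Φ.rho M • c0) Φ.circle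
  have hg : Function.Injective g := by
    rintro (M | o) (N | o') e
    · exact congrArg Sum.inl (Φ.orbit_injective hr hout e)
    · exact absurd e (Φ.outside hr hout o')
    · exact absurd e.symm (Φ.outside hr hout o)
    · exact congrArg Sum.inr (Φ.circle_injective e)
  have hb : Function.Bijective g := hg.bijective_of_nat_card_le (by
    rw [card_points h.hS, Nat.card_sum, card_SL2_eq, Finite.card_option, Nat.card_eq_fintype_card (α := F),
      hQ, Φ.card_eq, Nat.mul_sub_one, show Fintype.card F * Fintype.card F ^ 2 = Fintype.card F ^ 3 by ring]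
    have : Fintype.card F ≤ Fintype.card F ^ 3 := Nat.le_self_pow (by norm_num) _
    omega)
  obtain ⟨(M | o), e⟩ := hb.2 c
  · exact ⟨M, e⟩
  · exact absurd e.symm (hc o)

end Cfsg.Agent.Lib.SplitRankOne70
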