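import Cfsg.Agent.Lib.SplitRankOne70.Torus
import Cfsg.Agent.Lib.BoundedPresentation.U3.Field

/-!
An anisotropic binary quadratic form in characteristic two is a norm form of the quadratic extension.
-/

set_option autoImplicit false
set_option linter.unusedSectionVars false
set_option linter.style.haveILetI false

namespace Cfsg.Agent.Lib.SplitRankOne70

open Polynomial
open Cfsg.Agent.Lib.BoundedPresentation

/-- Coordinates making a quadratic form the norm form. -/
structure NormCoord (F : Type) [Field F] [Fintype F] [CharP F 2] (p r : F)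
    (E : Type) [Field E] [Fintype E] where
  D : U3.UData E
  q_eq : D.q = Fintype.card F
  ι : F →+* E
  ι_fix : ∀ x, D.σ (ι x) = ι x
  fix_ι : ∀ y, D.σ y = y → ∃ x, ι x = y
  κ : F × F → E
  κ_bij : Function.Bijective κ
  κ_add : ∀ u v, κ (u + v) = κ u + κ v
  κ_smul : ∀ (l : F) v, κ (l • v) = ι l * κ v
  κ_norm : ∀ v, κ v * D.σ (κ v) = ι (qform p r v)
  κ_tr : ∀ u v, κ u * D.σ (κ v) + D.σ (κ u) * κ v = ι (bd u v)

theorem exists_normCoord {F : Type} [Field F] [Fintype F] [CharP F 2] {p r : F}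
    (han : ∀ v : F × F, v ≠ 0 → qform p r v ≠ 0) :
    ∃ (E : Type) (_ : Field E) (_ : Fintype E) (_ : CharP E 2), Nonempty (NormCoord F p r E) := by
  classical
  have two := CharTwo.two_eq_zero (R := F)
  have hp0 : p ≠ 0 := by
    have := han (1, 0) (by simp)
    simpa [qform] using this
  obtain ⟨s0, hs0⟩ := FiniteField.isSquare_of_char_two (ringChar.eq F 2) p
  have hs00 : s0 ≠ 0 := fun e => hp0 (by rw [hs0, e, mul_zero])
  set f : F[X] := X ^ 2 + X + C (p * r) with hfdef
  have hdeg : f.natDegree = 2 := by rw [hfdef]; compute_degree!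
  have hmon : f.Monic := by rw [hfdef]; monicity!
  have hnoroot : ∀ x : F, x ^ 2 + x + p * r ≠ 0 := by
    intro x e
    refine han (x / p, 1) (by simp) ?_
    simp only [qform]
    field_simp
    linear_combination e
  have hirr : Irreducible f := by
    refine (Polynomial.irreducible_iff_roots_eq_zero_of_degree_le_three (by omega) (by omega)).2
      (Multiset.eq_zero_of_forall_notMem fun x hx => hnoroot x ?_)
    rw [mem_roots hmon.ne_zero, IsRoot, hfdef] at hx
    simpa using hx
  haveI : Fact (Irreducible f) := ⟨hirr⟩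
  let E := AdjoinRoot f
  let pb := AdjoinRoot.powerBasis (f := f) hmon.ne_zero
  haveI : Module.Finite F E := pb.finite
  haveI : Finite E := Module.finite_of_finite F
  letI : Fintype E := Fintype.ofFinite E
  have hrank : Module.finrank F E = 2 := by
    rw [pb.finrank, AdjoinRoot.powerBasis_dim, hdeg]
  have hcard : Fintype.card E = Fintype.card F ^ 2 := by
    rw [Module.card_eq_pow_finrank (K := F) (V := E), hrank]
  obtain ⟨D, hDq⟩ := U3.exists_uData hcard
  let ι : F →+* E := algebraMap F E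
  have hιfix : ∀ x, D.σ (ι x) = ι x := fun x => by
    rw [D.σ_eq, hDq, ← map_pow, FiniteField.pow_card]
  have hfix : ∀ y, D.σ y = y → ∃ x, ι x = y := by
    have hinj : Function.Injective (fun x : F => (⟨ι x, D.mem_K.2 (hιfix x)⟩ : D.K)) :=
      fun x y e => ι.injective (congrArg Subtype.val e)
    have hb := hinj.bijective_of_nat_card_le (by rw [D.natCard_K, hDq, Nat.card_eq_fintype_card])
    intro y hy
    obtain ⟨x, hx⟩ := hb.2 ⟨y, D.mem_K.2 hy⟩
    exact ⟨x, congrArg Subtype.val hx⟩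
  haveI : CharP E 2 := charP_of_injective_algebraMap ι.injective 2
  set ω : E := AdjoinRoot.root f
  have hω : ω ^ 2 + ω + ι (p * r) = 0 := by
    have h := AdjoinRoot.eval₂_root f
    simp only [hfdef, eval₂_add, eval₂_pow, eval₂_X, eval₂_C] at h
    exact h
  have two' := CharTwo.two_eq_zero (R := E)
  have hσω : D.σ ω = ω + 1 := by
    have h2 : D.σ ω ^ 2 + D.σ ω + ι (p * r) = 0 := by
      have := congrArg D.σ hω
      rwa [map_add, map_add, map_pow, map_zero, hιfix] at this
    have h3 : (D.σ ω + ω) * (D.σ ω + (ω + 1)) = 0 := by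
      linear_combination h2 + hω + (ω * D.σ ω - ι (p * r)) * two'
    rcases mul_eq_zero.1 h3 with h4 | h4
    · obtain ⟨x, hx⟩ := hfix ω (CharTwo.add_eq_zero.1 h4)
      refine absurd ?_ (hnoroot x)
      refine ι.injective ?_
      rw [map_add, map_add, map_pow, hx, map_zero, hω]
    · exact CharTwo.add_eq_zero.1 h4
  let κ : F × F → E := fun v => ι (s0 * v.1) + ι (v.2 / s0) * ω
  have hκnorm : ∀ v, κ v * D.σ (κ v) = ι (qform p r v) := by
    intro v
    simp only [κ, map_add, map_mul, hιfix, hσω, qform, map_pow, map_div₀]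
    have hp' : ι p = ι s0 * ι s0 := by rw [hs0, map_mul]
    have hs' : ι s0 ≠ 0 := (map_ne_zero ι).2 hs00
    rw [map_mul] at hω
    rw [hp'] at hω ⊢
    obtain ⟨b, hb, hb'⟩ : ∃ b, ι v.2 / ι s0 = b ∧ ι v.2 = b * ι s0 :=
      ⟨_, rfl, (div_mul_cancel₀ _ hs').symm⟩
    rw [hb, hb']
    linear_combination b ^ 2 * hω + (ι s0 * ι v.1 * b * ω - ι r * b ^ 2 * ι s0 ^ 2) * two'
  have hκinj : Function.Injective κ := by
    intro u v e
    by_contra hne
    have h1 : κ (u - v) = 0 := by
      simp only [κ, Prod.fst_sub, Prod.snd_sub, mul_sub, map_sub, sub_div] at e ⊢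
      linear_combination e
    have h2 := hκnorm (u - v)
    rw [h1, zero_mul] at h2
    exact han _ (sub_ne_zero.2 hne) (ι.injective (by rw [← h2, map_zero]))
  refine ⟨E, inferInstance, inferInstance, inferInstance, ⟨{
    D := D, q_eq := hDq, ι := ι, ι_fix := hιfix, fix_ι := hfix, κ := κ
    κ_bij := hκinj.bijective_of_nat_card_le (by
      rw [Nat.card_prod, Nat.card_eq_fintype_card, Nat.card_eq_fintype_card, hcard, pow_two])
    κ_add := fun u v => by simp only [κ, Prod.fst_add, Prod.snd_add, mul_add, map_add, add_div]; ring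
    κ_smul := fun l v => by
      simp only [κ, Prod.smul_fst, Prod.smul_snd, smul_eq_mul, mul_div_assoc, map_mul]; ring
    κ_norm := hκnorm
    κ_tr := fun u v => ?_ }⟩⟩
  simp only [κ, map_add, map_mul, hιfix, hσω, bd, map_div₀]
  have hs' : ι s0 ≠ 0 := (map_ne_zero ι).2 hs00
  obtain ⟨b, hb, hb'⟩ : ∃ b, ι u.2 / ι s0 = b ∧ ι u.2 = b * ι s0 :=
    ⟨_, rfl, (div_mul_cancel₀ _ hs').symm⟩
  obtain ⟨c, hc, hc'⟩ : ∃ c, ι v.2 / ι s0 = c ∧ ι v.2 = c * ι s0 :=
    ⟨_, rfl, (div_mul_cancel₀ _ hs').symm⟩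
  rw [hb, hb', hc, hc']
  linear_combination (ι s0 ^ 2 * ι u.1 * ι v.1 + ι s0 * ω * (ι u.1 * c + ι v.1 * b) +
    b * c * (ω ^ 2 + ω)) * two'

end Cfsg.Agent.Lib.SplitRankOne70
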