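import Cfsg.Agent.Lib.SplitRankOne70.Pairs

/-!
The pairs of irreducible characters of `G` belonging to a character of `Q / Z` with inertia group in
`V`.
-/

set_option autoImplicit false
set_option linter.unusedSectionVars false
set_option linter.style.haveILetI false

namespace Cfsg.Agent.Lib.SplitRankOne70

open Cfsg MulAction Cfsg.Agent.Lib.RankOne Cfsg.Agent.Lib.Chars Cfsg.Agent.Lib.Coherence
open scoped ComplexConjugate

universe u v w

theorem classInner_eq_zero_of_sum {L : Type u} [Group L] [Fintype L] {ι : Type w} [Fintype ι]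
    {f : ι → L → ℂ} {g : L → ℂ} (hf : ∀ i, IsCharacter L (f i)) (hg : IsCharacter L g)
    (e : classInner g (∑ i, f i) = 0) (i : ι) : classInner g (f i) = 0 := by
  choose n hn using fun i => isCharacter_classInner_nat hg (hf i)
  rw [classInner_sum_right] at e
  simp only [hn] at e
  have e' : ∑ i, n i = 0 := by exact_mod_cast e
  rw [hn, (Finset.sum_eq_zero_iff.1 e') i (Finset.mem_univ i), Nat.cast_zero]

open scoped Classical in
theorem orthonormal_of_sum {L : Type u} [Group L] [Fintype L] {ι : Type w} [Fintype ι]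
    {f : ι → L → ℂ} (hf : ∀ i, IsCharacter L (f i)) (hne : ∀ i, f i ≠ 0)
    (e : classInner (∑ i, f i) (∑ i, f i) = (Nat.card ι : ℂ)) (i l : ι) :
    classInner (f i) (f l) = if i = l then 1 else 0 := by
  choose n hn using fun i l => isCharacter_classInner_nat (hf i) (hf l)
  rw [classInner_sum_left] at e
  simp only [classInner_sum_right, hn] at e
  have e' : ∑ i, ∑ l, n i l = Fintype.card ι := by
    rw [Nat.card_eq_fintype_card] at e; exact_mod_cast e
  have hdiag : ∀ i, 1 ≤ n i i := by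
    intro i
    refine Nat.one_le_iff_ne_zero.2 fun h0 => hne i (eq_zero_of_classInner_self ?_)
    rw [hn, h0, Nat.cast_zero]
  have hrow : ∀ i, 1 ≤ ∑ l, n i l := fun i =>
    le_trans (hdiag i) (Finset.single_le_sum (fun l _ => Nat.zero_le _) (Finset.mem_univ i))
  have hrow1 : ∑ l, n i l = 1 := by
    have h1 : ∑ i, ((∑ l, n i l) - 1) = 0 := by
      have h2 : ∑ i, ((∑ l, n i l) - 1) + ∑ _i : ι, 1 = ∑ i, ∑ l, n i l := by
        rw [← Finset.sum_add_distrib]
        exact Finset.sum_congr rfl fun i _ => Nat.sub_add_cancel (hrow i)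
      rw [e', Finset.sum_const, Finset.card_univ, smul_eq_mul, mul_one] at h2
      omega
    have := (Finset.sum_eq_zero_iff.1 h1) i (Finset.mem_univ i)
    have := hrow i
    omega
  rw [← Finset.add_sum_erase _ _ (Finset.mem_univ i)] at hrow1
  have hii : n i i = 1 := by
    have := hdiag i
    omega
  rw [hn]
  split
  · next h0 => subst h0; rw [hii, Nat.cast_one]
  · next h0 =>
    have h3 : ∑ l ∈ Finset.univ.erase i, n i l = 0 := by omega
    rw [(Finset.sum_eq_zero_iff.1 h3) l (Finset.mem_erase.2 ⟨Ne.symm h0, Finset.mem_univ _⟩),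
      Nat.cast_zero]

variable {G : Type u} {Ω : Type v} [Group G] [MulAction G Ω]

/-- A pair of irreducible characters attached to a component of `f₀ - f₁`. -/
def IsPair [Fintype G] (a : Ω) [Fintype (stabilizer G a)] (f₀ f₁ : stabilizer G a → ℂ)
    (p : IrrCharacter G × IrrCharacter G) : Prop :=
  ∃ A A' : stabilizer G a → ℂ, IsCharacter _ A ∧ IsCharacter _ A' ∧ VanishTwo a (A - A') ∧
    lift a (A - A') = (p.1 : G → ℂ) - (p.2 : G → ℂ) ∧
    classInner f₀ A = 1 ∧ classInner f₀ A' = 0 ∧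
    (∀ f, IsCharacter _ f → classInner f f₀ = 0 → classInner f A = 0) ∧
    ∀ f, IsCharacter _ f → classInner f f₁ = 0 → classInner f A' = 0

/-- Members of pairs. -/
def pairMem {α : Type*} (p : α × α) (b : Bool) : α := bif b then p.1 else p.2

namespace Setup

variable [Fintype G] {a : Ω} {t : G} {Q : Subgroup G} [Fintype (stabilizer G a)] [Fintype Q]
  [Fintype (twoStab a t)] (h : Setup a t Q)
include h

theorem classInner_lift_pair {f₀ f₁ : stabilizer G a → ℂ} {p : IrrCharacter G × IrrCharacter G}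
    (hp : IsPair a f₀ f₁ p) {g g' : stabilizer G a → ℂ} (hg : IsCharacter _ g)
    (hg' : IsCharacter _ g') (hv : VanishTwo a (g - g')) (h00 : classInner g f₀ = 0)
    (h01 : classInner g f₁ = 0) (h10 : classInner g' f₀ = 0) (h11 : classInner g' f₁ = 0) :
    classInner (lift a (g - g')) ((p.1 : G → ℂ) - (p.2 : G → ℂ)) = 0 := by
  obtain ⟨A, A', hA, hA', hAv, hlift, -, -, hd, hd'⟩ := hp
  rw [← hlift, h.classInner_lift hv hAv
    (isClassFunction_sub (isClassFunction_of_isCharacter hA) (isClassFunction_of_isCharacter hA'))]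
  simp only [classInner_sub_left, classInner_sub_right, hd g hg h00, hd g' hg' h10,
    hd' g hg h01, hd' g' hg' h11, sub_zero]

theorem pair_one_eq {f₀ f₁ : stabilizer G a → ℂ} {p : IrrCharacter G × IrrCharacter G}
    (hp : IsPair a f₀ f₁ p) : dg p.1 = dg p.2 := by
  obtain ⟨A, A', -, -, hAv, hlift, -⟩ := hp
  have e := congrFun hlift 1
  rw [h.lift_one hAv, Pi.sub_apply, dg_eq, dg_eq, eq_comm, sub_eq_zero] at e
  exact_mod_cast e

theorem pair_disjoint {f₀ f₁ g₀ g₁ : stabilizer G a → ℂ}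
    {p r : IrrCharacter G × IrrCharacter G} (hp : IsPair a f₀ f₁ p) (hr : IsPair a g₀ g₁ r)
    (hpn : p.1 ≠ p.2) (hrn : r.1 ≠ r.2)
    (e : classInner ((p.1 : G → ℂ) - (p.2 : G → ℂ)) ((r.1 : G → ℂ) - (r.2 : G → ℂ)) = 0)
    (b c : Bool) : pairMem p b ≠ pairMem r c := by
  have hne : ∀ {x y : IrrCharacter G}, classInner (x : G → ℂ) (y : G → ℂ) = 0 → x ≠ y := by
    rintro x y e' rfl
    rw [classInner_irr_self] at e'
    exact one_ne_zero e'
  obtain ⟨h1, h2, h3, h4⟩ := orth_of_balanced (A := (p.1 : G → ℂ)) (B := (p.2 : G → ℂ))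
    (C := (r.1 : G → ℂ)) (D := (r.2 : G → ℂ)) (Or.inl p.1.2) (Or.inl p.2.2) (Or.inl r.1.2)
    (Or.inl r.2.2) (p := 1) (q := 1) (u := 1) (v := 1) one_ne_zero one_ne_zero one_ne_zero
    one_ne_zero (classInner_irr_of_ne hpn) (classInner_irr_of_ne hrn)
    (by simpa using e)
    (by simp only [Complex.ofReal_one, one_mul, dg_eq, h.pair_one_eq hp])
    (by simp only [Complex.ofReal_one, one_mul, dg_eq, h.pair_one_eq hr])
  cases b <;> cases c <;> simp only [pairMem, cond_true, cond_false]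
  · exact hne h4
  · exact hne h3
  · exact hne h2
  · exact hne h1

theorem classInner_qInd_self (χ : IrrCharacter Q) :
    classInner (qInd a Q (χ : Q → ℂ)) (qInd a Q (χ : Q → ℂ)) =
      (Nat.card (h.stabCj (χ : Q → ℂ)) : ℂ) := by
  classical
  rw [h.classInner_qInd (irr_isClassFunction χ) (irr_isClassFunction χ)]
  have e : ∀ d, classInner (χ : Q → ℂ) (h.cj d (χ : Q → ℂ)) =
      if d ∈ h.stabCj (χ : Q → ℂ) then 1 else 0 := by
    intro d
    have e1 := classInner_irr χ (⟨_, h.cj_irr d χ.2⟩ : IrrCharacter Q)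
    rw [e1]
    refine if_congr ⟨fun e2 => (congrArg Subtype.val e2).symm, fun e2 => Subtype.ext ?_⟩ rfl rfl
    exact (h.mem_stabCj.1 e2).symm
  rw [Finset.sum_congr rfl fun d _ => e d, Finset.sum_boole, Nat.card_eq_fintype_card,
    Fintype.card_subtype]

theorem classInner_qInd_eq_zero {φ ψ : Q → ℂ} (hφ : IsIrrCharacter Q φ)
    (hψ : IsIrrCharacter Q ψ) (hne : ∀ d : twoStab a t, h.cj d ψ ≠ φ) :
    classInner (qInd a Q φ) (qInd a Q ψ) = 0 := by
  rw [h.classInner_qInd (isClassFunction_of_isCharacter (isCharacter_of_isIrrCharacter hφ))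
    (isClassFunction_of_isCharacter (isCharacter_of_isIrrCharacter hψ))]
  refine Finset.sum_eq_zero fun d _ => ?_
  exact classInner_irr_of_ne (χ := ⟨φ, hφ⟩) (ψ := ⟨_, h.cj_irr d hψ⟩)
    fun e => hne d (congrArg Subtype.val e).symm

theorem classInner_symm_zero {L : Type u} [Group L] [Fintype L] {f g : L → ℂ}
    (e : classInner f g = 0) : classInner g f = 0 := by
  rw [← conj_classInner, e, map_zero]

/-- The system of pairs of a character with inertia group `I`. -/
theorem exists_pairSystem (χ : IrrCharacter Q) [IsCyclic (h.stabCj (χ : Q → ℂ))] (ξ : Q →* ℂˣ)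
    (hξ : ∀ d ∈ h.stabCj (χ : Q → ℂ), ∀ x : Q, ξ (h.qConj d x) = ξ x)
    (hstab : ∀ d, h.cj d (fun x => (χ : Q → ℂ) x * (ξ x : ℂ)) =
      (fun x => (χ : Q → ℂ) x * (ξ x : ℂ)) → d ∈ h.stabCj (χ : Q → ℂ))
    (horth : ∀ d, h.cj d (fun x => (χ : Q → ℂ) x * (ξ x : ℂ)) ≠ (χ : Q → ℂ))
    {δ : ℤ} (hδ : qInd a Q (χ : Q → ℂ) ⟨h.sElt, h.s_mem.1⟩ -
      qInd a Q (fun x => (χ : Q → ℂ) x * (ξ x : ℂ)) ⟨h.sElt, h.s_mem.1⟩ = δ) (hδ0 : δ ≠ 0) :
    ∃ P : Finset (IrrCharacter G × IrrCharacter G),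
      P.card = Nat.card (h.stabCj (χ : Q → ℂ)) ∧
      (∀ p ∈ P, p.1 ≠ p.2 ∧ IsPair a (qInd a Q (χ : Q → ℂ))
        (qInd a Q fun x => (χ : Q → ℂ) x * (ξ x : ℂ)) p) ∧
      (∀ p ∈ P, ∀ r ∈ P, p ≠ r → ∀ b c, pairMem p b ≠ pairMem r c) ∧
      ∀ p ∈ P, ∃ δp : ℤ, δp * P.card = δ ∧
        2 * (tv t p.1 : ℝ) = h.kap * dg p.1 + δp ∧ 2 * (tv t p.2 : ℝ) = h.kap * dg p.2 - δp := by
  classical
  set η : Q → ℂ := fun x => (χ : Q → ℂ) x * (ξ x : ℂ) with hηdef
  have hη : IsIrrCharacter Q η := by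
    simpa [hηdef, mul_comm] using isIrrCharacter_hom_mul ξ χ.2
  have hηstab : Nat.card (h.stabCj η) = Nat.card (h.stabCj (χ : Q → ℂ)) := by
    congr 2
    ext d
    exact ⟨fun e => hstab d e, fun e => h.mem_stabCj.2 (funext fun x => by
      have e1 := congrFun (h.mem_stabCj.1 e) x
      simp only [Setup.cj] at e1 ⊢
      simp only [hηdef, e1, hξ d e x])⟩
  obtain ⟨J, _, A, A', hcard, hA, hs, hsum, hsum'⟩ :=
    h.exists_pairs χ (h.stabCj (χ : Q → ℂ)) (fun d hd => h.mem_stabCj.1 hd) ξ hξ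
  have hne : ∀ j, A j ≠ 0 := fun j e => (hA j).2.2.2.1 (by rw [e]; rfl)
  have hne' : ∀ j, A' j ≠ 0 := fun j e => (hA j).2.2.2.1 (by
    rw [(hA j).2.2.1, e]; rfl)
  have h0 : ∀ i l, classInner (A i) (A l) = if i = l then 1 else 0 :=
    orthonormal_of_sum (fun j => (hA j).1) hne (by
      rw [hsum, h.classInner_qInd_self χ, hcard])
  have h1 : ∀ i l, classInner (A' i) (A' l) = if i = l then 1 else 0 :=
    orthonormal_of_sum (fun j => (hA j).2.1) hne' (by
      rw [hsum', h.classInner_qInd_self ⟨η, hη⟩, hcard, ← hηstab])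
  have h01 : ∀ i l, classInner (A i) (A' l) = 0 := by
    intro i l
    have e1 : classInner (qInd a Q η) (qInd a Q (χ : Q → ℂ)) = 0 :=
      h.classInner_qInd_eq_zero hη χ.2 fun d e => by
        refine horth d⁻¹ ?_
        show h.cj d⁻¹ η = _
        rw [← e, ← h.cj_mul, inv_mul_cancel, h.cj_one]
    rw [← hsum, ← hsum'] at e1
    have e2 : classInner (∑ l, A' l) (A i) = 0 :=
      classInner_eq_zero_of_sum (fun j => (hA j).1)
        (isCharacter_sum _ fun j _ => (hA j).2.1) e1 i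
    exact classInner_eq_zero_of_sum (fun j => (hA j).2.1) (hA i).1
      (classInner_symm_zero h e2) l
  have h10 : ∀ i l, classInner (A' i) (A l) = 0 := fun i l => classInner_symm_zero h (h01 l i)
  have hnorm : ∀ i l, classInner (lift a (A i - A' i)) (lift a (A l - A' l)) =
      if i = l then 2 else 0 := by
    intro i l
    rw [h.classInner_lift (hA i).2.2.2.2 (hA l).2.2.2.2 (isClassFunction_sub
      (isClassFunction_of_isCharacter (hA l).1) (isClassFunction_of_isCharacter (hA l).2.1))]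
    simp only [classInner_sub_left, classInner_sub_right, h0, h1, h01, h10]
    split <;> norm_num
  have hgen : ∀ j, IsGeneralizedCharacter G (lift a (A j - A' j)) := fun j =>
    lift_isGeneralized ⟨A j, A' j, (hA j).1, (hA j).2.1, rfl⟩
  choose μ ν hμν hlift using fun j => norm_two_eq_sub (hgen j)
    (by rw [hnorm]; simp) (h.lift_one (hA j).2.2.2.2)
  have hpair : ∀ j, IsPair a (qInd a Q (χ : Q → ℂ)) (qInd a Q η) (μ j, ν j) := by
    intro j
    refine ⟨A j, A' j, (hA j).1, (hA j).2.1, (hA j).2.2.2.2, hlift j, ?_, ?_, ?_, ?_⟩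
    · rw [← hsum, classInner_sum_left]
      simp [h0]
    · rw [← hsum, classInner_sum_left]
      simp [h01]
    · intro f hf e
      rw [← hsum] at e
      exact classInner_eq_zero_of_sum (fun j => (hA j).1) hf e j
    · intro f hf e
      rw [← hsum'] at e
      exact classInner_eq_zero_of_sum (fun j => (hA j).2.1) hf e j
  have hdisj : ∀ i l, i ≠ l → ∀ b c, pairMem (μ i, ν i) b ≠ pairMem (μ l, ν l) c := by
    intro i l hil
    refine h.pair_disjoint (hpair i) (hpair l) (hμν i) (hμν l) ?_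
    rw [← hlift i, ← hlift l, hnorm, if_neg hil]
  have hinj : Function.Injective fun j => (μ j, ν j) := fun i l e => by
    by_contra hil
    exact hdisj i l hil true true (by simp only at e; rw [e])
  refine ⟨Finset.univ.image fun j => (μ j, ν j), ?_, ?_, ?_, ?_⟩
  · rw [Finset.card_image_of_injective _ hinj, Finset.card_univ, ← Nat.card_eq_fintype_card,
      hcard]
  · intro p hp
    obtain ⟨j, -, rfl⟩ := Finset.mem_image.1 hp
    exact ⟨hμν j, hpair j⟩
  · intro p hp r hr hpr
    obtain ⟨i, -, rfl⟩ := Finset.mem_image.1 hp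
    obtain ⟨l, -, rfl⟩ := Finset.mem_image.1 hr
    exact hdisj i l fun e => hpr (by rw [e])
  · intro p hp
    obtain ⟨j, -, rfl⟩ := Finset.mem_image.1 hp
    set σ : stabilizer G a := ⟨h.sElt, h.s_mem.1⟩
    have hσ : σ * σ = 1 := Subtype.ext (h.z_sq h.s_mem)
    obtain ⟨k₀, hk₀⟩ := exists_int_of_involution (hA j).1 hσ
    obtain ⟨k₁, hk₁⟩ := exists_int_of_involution (hA j).2.1 hσ
    have hδp : (k₀ - k₁) * ((Finset.univ.image fun j => (μ j, ν j)).card : ℤ) = δ := by
      have e : ((((k₀ - k₁) * ((Finset.univ.image fun j => (μ j, ν j)).card : ℤ)) : ℤ) : ℂ) =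
          (δ : ℂ) := by
        rw [← hδ, ← hsum, ← hsum', Finset.card_image_of_injective _ hinj]
        push_cast
        simp only [Finset.sum_apply]
        rw [Finset.sum_congr rfl (fun l _ => (hs l j).1),
          Finset.sum_congr rfl (fun l _ => (hs l j).2), hk₀, hk₁]
        simp only [Finset.sum_const, nsmul_eq_mul]
        ring
      exact_mod_cast e
    refine ⟨k₀ - k₁, hδp, ?_⟩
    have hδ' : k₀ - k₁ ≠ 0 := fun e => hδ0 (by rw [← hδp, e, zero_mul])
    have hcl : IsClassFunction (stabilizer G a) (A j - A' j) := isClassFunction_sub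
      (isClassFunction_of_isCharacter (hA j).1) (isClassFunction_of_isCharacter (hA j).2.1)
    obtain ⟨e1, e2, e3⟩ := h.lift_equations hcl (hA j).2.2.2.2 (δ := k₀ - k₁)
      (by rw [Pi.sub_apply, hk₀, hk₁]; push_cast; ring) (Finset.univ : Finset Bool)
      (fun b => bif b then 1 else -1) (fun b => bif b then μ j else ν j) (by
        rw [hlift j, Fintype.sum_bool]
        simp [sub_eq_add_neg])
    simp only [Fintype.sum_bool, cond_true, cond_false] at e1 e2 e3
    have e1' : (dg (ν j) : ℝ) = dg (μ j) := by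
      have : (dg (ν j) : ℤ) = dg (μ j) := by omega
      exact_mod_cast this
    have e2' : (tv t (μ j) : ℝ) - tv t (ν j) = ((k₀ - k₁ : ℤ) : ℝ) := by
      rw [← e2]; push_cast; ring
    have hd : (0 : ℝ) < dg (μ j) := by exact_mod_cast dg_pos _
    have hδr : ((k₀ - k₁ : ℤ) : ℝ) ≠ 0 := by exact_mod_cast hδ'
    push_cast at e3
    rw [e1'] at e3
    have e4 : (tv t (μ j) : ℝ) + tv t (ν j) = h.kap * dg (μ j) := by
      refine mul_left_cancel₀ hδr ?_
      rw [← e2']
      field_simp at e3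
      push_cast at e2'
      rw [← e2'] at e3
      linarith [e3]
    constructor
    · show 2 * (tv t (μ j) : ℝ) = h.kap * dg (μ j) + ((k₀ - k₁ : ℤ) : ℝ)
      linarith
    · show 2 * (tv t (ν j) : ℝ) = h.kap * dg (ν j) - ((k₀ - k₁ : ℤ) : ℝ)
      rw [e1']
      linarith

end Setup

end Cfsg.Agent.Lib.SplitRankOne70
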