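import Cfsg.Agent.Lib.SplitRankOne70.Inertia

/-!
The linear character `ξ` of `Q` and the two families of characters of `G_a` lying over an
irreducible character of `Q / Z` with inertia group in `V`.
-/

set_option autoImplicit false
set_option linter.unusedSectionVars false
set_option linter.style.haveILetI false

namespace Cfsg.Agent.Lib.SplitRankOne70

open Cfsg MulAction Cfsg.Agent.Lib.RankOne Cfsg.Agent.Lib.Chars
open scoped ComplexConjugate Pointwise

universe u v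

variable {G : Type u} {Ω : Type v} [Group G] [MulAction G Ω]

namespace Setup

section finite

variable [Finite G] {a : Ω} {t : G} {Q : Subgroup G} (h : Setup a t Q)
include h

theorem two_mem_center (hab : TwoAbelian Q) {x : Q} (hx : ∃ i : ℕ, (x : G) ^ 2 ^ i = 1) :
    x ∈ Subgroup.center Q := by
  rw [Subgroup.mem_center_iff]
  intro y
  obtain ⟨i, hi⟩ := hx
  have hnil := nilpotent_Q h.hS h.h2
  obtain ⟨k, m, hm, hk⟩ := Nat.exists_eq_two_pow_mul_odd (n := orderOf y) (orderOf_pos y).ne'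
  have h1 : Commute x (y ^ m) := by
    refine Subtype.ext (hab x x.2 (y ^ m : Q) (y ^ m).2 ⟨i, hi⟩ ⟨k, ?_⟩)
    rw [← Subgroup.coe_pow, ← pow_mul, mul_comm, ← hk, pow_orderOf_eq_one]
    rfl
  have h2 : Commute x (y ^ 2 ^ k) := by
    refine NilpotentPerm.commute_of_coprime_orderOf hnil ?_
    have hx2 : orderOf x ∣ 2 ^ i := orderOf_dvd_of_pow_eq_one (Subtype.ext hi)
    have hy2 : orderOf (y ^ 2 ^ k) ∣ m := orderOf_dvd_of_pow_eq_one (by
      rw [← pow_mul, ← hk, pow_orderOf_eq_one])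
    exact Nat.Coprime.coprime_dvd_left hx2 (Nat.Coprime.coprime_dvd_right hy2
      (Nat.Coprime.pow_left i (Nat.coprime_two_left.2 hm)))
  have hg : Nat.gcd m (2 ^ k) = 1 := Nat.Coprime.pow_right k (Nat.coprime_two_right.2 hm)
  have e : y = (y ^ m) ^ Nat.gcdA m (2 ^ k) * (y ^ 2 ^ k) ^ Nat.gcdB m (2 ^ k) := by
    rw [← zpow_natCast y m, ← zpow_natCast y (2 ^ k), ← zpow_mul, ← zpow_mul, ← zpow_add,
      ← Nat.gcd_eq_gcd_ab, hg, Nat.cast_one, zpow_one]
  rw [e]
  exact ((h1.zpow_right _).mul_right (h2.zpow_right _)).eq.symm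

theorem exists_xi (hab : TwoAbelian Q) : ∃ ξ : Q →* ℂˣ,
    (ξ ⟨h.sElt, h.zSub_le h.s_mem⟩ : ℂ) = -1 ∧
      ∀ d : twoStab a t, (d : G) ∈ vSub a t → ∀ x : Q, ξ (h.qConj d x) = ξ x := by
  classical
  have hodd : Odd (Subgroup.center Q).index := by
    rw [← Nat.not_even_iff_odd, even_iff_two_dvd]
    intro h2
    haveI : Fact (Nat.Prime 2) := ⟨Nat.prime_two⟩
    rw [Subgroup.index_eq_card] at h2
    obtain ⟨x, hx⟩ := exists_prime_orderOf_dvd_card' 2 h2
    obtain ⟨x, rfl⟩ := QuotientGroup.mk_surjective x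
    have hx1 : x ∉ Subgroup.center Q := fun e => by
      rw [(QuotientGroup.eq_one_iff x).2 e, orderOf_one] at hx
      omega
    have hx2 : x * x ∈ Subgroup.center Q := by
      rw [← QuotientGroup.eq_one_iff, QuotientGroup.mk_mul, ← pow_two, ← hx, pow_orderOf_eq_one]
    obtain ⟨k, m, hm, hk⟩ := Nat.exists_eq_two_pow_mul_odd (n := orderOf x) (orderOf_pos x).ne'
    have hxm : x ^ m ∈ Subgroup.center Q := h.two_mem_center hab ⟨k, by
      rw [← Subgroup.coe_pow, ← pow_mul, mul_comm, ← hk, pow_orderOf_eq_one]; rfl⟩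
    obtain ⟨j, rfl⟩ := hm
    refine hx1 ?_
    have e : x = ((x * x) ^ j)⁻¹ * x ^ (2 * j + 1) := by
      rw [← pow_two, ← pow_mul, pow_succ, inv_mul_cancel_left]
    rw [e]
    exact mul_mem (inv_mem (pow_mem hx2 j)) hxm
  set s' : Q := ⟨h.sElt, h.zSub_le h.s_mem⟩
  have hsc : s' ∈ Subgroup.center Q := Subgroup.mem_center_iff.2 fun y =>
    Subtype.ext (h.z_central h.s_mem y.2).symm
  letI : CommGroup (Subgroup.center Q) :=
    { (inferInstance : Group (Subgroup.center Q)) with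
      mul_comm := fun x y => Subtype.ext (Subgroup.mem_center_iff.1 y.2 x) }
  have hs1 : (⟨s', hsc⟩ : Subgroup.center Q) ≠ 1 := fun e =>
    h.s_ne (congrArg (fun z : Subgroup.center Q => ((z : Q) : G)) e)
  obtain ⟨χ, hχ⟩ := CommGroup.exists_apply_ne_one_of_hasEnoughRootsOfUnity
    (Subgroup.center Q) ℂ hs1
  set χ' : Q →* ℂˣ := χ.comp (MonoidHom.transferCenterPow Q) with hχ'
  have hχs : (χ' s' : ℂ) = -1 := by
    have e : MonoidHom.transferCenterPow Q s' = ⟨s', hsc⟩ := by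
      refine Subtype.ext ?_
      rw [MonoidHom.transferCenterPow_apply]
      obtain ⟨j, hj⟩ := hodd
      rw [hj, pow_succ, pow_mul, pow_two]
      rw [show s' * s' = 1 from Subtype.ext (h.z_sq h.s_mem), one_pow, one_mul]
    rw [hχ', MonoidHom.comp_apply, e]
    have h2 : (χ ⟨s', hsc⟩ : ℂ) ^ 2 = 1 := by
      rw [← Units.val_pow_eq_pow_val, ← map_pow, pow_two,
        show (⟨s', hsc⟩ : Subgroup.center Q) * ⟨s', hsc⟩ = 1 from
          Subtype.ext (Subtype.ext (h.z_sq h.s_mem)), map_one, Units.val_one]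
    rcases sq_eq_one_iff.1 h2 with e' | e'
    · exact absurd (Units.ext e') hχ
    · exact e'
  set Vt : Subgroup (twoStab a t) := (vSub a t).subgroupOf (twoStab a t) with hVt
  haveI : Fintype Vt := Fintype.ofFinite _
  refine ⟨∏ v : Vt, χ'.comp (h.qConj (v : twoStab a t)).toMonoidHom, ?_, fun d hd x => ?_⟩
  · have hfix : ∀ v : Vt, (h.qConj (v : twoStab a t)) s' = s' := by
      intro v
      refine Subtype.ext ?_
      have := h.v_s (inv_mem (Subgroup.mem_subgroupOf.1 v.2))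
      simpa [qConj_coe, s'] using this
    rw [MonoidHom.finsetProd_apply, Units.coe_prod,
      Finset.prod_congr rfl (g := fun _ => (-1 : ℂ)) fun v _ => by
        rw [MonoidHom.comp_apply, MulEquiv.coe_toMonoidHom, hfix, hχs],
      Finset.prod_const, Finset.card_univ]
    refine Odd.neg_one_pow ?_
    rw [← Nat.card_eq_fintype_card]
    exact h.hS.odd_card.of_dvd_nat (Subgroup.card_subgroup_dvd_card Vt)
  · rw [MonoidHom.finsetProd_apply, MonoidHom.finsetProd_apply]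
    refine Fintype.prod_equiv (Equiv.mulLeft (⟨d, Subgroup.mem_subgroupOf.2 hd⟩ : Vt)) _ _
      fun v => ?_
    simp only [MonoidHom.comp_apply, MulEquiv.coe_toMonoidHom, Equiv.coe_mulLeft,
      Subgroup.coe_mul]
    rw [h.qConj_mul]

theorem xi_stab {ξ : Q →* ℂˣ} (hξs : (ξ ⟨h.sElt, h.zSub_le h.s_mem⟩ : ℂ) = -1)
    (hξ : ∀ d : twoStab a t, (d : G) ∈ vSub a t → ∀ x : Q, ξ (h.qConj d x) = ξ x)
    {d : twoStab a t} (hd : ∀ z : Q, (z : G) ∈ h.zSub → ξ (h.qConj d z) = ξ z) :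
    (d : G) ∈ vSub a t := by
  classical
  obtain ⟨v, hv, k, hk, e⟩ := h.exists_vk d.2
  by_cases hk1 : k = 1
  · rw [e, hk1, mul_one]; exact hv
  exfalso
  set v' : twoStab a t := ⟨v, hv.1⟩ with hv'def
  set k' : twoStab a t := ⟨k, h.kSub_le hk⟩ with hk'def
  have hd' : d = v' * k' := Subtype.ext e
  have hk' : ∀ z : Q, (z : G) ∈ h.zSub → ξ (h.qConj k' z) = ξ z := by
    intro z hz
    have hz' : ((h.qConj v').symm z : G) ∈ h.zSub := by
      show (v : G) * z * (v : G)⁻¹ ∈ h.zSub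
      exact h.conj_z (D_le h.hS hv.1) hz
    have e1 := hd _ hz'
    rw [hd', h.qConj_mul, MulEquiv.apply_symm_apply] at e1
    rw [e1, ← hξ v' hv ((h.qConj v').symm z), MulEquiv.apply_symm_apply]
  let g : h.zSub → h.zSub := fun z => ⟨k⁻¹ * z * k * (z : G)⁻¹,
    mul_mem (by simpa using h.conj_z (inv_mem (D_le h.hS (h.kSub_le hk))) z.2) (inv_mem z.2)⟩
  have hg : Function.Injective g := by
    intro z w e'
    have e1 : k⁻¹ * (z : G) * k * (z : G)⁻¹ = k⁻¹ * (w : G) * k * (w : G)⁻¹ :=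
      congrArg Subtype.val e'
    refine (inv_mul_eq_one.1 (Subtype.ext (h.k_fpf hk hk1 (h.zSub_le (mul_mem (inv_mem w.2) z.2))
      ?_) : w⁻¹ * z = 1)).symm
    have e2 : k⁻¹ * ((w : G)⁻¹ * z) * k = (w : G)⁻¹ * z := by
      calc k⁻¹ * ((w : G)⁻¹ * z) * k
          = (k⁻¹ * (w : G) * k)⁻¹ * (k⁻¹ * (z : G) * k * (z : G)⁻¹) * z := by group
        _ = (w : G)⁻¹ * z := by rw [e1]; group
    calc k * ((w : G)⁻¹ * z) = k * (k⁻¹ * ((w : G)⁻¹ * z) * k) := by rw [e2]
      _ = (w : G)⁻¹ * z * k := by group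
  obtain ⟨z, hz⟩ := (Finite.injective_iff_surjective.1 hg) ⟨h.sElt, h.s_mem⟩
  have e1 : ξ (⟨h.sElt, h.zSub_le h.s_mem⟩ : Q) = 1 := by
    have e2 : (⟨h.sElt, h.zSub_le h.s_mem⟩ : Q) =
        h.qConj k' ⟨z, h.zSub_le z.2⟩ * (⟨z, h.zSub_le z.2⟩ : Q)⁻¹ :=
      Subtype.ext (congrArg Subtype.val hz).symm
    rw [e2, map_mul, hk' _ z.2, map_inv, mul_inv_cancel]
  rw [e1, Units.val_one] at hξs
  norm_num at hξs

/-- `Q I` inside the point stabiliser. -/
def qdSub (I : Subgroup (twoStab a t)) : Subgroup (stabilizer G a) where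
  carrier := {g | ∃ x ∈ Q, ∃ d ∈ I, (g : G) = x * d}
  one_mem' := ⟨1, Q.one_mem, 1, one_mem _, by simp⟩
  mul_mem' := by
    rintro g g' ⟨x, hx, d, hd, e⟩ ⟨x', hx', d', hd', e'⟩
    refine ⟨x * ((d : G) * x' * (d : G)⁻¹),
      Q.mul_mem hx (conj_Q h.hS (D_le h.hS d.2) hx'), d * d', mul_mem hd hd', ?_⟩
    rw [Subgroup.coe_mul, Subgroup.coe_mul, e, e']
    group
  inv_mem' := by
    rintro g ⟨x, hx, d, hd, e⟩
    refine ⟨(d : G)⁻¹ * x⁻¹ * d, ?_, d⁻¹, inv_mem hd, ?_⟩
    · simpa using conj_Q h.hS (inv_mem (D_le h.hS d.2)) (Q.inv_mem hx)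
    · rw [Subgroup.coe_inv, e, Subgroup.coe_inv]
      group

variable (I : Subgroup (twoStab a t))

/-- The element `x d` of `Q I`. -/
def qdMk (x : Q) (d : I) : h.qdSub I :=
  ⟨⟨(x : G) * (d : twoStab a t), mul_mem (h.hS.le x.2) (D_le h.hS (d : twoStab a t).2)⟩,
    x, x.2, d, d.2, rfl⟩

theorem qdMk_bijective : Function.Bijective fun p : Q × I => h.qdMk I p.1 p.2 := by
  constructor
  · rintro ⟨x, d⟩ ⟨x', d'⟩ e
    have e1 : (x : G) * (d : twoStab a t) = (x' : G) * (d' : twoStab a t) :=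
      congrArg (fun g : h.qdSub I => ((g : stabilizer G a) : G)) e
    obtain ⟨e2, e3⟩ := mul_unique h.hS x.2 x'.2 (d : twoStab a t).2 (d' : twoStab a t).2 e1
    exact Prod.ext (Subtype.ext e2) (Subtype.ext (Subtype.ext e3))
  · rintro ⟨g, x, hx, d, hd, e⟩
    exact ⟨(⟨x, hx⟩, ⟨d, hd⟩), Subtype.ext (Subtype.ext e.symm)⟩

/-- The coordinates in `Q I`. -/
noncomputable def qdEquiv : Q × I ≃ h.qdSub I := Equiv.ofBijective _ (h.qdMk_bijective I)

theorem qdMk_mul (x x' : Q) (d d' : I) : h.qdMk I x d * h.qdMk I x' d' =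
    h.qdMk I (x * (h.qConj (d : twoStab a t)⁻¹ x')) (d * d') := by
  refine Subtype.ext (Subtype.ext ?_)
  simp only [qdMk, Subgroup.coe_mul, qConj_coe, Subgroup.coe_inv]
  group

/-- The projection to `I`. -/
noncomputable def qdProj : h.qdSub I →* I where
  toFun g := ((h.qdEquiv I).symm g).2
  map_one' := by
    have : h.qdMk I 1 1 = 1 := Subtype.ext (Subtype.ext (by simp [qdMk]))
    rw [← this, show h.qdMk I 1 1 = h.qdEquiv I (1, 1) from rfl, Equiv.symm_apply_apply]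
  map_mul' g g' := by
    obtain ⟨⟨x, d⟩, rfl⟩ := (h.qdEquiv I).surjective g
    obtain ⟨⟨x', d'⟩, rfl⟩ := (h.qdEquiv I).surjective g'
    rw [show h.qdEquiv I (x, d) * h.qdEquiv I (x', d') = h.qdEquiv I (_, _) from
      h.qdMk_mul I x x' d d']
    simp only [Equiv.symm_apply_apply]

theorem qdProj_mk (x : Q) (d : I) : h.qdProj I (h.qdMk I x d) = d :=
  congrArg Prod.snd ((h.qdEquiv I).symm_apply_apply (x, d))

/-- A linear character of `Q` invariant under `I`, extended to `Q I`. -/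
noncomputable def qdLin (ξ : Q →* ℂˣ)
    (hξ : ∀ d ∈ I, ∀ x : Q, ξ (h.qConj d x) = ξ x) : h.qdSub I →* ℂˣ where
  toFun g := ξ ((h.qdEquiv I).symm g).1
  map_one' := by
    have : h.qdMk I 1 1 = 1 := Subtype.ext (Subtype.ext (by simp [qdMk]))
    rw [← this, show h.qdMk I 1 1 = h.qdEquiv I (1, 1) from rfl, Equiv.symm_apply_apply, map_one]
  map_mul' g g' := by
    obtain ⟨⟨x, d⟩, rfl⟩ := (h.qdEquiv I).surjective g
    obtain ⟨⟨x', d'⟩, rfl⟩ := (h.qdEquiv I).surjective g'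
    rw [show h.qdEquiv I (x, d) * h.qdEquiv I (x', d') = h.qdEquiv I (_, _) from
      h.qdMk_mul I x x' d d']
    simp only [Equiv.symm_apply_apply, map_mul]
    rw [hξ _ (inv_mem d.2)]

theorem qdLin_mk (ξ : Q →* ℂˣ) (hξ : ∀ d ∈ I, ∀ x : Q, ξ (h.qConj d x) = ξ x) (x : Q) (d : I) :
    h.qdLin I ξ hξ (h.qdMk I x d) = ξ x :=
  congrArg ξ (congrArg Prod.fst ((h.qdEquiv I).symm_apply_apply (x, d)))

/-- An invariant irreducible character of `Q` extends to `Q I` for cyclic `I`. -/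
theorem exists_qd_extension [IsCyclic I] (χ : IrrCharacter Q)
    (hI : ∀ d ∈ I, h.cj d (χ : Q → ℂ) = χ) :
    ∃ β : h.qdSub I → ℂ, IsCharacter (h.qdSub I) β ∧
      ∀ x : Q, β (h.qdMk I x 1) = (χ : Q → ℂ) x := by
  classical
  haveI := Fintype.ofFinite Q
  obtain ⟨n, ρ, hρ, hχ⟩ := χ.2
  haveI := hρ
  obtain ⟨g0, hg0⟩ := IsCyclic.exists_generator (α := I)
  set c0 : Q ≃* Q := h.qConj (g0 : twoStab a t)⁻¹ with hc0
  let σ : Representation ℂ Q (Fin n → ℂ) := ρ.comp c0.toMonoidHom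
  have hσ : ρ.character = σ.character := by
    funext x
    show _ = ρ.character (c0 x)
    rw [hχ]
    exact (congrFun (hI _ (inv_mem g0.2)) x).symm
  obtain ⟨e⟩ := equiv_of_char_eq ρ σ hσ
  let T : (Module.End ℂ (Fin n → ℂ))ˣ :=
    LinearMap.GeneralLinearGroup.ofLinearEquiv e.toLinearEquiv
  have hT : ∀ x : Q, (T : Module.End ℂ (Fin n → ℂ)) * ρ x = ρ (c0 x) * T := fun x =>
    e.isIntertwining' x
  have hTpow : ∀ (m : ℕ) (x : Q), (T : Module.End ℂ (Fin n → ℂ)) ^ m * ρ x =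
      ρ (h.qConj ((g0 : twoStab a t)⁻¹ ^ m) x) * (T : Module.End ℂ (Fin n → ℂ)) ^ m := by
    intro m
    induction m with
    | zero => intro x; rw [pow_zero, pow_zero, h.qConj_one, one_mul, mul_one]
    | succ m ih =>
      intro x
      rw [pow_succ, mul_assoc, hT x, ← mul_assoc, ih, mul_assoc, pow_succ', h.qConj_mul]
  set N := orderOf g0 with hN
  obtain ⟨c, hc⟩ := exists_scalar_of_commute ρ ((T : Module.End ℂ (Fin n → ℂ)) ^ N) fun x => by
    have e1 := hTpow N x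
    rw [inv_pow, ← SubmonoidClass.coe_pow, hN, pow_orderOf_eq_one, OneMemClass.coe_one, inv_one,
      h.qConj_one] at e1
    exact e1
  haveI := nontrivial_of_isIrreducible ρ
  have hc0' : c ≠ 0 := by
    intro e'
    rw [e', zero_smul] at hc
    exact (T ^ N).ne_zero (by rw [Units.val_pow_eq_pow_val]; exact hc)
  obtain ⟨r, hr⟩ := IsAlgClosed.exists_pow_nat_eq c⁻¹ (orderOf_pos g0)
  have hr0 : r ≠ 0 := fun e' => by
    rw [e', zero_pow (orderOf_pos g0).ne'] at hr
    exact inv_ne_zero hc0' hr.symm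
  let U : (Module.End ℂ (Fin n → ℂ))ˣ :=
    T * Units.map (algebraMap ℂ (Module.End ℂ (Fin n → ℂ))).toMonoidHom (Units.mk0 r hr0)
  have hUval : (U : Module.End ℂ (Fin n → ℂ)) = r • (T : Module.End ℂ (Fin n → ℂ)) := by
    show (T : Module.End ℂ (Fin n → ℂ)) * algebraMap ℂ _ r = _
    rw [Algebra.algebraMap_eq_smul_one, mul_smul_comm, mul_one]
  have hU : ∀ (m : ℕ) (x : Q), (U : Module.End ℂ (Fin n → ℂ)) ^ m * ρ x =
      ρ (h.qConj ((g0 : twoStab a t)⁻¹ ^ m) x) * (U : Module.End ℂ (Fin n → ℂ)) ^ m := by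
    intro m x
    rw [hUval, smul_pow, smul_mul_assoc, hTpow, mul_smul_comm]
  have hUN : orderOf U ∣ orderOf g0 := by
    refine orderOf_dvd_of_pow_eq_one (Units.ext ?_)
    rw [Units.val_pow_eq_pow_val, hUval, smul_pow, ← hN, hc, hr, smul_smul, inv_mul_cancel₀ hc0',
      one_smul, Units.val_one]
  let S : I →* (Module.End ℂ (Fin n → ℂ))ˣ := monoidHomOfForallMemZpowers hg0 hUN
  have hS0 : S g0 = U := monoidHomOfForallMemZpowers_apply_gen hg0 hUN
  have hS : ∀ (d : I) (x : Q), (S d : Module.End ℂ (Fin n → ℂ)) * ρ x =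
      ρ (h.qConj (d : twoStab a t)⁻¹ x) * S d := by
    intro d x
    obtain ⟨m, -, hm⟩ := Finset.mem_image.1
      ((isOfFinOrder_of_finite g0).mem_zpowers_iff_mem_range_orderOf.1 (hg0 d))
    rw [← hm, map_pow, hS0, Units.val_pow_eq_pow_val, SubmonoidClass.coe_pow, ← inv_pow]
    exact hU m x
  let R : Representation ℂ (h.qdSub I) (Fin n → ℂ) :=
    { toFun := fun g => ρ ((h.qdEquiv I).symm g).1 * (S ((h.qdEquiv I).symm g).2).val
      map_one' := by
        have e1 : h.qdEquiv I (1, 1) = 1 := Subtype.ext (Subtype.ext (by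
          show ((1 : Q) : G) * (((1 : I) : twoStab a t) : G) = 1
          simp))
        rw [← e1, Equiv.symm_apply_apply, map_one, map_one, Units.val_one, one_mul]
      map_mul' := fun g g' => by
        obtain ⟨⟨x, d⟩, rfl⟩ := (h.qdEquiv I).surjective g
        obtain ⟨⟨x', d'⟩, rfl⟩ := (h.qdEquiv I).surjective g'
        rw [show h.qdEquiv I (x, d) * h.qdEquiv I (x', d') = h.qdEquiv I (_, _) from
          h.qdMk_mul I x x' d d']
        simp only [Equiv.symm_apply_apply, map_mul, Units.val_mul]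
        rw [mul_assoc (ρ x), mul_assoc (ρ x), ← mul_assoc (S d).val (ρ x'), hS d x']
        simp only [mul_assoc] }
  refine ⟨R.character, isCharacter_of_rep R, fun x => ?_⟩
  rw [← hχ]
  show LinearMap.trace ℂ _ (ρ ((h.qdEquiv I).symm (h.qdEquiv I (x, 1))).1 *
    (S ((h.qdEquiv I).symm (h.qdEquiv I (x, 1))).2).val) = _
  rw [Equiv.symm_apply_apply, map_one, Units.val_one, mul_one]
  rfl

end finite

variable [Fintype G] {a : Ω} {t : G} {Q : Subgroup G} [Fintype (stabilizer G a)] [Fintype Q]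
  [Fintype (twoStab a t)] (h : Setup a t Q)
include h

theorem card_qdSub (I : Subgroup (twoStab a t)) :
    Nat.card (h.qdSub I) = Nat.card Q * Nat.card I := by
  rw [← Nat.card_prod, Nat.card_congr (h.qdEquiv I)]

theorem sum_indFun_qd (I : Subgroup (twoStab a t)) [IsCyclic I] (β : h.qdSub I → ℂ)
    (φ : Q → ℂ) (hβ : ∀ x : Q, β (h.qdMk I x 1) = φ x) [Fintype (I →* ℂˣ)] :
    ∑ η : I →* ℂˣ, indFun (h.qdSub I) (fun m => β m * (η (h.qdProj I m) : ℂ)) = qInd a Q φ := by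
  classical
  letI := IsCyclic.commGroup (α := I)
  have hsum : ∀ d : I, ∑ η : I →* ℂˣ, (η d : ℂ) = if d = 1 then (Nat.card I : ℂ) else 0 := by
    intro d
    split
    · next hd =>
      subst hd
      simp only [map_one, Units.val_one, Finset.sum_const, Finset.card_univ, nsmul_eq_mul, mul_one]
      rw [Fintype.card_eq_nat_card, CommGroup.card_monoidHom_of_hasEnoughRootsOfUnity I ℂ]
    · next hd =>
      obtain ⟨θ, hθ⟩ := CommGroup.exists_apply_ne_one_of_hasEnoughRootsOfUnity I ℂ hd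
      have e : (θ d : ℂ) * ∑ η : I →* ℂˣ, (η d : ℂ) = ∑ η : I →* ℂˣ, (η d : ℂ) := by
        rw [Finset.mul_sum]
        exact Fintype.sum_equiv (Equiv.mulLeft θ) _ _ fun η => by simp
      by_contra hne
      exact hθ (Units.ext ((mul_eq_right₀ hne).1 e))
  have key : ∀ y : stabilizer G a,
      ∑ η : I →* ℂˣ, extendByZero (h.qdSub I) (fun m => β m * (η (h.qdProj I m) : ℂ)) y =
        (Nat.card I : ℂ) * extendByZero (Q.subgroupOf (stabilizer G a)) (qFun a Q φ) y := by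
    intro y
    by_cases hy : y ∈ h.qdSub I
    · simp only [extendByZero_of_mem _ hy, ← Finset.mul_sum, hsum]
      obtain ⟨⟨x, d⟩, hxd⟩ := (h.qdEquiv I).surjective ⟨y, hy⟩
      rw [← hxd, show h.qdEquiv I (x, d) = h.qdMk I x d from rfl, h.qdProj_mk]
      have hyv : (y : G) = (x : G) * (d : twoStab a t) :=
        congrArg (fun g : h.qdSub I => ((g : stabilizer G a) : G)) hxd.symm
      split
      · next hd =>
        subst hd
        have hyQ : y ∈ Q.subgroupOf (stabilizer G a) := by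
          rw [Subgroup.mem_subgroupOf, hyv]; simp
        rw [extendByZero_of_mem _ hyQ, qFun, hβ, mul_comm]
        congr 1
        exact congrArg φ (Subtype.ext (by simp [hyv]))
      · next hd =>
        rw [mul_zero, extendByZero_of_not_mem _ fun hyQ => hd ?_, mul_zero]
        rw [Subgroup.mem_subgroupOf, hyv] at hyQ
        have hdQ : ((d : twoStab a t) : G) ∈ Q := by simpa using Q.mul_mem (Q.inv_mem x.2) hyQ
        exact Subtype.ext (Subtype.ext (QD_eq_one h.hS hdQ (d : twoStab a t).2 rfl))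
    · simp only [extendByZero_of_not_mem _ hy, Finset.sum_const_zero]
      rw [extendByZero_of_not_mem _ fun hyQ => hy ⟨(y : G), Subgroup.mem_subgroupOf.1 hyQ, 1,
        one_mem _, by simp⟩, mul_zero]
  funext g
  simp only [qInd, indFun, Finset.sum_apply]
  rw [← Finset.mul_sum, Finset.sum_comm, Finset.sum_congr rfl fun x _ => key _, ← Finset.mul_sum,
    h.card_qdSub, Nat.card_congr (Subgroup.subgroupOfEquivOfLe h.hS.le).toEquiv, ← mul_assoc,
    Nat.cast_mul, mul_inv, mul_assoc (Nat.card Q : ℂ)⁻¹, inv_mul_cancel₀ natCard_ne_zero, mul_one]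

/-- The two families of irreducible characters of `G_a` over `χ` and `χ ξ`. -/
theorem exists_pairs (χ : IrrCharacter Q) (I : Subgroup (twoStab a t)) [IsCyclic I]
    (hI : ∀ d ∈ I, h.cj d (χ : Q → ℂ) = χ) (ξ : Q →* ℂˣ)
    (hξ : ∀ d ∈ I, ∀ x : Q, ξ (h.qConj d x) = ξ x) :
    ∃ (J : Type u) (_ : Fintype J) (A A' : J → (stabilizer G a → ℂ)),
      Nat.card J = Nat.card I ∧
      (∀ j, IsCharacter (stabilizer G a) (A j) ∧ IsCharacter (stabilizer G a) (A' j) ∧
        A j 1 = A' j 1 ∧ A j 1 ≠ 0 ∧ VanishTwo a (A j - A' j)) ∧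
      (∀ j l, A j ⟨h.sElt, h.s_mem.1⟩ = A l ⟨h.sElt, h.s_mem.1⟩ ∧
        A' j ⟨h.sElt, h.s_mem.1⟩ = A' l ⟨h.sElt, h.s_mem.1⟩) ∧
      ∑ j, A j = qInd a Q (χ : Q → ℂ) ∧
      ∑ j, A' j = qInd a Q (fun x => (χ : Q → ℂ) x * (ξ x : ℂ)) := by
  classical
  letI := IsCyclic.commGroup (α := I)
  haveI : Finite (I →* ℂˣ) := Nat.finite_of_card_ne_zero (by
    rw [CommGroup.card_monoidHom_of_hasEnoughRootsOfUnity I ℂ]; exact Nat.card_pos.ne')
  haveI : Fintype (I →* ℂˣ) := Fintype.ofFinite _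
  obtain ⟨β, hβc, hβ⟩ := h.exists_qd_extension I χ hI
  set L := h.qdLin I ξ hξ with hL
  let J := ULift.{u} (Fin (Fintype.card (I →* ℂˣ)))
  let ε : J ≃ (I →* ℂˣ) := Equiv.ulift.trans (Fintype.equivFin _).symm
  let e : J → h.qdSub I → ℂ := fun j m => β m * (ε j (h.qdProj I m) : ℂ)
  let e' : J → h.qdSub I → ℂ := fun j m => (β m * (L m : ℂ)) * (ε j (h.qdProj I m) : ℂ)
  refine ⟨J, inferInstance, fun j => indFun _ (e j), fun j => indFun _ (e' j), ?_,
    fun j => ⟨?_, ?_, ?_, ?_, ?_⟩, fun j l => ?_, ?_, ?_⟩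
  · rw [Nat.card_congr ε, CommGroup.card_monoidHom_of_hasEnoughRootsOfUnity I ℂ]
  · exact isCharacter_indFun _ (isCharacter_mul hβc (isCharacter_hom ((ε j).comp (h.qdProj I))))
  · exact isCharacter_indFun _ (isCharacter_mul (isCharacter_mul hβc (isCharacter_hom L))
      (isCharacter_hom ((ε j).comp (h.qdProj I))))
  · simp only [indFun_one_eq]
    simp [e, e']
  · simp only [indFun_one_eq]
    have e1 : h.qdMk I 1 1 = 1 := Subtype.ext (Subtype.ext (by simp [qdMk]))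
    simp only [e, map_one, Units.val_one, mul_one]
    rw [← e1, hβ]
    exact mul_ne_zero (Nat.cast_ne_zero.2 Subgroup.index_ne_zero_of_finite)
      (irr_apply_one_ne_zero χ)
  · intro x hx
    simp only [Pi.sub_apply, ← indFun_sub, ← congrFun (indFun_sub (h.qdSub I) (e j) (e' j)) x]
    simp only [indFun]
    rw [Finset.sum_eq_zero, mul_zero]
    intro g _
    by_cases hm : g⁻¹ * x * g ∈ h.qdSub I
    · rw [extendByZero_of_mem _ hm, Pi.sub_apply]
      obtain ⟨c, hca, hxc⟩ := hx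
      set c' := (g : G)⁻¹ • c with hc'
      have hc'a : c' ≠ a := fun e0 => hca (by
        rw [hc', inv_smul_eq_iff] at e0
        exact e0.trans g.2)
      obtain ⟨p, hp, hpc⟩ := exists_Q_move h.hS hc'a
      let p' : h.qdSub I := h.qdMk I ⟨p, hp⟩ 1
      obtain ⟨⟨y, d⟩, hyd⟩ := (h.qdEquiv I).surjective (p'⁻¹ * ⟨_, hm⟩ * p')
      have hyv : (y : G) * (d : twoStab a t) = p⁻¹ * ((g : G)⁻¹ * x * g) * p := by
        have := congrArg (fun m : h.qdSub I => ((m : stabilizer G a) : G)) hyd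
        simpa [p', qdMk, qdEquiv] using this
      have hfix : ((y : G) * (d : twoStab a t)) • t • a = t • a := by
        rw [hyv, mul_smul, hpc, mul_smul, mul_smul, mul_smul, hc', smul_inv_smul, hxc,
          ← hc', ← hpc, inv_smul_smul]
      have hy1 : y = 1 := by
        refine Subtype.ext (eq_one_of_fix h.hS y.2 ?_)
        rwa [mul_smul, (mem_twoStab.1 (d : twoStab a t).2).2] at hfix
      have hL1 : L (⟨_, hm⟩ : h.qdSub I) = 1 := by
        have e0 : L (p'⁻¹ * ⟨_, hm⟩ * p') = 1 := by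
          rw [← hyd, hy1]
          exact (h.qdLin_mk I ξ hξ 1 d).trans (map_one ξ)
        rw [map_mul, map_mul, map_inv, mul_comm (L p')⁻¹, inv_mul_cancel_right] at e0
        exact e0
      simp [e, e', hL1]
    · exact extendByZero_of_not_mem _ hm
  · have key : ∀ g : stabilizer G a, ∀ hm : g⁻¹ * ⟨h.sElt, h.s_mem.1⟩ * g ∈ h.qdSub I,
        h.qdProj I ⟨_, hm⟩ = 1 := by
      intro g hm
      have hz : (g : G)⁻¹ * h.sElt * g ∈ Q :=
        h.zSub_le (by simpa using h.conj_z (inv_mem g.2) h.s_mem)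
      rw [show (⟨_, hm⟩ : h.qdSub I) = h.qdMk I ⟨_, hz⟩ 1 from
        Subtype.ext (Subtype.ext (by simp [qdMk])), h.qdProj_mk]
    constructor <;>
    · simp only [indFun]
      congr 1
      refine Finset.sum_congr rfl fun g _ => ?_
      by_cases hm : g⁻¹ * ⟨h.sElt, h.s_mem.1⟩ * g ∈ h.qdSub I
      · rw [extendByZero_of_mem _ hm, extendByZero_of_mem _ hm]
        simp [e, e', key g hm]
      · rw [extendByZero_of_not_mem _ hm, extendByZero_of_not_mem _ hm]
  · rw [← h.sum_indFun_qd I β _ hβ]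
    exact Fintype.sum_equiv ε _ _ fun j => rfl
  · rw [← h.sum_indFun_qd I (fun m => β m * (L m : ℂ)) _ fun x => by
      rw [hβ, hL, h.qdLin_mk]]
    exact Fintype.sum_equiv ε _ _ fun j => rfl

end Setup

end Cfsg.Agent.Lib.SplitRankOne70
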