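import Cfsg.Agent.Lib.SplitRankOne70.CharTool
import Cfsg.Agent.Lib.Burnside.FixedIrr

/-!
Induction from `Q` to the point stabiliser `G_a = Q D`, conjugation of characters of `Q` by `D`, and
the quotient `D / K W`.
-/

set_option autoImplicit false
set_option linter.unusedSectionVars false
set_option linter.style.haveILetI false

namespace Cfsg.Agent.Lib.SplitRankOne70

open Cfsg MulAction Cfsg.Agent.Lib.RankOne Cfsg.Agent.Lib.Chars
open scoped ComplexConjugate Pointwise

universe u v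

variable {G : Type u} {Ω : Type v} [Group G] [MulAction G Ω]

/-- A class function on `Q`, seen on the copy of `Q` inside the point stabiliser. -/
def qFun (a : Ω) (Q : Subgroup G) (φ : Q → ℂ) : Q.subgroupOf (stabilizer G a) → ℂ :=
  fun x => φ ⟨((x : stabilizer G a) : G), Subgroup.mem_subgroupOf.1 x.2⟩

/-- Induction from `Q` to the point stabiliser. -/
noncomputable def qInd [Fintype G] (a : Ω) (Q : Subgroup G) [Fintype (stabilizer G a)]
    (φ : Q → ℂ) : stabilizer G a → ℂ :=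
  indFun (Q.subgroupOf (stabilizer G a)) (qFun a Q φ)

theorem isCharacter_qFun [Finite G] {a : Ω} {Q : Subgroup G} (hle : Q ≤ stabilizer G a)
    {φ : Q → ℂ} (hφ : IsCharacter Q φ) :
    IsCharacter (Q.subgroupOf (stabilizer G a)) (qFun a Q φ) :=
  isCharacter_comp (Subgroup.subgroupOfEquivOfLe hle).toMonoidHom hφ

namespace Setup

section finite

variable [Finite G] {a : Ω} {t : G} {Q : Subgroup G} (h : Setup a t Q)
include h

/-- Conjugation `x ↦ d⁻¹ x d` on `Q`. -/
def qConj (d : twoStab a t) : Q ≃* Q where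
  toFun x := ⟨(d : G)⁻¹ * x * d, by
    simpa using conj_Q h.hS (inv_mem (D_le h.hS d.2)) x.2⟩
  invFun x := ⟨(d : G) * x * (d : G)⁻¹, conj_Q h.hS (D_le h.hS d.2) x.2⟩
  left_inv x := Subtype.ext (by group)
  right_inv x := Subtype.ext (by group)
  map_mul' x y := Subtype.ext (by push_cast; group)

theorem qConj_coe (d : twoStab a t) (x : Q) : (h.qConj d x : G) = (d : G)⁻¹ * x * d := rfl

theorem qConj_mul (d e : twoStab a t) (x : Q) :
    h.qConj (d * e) x = h.qConj e (h.qConj d x) :=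
  Subtype.ext (by simp only [qConj_coe, Subgroup.coe_mul]; group)

theorem qConj_one (x : Q) : h.qConj 1 x = x := Subtype.ext (by simp [qConj_coe])

/-- Conjugation of a function on `Q` by an element of `D`. -/
def cj (d : twoStab a t) (φ : Q → ℂ) : Q → ℂ := fun x => φ (h.qConj d x)

theorem cj_mul (d e : twoStab a t) (φ : Q → ℂ) : h.cj (d * e) φ = h.cj d (h.cj e φ) :=
  funext fun x => congrArg φ (h.qConj_mul d e x)

theorem cj_one (φ : Q → ℂ) : h.cj 1 φ = φ := funext fun x => congrArg φ (h.qConj_one x)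

theorem cj_inj {d : twoStab a t} {φ ψ : Q → ℂ} (e : h.cj d φ = h.cj d ψ) : φ = ψ := by
  have := congrArg (h.cj d⁻¹) e
  rwa [← cj_mul, ← cj_mul, inv_mul_cancel, cj_one, cj_one] at this

theorem cj_mul_fun (d : twoStab a t) (φ ψ : Q → ℂ) :
    h.cj d (φ * ψ) = h.cj d φ * h.cj d ψ := rfl

theorem cj_irr (d : twoStab a t) {φ : Q → ℂ} (hφ : IsIrrCharacter Q φ) :
    IsIrrCharacter Q (h.cj d φ) :=
  Burnside.isIrrCharacter_comp_mulEquiv hφ (h.qConj d)

theorem cj_apply_one (d : twoStab a t) (φ : Q → ℂ) : h.cj d φ 1 = φ 1 :=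
  congrArg φ (map_one _)

/-- The stabiliser in `D` of a function on `Q`. -/
def stabCj (φ : Q → ℂ) : Subgroup (twoStab a t) where
  carrier := {d | h.cj d φ = φ}
  one_mem' := h.cj_one φ
  mul_mem' := fun {d e} hd he => by
    show h.cj (d * e) φ = φ
    rw [h.cj_mul, show h.cj e φ = φ from he, show h.cj d φ = φ from hd]
  inv_mem' := fun {d} hd => by
    show h.cj d⁻¹ φ = φ
    nth_rewrite 1 [← show h.cj d φ = φ from hd]
    rw [← h.cj_mul, inv_mul_cancel, h.cj_one]

theorem mem_stabCj {φ : Q → ℂ} {d : twoStab a t} : d ∈ h.stabCj φ ↔ h.cj d φ = φ := Iff.rfl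

/-- `K W`. -/
noncomputable def kwSub : Subgroup (twoStab a t) := (h.kSub ⊔ wSub a t).subgroupOf (twoStab a t)

theorem kw_normal : h.kwSub.Normal := by
  constructor
  intro x hx g
  rw [kwSub, Subgroup.mem_subgroupOf] at hx ⊢
  have hle : h.kSub ⊔ wSub a t ≤
      (h.kSub ⊔ wSub a t).comap (MulAut.conj (g : G)).toMonoidHom := by
    refine sup_le ?_ ?_
    · intro y hy
      exact Subgroup.mem_sup_left (h.conj_k g.2 hy)
    · intro y hy
      exact Subgroup.mem_sup_right (h.w_conj g.2 hy)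
  simpa using hle hx

theorem exists_wk {d : G} (hd : d ∈ h.kSub ⊔ wSub a t) :
    ∃ w ∈ wSub a t, ∃ k ∈ h.kSub, d = w * k := by
  have hle : wSub a t ≤ Subgroup.normalizer (h.kSub : Set G) := by
    intro w hw
    rw [Subgroup.mem_normalizer_iff]
    intro k
    refine ⟨fun hk => h.conj_k hw.1.1 hk, fun hk => ?_⟩
    have := h.conj_k (inv_mem hw.1.1) hk
    simpa [mul_assoc] using this
  have h1 := Subgroup.coe_mul_of_left_le_normalizer_right (wSub a t) h.kSub hle
  have h2 : d ∈ ((wSub a t : Set G) * (h.kSub : Set G) : Set G) := by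
    rw [← h1, sup_comm]; exact hd
  obtain ⟨w, hw, k, hk, e⟩ := Set.mem_mul.1 h2
  exact ⟨w, hw, k, hk, e.symm⟩

theorem mem_kw_v {d : G} (hd : d ∈ h.kSub ⊔ wSub a t) (hv : d ∈ vSub a t) : d ∈ wSub a t := by
  obtain ⟨w, hw, k, hk, rfl⟩ := h.exists_wk hd
  have hk1 : k = 1 := h.v_inf_k (by simpa using mul_mem (inv_mem (show w ∈ vSub a t from hw.1)) hv) hk
  rw [hk1, mul_one]
  exact hw

theorem kw_quotient_cyclic :
    haveI := h.kw_normal
    IsCyclic (twoStab a t ⧸ h.kwSub) := by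
  haveI := h.kw_normal
  obtain ⟨v, hv, hgen⟩ := h.exists_v_gen
  refine ⟨QuotientGroup.mk (⟨v, hv.1⟩ : twoStab a t), fun x => ?_⟩
  obtain ⟨⟨d, hd⟩, rfl⟩ := QuotientGroup.mk_surjective x
  have hv' : ∀ y ∈ wSub a t ⊔ Subgroup.closure {v}, ∀ hy : y ∈ twoStab a t,
      (QuotientGroup.mk (⟨y, hy⟩ : twoStab a t) : twoStab a t ⧸ h.kwSub) ∈
        Subgroup.zpowers (QuotientGroup.mk (⟨v, hv.1⟩ : twoStab a t)) := by
    intro y hy hyD
    have hle : wSub a t ⊔ Subgroup.closure {v} ≤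
        ((Subgroup.zpowers (QuotientGroup.mk (⟨v, hv.1⟩ : twoStab a t) :
          twoStab a t ⧸ h.kwSub)).comap (QuotientGroup.mk' h.kwSub)).map
            (twoStab a t).subtype := by
      refine sup_le ?_ ?_
      · intro w hw
        refine ⟨⟨w, hw.1.1⟩, ?_, rfl⟩
        show (QuotientGroup.mk (⟨w, hw.1.1⟩ : twoStab a t) : twoStab a t ⧸ h.kwSub) ∈
          Subgroup.zpowers (QuotientGroup.mk (⟨v, hv.1⟩ : twoStab a t) : twoStab a t ⧸ h.kwSub)
        have e0 : (⟨w, hw.1.1⟩ : twoStab a t) ∈ h.kwSub :=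
          Subgroup.mem_subgroupOf.2 (Subgroup.mem_sup_right (T := wSub a t) hw)
        rw [(QuotientGroup.eq_one_iff _).2 e0]
        exact one_mem _
      · rw [Subgroup.closure_le, Set.singleton_subset_iff]
        exact ⟨⟨v, hv.1⟩, Subgroup.mem_zpowers _, rfl⟩
    obtain ⟨z, hz, e⟩ := hle hy
    obtain rfl : z = ⟨y, hyD⟩ := Subtype.ext e
    exact hz
  obtain ⟨y, hy, k, hk, rfl⟩ := h.exists_vk hd
  have e : (QuotientGroup.mk (⟨y * k, hd⟩ : twoStab a t) : twoStab a t ⧸ h.kwSub) =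
      QuotientGroup.mk (⟨y, hy.1⟩ : twoStab a t) := by
    rw [QuotientGroup.eq, kwSub, Subgroup.mem_subgroupOf]
    push_cast
    rw [mul_inv_rev, mul_assoc, inv_mul_cancel, mul_one]
    exact Subgroup.mem_sup_left (inv_mem hk)
  rw [e]
  exact hv' y (hgen.ge hy) hy.1

theorem isCyclic_of_inf_kw {I : Subgroup (twoStab a t)} (hI : I ⊓ h.kwSub = ⊥) : IsCyclic I := by
  haveI := h.kw_normal
  haveI := h.kw_quotient_cyclic
  refine isCyclic_of_injective ((QuotientGroup.mk' h.kwSub).comp I.subtype) fun x y e => ?_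
  have hxy : ((x⁻¹ * y : I) : twoStab a t) ∈ h.kwSub := by
    rw [← QuotientGroup.eq_one_iff]
    have e' : (QuotientGroup.mk' h.kwSub) x = (QuotientGroup.mk' h.kwSub) y := e
    simp only [QuotientGroup.mk'_apply] at e'
    rw [Subgroup.coe_mul, Subgroup.coe_inv, QuotientGroup.mk_mul, QuotientGroup.mk_inv, e',
      inv_mul_cancel]
  have hbot : ((x⁻¹ * y : I) : twoStab a t) ∈ I ⊓ h.kwSub := ⟨(x⁻¹ * y : I).2, hxy⟩
  rw [hI, Subgroup.mem_bot] at hbot
  exact inv_mul_eq_one.1 (Subtype.ext hbot)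

end finite

variable [Fintype G] {a : Ω} {t : G} {Q : Subgroup G} [Fintype (stabilizer G a)] [Fintype Q]
  [Fintype (twoStab a t)] (h : Setup a t Q)
include h

omit [Fintype (twoStab a t)] [Fintype Q] in
theorem isCharacter_qInd {φ : Q → ℂ} (hφ : IsCharacter Q φ) :
    IsCharacter (stabilizer G a) (qInd a Q φ) :=
  isCharacter_indFun _ (isCharacter_qFun h.hS.le hφ)

theorem qInd_not_mem {φ : Q → ℂ} {x : stabilizer G a} (hx : (x : G) ∉ Q) :
    qInd a Q φ x = 0 := by
  simp only [qInd, indFun]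
  rw [Finset.sum_eq_zero, mul_zero]
  intro g _
  refine extendByZero_of_not_mem _ fun hm => hx ?_
  rw [Subgroup.mem_subgroupOf] at hm
  have := conj_Q h.hS g.2 hm
  simpa [mul_assoc] using this

theorem qInd_apply {φ : Q → ℂ} (hc : IsClassFunction Q φ) (x : Q) :
    qInd a Q φ ⟨(x : G), h.hS.le x.2⟩ = ∑ d : twoStab a t, h.cj d φ x := by
  let e : twoStab a t × Q → stabilizer G a := fun p =>
    ⟨(p.1 : G) * (p.2 : G), mul_mem (D_le h.hS p.1.2) (h.hS.le p.2.2)⟩
  have he : Function.Bijective e := by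
    have hcard : Fintype.card (twoStab a t × Q) = Fintype.card (stabilizer G a) := by
      rw [← Nat.card_eq_fintype_card, ← Nat.card_eq_fintype_card, Nat.card_prod,
        card_stabilizer h.hS, mul_comm]
    refine (Fintype.bijective_iff_injective_and_card e).2 ⟨?_, hcard⟩
    rintro ⟨d, p⟩ ⟨d', p'⟩ e'
    have e1 : (d : G) * p = (d' : G) * p' := congrArg Subtype.val e'
    have e2 : ((d : G) * p * (d : G)⁻¹) * d = ((d' : G) * p' * (d' : G)⁻¹) * d' := by
      rw [inv_mul_cancel_right, inv_mul_cancel_right, e1]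
    obtain ⟨-, e3⟩ := mul_unique h.hS (conj_Q h.hS (D_le h.hS d.2) p.2)
      (conj_Q h.hS (D_le h.hS d'.2) p'.2) d.2 d'.2 e2
    obtain rfl : d = d' := Subtype.ext e3
    obtain rfl : p = p' := Subtype.ext (mul_left_cancel e1)
    rfl
  have hterm : ∀ p : twoStab a t × Q,
      extendByZero (Q.subgroupOf (stabilizer G a)) (qFun a Q φ)
        ((e p)⁻¹ * ⟨(x : G), h.hS.le x.2⟩ * e p) = h.cj p.1 φ x := by
    intro p
    have hm : (e p)⁻¹ * ⟨(x : G), h.hS.le x.2⟩ * e p ∈ Q.subgroupOf (stabilizer G a) := by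
      rw [Subgroup.mem_subgroupOf]
      simpa [e, qConj_coe, mul_assoc] using (p.2⁻¹ * h.qConj p.1 x * p.2).2
    rw [extendByZero_of_mem _ hm, qFun, Setup.cj, ← hc (h.qConj p.1 x) p.2⁻¹]
    exact congrArg φ (Subtype.ext (by simp [e, qConj_coe, mul_assoc]))
  simp only [qInd, indFun]
  rw [← he.sum_comp, Finset.sum_congr rfl fun p _ => hterm p, Fintype.sum_prod_type]
  simp only [Finset.sum_const, Finset.card_univ, nsmul_eq_mul, ← Finset.mul_sum, ← mul_assoc]
  rw [Fintype.card_eq_nat_card, Nat.card_congr (Subgroup.subgroupOfEquivOfLe h.hS.le).toEquiv,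
    inv_mul_cancel₀ natCard_ne_zero, one_mul]

theorem qInd_cj (d : twoStab a t) {φ : Q → ℂ} (hc : IsClassFunction Q φ) :
    qInd a Q (h.cj d φ) = qInd a Q φ := by
  funext x
  by_cases hx : (x : G) ∈ Q
  · have hc' : IsClassFunction Q (h.cj d φ) := fun g k => by
      simp only [Setup.cj, map_mul, map_inv]
      exact hc _ _
    rw [show x = ⟨((⟨(x : G), hx⟩ : Q) : G), h.hS.le hx⟩ from rfl, h.qInd_apply hc',
      h.qInd_apply hc]
    refine Fintype.sum_equiv (Equiv.mulRight d) _ _ fun e => ?_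
    rw [Equiv.coe_mulRight, h.cj_mul]
  · rw [h.qInd_not_mem hx, h.qInd_not_mem hx]

theorem classInner_qInd {φ ψ : Q → ℂ} (hφ : IsClassFunction Q φ) (hψ : IsClassFunction Q ψ) :
    classInner (qInd a Q φ) (qInd a Q ψ) = ∑ d : twoStab a t, classInner φ (h.cj d ψ) := by
  haveI : Fintype (Q.subgroupOf (stabilizer G a)) := Fintype.ofFinite _
  simp only [qInd]
  rw [classInner_indFun_left _ _ _ (isClassFunction_indFun _ _), ← classInner_sum_right]
  simp only [classInner]
  rw [Nat.card_congr (Subgroup.subgroupOfEquivOfLe h.hS.le).toEquiv]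
  congr 1
  refine Fintype.sum_equiv (Subgroup.subgroupOfEquivOfLe h.hS.le).toEquiv _ _ fun x => ?_
  have e1 : qFun a Q φ x = φ (Subgroup.subgroupOfEquivOfLe h.hS.le x) := rfl
  rw [e1, MulEquiv.toEquiv_eq_coe, MulEquiv.coe_toEquiv, Finset.sum_apply,
    ← h.qInd_apply hψ (Subgroup.subgroupOfEquivOfLe h.hS.le x)]
  rfl

/-- A difference of inductions from `Q` of equal degree vanishes on the elements fixing two
points. -/
theorem vanishTwo_qInd {φ ψ : Q → ℂ} (hφ : IsClassFunction Q φ) (hψ : IsClassFunction Q ψ)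
    (e : φ 1 = ψ 1) : VanishTwo a (qInd a Q φ - qInd a Q ψ) := by
  intro x hx
  by_cases hxQ : (x : G) ∈ Q
  · obtain ⟨c, hca, hxc⟩ := hx
    have hx1 : (x : G) = 1 :=
      Q_move_unique h.hS hca hxQ Q.one_mem (by rw [hxc, one_smul])
    obtain rfl : x = 1 := Subtype.ext hx1
    rw [Pi.sub_apply, show (1 : stabilizer G a) = ⟨((1 : Q) : G), h.hS.le (1 : Q).2⟩ from rfl,
      h.qInd_apply hφ, h.qInd_apply hψ]
    simp only [h.cj_apply_one, e, sub_self]
  · rw [Pi.sub_apply, h.qInd_not_mem hxQ, h.qInd_not_mem hxQ, sub_self]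

/-- The value at `s` of a function induced from `Q`. -/
theorem qInd_s {φ : Q → ℂ} (hφ : IsClassFunction Q φ) [Fintype h.zSub] :
    qInd a Q φ ⟨h.sElt, h.s_mem.1⟩ = (Nat.card (vSub a t) : ℂ) *
      ((∑ z : h.zSub, φ ⟨(z : G), h.zSub_le z.2⟩) - φ 1) := by
  classical
  haveI : Fintype h.kSub := Fintype.ofFinite _
  haveI : Fintype (vSub a t) := Fintype.ofFinite _
  rw [show (⟨h.sElt, h.s_mem.1⟩ : stabilizer G a) =
    ⟨((⟨h.sElt, h.zSub_le h.s_mem⟩ : Q) : G), h.hS.le (h.zSub_le h.s_mem)⟩ from rfl,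
    h.qInd_apply hφ]
  let e : vSub a t × h.kSub → twoStab a t := fun p =>
    ⟨(p.1 : G) * p.2, mul_mem p.1.2.1 (h.kSub_le p.2.2)⟩
  have he : Function.Bijective e := by
    constructor
    · rintro ⟨x, k⟩ ⟨x', k'⟩ e'
      have e1 : (x : G) * k = (x' : G) * k' := congrArg Subtype.val e'
      obtain ⟨e2, e3⟩ := fixed_mul_inverted_unique h.hS.odd_card h.hS.mul_self
        (fun y hy => conj_t_mem_D h.hS hy) x.2.1 (h.mem_vSub.1 x.2).2 (h.k_inverted k.2)
        x'.2.1 (h.mem_vSub.1 x'.2).2 (h.k_inverted k'.2) e1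
      exact Prod.ext (Subtype.ext e2) (Subtype.ext e3)
    · rintro ⟨d, hd⟩
      obtain ⟨x, hx, k, hk, rfl⟩ := h.exists_vk hd
      exact ⟨⟨⟨x, hx⟩, ⟨k, hk⟩⟩, rfl⟩
  let g : h.kSub → h.zSub := fun k =>
    ⟨(k : G)⁻¹ * h.sElt * k, by
      simpa using h.conj_z (inv_mem (D_le h.hS (h.kSub_le k.2))) h.s_mem⟩
  have hterm : ∀ p, h.cj (e p) φ ⟨h.sElt, h.zSub_le h.s_mem⟩ =
      φ ⟨(g p.2 : G), h.zSub_le (g p.2).2⟩ := by
    intro p
    refine congrArg φ (Subtype.ext ?_)
    have hv : (p.1 : G)⁻¹ * h.sElt * p.1 = h.sElt := by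
      simpa using h.v_s (inv_mem p.1.2)
    calc ((p.1 : G) * p.2)⁻¹ * h.sElt * ((p.1 : G) * p.2)
        = (p.2 : G)⁻¹ * ((p.1 : G)⁻¹ * h.sElt * p.1) * p.2 := by group
      _ = (g p.2 : G) := by rw [hv]
  rw [← he.sum_comp, Finset.sum_congr rfl fun p _ => hterm p, Fintype.sum_prod_type]
  dsimp only
  rw [Finset.sum_congr rfl (g := fun _ => ∑ y : h.kSub, φ ⟨(g y : G), h.zSub_le (g y).2⟩)
    fun x _ => rfl, Finset.sum_const, Finset.card_univ, nsmul_eq_mul, Fintype.card_eq_nat_card]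
  congr 1
  rw [eq_sub_iff_add_eq]
  have hinj : Function.Injective g := by
    intro k k' e'
    have e1 : (k : G)⁻¹ * h.sElt * k = (k' : G)⁻¹ * h.sElt * k' := congrArg Subtype.val e'
    exact Subtype.ext (inv_injective (h.k_inj (inv_mem k.2) (inv_mem k'.2) h.s_mem h.s_ne
      (by simpa using e1)))
  have himg : Finset.univ.image g = Finset.univ.erase 1 := by
    refine Finset.eq_of_subset_of_card_le (fun z hz => ?_) ?_
    · obtain ⟨k, -, rfl⟩ := Finset.mem_image.1 hz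
      refine Finset.mem_erase.2 ⟨fun e' => h.s_ne ?_, Finset.mem_univ _⟩
      have e1 : (k : G)⁻¹ * h.sElt * k = 1 := congrArg Subtype.val e'
      calc h.sElt = k * ((k : G)⁻¹ * h.sElt * k) * (k : G)⁻¹ := by group
        _ = 1 := by rw [e1]; group
    · rw [Finset.card_image_of_injective _ hinj, Finset.card_erase_of_mem (Finset.mem_univ _),
        Finset.card_univ, Finset.card_univ, Fintype.card_eq_nat_card, Fintype.card_eq_nat_card,
        h.card_zSub]
      omega
  rw [← Finset.sum_erase_add _ _ (Finset.mem_univ (1 : h.zSub)), ← himg,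
    Finset.sum_image fun x _ y _ e' => hinj e']
  rfl

end Setup

end Cfsg.Agent.Lib.SplitRankOne70
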