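import Cfsg.Agent.Lib.SplitRankOne70.Core

/-!
The rewriting `t x t = g(x) h(x) t f(x)`, and the subgroup `L` generated by `Q` and `t`: it is
normal of odd index, simple, and its two-point stabiliser is generated by the elements `h(x)`.
-/

set_option autoImplicit false
set_option linter.unusedSectionVars false
set_option linter.style.haveILetI false

namespace Cfsg.Agent.Lib.SplitRankOne70

open Cfsg MulAction Cfsg.Agent.Lib.RankOne Cfsg.Agent.Lib.OddCond

universe u v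

variable {G : Type u} {Ω : Type v} [Group G] [MulAction G Ω] [Finite G] {a : Ω} {t : G}
  {Q : Subgroup G}

open scoped Classical in
/-- The first component of `t x t`. -/
noncomputable def gE (h : Setup a t Q) (x : G) : G :=
  if e : x ∈ Q ∧ x ≠ 1 then (exists_triple h.hS e.1 e.2).choose else 1

open scoped Classical in
/-- The middle component of `t x t`. -/
noncomputable def hE (h : Setup a t Q) (x : G) : G :=
  if e : x ∈ Q ∧ x ≠ 1 then (exists_triple h.hS e.1 e.2).choose_spec.2.choose else 1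

open scoped Classical in
/-- The last component of `t x t`. -/
noncomputable def fE (h : Setup a t Q) (x : G) : G :=
  if e : x ∈ Q ∧ x ≠ 1 then (exists_triple h.hS e.1 e.2).choose_spec.2.choose_spec.2.choose else 1

/-- The subgroup generated by `Q` and `t`. -/
abbrev lSub (t : G) (Q : Subgroup G) : Subgroup G := Subgroup.closure ((Q : Set G) ∪ {t})

omit [Finite G] in
theorem Q_le_lSub : Q ≤ lSub t Q := fun _ hx => Subgroup.subset_closure (Or.inl hx)

omit [Finite G] in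
theorem t_mem_lSub : t ∈ lSub t Q := Subgroup.subset_closure (Or.inr rfl)

namespace Setup

variable (h : Setup a t Q)
include h

theorem gE_mem (x : G) : gE h x ∈ Q := by
  rw [gE]; split
  · rename_i e; exact (exists_triple h.hS e.1 e.2).choose_spec.1
  · exact one_mem Q

theorem hE_mem (x : G) : hE h x ∈ twoStab a t := by
  rw [hE]; split
  · rename_i e; exact (exists_triple h.hS e.1 e.2).choose_spec.2.choose_spec.1
  · exact one_mem _

theorem fE_mem (x : G) : fE h x ∈ Q := by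
  rw [fE]; split
  · rename_i e; exact (exists_triple h.hS e.1 e.2).choose_spec.2.choose_spec.2.choose_spec.1
  · exact one_mem Q

theorem rw_eq {x : G} (hx : x ∈ Q) (hx1 : x ≠ 1) :
    t * x * t = gE h x * hE h x * t * fE h x := by
  rw [gE, hE, fE, dif_pos ⟨hx, hx1⟩, dif_pos ⟨hx, hx1⟩, dif_pos ⟨hx, hx1⟩]
  exact (exists_triple h.hS hx hx1).choose_spec.2.choose_spec.2.choose_spec.2

theorem triple_eq {x g d f : G} (hx : x ∈ Q) (hx1 : x ≠ 1) (hg : g ∈ Q) (hd : d ∈ twoStab a t)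
    (hf : f ∈ Q) (e : t * x * t = g * d * t * f) :
    gE h x = g ∧ hE h x = d ∧ fE h x = f :=
  triple_unique h.hS (h.gE_mem x) hg (h.hE_mem x) hd (h.fE_mem x) hf ((h.rw_eq hx hx1).symm.trans e)

theorem tt (x : G) : t * (t * x) = x := by rw [← mul_assoc, h.hS.mul_self, one_mul]

theorem t_inv : t⁻¹ = t := inv_eq_of_mul_eq_one_right h.hS.mul_self

theorem q_pt_ne {x : G} (hx : x ∈ Q) : x • t • a ≠ a := fun e =>
  t_smul_ne h.hS (MulAction.injective x (e.trans (Q_fix h.hS hx).symm))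

theorem q_pt_inj {x y : G} (hx : x ∈ Q) (hy : y ∈ Q) (e : x • t • a = y • t • a) : x = y :=
  (inv_mul_eq_one.1 (eq_one_of_fix h.hS (mul_mem (inv_mem hy) hx)
    (by rw [mul_smul, e, inv_smul_smul]))).symm

theorem t_smul_pt {x : G} (hx : x ∈ Q) (hx1 : x ≠ 1) :
    t • x • t • a = gE h x • t • a := by
  have e := congrArg (· • a) (h.rw_eq hx hx1)
  simp only [mul_smul] at e
  rw [e, Q_fix h.hS (h.fE_mem x), (mem_twoStab.1 (h.hE_mem x)).2]

theorem gE_ne {x : G} (hx : x ∈ Q) (hx1 : x ≠ 1) : gE h x ≠ 1 := by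
  intro e
  have e1 := h.t_smul_pt hx hx1
  rw [e, one_smul] at e1
  exact h.q_pt_ne hx (MulAction.injective t e1)

theorem conj_Q_D {d x : G} (hd : d ∈ twoStab a t) (hx : x ∈ Q) : d * x * d⁻¹ ∈ Q :=
  h.hS.conj_mem d (D_le h.hS hd) x hx

theorem conj_Q_D' {d x : G} (hd : d ∈ twoStab a t) (hx : x ∈ Q) : d⁻¹ * x * d ∈ Q := by
  simpa using h.conj_Q_D (inv_mem hd) hx

/-- The components of `t g(x) t`. -/
theorem triple_g {x : G} (hx : x ∈ Q) (hx1 : x ≠ 1) :
    gE h (gE h x) = x ∧ hE h (gE h x) = (hE h x)⁻¹ ∧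
      fE h (gE h x) = t * hE h x * t * (fE h x)⁻¹ * (t * hE h x * t)⁻¹ := by
  refine h.triple_eq (h.gE_mem x) (h.gE_ne hx hx1) hx (inv_mem (h.hE_mem x))
    (h.conj_Q_D (conj_t_mem_D h.hS (h.hE_mem x)) (inv_mem (h.fE_mem x))) ?_
  have e : gE h x = t * x * t * (fE h x)⁻¹ * t⁻¹ * (hE h x)⁻¹ := by rw [h.rw_eq hx hx1]; group
  conv_lhs => rw [e, h.t_inv]
  simp only [mul_inv_rev, h.t_inv, mul_assoc, h.tt, inv_mul_cancel_left]

/-- The components of `t x⁻¹ t`. -/
theorem triple_inv {x : G} (hx : x ∈ Q) (hx1 : x ≠ 1) :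
    gE h x⁻¹ = (fE h x)⁻¹ ∧ hE h x⁻¹ = t * (hE h x)⁻¹ * t ∧ fE h x⁻¹ = (gE h x)⁻¹ := by
  refine h.triple_eq (inv_mem hx) (inv_ne_one.2 hx1) (inv_mem (h.fE_mem x))
    (conj_t_mem_D h.hS (inv_mem (h.hE_mem x))) (inv_mem (h.gE_mem x)) ?_
  have e := congrArg (·⁻¹) (h.rw_eq hx hx1)
  simp only [mul_inv_rev, h.t_inv, mul_assoc] at e
  simp only [mul_assoc, h.hS.mul_self, h.tt, mul_one]
  exact e

theorem k_t' {k : G} (hk : k ∈ h.kSub) : t * k = k⁻¹ * t := by
  rw [← h.k_t hk, mul_assoc (t * k), h.hS.mul_self, mul_one]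

/-- The components of `t (k x k⁻¹) t`. -/
theorem triple_k {x k : G} (hx : x ∈ Q) (hx1 : x ≠ 1) (hk : k ∈ h.kSub) :
    gE h (k * x * k⁻¹) = k⁻¹ * gE h x * k ∧ hE h (k * x * k⁻¹) = k⁻¹ * hE h x * k⁻¹ ∧
      fE h (k * x * k⁻¹) = k⁻¹ * fE h x * k := by
  have hkD := h.kSub_le hk
  refine h.triple_eq (h.conj_Q_D hkD hx) (fun e => hx1 (conj_eq_one_iff.1 e))
    (h.conj_Q_D' hkD (h.gE_mem x))
    (mul_mem (mul_mem (inv_mem hkD) (h.hE_mem x)) (inv_mem hkD))
    (h.conj_Q_D' hkD (h.fE_mem x)) ?_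
  have e1 : k⁻¹ * t = t * k := (h.k_t' hk).symm
  calc t * (k * x * k⁻¹) * t = t * k * x * (k⁻¹ * t) := by group
    _ = (k⁻¹ * t) * x * (t * k) := by rw [e1]
    _ = k⁻¹ * (t * x * t) * k := by group
    _ = k⁻¹ * gE h x * hE h x * (k⁻¹ * k) * t * fE h x * k := by rw [h.rw_eq hx hx1]; group
    _ = k⁻¹ * gE h x * hE h x * k⁻¹ * (k * t) * fE h x * k := by group
    _ = k⁻¹ * gE h x * hE h x * k⁻¹ * (t * k⁻¹) * fE h x * k := by
      rw [show k * t = t * k⁻¹ by rw [h.k_t' (inv_mem hk), inv_inv]]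
    _ = k⁻¹ * gE h x * k * (k⁻¹ * hE h x * k⁻¹) * t * (k⁻¹ * fE h x * k) := by group

theorem hE_mem_lSub {x : G} (hx : x ∈ Q) : hE h x ∈ lSub t Q := by
  rcases eq_or_ne x 1 with rfl | hx1
  · rw [hE, dif_neg fun e => e.2 rfl]; exact one_mem _
  have e : hE h x = (gE h x)⁻¹ * (t * x * t) * (fE h x)⁻¹ * t⁻¹ := by rw [h.rw_eq hx hx1]; group
  rw [e]
  have h1 : Q ≤ lSub t Q := Q_le_lSub
  exact mul_mem (mul_mem (mul_mem (inv_mem (h1 (h.gE_mem x)))
    (mul_mem (mul_mem t_mem_lSub (h1 hx)) t_mem_lSub)) (inv_mem (h1 (h.fE_mem x))))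
    (inv_mem t_mem_lSub)

theorem kSub_le_lSub : h.kSub ≤ lSub t Q := by
  intro k hk
  have hkD := h.kSub_le hk
  have hs1 : h.sElt ∈ Q := h.zSub_le h.s_mem
  obtain ⟨-, hh, -⟩ := h.triple_k hs1 h.s_ne hk
  obtain ⟨-, hs, -⟩ := h.triple_eq hs1 h.s_ne (inv_mem h.r_mem) (one_mem _) h.r_mem
    (by rw [mul_one]; exact h.tst)
  rw [hs, mul_one] at hh
  have h2 : k⁻¹ * k⁻¹ ∈ lSub t Q := hh ▸ h.hE_mem_lSub (h.conj_Q_D hkD hs1)
  have h3 : k * k ∈ lSub t Q := by
    have := inv_mem h2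
    rwa [mul_inv_rev, inv_inv] at this
  obtain ⟨j, hj⟩ : Odd (orderOf k) := Odd.of_dvd_nat h.hS.odd_card
    (Subgroup.orderOf_dvd_natCard _ hkD)
  have : k = (k * k) ^ (j + 1) := by
    rw [← pow_two, ← pow_mul, show 2 * (j + 1) = orderOf k + 1 by omega, pow_succ, pow_orderOf_eq_one,
      one_mul]
  rw [this]
  exact pow_mem h3 _

theorem exists_lSub_mul (g : G) : ∃ l ∈ lSub t Q, ∃ d ∈ twoStab a t, g = l * d := by
  by_cases hg : g • a = a
  · obtain ⟨x, hx, d, hd, rfl⟩ := exists_mul_of_mem h.hS (mem_stabilizer_iff.2 hg)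
    exact ⟨x, Q_le_lSub hx, d, hd, rfl⟩
  obtain ⟨x, hx, e⟩ := exists_Q_move h.hS hg
  obtain ⟨y, hy, d, hd, e'⟩ := exists_mul_of_mem h.hS (x := (x * t)⁻¹ * g) (by
    rw [mem_stabilizer_iff, mul_smul, inv_smul_eq_iff, mul_smul, e])
  exact ⟨x * t * y, mul_mem (mul_mem (Q_le_lSub hx) t_mem_lSub) (Q_le_lSub hy), d, hd,
    by rw [mul_assoc (x * t), ← e', mul_inv_cancel_left]⟩

theorem lSub_normal : (lSub t Q).Normal := by
  have hD : ∀ d ∈ twoStab a t, ∀ l ∈ lSub t Q, d * l * d⁻¹ ∈ lSub t Q := by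
    intro d hd l hl
    induction hl using Subgroup.closure_induction with
    | mem y hy =>
      rcases hy with hy | hy
      · exact Q_le_lSub (h.conj_Q_D hd hy)
      · rw [Set.mem_singleton_iff] at hy
        obtain ⟨v, hv, k, hk, rfl⟩ := h.exists_vk hd
        have e : v * k * t * (v * k)⁻¹ = (v * (k * k) * v⁻¹) * t := by
          have e1 : k * t * k⁻¹ = k * k * t := by
            calc k * t * k⁻¹ = k * (t * k⁻¹) := mul_assoc _ _ _
              _ = k * k * t := by rw [h.k_t' (inv_mem hk), inv_inv, mul_assoc]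
          have e2 : t * v⁻¹ = v⁻¹ * t := (h.mem_vSub.1 (inv_mem hv)).2.symm
          calc v * k * t * (v * k)⁻¹ = v * (k * t * k⁻¹) * v⁻¹ := by group
            _ = v * (k * k) * (t * v⁻¹) := by rw [e1]; group
            _ = (v * (k * k) * v⁻¹) * t := by rw [e2]; group
        rw [hy, e]
        exact mul_mem (h.kSub_le_lSub (h.conj_k hv.1 (mul_mem hk hk))) t_mem_lSub
    | one => rw [mul_one, mul_inv_cancel]; exact one_mem _
    | mul y z _ _ hy hz =>
      have := mul_mem hy hz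
      rwa [show d * y * d⁻¹ * (d * z * d⁻¹) = d * (y * z) * d⁻¹ by group] at this
    | inv y _ hy =>
      have := inv_mem hy
      rwa [show (d * y * d⁻¹)⁻¹ = d * y⁻¹ * d⁻¹ by group] at this
  refine ⟨fun l hl g => ?_⟩
  obtain ⟨m, hm, d, hd, rfl⟩ := h.exists_lSub_mul g
  have := mul_mem (mul_mem hm (hD d hd l hl)) (inv_mem hm)
  rwa [show m * (d * l * d⁻¹) * m⁻¹ = m * d * l * (m * d)⁻¹ by group] at this

theorem lSub_index_odd : Odd (lSub t Q).index := by
  haveI := h.lSub_normal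
  let φ : twoStab a t →* G ⧸ lSub t Q :=
    (QuotientGroup.mk' (lSub t Q)).comp (twoStab a t).subtype
  have hφ : Function.Surjective φ := fun c => by
    obtain ⟨g, rfl⟩ := QuotientGroup.mk_surjective c
    obtain ⟨l, hl, d, hd, rfl⟩ := h.exists_lSub_mul g
    refine ⟨⟨d, hd⟩, ?_⟩
    show (QuotientGroup.mk d : G ⧸ lSub t Q) = QuotientGroup.mk (l * d)
    rw [QuotientGroup.eq]
    have := h.lSub_normal.conj_mem l hl d⁻¹
    rwa [inv_inv, mul_assoc] at this
  exact Odd.of_dvd_nat h.hS.odd_card (Subgroup.card_dvd_of_surjective φ hφ)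

/-- A subgroup of `D` containing all `h(x)` contains the two-point stabiliser of `L`. -/
theorem lSub_inf_le {D1 : Subgroup G} (hle : D1 ≤ twoStab a t)
    (ht : ∀ d ∈ D1, t * d * t ∈ D1) (hh : ∀ x ∈ Q, x ≠ 1 → hE h x ∈ D1) :
    lSub t Q ⊓ twoStab a t ≤ D1 := by
  let S : Set G := {g | (∃ x ∈ Q, ∃ d ∈ D1, g = x * d) ∨
    (∃ x ∈ Q, ∃ d ∈ D1, ∃ y ∈ Q, g = x * d * t * y)}
  have hQ : ∀ x ∈ Q, ∀ g ∈ S, x * g ∈ S := by
    intro x hx g hg
    rcases hg with ⟨x', hx', d, hd, rfl⟩ | ⟨x', hx', d, hd, y, hy, rfl⟩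
    · exact Or.inl ⟨x * x', mul_mem hx hx', d, hd, (mul_assoc _ _ _).symm⟩
    · exact Or.inr ⟨x * x', mul_mem hx hx', d, hd, y, hy, by group⟩
  have hT : ∀ g ∈ S, t * g ∈ S := by
    intro g hg
    rcases hg with ⟨x, hx, d, hd, rfl⟩ | ⟨x, hx, d, hd, y, hy, rfl⟩
    · refine Or.inr ⟨1, one_mem Q, t * d * t, ht d hd, d⁻¹ * x * d,
        h.conj_Q_D' (hle hd) hx, ?_⟩
      simp only [one_mul, mul_assoc, h.tt, mul_inv_cancel_left]
    · rcases eq_or_ne x 1 with rfl | hx1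
      · refine Or.inl ⟨t * d * t * y * (t * d * t)⁻¹,
          h.conj_Q_D (conj_t_mem_D h.hS (hle hd)) hy, t * d * t, ht d hd, ?_⟩
        rw [inv_mul_cancel_right]
        group
      · have hd' : t * d * t ∈ twoStab a t := conj_t_mem_D h.hS (hle hd)
        refine Or.inr ⟨gE h x, h.gE_mem x, hE h x * d, mul_mem (hh x hx hx1) hd,
          (t * d * t)⁻¹ * fE h x * (t * d * t) * y,
          mul_mem (h.conj_Q_D' hd' (h.fE_mem x)) hy, ?_⟩
        have e1 : t * (x * d * t * y) = t * x * t * (t * d * t) * y := by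
          simp only [mul_assoc, h.tt]
        rw [e1, h.rw_eq hx hx1]
        simp only [mul_inv_rev, h.t_inv, mul_assoc, h.tt, mul_inv_cancel_left]
  have hS' : ∀ g ∈ lSub t Q, g ∈ S := by
    intro g hg
    induction hg using Subgroup.closure_induction_left with
    | one => exact Or.inl ⟨1, one_mem Q, 1, one_mem D1, (one_mul 1).symm⟩
    | mul_left y hy z _ hz =>
      rcases hy with hy | hy
      · exact hQ y hy z hz
      · rw [Set.mem_singleton_iff] at hy; subst hy; exact hT z hz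
    | inv_mul_cancel y hy z _ hz =>
      rcases hy with hy | hy
      · exact hQ _ (inv_mem hy) z hz
      · rw [Set.mem_singleton_iff] at hy; subst hy; rw [h.t_inv]; exact hT z hz
  rintro g ⟨hgL, hgD⟩
  rcases hS' g hgL with ⟨x, hx, d, hd, e⟩ | ⟨x, hx, d, hd, y, hy, e⟩
  · obtain ⟨-, e'⟩ := mul_unique h.hS (one_mem Q) hx hgD (hle hd) (by rw [one_mul]; exact e)
    exact e' ▸ hd
  · exfalso
    have e2 := (mem_twoStab.1 hgD).1
    rw [e, mul_smul, mul_smul, mul_smul, Q_fix h.hS hy, (mem_twoStab.1 (hle hd)).2] at e2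
    exact h.q_pt_ne hx e2

theorem exists_lSub_move (c : Ω) : ∃ l ∈ lSub t Q, l • a = c := by
  rcases eq_or_ne c a with rfl | hc
  · exact ⟨1, one_mem _, one_smul _ _⟩
  · obtain ⟨x, hx, e⟩ := exists_Q_move h.hS hc
    exact ⟨x * t, mul_mem (Q_le_lSub hx) t_mem_lSub, by rw [mul_smul, e]⟩

theorem lSub_two_transitive : IsMultiplyPretransitive (lSub t Q) Ω 2 := by
  rw [is_two_pretransitive_iff]
  have key : ∀ c d : Ω, c ≠ d → ∃ l : lSub t Q, (l : G) • c = a ∧ (l : G) • d = t • a := by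
    intro c d hcd
    obtain ⟨l, hl, e⟩ := h.exists_lSub_move c
    have hd : l⁻¹ • d ≠ a := fun e' => hcd (by rw [← e, ← e', smul_inv_smul])
    obtain ⟨x, hx, ex⟩ := exists_Q_move h.hS hd
    refine ⟨⟨x⁻¹ * l⁻¹, mul_mem (inv_mem (Q_le_lSub hx)) (inv_mem hl)⟩, ?_, ?_⟩
    · rw [mul_smul, inv_smul_eq_iff.2 e.symm, Q_inv_fix h.hS hx]
    · rw [mul_smul, ← ex, inv_smul_smul]
  intro c d c' d' hcd hcd'
  obtain ⟨l, h1, h3⟩ := key c d hcd
  obtain ⟨l', h1', h3'⟩ := key c' d' hcd'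
  refine ⟨l'⁻¹ * l, ?_, ?_⟩
  · show ((l' : G)⁻¹ * l) • c = c'
    rw [mul_smul, h1, ← h1', inv_smul_smul]
  · show ((l' : G)⁻¹ * l) • d = d'
    rw [mul_smul, h3, ← h3', inv_smul_smul]

section faithful

variable [FaithfulSMul G Ω] (hp : IsPGroup 2 Q)
include hp

theorem lSub_simple : IsSimpleGroup (lSub t Q) := by
  classical
  have hK1 : ∃ k ∈ h.kSub, k ≠ 1 := by
    by_contra hno
    push Not at hno
    have : h.kSub = ⊥ := (Subgroup.eq_bot_iff_forall _).2 hno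
    have h4 := h.four_le_card_zSub
    rw [h.card_zSub, this, Subgroup.card_bot] at h4
    omega
  haveI : Nontrivial (lSub t Q) := ⟨⟨⟨t, t_mem_lSub⟩, 1, fun e => h.hS.ne_one (congrArg Subtype.val e)⟩⟩
  refine ⟨fun N hN => ?_⟩
  by_contra hne
  push Not at hne
  obtain ⟨hNbot, hNtop⟩ := hne
  set M : Subgroup G := N.map (lSub t Q).subtype with hMdef
  have hML : M ≤ lSub t Q := Subgroup.map_subtype_le N
  have hMn : ∀ l ∈ lSub t Q, ∀ m ∈ M, l * m * l⁻¹ ∈ M := by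
    rintro l hl _ ⟨⟨m, hm⟩, hmN, rfl⟩
    exact ⟨⟨l, hl⟩ * ⟨m, hm⟩ * ⟨l, hl⟩⁻¹, hN.conj_mem _ hmN _, rfl⟩
  -- `M` is transitive
  obtain ⟨m0, hm0, hm0a⟩ : ∃ m ∈ M, m • a ≠ a := by
    by_contra hno
    push Not at hno
    refine hNbot ((Subgroup.eq_bot_iff_forall _).2 fun n hn => Subtype.ext ?_)
    refine h.eq_one_of_fix_all fun c => ?_
    obtain ⟨l, hl, rfl⟩ := h.exists_lSub_move c
    have := hno _ (hMn l⁻¹ (inv_mem hl) n ⟨n, hn, rfl⟩)
    rwa [inv_inv, mul_smul, mul_smul, inv_smul_eq_iff] at this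
  have hMtr : ∀ c : Ω, ∃ m ∈ M, m • a = c := by
    intro c
    rcases eq_or_ne c a with rfl | hc
    · exact ⟨1, one_mem M, one_smul _ _⟩
    · obtain ⟨x, hx, e⟩ := exists_Q_move' h.hS hm0a hc
      exact ⟨x * m0 * x⁻¹, hMn x (Q_le_lSub hx) m0 hm0,
        by rw [mul_smul, Q_inv_fix h.hS hx, mul_smul, e]⟩
  by_cases hev : Even (Nat.card M)
  · -- `M` contains the involutions, hence `t`, `K` and `Q`
    haveI : Fact (Nat.Prime 2) := ⟨Nat.prime_two⟩
    obtain ⟨⟨i, hiM⟩, hi⟩ := exists_prime_orderOf_dvd_card' 2 (even_iff_two_dvd.1 hev)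
    rw [Subgroup.orderOf_mk] at hi
    have hi2 : i * i = 1 := by rw [← pow_two, ← hi, pow_orderOf_eq_one]
    have hi1 : i ≠ 1 := fun e => by rw [e, orderOf_one] at hi; omega
    obtain ⟨c, hc⟩ := exists_fixed h.hS hi2
    obtain ⟨l, hl, rfl⟩ := h.exists_lSub_move c
    have hz0 : l⁻¹ * i * l ∈ M := by simpa using hMn l⁻¹ (inv_mem hl) i hiM
    have hz0Z : l⁻¹ * i * l ∈ h.zSub := h.mem_zSub.2
      ⟨by rw [mul_smul, mul_smul, inv_smul_eq_iff, hc], by
        calc l⁻¹ * i * l * (l⁻¹ * i * l) = l⁻¹ * (i * i) * l := by group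
          _ = 1 := by rw [hi2]; group⟩
    have hz01 : l⁻¹ * i * l ≠ 1 := fun e => hi1 (by
      calc i = l * (l⁻¹ * i * l) * l⁻¹ := by group
        _ = 1 := by rw [e]; group)
    obtain ⟨k0, hk0, ek0⟩ := h.exists_k_conj hz0Z hz01
    have hsM : h.sElt ∈ M := by
      have := hMn k0⁻¹ (inv_mem (h.kSub_le_lSub hk0)) _ hz0
      rw [← ek0] at this
      simpa [mul_assoc] using this
    have hzM : h.zSub ≤ M := by
      intro z hz
      rcases eq_or_ne z 1 with rfl | hz1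
      · exact one_mem M
      · obtain ⟨k, hk, rfl⟩ := h.exists_k_conj hz hz1
        exact hMn k (h.kSub_le_lSub hk) _ hsM
    have htM : t ∈ M := by
      obtain ⟨c, hc⟩ := exists_fixed h.hS h.hS.mul_self
      obtain ⟨l, hl, rfl⟩ := h.exists_lSub_move c
      have hz : l⁻¹ * t * l ∈ h.zSub := h.mem_zSub.2
        ⟨by rw [mul_smul, mul_smul, inv_smul_eq_iff, hc], by
          calc l⁻¹ * t * l * (l⁻¹ * t * l) = l⁻¹ * (t * t) * l := by group
            _ = 1 := by rw [h.hS.mul_self]; group⟩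
      have := hMn l hl _ (hzM hz)
      simpa [mul_assoc] using this
    have hkM : ∀ k ∈ h.kSub, k * k ∈ M := by
      intro k hk
      have h1 : t * (k⁻¹ * t * k⁻¹⁻¹) ∈ M :=
        mul_mem htM (hMn k⁻¹ (inv_mem (h.kSub_le_lSub hk)) t htM)
      rwa [inv_inv, show t * (k⁻¹ * t * k) = (t * k⁻¹ * t) * k by group,
        h.k_t (inv_mem hk), inv_inv] at h1
    have hkM' : ∀ k ∈ h.kSub, k ∈ M := by
      intro k hk
      obtain ⟨j, hj⟩ : Odd (orderOf k) := Odd.of_dvd_nat h.hS.odd_card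
        (Subgroup.orderOf_dvd_natCard _ (h.kSub_le hk))
      have : k = (k * k) ^ (j + 1) := by
        rw [← pow_two, ← pow_mul, show 2 * (j + 1) = orderOf k + 1 by omega, pow_succ,
          pow_orderOf_eq_one, one_mul]
      rw [this]
      exact pow_mem (hkM k hk) _
    obtain ⟨k, hk, hk1⟩ := hK1
    let ψ : Q → Q := fun x => ⟨(x : G) * k * (x : G)⁻¹ * k⁻¹, by
      have := mul_mem x.2 (h.conj_Q_D (h.kSub_le hk) (inv_mem x.2))
      rwa [← mul_assoc, ← mul_assoc] at this⟩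
    have hψ : Function.Injective ψ := by
      intro x y e
      have e' : (x : G) * k * (x : G)⁻¹ * k⁻¹ = (y : G) * k * (y : G)⁻¹ * k⁻¹ :=
        congrArg Subtype.val e
      have hc : k * ((y : G)⁻¹ * x) = (y : G)⁻¹ * x * k := by
        calc k * ((y : G)⁻¹ * x) = (y : G)⁻¹ * ((y : G) * k * (y : G)⁻¹ * k⁻¹) * k * x := by group
          _ = (y : G)⁻¹ * x * k := by rw [← e']; group
      exact Subtype.ext (inv_mul_eq_one.1
        (h.k_fpf hk hk1 (mul_mem (inv_mem y.2) x.2) hc)).symm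
    have hQM : Q ≤ M := by
      intro x hx
      obtain ⟨y, hy⟩ := Finite.surjective_of_injective hψ ⟨x, hx⟩
      have e : (y : G) * k * (y : G)⁻¹ * k⁻¹ = x := congrArg Subtype.val hy
      rw [← e]
      exact mul_mem (hMn y (Q_le_lSub y.2) k (hkM' k hk)) (inv_mem (hkM' k hk))
    refine hNtop (eq_top_iff.2 fun l _ => ?_)
    have : (l : G) ∈ M := (Subgroup.closure_le M).2 (Set.union_subset hQM
      (by simpa using htM)) l.2
    obtain ⟨m, hm, e⟩ := this
    rwa [Subtype.ext e] at hm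
  · rw [Nat.not_even_iff_odd] at hev
    have hMQ : ∀ x ∈ Q, x ∈ M → x = 1 := by
      intro x hx hxM
      obtain ⟨j, hj⟩ := hp ⟨x, hx⟩
      have h2 : orderOf x ∣ 2 ^ j := orderOf_dvd_of_pow_eq_one (congrArg Subtype.val hj)
      have h3 : orderOf x ∣ Nat.card M := Subgroup.orderOf_dvd_natCard _ hxM
      obtain ⟨i, -, hi⟩ := (Nat.dvd_prime_pow Nat.prime_two).1 h2
      rcases i with _ | i
      · exact orderOf_eq_one_iff.1 (by rw [hi, pow_zero])
      · exact absurd (Odd.of_dvd_nat hev ((Dvd.intro_left (2 ^ i) (pow_succ 2 i).symm).trans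
          (hi ▸ h3))) (by decide)
    have hfix : ∀ m ∈ M, m • a = a → m = 1 := by
      intro m hm hma
      have hc : ∀ x ∈ Q, m * x = x * m := by
        intro x hx
        have h1 : m * x * m⁻¹ * x⁻¹ = 1 := by
          refine hMQ _ (mul_mem (h.hS.conj_mem m hma x hx) (inv_mem hx)) ?_
          have := mul_mem hm (hMn x (Q_le_lSub hx) _ (inv_mem hm))
          rwa [← mul_assoc, ← mul_assoc] at this
        exact mul_inv_eq_iff_eq_mul.1 (mul_inv_eq_one.1 h1)
      obtain ⟨x, hx, d, hd, rfl⟩ := exists_mul_of_mem h.hS (mem_stabilizer_iff.2 hma)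
      have hpow : ∀ n : ℕ, (x * d) ^ n • t • a = x ^ n • t • a := by
        intro n
        induction n with
        | zero => simp
        | succ n ih =>
          rw [pow_succ, mul_smul, mul_smul x d, (mem_twoStab.1 hd).2]
          rw [← mul_smul ((x * d) ^ n) x]
          have hcx : (x * d) ^ n * x = x * (x * d) ^ n :=
            ((show Commute (x * d) x from hc x hx).pow_left n)
          rw [hcx, mul_smul, ih, ← mul_smul, ← pow_succ']
      have ho : x = 1 := by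
        have h1 := hpow (Nat.card M)
        have h2 : (x * d) ^ Nat.card M = 1 := congrArg Subtype.val
          (pow_card_eq_one' (x := (⟨x * d, hm⟩ : M)))
        rw [h2, one_smul] at h1
        have h3 : x ^ Nat.card M = 1 := eq_one_of_fix h.hS (pow_mem hx _) h1.symm
        obtain ⟨j, hj⟩ := hp ⟨x, hx⟩
        have h4 : x ^ (2 ^ j) = 1 := congrArg Subtype.val hj
        have := orderOf_dvd_of_pow_eq_one h3
        have h5 := Nat.dvd_gcd this (orderOf_dvd_of_pow_eq_one h4)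
        rw [Nat.Coprime.gcd_eq_one ((Nat.coprime_two_right.2 hev).pow_right j)] at h5
        exact orderOf_eq_one_iff.1 (Nat.dvd_one.1 h5)
      subst ho
      rw [one_mul] at hc ⊢
      exact h.eq_one_of_centralises_Q hd hc
    have hinv : ∀ z ∈ h.zSub, z ≠ 1 → ∀ m ∈ M, z * m * z = m⁻¹ := by
      intro z hz hz1 m hm
      let ψ : M → M := fun n => ⟨(n : G)⁻¹ * (z * n * z⁻¹),
        mul_mem (inv_mem n.2) (hMn z (Q_le_lSub (h.zSub_le hz)) _ n.2)⟩
      have hψ : Function.Injective ψ := by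
        intro n n' e
        have e' : (n : G)⁻¹ * (z * n * z⁻¹) = (n' : G)⁻¹ * (z * n' * z⁻¹) := congrArg Subtype.val e
        rw [h.z_inv hz] at e'
        have hcomm : z * ((n' : G) * (n : G)⁻¹) = (n' : G) * (n : G)⁻¹ * z := by
          calc z * ((n' : G) * (n : G)⁻¹)
              = z * ((n' : G) * ((n : G)⁻¹ * (z * n * z))) * z⁻¹ * (n : G)⁻¹ * z⁻¹ := by group
            _ = (z * z) * (n' : G) * (z * z⁻¹) * (n : G)⁻¹ * z⁻¹ := by rw [e']; group
            _ = (n' : G) * (n : G)⁻¹ * z := by rw [h.z_sq hz, h.z_inv hz, h.z_sq hz]; group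
        have hfa : ((n' : G) * (n : G)⁻¹) • a = a := fixed_unique h.hS (h.z_sq hz) hz1
          (by rw [smul_smul, hcomm, mul_smul, (h.mem_zSub.1 hz).1]) (h.mem_zSub.1 hz).1
        exact Subtype.ext (mul_inv_eq_one.1 (hfix _ (mul_mem n'.2 (inv_mem n.2)) hfa)).symm
      obtain ⟨n, hn⟩ := Finite.surjective_of_injective hψ ⟨m, hm⟩
      have e : (n : G)⁻¹ * (z * n * z⁻¹) = m := congrArg Subtype.val hn
      rw [← e, h.z_inv hz]
      calc z * ((n : G)⁻¹ * (z * n * z)) * z = z * (n : G)⁻¹ * z * n * (z * z) := by group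
        _ = ((n : G)⁻¹ * (z * n * z))⁻¹ := by
          rw [h.z_sq hz]; simp only [mul_inv_rev, h.z_inv hz, inv_inv]; group
    obtain ⟨z1, hz1, z2, hz2, hne, h11, h21⟩ : ∃ z1 ∈ h.zSub, ∃ z2 ∈ h.zSub,
        z1 ≠ z2 ∧ z1 ≠ 1 ∧ z2 ≠ 1 := by
      obtain ⟨u, w, hu, hw, hne⟩ := exists_two_involutions h.hS h.h2
      exact ⟨u, ⟨hu.1, hu.2.2⟩, w, ⟨hw.1, hw.2.2⟩, hne, hu.2.1, hw.2.1⟩
    have hz12 : z1 * z2 ≠ 1 := fun e => hne (by rw [← h.z_inv hz2]; exact mul_eq_one_iff_eq_inv.1 e)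
    have e1 := hinv z1 hz1 h11 _ (inv_mem hm0)
    have e2 := hinv z2 hz2 h21 m0 hm0
    have e3 := hinv _ (mul_mem hz1 hz2) hz12 m0 hm0
    rw [inv_inv] at e1
    have e4 : m0 = m0⁻¹ := by
      calc m0 = z1 * m0⁻¹ * z1 := e1.symm
        _ = z1 * (z2 * m0 * z2) * z1 := by rw [e2]
        _ = z1 * z2 * m0 * (z2 * z1) := by group
        _ = m0⁻¹ := by rw [h.z_comm hz2 hz1, e3]
    have h5 : m0 * m0 = 1 := mul_eq_one_iff_eq_inv.2 e4
    have h6 : orderOf m0 ∣ 2 := orderOf_dvd_of_pow_eq_one (by rw [pow_two, h5])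
    have h7 := Nat.dvd_gcd (Subgroup.orderOf_dvd_natCard _ hm0) h6
    rw [Nat.coprime_iff_gcd_eq_one.1 (Nat.coprime_two_right.2 hev)] at h7
    exact hm0a (by rw [orderOf_eq_one_iff.1 (Nat.dvd_one.1 h7), one_smul])

theorem lSub_zassenhaus (hDK : lSub t Q ⊓ twoStab a t ≤ h.kSub) :
    IsZassenhausGroup (lSub t Q) Ω := by
  haveI := h.lSub_simple hp
  refine ⟨⟨fun {l l'} e => Subtype.ext (eq_of_smul_eq_smul fun c : Ω => e c)⟩, h.lSub_two_transitive,
    ?_, ?_, ?_⟩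
  · intro g c1 c2 c3 h12 h23 h13 e1 e2 e3
    haveI := h.lSub_two_transitive
    obtain ⟨l, hl1, hl2⟩ := is_two_pretransitive_iff.1 h.lSub_two_transitive (Ne.symm
      (t_smul_ne h.hS)) h12
    set g' : G := (l : G)⁻¹ * g * l with hg'
    have key : ∀ c : Ω, (g : G) • (l : G) • c = (l : G) • c → g' • c = c := fun c e => by
      rw [hg', mul_smul, mul_smul, e, inv_smul_smul]
    have hl1' : (l : G) • a = c1 := hl1
    have hl2' : (l : G) • t • a = c2 := hl2
    have hk : g' ∈ h.kSub := hDK ⟨(mul_mem (mul_mem (inv_mem l.2) g.2) l.2 : g' ∈ lSub t Q),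
      mem_twoStab.2 ⟨key a (by rw [hl1']; exact e1), key _ (by rw [hl2']; exact e2)⟩⟩
    have hd : (l : G)⁻¹ • c3 ≠ a := fun e' => h13 (by rw [← hl1', ← e', smul_inv_smul])
    obtain ⟨x, hx, ex⟩ := exists_Q_move h.hS hd
    have hx3 : g' • x • t • a = x • t • a := by
      rw [ex]; exact key _ (by rw [smul_inv_smul]; exact e3)
    have hcx : g' * x * g'⁻¹ = x := h.q_pt_inj (h.conj_Q_D (h.kSub_le hk) hx) hx (by
      rw [mul_smul, mul_smul, inv_smul_eq_iff.2 (mem_twoStab.1 (h.kSub_le hk)).2.symm, hx3])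
    have hx1 : x ≠ 1 := fun e' => h23 (by
      rw [← hl2', ← smul_inv_smul (l : G) c3, ← ex, e', one_smul])
    by_contra hg
    refine hx1 (h.k_fpf hk (fun e' => hg ?_) hx (mul_inv_eq_iff_eq_mul.1 hcx))
    refine Subtype.ext ?_
    calc (g : G) = (l : G) * g' * (l : G)⁻¹ := by rw [hg']; group
      _ = 1 := by rw [e']; group
  · obtain ⟨k, hk, hk1⟩ : ∃ k ∈ h.kSub, k ≠ 1 := by
      by_contra hno
      push Not at hno
      have : h.kSub = ⊥ := (Subgroup.eq_bot_iff_forall _).2 hno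
      have h4 := h.four_le_card_zSub
      rw [h.card_zSub, this, Subgroup.card_bot] at h4
      omega
    exact ⟨⟨k, h.kSub_le_lSub hk⟩, fun e => hk1 (congrArg Subtype.val e), a, t • a,
      (t_smul_ne h.hS).symm, (mem_twoStab.1 (h.kSub_le hk)).1, (mem_twoStab.1 (h.kSub_le hk)).2⟩
  · intro N hN htr
    rcases hN.eq_bot_or_eq_top with rfl | rfl
    · obtain ⟨n, hn⟩ := htr.exists_smul_eq a (t • a)
      rw [show n = 1 from Subtype.ext (Subgroup.mem_bot.1 n.2), one_smul] at hn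
      exact absurd hn.symm (t_smul_ne h.hS)
    · refine ⟨a, fun e => h.s_ne ?_⟩
      have hs : (⟨⟨h.sElt, Q_le_lSub (h.zSub_le h.s_mem)⟩, Subgroup.mem_top _⟩ :
          (⊤ : Subgroup (lSub t Q))) ∈ stabilizer (⊤ : Subgroup (lSub t Q)) a := h.s_mem.1
      rw [e, Subgroup.mem_bot] at hs
      exact congrArg Subtype.val (congrArg Subtype.val hs)

end faithful

end Setup

end Cfsg.Agent.Lib.SplitRankOne70
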