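import Cfsg.Agent.Lib.SplitRankOne70.Rewrite
import Cfsg.Agent.Lib.SplitRankOne70.Field

/-!
When `r ∈ Z`: `r = s`, and `Z`, `K`, `t` generate an image of `SL₂(q)` which is semiregular on the
points outside `{a} ∪ Z • t • a`.
-/

set_option autoImplicit false
set_option linter.unusedSectionVars false
set_option linter.style.haveILetI false

namespace Cfsg.Agent.Lib.SplitRankOne70

open Cfsg MulAction Cfsg.Agent.Lib.RankOne
open scoped MatrixGroups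

universe u v

/-- The `2 × 2` matrix with the given entries. -/
def mkM {F : Type} [Field F] (a b c d : F) (hdet : a * d - b * c = 1) : SL(2, F) :=
  ⟨!![a, b; c, d], by rw [Matrix.det_fin_two]; simpa using hdet⟩

section mat

variable {F : Type} [Field F] [CharP F 2]

/-- Upper unitriangular. -/
def mU (c : F) : SL(2, F) := mkM 1 c 0 1 (by ring)

/-- Diagonal. -/
def mD (l : Fˣ) : SL(2, F) := mkM (l : F) 0 0 ((l⁻¹ : Fˣ) : F) (by simp)

/-- The swap. -/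
def mT : SL(2, F) := mkM 0 1 1 0 (by rw [mul_zero, one_mul, zero_sub, CharTwo.neg_eq])

theorem det_two (M : SL(2, F)) : M 0 0 * M 1 1 + M 0 1 * M 1 0 = 1 := by
  have h := Matrix.det_fin_two M.1
  rw [M.2, CharTwo.sub_eq_add] at h
  exact h.symm

theorem mat_ext {M N : SL(2, F)} (h00 : M 0 0 = N 0 0) (h01 : M 0 1 = N 0 1) (h10 : M 1 0 = N 1 0)
    (h11 : M 1 1 = N 1 1) : M = N := by
  refine Subtype.ext ?_
  ext i j; fin_cases i <;> fin_cases j <;> assumption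

theorem mul_00 (M N : SL(2, F)) : (M * N) 0 0 = M 0 0 * N 0 0 + M 0 1 * N 1 0 := by
  show (M.1 * N.1) 0 0 = _
  rw [Matrix.mul_apply, Fin.sum_univ_two]

theorem mul_01 (M N : SL(2, F)) : (M * N) 0 1 = M 0 0 * N 0 1 + M 0 1 * N 1 1 := by
  show (M.1 * N.1) 0 1 = _
  rw [Matrix.mul_apply, Fin.sum_univ_two]

theorem mul_10 (M N : SL(2, F)) : (M * N) 1 0 = M 1 0 * N 0 0 + M 1 1 * N 1 0 := by
  show (M.1 * N.1) 1 0 = _
  rw [Matrix.mul_apply, Fin.sum_univ_two]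

theorem mul_11 (M N : SL(2, F)) : (M * N) 1 1 = M 1 0 * N 0 1 + M 1 1 * N 1 1 := by
  show (M.1 * N.1) 1 1 = _
  rw [Matrix.mul_apply, Fin.sum_univ_two]

@[simp] theorem mU_00 (c : F) : mU c 0 0 = 1 := rfl
@[simp] theorem mU_01 (c : F) : mU c 0 1 = c := rfl
@[simp] theorem mU_10 (c : F) : mU c 1 0 = 0 := rfl
@[simp] theorem mU_11 (c : F) : mU c 1 1 = 1 := rfl
@[simp] theorem mD_00 (l : Fˣ) : mD l 0 0 = (l : F) := rfl
@[simp] theorem mD_01 (l : Fˣ) : mD l 0 1 = 0 := rfl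
@[simp] theorem mD_10 (l : Fˣ) : mD l 1 0 = 0 := rfl
@[simp] theorem mD_11 (l : Fˣ) : mD l 1 1 = ((l⁻¹ : Fˣ) : F) := rfl
@[simp] theorem mT_00 : (mT : SL(2, F)) 0 0 = 0 := rfl
@[simp] theorem mT_01 : (mT : SL(2, F)) 0 1 = 1 := rfl
@[simp] theorem mT_10 : (mT : SL(2, F)) 1 0 = 1 := rfl
@[simp] theorem mT_11 : (mT : SL(2, F)) 1 1 = 0 := rfl

/-- The decomposition of a matrix. -/
theorem decomp_mat (M : SL(2, F)) :
    (∃ (hc : M 0 0 ≠ 0), M 1 0 = 0 ∧ M = mU (M 0 0 * M 0 1) * mD (Units.mk0 _ hc)) ∨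
    ∃ (hc : M 1 0 ≠ 0),
      M = mU (M 0 0 / M 1 0) * mD (Units.mk0 _ hc)⁻¹ * mT * mU (M 1 1 / M 1 0) := by
  have hd := det_two M
  by_cases hc : M 1 0 = 0
  · have h0 : M 0 0 ≠ 0 := fun e => one_ne_zero (α := F) (by rw [← hd, e, hc]; ring)
    refine Or.inl ⟨h0, hc, mat_ext ?_ ?_ ?_ ?_⟩
    · simp [mul_00]
    · simp [mul_01]; field_simp
    · simp [mul_10, hc]
    · simp [mul_11]
      rw [hc, mul_zero, add_zero] at hd
      field_simp
      linear_combination hd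
  · refine Or.inr ⟨hc, mat_ext ?_ ?_ ?_ ?_⟩
    · simp [mul_00, mul_01]; field_simp
    · simp [mul_00, mul_01]
      field_simp
      linear_combination hd - M 0 0 * M 1 1 * CharTwo.two_eq_zero (R := F)
    · simp [mul_10, mul_11]
    · simp [mul_10, mul_11]; field_simp

end mat

variable {G : Type u} {Ω : Type v} [Group G] [MulAction G Ω] [Finite G] {a : Ω} {t : G}
  {Q : Subgroup G}

namespace Setup

variable (h : Setup a t Q)
include h

/-- If `r` is an involution of the point stabiliser, `r = s`. -/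
theorem r_eq_s (hr : h.rElt ∈ h.zSub) : h.rElt = h.sElt := by
  have hrQ := h.r_mem
  have hri := h.z_inv hr
  have hr1 : h.rElt ≠ 1 := fun e => by
    have e1 := h.tst
    rw [e, inv_one, one_mul, mul_one] at e1
    have e2 : h.sElt = t := by
      calc h.sElt = t * (t * h.sElt * t) * t := by simp only [mul_assoc, h.tt, h.hS.mul_self, mul_one]
        _ = t := by rw [e1, h.hS.mul_self, one_mul]
    exact h.hS.not_mem (e2 ▸ h.s_mem.1)
  obtain ⟨hgs, -, -⟩ := h.triple_eq (h.zSub_le h.s_mem) h.s_ne (inv_mem hrQ) (one_mem _) hrQ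
    (by rw [mul_one]; exact h.tst)
  obtain ⟨hgr, -, -⟩ := h.triple_eq hrQ hr1 hrQ (one_mem _) (h.zSub_le h.s_mem) (by
    have e1 := h.tst
    rw [hri] at e1
    rw [mul_one]
    have e4 : h.rElt * t * h.sElt * t = t * h.rElt := by
      calc h.rElt * t * h.sElt * t = h.rElt * (t * h.sElt * t) := by group
        _ = (h.rElt * h.rElt) * t * h.rElt := by rw [e1]; group
        _ = t * h.rElt := by rw [h.z_sq hr, one_mul]
    rw [← e4, mul_assoc _ t t, h.hS.mul_self, mul_one])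
  obtain ⟨k, hk, ek⟩ := h.exists_k_conj hr hr1
  obtain ⟨hgk, -, -⟩ := h.triple_k (h.zSub_le h.s_mem) h.s_ne hk
  rw [ek, hgr, hgs, hri] at hgk
  calc h.rElt = k⁻¹ * h.rElt * k := hgk
    _ = h.sElt := by rw [← ek]; group

theorem sts (hr : h.rElt ∈ h.zSub) : t * h.sElt * t = h.sElt * t * h.sElt := by
  rw [h.tst, h.z_inv hr, h.r_eq_s hr]

end Setup

section act

variable {h : Setup a t Q} {F : Type} [Field F] [Fintype F] [CharP F 2] (Φ : ZField h F)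
  (hr : h.rElt ∈ h.zSub)

/-- The element of `K` acting on `Z` as `l²`. -/
noncomputable def ZField.kl (l : Fˣ) : G := (Φ.κ.symm (l * l) : G)

theorem ZField.kl_mem (l : Fˣ) : Φ.kl l ∈ h.kSub := (Φ.κ.symm (l * l)).2

theorem ZField.kl_mul (l m : Fˣ) : Φ.kl (l * m) = Φ.kl l * Φ.kl m := by
  rw [ZField.kl, ZField.kl, ZField.kl, ← Subgroup.coe_mul, ← map_mul, mul_mul_mul_comm]

theorem ZField.kl_one : Φ.kl 1 = 1 := by rw [ZField.kl, one_mul, map_one, OneMemClass.coe_one]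

theorem ZField.kl_inv (l : Fˣ) : Φ.kl l⁻¹ = (Φ.kl l)⁻¹ :=
  eq_inv_of_mul_eq_one_left (by rw [← Φ.kl_mul, inv_mul_cancel, Φ.kl_one])

theorem ZField.kl_e (l : Fˣ) (x : F) : Φ.kl l * Φ.e x = Φ.e ((l : F) * l * x) * Φ.kl l := by
  have := Φ.k_e (Φ.κ.symm (l * l)) x
  rw [MulEquiv.apply_symm_apply, Units.val_mul, mul_inv_eq_iff_eq_mul] at this
  exact this

theorem ZField.e_kl (l : Fˣ) (x : F) :
    Φ.e x * Φ.kl l = Φ.kl l * Φ.e (((l⁻¹ : Fˣ) : F) * (l⁻¹ : Fˣ) * x) := by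
  rw [Φ.kl_e]; congr 2; rw [Units.val_inv_eq_inv_val]; field_simp

theorem ZField.t_kl (l : Fˣ) : t * Φ.kl l = Φ.kl l⁻¹ * t := by
  rw [Φ.kl_inv]; exact h.k_t' (Φ.kl_mem l)

theorem ZField.kl_injective : Function.Injective Φ.kl := by
  intro l m e
  have e1 : (l : F) * l = (m : F) * m := by
    have := Φ.κ.symm.injective (Subtype.ext e)
    simpa using congrArg Units.val this
  refine Units.ext (CharTwo.add_eq_zero.1 (mul_self_eq_zero.1 ?_))
  rw [CharTwo.add_mul_self, e1, CharTwo.add_self_eq_zero]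

theorem ZField.exists_sq (x : Fˣ) : ∃ l : Fˣ, l * l = x := by
  obtain ⟨k, hk⟩ := FiniteField.isSquare_of_char_two (ringChar.eq F 2) (x : F)
  exact ⟨Units.mk0 k (fun e => x.ne_zero (by rw [hk, e, mul_zero])), Units.ext hk.symm⟩

include hr

theorem ZField.t_e (x : Fˣ) :
    t * Φ.e x * t = Φ.e ((x⁻¹ : Fˣ) : F) * Φ.kl x⁻¹ * t * Φ.e ((x⁻¹ : Fˣ) : F) := by
  obtain ⟨l, rfl⟩ := ZField.exists_sq (F := F) x
  have e1 : Φ.e ((l * l : Fˣ) : F) = Φ.kl l * h.sElt * (Φ.kl l)⁻¹ := by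
    rw [← Φ.e_one, eq_mul_inv_iff_mul_eq, Φ.kl_e, mul_one, Units.val_mul]
  have e2 : Φ.e (((l * l)⁻¹ : Fˣ) : F) = (Φ.kl l)⁻¹ * h.sElt * Φ.kl l := by
    rw [← Φ.e_one, ← Φ.kl_inv, Φ.kl_e, mul_one, mul_assoc, ← Φ.kl_mul, inv_mul_cancel, Φ.kl_one,
      mul_one, mul_inv, Units.val_mul]
  rw [e1, e2, mul_inv, Φ.kl_mul, Φ.kl_inv]
  calc t * (Φ.kl l * h.sElt * (Φ.kl l)⁻¹) * t
      = (t * Φ.kl l) * h.sElt * ((Φ.kl l)⁻¹ * t) := by group
    _ = ((Φ.kl l)⁻¹ * t) * h.sElt * (t * Φ.kl l) := by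
      rw [← Φ.kl_inv, ← Φ.t_kl]
    _ = (Φ.kl l)⁻¹ * (h.sElt * t * h.sElt) * Φ.kl l := by rw [← h.sts hr]; group
    _ = (Φ.kl l)⁻¹ * h.sElt * Φ.kl l * ((Φ.kl l)⁻¹ * t) * h.sElt * Φ.kl l := by group
    _ = (Φ.kl l)⁻¹ * h.sElt * Φ.kl l * ((Φ.kl l)⁻¹ * ((Φ.kl l)⁻¹ * t) * (Φ.kl l)⁻¹) *
        h.sElt * Φ.kl l := by
      congr 3
      calc (Φ.kl l)⁻¹ * t = (Φ.kl l)⁻¹ * (t * Φ.kl l) * (Φ.kl l)⁻¹ := by group
        _ = (Φ.kl l)⁻¹ * ((Φ.kl l)⁻¹ * t) * (Φ.kl l)⁻¹ := by rw [Φ.t_kl, Φ.kl_inv]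
    _ = (Φ.kl l)⁻¹ * h.sElt * Φ.kl l * ((Φ.kl l)⁻¹ * (Φ.kl l)⁻¹) * t *
        ((Φ.kl l)⁻¹ * h.sElt * Φ.kl l) := by group

omit hr

theorem ZField.lower_congr {x x' z z' : F} {y y' : Fˣ} (hx : x = x') (hy : y = y') (hz : z = z') :
    Φ.e x * Φ.kl y * t * Φ.e z = Φ.e x' * Φ.kl y' * t * Φ.e z' := by
  rw [hx, hy, hz]

open scoped Classical in
/-- The map `SL₂(F) → G`. -/
noncomputable def ZField.rho (M : SL(2, F)) : G :=
  if hc : M 1 0 = 0 then Φ.e (M 0 0 * M 0 1) * (if h0 : M 0 0 = 0 then 1 else Φ.kl (Units.mk0 _ h0))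
  else Φ.e (M 0 0 / M 1 0) * Φ.kl (Units.mk0 _ hc)⁻¹ * t * Φ.e (M 1 1 / M 1 0)

theorem ZField.rho_upper {M : SL(2, F)} (hc : M 1 0 = 0) (h0 : M 0 0 ≠ 0) :
    Φ.rho M = Φ.e (M 0 0 * M 0 1) * Φ.kl (Units.mk0 _ h0) := by
  rw [ZField.rho, dif_pos hc, dif_neg h0]

theorem ZField.rho_lower {M : SL(2, F)} (hc : M 1 0 ≠ 0) :
    Φ.rho M = Φ.e (M 0 0 / M 1 0) * Φ.kl (Units.mk0 _ hc)⁻¹ * t * Φ.e (M 1 1 / M 1 0) := by
  rw [ZField.rho, dif_neg hc]

theorem upper_ne {M : SL(2, F)} (hc : M 1 0 = 0) : M 0 0 ≠ 0 :=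
  fun e => one_ne_zero (α := F) (by rw [← det_two M, e, hc]; ring)

theorem ZField.rho_mU_mul (c : F) (M : SL(2, F)) : Φ.rho (mU c * M) = Φ.e c * Φ.rho M := by
  have hd := det_two M
  by_cases hc : M 1 0 = 0
  · have h0 := upper_ne hc
    have hc' : (mU c * M) 1 0 = 0 := by simp [mul_10, hc]
    rw [Φ.rho_upper hc' (upper_ne hc'), Φ.rho_upper hc h0, ← mul_assoc, ← Φ.e_add]
    congr 2
    · simp [mul_00, mul_01, hc]
      rw [hc, mul_zero, add_zero] at hd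
      linear_combination c * hd
    · exact Units.ext (by simp [mul_00, hc])
  · have hc' : (mU c * M) 1 0 ≠ 0 := by simpa [mul_10] using hc
    rw [Φ.rho_lower hc', Φ.rho_lower hc]
    simp only [← mul_assoc]
    rw [← Φ.e_add]
    refine Φ.lower_congr ?_ (Units.ext ?_) ?_
    · simp [mul_00, mul_01, mul_10]; field_simp; ring
    · simp [mul_10]
    · simp [mul_11, mul_10]

theorem ZField.rho_mD_mul (l : Fˣ) (M : SL(2, F)) : Φ.rho (mD l * M) = Φ.kl l * Φ.rho M := by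
  by_cases hc : M 1 0 = 0
  · have h0 := upper_ne hc
    have hc' : (mD l * M) 1 0 = 0 := by simp [mul_10, hc]
    rw [Φ.rho_upper hc' (upper_ne hc'), Φ.rho_upper hc h0, ← mul_assoc, Φ.kl_e, mul_assoc,
      ← Φ.kl_mul]
    congr 2
    · simp [mul_00, mul_01]; ring
    · exact Units.ext (by simp [mul_00])
  · have hc' : (mD l * M) 1 0 ≠ 0 := by simpa [mul_10] using hc
    rw [Φ.rho_lower hc', Φ.rho_lower hc]
    simp only [← mul_assoc]
    rw [Φ.kl_e, mul_assoc (Φ.e _) (Φ.kl l), ← Φ.kl_mul]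
    refine Φ.lower_congr ?_ (Units.ext ?_) ?_
    · simp [mul_00, mul_01, mul_10, mul_11]; field_simp
    · simp [mul_10, mul_11, mul_comm]
    · simp [mul_11, mul_10]; field_simp

include hr

theorem ZField.rho_mT_mul (M : SL(2, F)) : Φ.rho (mT * M) = t * Φ.rho M := by
  have hd := det_two M
  have two := CharTwo.two_eq_zero (R := F)
  have hT : ((mT : SL(2, F)) * M) 0 0 = M 1 0 ∧ ((mT : SL(2, F)) * M) 0 1 = M 1 1 ∧ ((mT : SL(2, F)) * M) 1 0 = M 0 0 ∧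
      ((mT : SL(2, F)) * M) 1 1 = M 0 1 := by
    simp [mul_00, mul_01, mul_10, mul_11]
  obtain ⟨t00, t01, t10, t11⟩ := hT
  by_cases hc : M 1 0 = 0
  · have h0 := upper_ne hc
    have hc' : ((mT : SL(2, F)) * M) 1 0 ≠ 0 := by rwa [t10]
    rw [Φ.rho_lower hc', Φ.rho_upper hc h0]
    simp only [t00, t10, t11, hc, zero_div, Φ.e_zero, one_mul]
    conv_rhs => rw [Φ.e_kl, ← mul_assoc, Φ.t_kl]
    congr 2
    simp; field_simp
  · by_cases h0 : M 0 0 = 0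
    · have hc' : ((mT : SL(2, F)) * M) 1 0 = 0 := by rwa [t10]
      rw [Φ.rho_upper hc' (upper_ne hc'), Φ.rho_lower hc]
      simp only [t00, t01, h0, zero_div, Φ.e_zero, one_mul]
      have e1 : t * (Φ.kl (Units.mk0 _ hc)⁻¹ * t * Φ.e (M 1 1 / M 1 0)) =
          Φ.kl (Units.mk0 _ hc) * Φ.e (M 1 1 / M 1 0) := by
        rw [← mul_assoc, ← mul_assoc, Φ.t_kl, inv_inv, mul_assoc (Φ.kl _) t t, h.hS.mul_self,
          mul_one]
      rw [e1, Φ.kl_e]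
      congr 2
      · simp; field_simp
      all_goals exact Units.ext (by simp [t00])
    · have hc' : ((mT : SL(2, F)) * M) 1 0 ≠ 0 := by rwa [t10]
      rw [Φ.rho_lower hc', Φ.rho_lower hc]
      set g1 := Units.mk0 _ hc with hg1
      set c : Fˣ := Units.mk0 (M 0 0 / M 1 0) (div_ne_zero h0 hc) with hcdef
      have e1 : t * (Φ.e (M 0 0 / M 1 0) * Φ.kl g1⁻¹ * t * Φ.e (M 1 1 / M 1 0)) =
          t * Φ.e c * t * Φ.kl g1 * Φ.e (M 1 1 / M 1 0) := by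
        have e2 : Φ.kl g1⁻¹ * t = t * Φ.kl g1 := (Φ.t_kl g1).symm
        calc _ = t * Φ.e (M 0 0 / M 1 0) * (Φ.kl g1⁻¹ * t) * Φ.e (M 1 1 / M 1 0) := by group
          _ = _ := by rw [e2]; simp only [hcdef, Units.val_mk0, mul_assoc]
      conv_rhs => rw [e1, Φ.t_e hr, mul_assoc _ (Φ.e _) (Φ.kl g1), Φ.e_kl g1, ← mul_assoc,
        mul_assoc _ t, Φ.t_kl, ← mul_assoc, mul_assoc _ (Φ.kl c⁻¹), ← Φ.kl_mul,
        mul_assoc _ (Φ.e _) (Φ.e _), ← Φ.e_add]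
      refine Φ.lower_congr ?_ (Units.ext ?_) ?_
      · simp [hcdef, t00, t10]
      · simp [hcdef, hg1, t10]
        field_simp
      · simp [hcdef, hg1, t11, t10]
        field_simp
        linear_combination hd - M 0 0 * M 1 1 * two

theorem ZField.rho_one : Φ.rho 1 = 1 := by
  have e : ((1 : SL(2, F)) 0 0) = 1 := rfl
  have e' : ((1 : SL(2, F)) 0 1) = 0 := rfl
  rw [Φ.rho_upper (rfl : (1 : SL(2, F)) 1 0 = 0) (by rw [e]; exact one_ne_zero), e', mul_zero,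
    Φ.e_zero, one_mul, ← Φ.kl_one]
  congr 1
  exact Units.ext e

theorem ZField.rho_mul (M N : SL(2, F)) : Φ.rho (M * N) = Φ.rho M * Φ.rho N := by
  rcases decomp_mat M with ⟨h0, hc, e⟩ | ⟨hc, e⟩
  · conv_lhs => rw [e]
    rw [Φ.rho_upper hc h0, mul_assoc, Φ.rho_mU_mul, Φ.rho_mD_mul, mul_assoc]
  · conv_lhs => rw [e]
    rw [Φ.rho_lower hc]
    simp only [mul_assoc]
    rw [Φ.rho_mU_mul, Φ.rho_mD_mul, Φ.rho_mT_mul hr, Φ.rho_mU_mul]

/-- The homomorphism `SL₂(F) → G`. -/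
noncomputable def ZField.rhoHom : SL(2, F) →* G := MonoidHom.mk' Φ.rho (Φ.rho_mul hr)

theorem ZField.rho_mU (c : F) : Φ.rho (mU c) = Φ.e c := by
  rw [← mul_one (mU c), Φ.rho_mU_mul, Φ.rho_one hr, mul_one]

theorem ZField.rho_mT : Φ.rho (mT : SL(2, F)) = t := by
  rw [← mul_one mT, Φ.rho_mT_mul hr, Φ.rho_one hr, mul_one]

theorem ZField.rho_eq_one {M : SL(2, F)} (e : Φ.rho M = 1) : M = 1 := by
  rcases decomp_mat M with ⟨h0, hc, eM⟩ | ⟨hc, eM⟩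
  · rw [Φ.rho_upper hc h0] at e
    obtain ⟨e1, e2⟩ := mul_unique h.hS (h.zSub_le (Φ.mem _)) (one_mem Q) (h.kSub_le (Φ.kl_mem _))
      (one_mem _) (e.trans (one_mul 1).symm)
    rw [eM, Φ.e_inj (e1.trans Φ.e_zero.symm), Φ.kl_injective (e2.trans Φ.kl_one.symm)]
    exact mat_ext (by simp [mul_00]) (by simp [mul_01]) (by simp [mul_10]) (by simp [mul_11])
  · rw [Φ.rho_lower hc] at e
    have e1 := congrArg (· • a) e
    simp only [mul_smul, Q_fix h.hS (h.zSub_le (Φ.mem _)), one_smul,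
      (mem_twoStab.1 (h.kSub_le (Φ.kl_mem _))).2] at e1
    exact absurd e1 (h.q_pt_ne (h.zSub_le (Φ.mem _)))

omit hr

/-- `{a} ∪ Z • t • a`. -/
def ZField.circle : Option F → Ω := fun o => o.elim a fun y => Φ.e y • t • a

theorem ZField.circle_injective : Function.Injective Φ.circle := by
  rintro (_ | x) (_ | y) e
  · rfl
  · exact absurd e.symm (h.q_pt_ne (h.zSub_le (Φ.mem y)))
  · exact absurd e (h.q_pt_ne (h.zSub_le (Φ.mem x)))
  · exact congrArg some (Φ.e_inj (h.q_pt_inj (h.zSub_le (Φ.mem x)) (h.zSub_le (Φ.mem y)) e))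

theorem ZField.e_circle (c : F) (o : Option F) : ∃ o', Φ.e c • Φ.circle o = Φ.circle o' := by
  rcases o with _ | y
  · exact ⟨none, Q_fix h.hS (h.zSub_le (Φ.mem c))⟩
  · refine ⟨some (c + y), ?_⟩
    show Φ.e c • Φ.e y • t • a = Φ.e (c + y) • t • a
    rw [Φ.e_add, mul_smul]

theorem ZField.kl_circle (l : Fˣ) (o : Option F) : ∃ o', Φ.kl l • Φ.circle o = Φ.circle o' := by
  have hk := h.kSub_le (Φ.kl_mem l)
  rcases o with _ | y
  · exact ⟨none, (mem_twoStab.1 hk).1⟩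
  · refine ⟨some ((l : F) * l * y), ?_⟩
    show Φ.kl l • Φ.e y • t • a = Φ.e _ • t • a
    rw [← mul_smul, Φ.kl_e, mul_smul, (mem_twoStab.1 hk).2]

include hr

theorem ZField.t_circle (o : Option F) : ∃ o', t • Φ.circle o = Φ.circle o' := by
  rcases o with _ | y
  · exact ⟨some 0, by show t • a = Φ.e 0 • t • a; rw [Φ.e_zero, one_smul]⟩
  · rcases eq_or_ne y 0 with rfl | hy
    · exact ⟨none, by show t • Φ.e 0 • t • a = a; rw [Φ.e_zero, one_smul, t_smul_smul h.hS]⟩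
    · refine ⟨some ((Units.mk0 y hy)⁻¹ : Fˣ), ?_⟩
      show t • Φ.e y • t • a = Φ.e _ • t • a
      rw [← mul_smul, ← mul_smul, show t * Φ.e y * t = t * Φ.e (Units.mk0 y hy : F) * t by
        rw [Units.val_mk0], Φ.t_e hr, mul_smul, mul_smul, mul_smul,
        Q_fix h.hS (h.zSub_le (Φ.mem _)), (mem_twoStab.1 (h.kSub_le (Φ.kl_mem _))).2]

theorem ZField.rho_circle (M : SL(2, F)) (o : Option F) :
    ∃ o', Φ.rho M • Φ.circle o = Φ.circle o' := by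
  rcases decomp_mat M with ⟨h0, hc, -⟩ | ⟨hc, -⟩
  · rw [Φ.rho_upper hc h0, mul_smul]
    obtain ⟨o1, e1⟩ := Φ.kl_circle (Units.mk0 _ h0) o
    rw [e1]
    exact Φ.e_circle _ o1
  · rw [Φ.rho_lower hc, mul_smul, mul_smul, mul_smul]
    obtain ⟨o1, e1⟩ := Φ.e_circle (M 1 1 / M 1 0) o
    obtain ⟨o2, e2⟩ := Φ.t_circle hr o1
    obtain ⟨o3, e3⟩ := Φ.kl_circle (Units.mk0 _ hc)⁻¹ o2
    rw [e1, e2, e3]
    exact Φ.e_circle _ o3

/-- A point outside the circle stays outside. -/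
theorem ZField.outside {M : SL(2, F)} {c : Ω} (hc : ∀ o, c ≠ Φ.circle o) (o : Option F) :
    Φ.rho M • c ≠ Φ.circle o := by
  intro e
  obtain ⟨o', e'⟩ := Φ.rho_circle hr M⁻¹ o
  refine hc o' ?_
  have e2 : Φ.rho M⁻¹ * Φ.rho M = 1 := by rw [← Φ.rho_mul hr, inv_mul_cancel, Φ.rho_one hr]
  rw [← e', ← e, ← mul_smul, e2, one_smul]

theorem ZField.upper_no_fix {M : SL(2, F)} (hM : M ≠ 1) (hc : M 1 0 = 0) {c : Ω}
    (hout : ∀ o, c ≠ Φ.circle o) : Φ.rho M • c ≠ c := by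
  intro e
  have h0 := upper_ne hc
  rw [Φ.rho_upper hc h0] at e
  set l := Units.mk0 _ h0 with hl
  set c' := M 0 0 * M 0 1
  by_cases hl1 : l = 1
  · rw [hl1, Φ.kl_one, mul_one] at e
    rcases eq_or_ne (Φ.e c') 1 with h1 | h1
    · refine hM (Φ.rho_eq_one hr ?_)
      rw [Φ.rho_upper hc h0, ← hl, hl1, Φ.kl_one, mul_one, h1]
    · exact hout none (fixed_unique h.hS (h.z_sq (Φ.mem c')) h1 e (Φ.mem c').1)
  · set L : F := (l : F) * l
    have hL : (1 : F) + L ≠ 0 := by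
      intro e'
      refine hl1 (Units.ext (CharTwo.add_eq_zero.1 (mul_self_eq_zero.1 ?_)))
      rw [CharTwo.add_mul_self, Units.val_one, one_mul, add_comm]
      exact e'
    set y := c' / (1 + L)
    have ey : Φ.e c' * Φ.kl l = Φ.e y * Φ.kl l * Φ.e y := by
      rw [mul_assoc, Φ.kl_e, ← mul_assoc, ← Φ.e_add]
      congr 2
      have hLy : c' = (1 + L) * y := by simp only [y]; field_simp
      rw [hLy]
      ring
    rw [ey, mul_smul, mul_smul] at e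
    have hy1 : ∀ p : Ω, Φ.e y • Φ.e y • p = p := fun p => by
      rw [← mul_smul, h.z_sq (Φ.mem y), one_smul]
    have e' : Φ.kl l • Φ.e y • c = Φ.e y • c := by
      conv_rhs => rw [← e, hy1]
    have hne : Φ.e y • c ≠ a := fun e2 => hout none (by
      show c = a
      rw [← hy1 c, e2, Q_fix h.hS (h.zSub_le (Φ.mem y))])
    obtain ⟨x, hx, ex⟩ := exists_Q_move h.hS hne
    have hk := h.kSub_le (Φ.kl_mem l)
    have hcx : Φ.kl l * x * (Φ.kl l)⁻¹ = x := h.q_pt_inj (h.conj_Q_D hk hx) hx (by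
      rw [mul_smul, mul_smul, inv_smul_eq_iff.2 (mem_twoStab.1 hk).2.symm, ex, e'])
    have hx1 := h.k_fpf (Φ.kl_mem l) (fun e2 => hl1 (Φ.kl_injective (e2.trans Φ.kl_one.symm))) hx
      (mul_inv_eq_iff_eq_mul.1 hcx)
    refine hout (some y) ?_
    show c = Φ.e y • t • a
    rw [← hy1 c, ← ex, hx1, one_smul]

/-- A non-identity element fixing a point of the circle fixes no point outside. -/
theorem ZField.fix_circle_no_fix {M : SL(2, F)} (hM : M ≠ 1) {o : Option F}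
    (ho : Φ.rho M • Φ.circle o = Φ.circle o) {c : Ω} (hout : ∀ o', c ≠ Φ.circle o') :
    Φ.rho M • c ≠ c := by
  intro e
  obtain ⟨A, hA⟩ : ∃ A : SL(2, F), Φ.rho A • Φ.circle o = a := by
    rcases o with _ | y
    · exact ⟨1, by rw [Φ.rho_one hr, one_smul]; rfl⟩
    · refine ⟨mT * mU y, ?_⟩
      show Φ.rho (mT * mU y) • Φ.e y • t • a = a
      rw [Φ.rho_mul hr, Φ.rho_mT hr, Φ.rho_mU hr, mul_smul, ← mul_smul (Φ.e y) (Φ.e y),
        h.z_sq (Φ.mem y), one_smul, t_smul_smul h.hS]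
  have hinv : Φ.rho A⁻¹ = (Φ.rho A)⁻¹ := map_inv (Φ.rhoHom hr) A
  set N := A * M * A⁻¹ with hN
  have hN1 : N ≠ 1 := fun e' => hM (conj_eq_one_iff.1 e')
  have hNa : Φ.rho N • a = a := by
    rw [hN, Φ.rho_mul hr, Φ.rho_mul hr, hinv, mul_smul, mul_smul, inv_smul_eq_iff.2 hA.symm, ho, hA]
  have hc0 : N 1 0 = 0 := by
    by_contra hc
    have e1 := hNa
    rw [Φ.rho_lower hc] at e1
    simp only [mul_smul, Q_fix h.hS (h.zSub_le (Φ.mem _)),
      (mem_twoStab.1 (h.kSub_le (Φ.kl_mem _))).2] at e1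
    exact h.q_pt_ne (h.zSub_le (Φ.mem _)) e1
  refine Φ.upper_no_fix hr hN1 hc0 (c := Φ.rho A • c) (Φ.outside hr hout) ?_
  rw [hN, Φ.rho_mul hr, Φ.rho_mul hr, hinv, mul_smul, mul_smul, inv_smul_smul, e]

/-- The image of `SL₂(F)` is semiregular outside the circle. -/
theorem ZField.semiregular {M : SL(2, F)} (hM : M ≠ 1) {c : Ω} (hout : ∀ o, c ≠ Φ.circle o) :
    Φ.rho M • c ≠ c := by
  intro e
  have hc : M 1 0 ≠ 0 := fun hc => Φ.upper_no_fix hr hM hc hout e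
  set A : SL(2, F) := mU (M 1 1 / M 1 0)
  set l1 : Fˣ := (Units.mk0 _ hc)⁻¹
  obtain ⟨ν, hν⟩ := ZField.exists_sq (F := F) l1⁻¹
  set N : SL(2, F) := mD ν * (A * M * A⁻¹) * (mD ν)⁻¹ with hN
  set u : F := (ν : F) * ν * (M 1 1 / M 1 0 + M 0 0 / M 1 0) with hu
  have hinv : ∀ B : SL(2, F), Φ.rho B⁻¹ = (Φ.rho B)⁻¹ := fun B => map_inv (Φ.rhoHom hr) B
  have hNrho : Φ.rho N = Φ.e u * t := by
    rw [hN, Φ.rho_mul hr, Φ.rho_mul hr, Φ.rho_mul hr, Φ.rho_mul hr, hinv, hinv, Φ.rho_mU hr,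
      Φ.rho_lower hc]
    rw [show Φ.rho (mD ν) = Φ.kl ν by rw [← mul_one (mD ν), Φ.rho_mD_mul, Φ.rho_one hr, mul_one]]
    calc Φ.kl ν * (Φ.e (M 1 1 / M 1 0) * (Φ.e (M 0 0 / M 1 0) * Φ.kl l1 * t * Φ.e (M 1 1 / M 1 0)) *
          (Φ.e (M 1 1 / M 1 0))⁻¹) * (Φ.kl ν)⁻¹
        = Φ.kl ν * (Φ.e (M 1 1 / M 1 0) * Φ.e (M 0 0 / M 1 0)) * Φ.kl l1 * (t * (Φ.kl ν)⁻¹) := by
          group
      _ = Φ.e u * (Φ.kl ν * Φ.kl l1 * Φ.kl ν) * t := by
          rw [← Φ.e_add, Φ.kl_e, ← Φ.kl_inv, Φ.t_kl, inv_inv, hu]; group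
      _ = Φ.e u * t := by
          rw [← Φ.kl_mul, ← Φ.kl_mul, mul_comm ν l1, mul_assoc l1, hν, mul_inv_cancel, Φ.kl_one,
            mul_one]
  set c1 := Φ.rho (mD ν * A) • c
  have hout1 : ∀ o, c1 ≠ Φ.circle o := Φ.outside hr hout
  have hfix1 : Φ.rho N • c1 = c1 := by
    show Φ.rho N • Φ.rho (mD ν * A) • c = Φ.rho (mD ν * A) • c
    rw [← mul_smul, ← Φ.rho_mul hr, show N * (mD ν * A) = mD ν * A * M by rw [hN]; group,
      Φ.rho_mul hr, mul_smul, e]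
  set g := Φ.rho N
  have hgt : t * g * t = g⁻¹ := by
    rw [hNrho, mul_inv_rev, h.t_inv, h.z_inv (Φ.mem u), ← mul_assoc, mul_assoc (t * Φ.e u),
      h.hS.mul_self, mul_one]
  have hgtc : g • t • c1 = t • c1 := by
    have e1 : g * t = t * g⁻¹ := by rw [← hgt]; simp only [mul_assoc, h.tt]
    rw [← mul_smul, e1, mul_smul, inv_smul_eq_iff.2 hfix1.symm]
  have htc : t • c1 ≠ c1 := by
    intro e'
    refine hout1 (some 1) ?_
    show c1 = Φ.e 1 • t • a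
    rw [Φ.e_one]
    refine fixed_unique h.hS h.hS.mul_self h.hS.ne_one e' ?_
    rw [← mul_smul, ← mul_smul, h.sts hr, mul_smul, mul_smul, Q_fix h.hS (h.zSub_le h.s_mem)]
  obtain ⟨m, hm1, hm2⟩ :=
    is_two_pretransitive_iff.1 h.hS.two_transitive htc.symm (t_smul_ne h.hS).symm
  set d := m * g * m⁻¹ with hd
  have hm1' : m⁻¹ • a = c1 := inv_smul_eq_iff.2 hm1.symm
  have hm2' : m⁻¹ • t • a = t • c1 := inv_smul_eq_iff.2 hm2.symm
  have hdD : d ∈ twoStab a t := mem_twoStab.2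
    ⟨by rw [hd, mul_smul, mul_smul, hm1', hfix1, hm1],
     by rw [hd, mul_smul, mul_smul, hm2', hgtc, hm2]⟩
  set d0 := m * t * m⁻¹ * t with hd0
  have hd0D : d0 ∈ twoStab a t := mem_twoStab.2
    ⟨by rw [hd0, mul_smul, mul_smul, mul_smul, hm2', t_smul_smul h.hS, hm1],
     by rw [hd0, mul_smul, mul_smul, mul_smul, t_smul_smul h.hS, hm1', hm2]⟩
  have hd0K : d0 ∈ h.kSub := h.mem_kSub.2 ⟨hd0D, by
    rw [hd0]
    simp only [mul_inv_rev, inv_inv, h.t_inv, mul_assoc, h.hS.mul_self, mul_one]⟩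
  obtain ⟨j, hj⟩ : Odd (orderOf d0) := Odd.of_dvd_nat h.hS.odd_card
    (Subgroup.orderOf_dvd_natCard _ hd0D)
  set k1 := d0 ^ (j + 1) with hk1
  have hk1K : k1 ∈ h.kSub := pow_mem hd0K _
  have hk11 : k1 * k1 = d0 := by
    rw [hk1, ← pow_add, show j + 1 + (j + 1) = orderOf d0 + 1 by omega, pow_succ,
      pow_orderOf_eq_one, one_mul]
  have hid : d0 * (t * d * t) * d0⁻¹ = d⁻¹ := by
    rw [hd0, hd]
    simp only [mul_inv_rev, inv_inv, h.t_inv, mul_assoc, h.tt, h.hS.mul_self, mul_one]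
    simp only [inv_mul_cancel_left]
    have e1 : t * (g * (t * m⁻¹)) = g⁻¹ * m⁻¹ := by rw [← hgt]; group
    rw [e1]
  have hd2 : k1⁻¹ * d * k1 ∈ h.kSub := h.mem_kSub.2
    ⟨mul_mem (mul_mem (inv_mem (h.kSub_le hk1K)) hdD) (h.kSub_le hk1K), by
      have e1 : t * d * t = d0⁻¹ * d⁻¹ * d0 := by rw [← hid]; group
      calc t * (k1⁻¹ * d * k1) * t = (t * k1⁻¹) * d * (k1 * t) := by group
        _ = (k1 * t) * d * (t * k1⁻¹) := by
          rw [h.k_t' (inv_mem hk1K), inv_inv,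
            show k1 * t = t * k1⁻¹ by rw [h.k_t' (inv_mem hk1K), inv_inv]]

        _ = k1 * (t * d * t) * k1⁻¹ := by group
        _ = (k1⁻¹ * d * k1)⁻¹ := by rw [e1, ← hk11]; group⟩
  have hgn : g ^ Nat.card h.kSub = 1 := by
    have e1 : (k1⁻¹ * d * k1) ^ Nat.card h.kSub = 1 := congrArg Subtype.val
      (pow_card_eq_one' (x := (⟨_, hd2⟩ : h.kSub)))
    have e2 : k1⁻¹ * d * k1 = (k1⁻¹ * m) * g * (k1⁻¹ * m)⁻¹ := by rw [hd]; group
    rw [e2, conj_pow] at e1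
    exact conj_eq_one_iff.1 e1
  have hN1 : N ≠ 1 := fun e' => hM (conj_eq_one_iff.1 (conj_eq_one_iff.1 e'))
  have hg1 : g ≠ 1 := fun e' => hN1 (Φ.rho_eq_one hr e')
  obtain ⟨p, hp, hpd⟩ := Nat.exists_prime_and_dvd (fun e' => hg1 (orderOf_eq_one_iff.1 e'))
  set i := orderOf g / p
  set g2 := g ^ i with hg2
  have hg2p : orderOf g2 = p := orderOf_pow_orderOf_div (orderOf_pos g).ne' hpd
  have hrhoN : g2 = Φ.rho (N ^ i) := (map_pow (Φ.rhoHom hr) N i).symm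
  have hNi : N ^ i ≠ 1 := fun e' => hp.ne_one (by
    rw [← hg2p, hrhoN, e', Φ.rho_one hr, orderOf_one])
  have hpK : p ∣ Nat.card h.kSub := hpd.trans (orderOf_dvd_of_pow_eq_one hgn)
  -- a fixed point on the circle
  choose σ hσ using fun o => Φ.rho_circle hr (N ^ i) o
  have hσinj : Function.Injective σ := fun o o' e' => Φ.circle_injective
    (MulAction.injective (Φ.rho (N ^ i)) (by
      show Φ.rho (N ^ i) • _ = Φ.rho (N ^ i) • _
      rw [hσ, hσ, e']))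
  let τ : Equiv.Perm (Option F) := Equiv.ofBijective σ (Finite.injective_iff_bijective.1 hσinj)
  have hτ : ∀ (n : ℕ) (o : Option F), Φ.circle ((τ ^ n) o) = g2 ^ n • Φ.circle o := by
    intro n
    induction n with
    | zero => simp
    | succ n ih =>
      intro o
      rw [pow_succ', Equiv.Perm.mul_apply, pow_succ' g2, mul_smul, ← ih, hrhoN]
      exact (hσ _).symm
  haveI : Fact p.Prime := ⟨hp⟩
  have hτp : τ ^ p ^ 1 = 1 := Equiv.ext fun o => Φ.circle_injective (by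
    rw [pow_one, hτ, ← hg2p, pow_orderOf_eq_one, one_smul]; rfl)
  have hq : ¬ p ∣ Fintype.card (Option F) := by
    rw [Fintype.card_option, ← Φ.card_eq, h.card_zSub]
    intro hdiv
    have h2 : p ∣ 2 := by simpa [add_assoc] using (Nat.dvd_add_right hpK).1 (by
      simpa [add_assoc] using hdiv)
    have hp2 : p = 2 := (Nat.prime_dvd_prime_iff_eq hp Nat.prime_two).1 h2
    have hodd : Odd (Nat.card h.kSub) :=
      Odd.of_dvd_nat h.hS.odd_card (Subgroup.card_dvd_of_le h.kSub_le)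
    exact absurd (Odd.of_dvd_nat hodd (hp2 ▸ hpK)) (by decide)
  obtain ⟨o, ho⟩ := Equiv.Perm.exists_fixed_point_of_prime hq hτp
  refine Φ.fix_circle_no_fix hr hNi (o := o) ?_ hout1 ?_
  · rw [hσ]; exact congrArg Φ.circle ho
  · rw [← hrhoN, hg2]
    clear_value g
    clear hg2 hg2p hrhoN hpd
    induction i with
    | zero => rw [pow_zero, one_smul]
    | succ n ih => rw [pow_succ, mul_smul, hfix1]; exact ih

end act

end Cfsg.Agent.Lib.SplitRankOne70
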