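import Mathlib
import Cfsg.Agent.Lib.Core.Nilpotent

/-!
Two-transitive groups whose point stabiliser has a nilpotent normal subgroup `U` transitive on the
other points: the two-point stabiliser of `U` is symmetric.
-/

set_option autoImplicit false
set_option linter.unusedSectionVars false
set_option linter.style.haveILetI false

namespace Cfsg.Agent.Lib.SplitRankOne70

open MulAction

universe u v

/-- A conjugation permutation of prime power order: fixed points modulo `p`. -/
theorem conj_mod_pow {G : Type u} [Group G] [Finite G] {p k : ℕ} [Fact p.Prime] {v : G}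
    (hv : v ^ p ^ k = 1) (T : Set G) (hT : ∀ x ∈ T, v * x * v⁻¹ ∈ T) :
    Nat.card {x : G // x ∈ T ∧ v * x * v⁻¹ = x} ≡ Nat.card T [MOD p] := by
  classical
  letI := Fintype.ofFinite G
  let f : T → T := fun x => ⟨v * x * v⁻¹, hT x x.2⟩
  have hf : Function.Bijective f := Finite.injective_iff_bijective.1 fun x y e =>
    Subtype.ext (by simpa [f] using congrArg Subtype.val e)
  let σ : Equiv.Perm T := Equiv.ofBijective f hf
  have hσn : ∀ (n : ℕ) (x : T), ((σ ^ n) x : G) = v ^ n * x * (v ^ n)⁻¹ := by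
    intro n
    induction n with
    | zero => intro x; simp
    | succ n ih =>
      intro x
      rw [pow_succ', Equiv.Perm.mul_apply]
      show v * ((σ ^ n) x : G) * v⁻¹ = _
      rw [ih, pow_succ' v, mul_inv_rev]
      simp [mul_assoc]
  have hσ : σ ^ p ^ k = 1 := Equiv.ext fun x => Subtype.ext (by rw [hσn, hv]; simp)
  have h1 := Equiv.Perm.card_compl_support_modEq hσ
  rw [← Nat.card_eq_fintype_card] at h1
  refine Eq.trans ?_ h1
  refine congrArg (· % p) ?_
  rw [← Nat.card_eq_finsetCard]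
  refine Nat.card_congr
    { toFun := fun x => ⟨⟨x.1, x.2.1⟩, ?_⟩
      invFun := fun x => ⟨x.1.1, x.1.2, ?_⟩
      left_inv := fun x => rfl
      right_inv := fun x => rfl }
  · rw [Finset.mem_compl, Equiv.Perm.notMem_support]
    exact Subtype.ext x.2.2
  · have h2 := x.2
    rw [Finset.mem_compl, Equiv.Perm.notMem_support] at h2
    exact congrArg Subtype.val h2

/-- `U` is a nilpotent normal subgroup of the stabiliser of `a`, transitive on the other points. -/
structure NilStab (G : Type u) (Ω : Type v) [Group G] [MulAction G Ω] (a : Ω) (U : Subgroup G) :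
    Prop where
  two : MulAction.IsMultiplyPretransitive G Ω 2
  le : U ≤ stabilizer G a
  conj_mem : ∀ g ∈ stabilizer G a, ∀ x ∈ U, g * x * g⁻¹ ∈ U
  nilp : Group.IsNilpotent U
  move : ∀ c : Ω, c ≠ a → ∀ d : Ω, d ≠ a → ∃ u ∈ U, u • c = d

namespace NilStab

variable {G : Type u} {Ω : Type v} [Group G] [MulAction G Ω] [Finite G] {a : Ω} {U : Subgroup G}
variable (h : NilStab G Ω a U)
include h

theorem exists_map (c : Ω) : ∃ g : G, g • a = c := by
  haveI := h.two
  haveI : IsPretransitive G Ω := isPretransitive_of_is_two_pretransitive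
  exact exists_smul_eq G a c

/-- An element mapping `a` to `c`. -/
noncomputable def toPt (c : Ω) : G := (h.exists_map c).choose

theorem toPt_smul (c : Ω) : h.toPt c • a = c := (h.exists_map c).choose_spec

/-- The conjugate of `U` belonging to `c`. -/
noncomputable def uAt (c : Ω) : Subgroup G := U.map (MulAut.conj (h.toPt c)).toMonoidHom

theorem mem_uAt {c : Ω} {g : G} (hg : g • a = c) {x : G} : x ∈ h.uAt c ↔ g⁻¹ * x * g ∈ U := by
  set g₀ := h.toPt c
  have hk : g⁻¹ * g₀ ∈ stabilizer G a := by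
    rw [mem_stabilizer_iff, mul_smul, h.toPt_smul, inv_smul_eq_iff, hg]
  constructor
  · rintro ⟨u, hu, rfl⟩
    have := h.conj_mem _ hk u hu
    simpa [mul_assoc] using this
  · intro hx
    refine ⟨g₀⁻¹ * x * g₀, ?_, by simp [mul_assoc, g₀]⟩
    have := h.conj_mem _ (inv_mem hk) _ hx
    simpa [mul_assoc] using this

theorem uAt_a : h.uAt a = U := by
  ext x
  rw [h.mem_uAt (one_smul G a)]
  simp

theorem conj_uAt (g : G) {c : Ω} {x : G} (hx : x ∈ h.uAt c) : g * x * g⁻¹ ∈ h.uAt (g • c) := by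
  rw [h.mem_uAt (h.toPt_smul c)] at hx
  rw [h.mem_uAt (g := g * h.toPt c) (by rw [mul_smul, h.toPt_smul])]
  simpa [mul_assoc] using hx

theorem at_pt (c : Ω) : NilStab G Ω c (h.uAt c) := by
  have hg := h.toPt_smul c
  refine ⟨h.two, fun x hx => ?_, fun g hg' x hx => ?_, ?_, fun b hb d hd => ?_⟩
  · have hfix := h.le ((h.mem_uAt hg).1 hx)
    rw [mem_stabilizer_iff, mul_smul, mul_smul, hg, inv_smul_eq_iff, hg] at hfix
    exact hfix
  · have := h.conj_uAt g hx
    rwa [mem_stabilizer_iff.1 hg'] at this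
  · haveI := h.nilp
    exact Group.nilpotent_of_surjective
      (Subgroup.equivMapOfInjective U (MulAut.conj (h.toPt c)).toMonoidHom
        (MulAut.conj (h.toPt c)).injective).toMonoidHom
      (Subgroup.equivMapOfInjective U _ _).surjective
  · obtain ⟨u, hu, e⟩ := h.move ((h.toPt c)⁻¹ • b)
      (fun e => hb (by rw [inv_smul_eq_iff, hg] at e; exact e)) ((h.toPt c)⁻¹ • d)
      (fun e => hd (by rw [inv_smul_eq_iff, hg] at e; exact e))
    refine ⟨h.toPt c * u * (h.toPt c)⁻¹, (h.mem_uAt hg).2 (by simpa [mul_assoc] using hu), ?_⟩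
    rw [mul_smul, mul_smul, e, smul_inv_smul]

/-- A central element of `U` fixing a second point is trivial. -/
theorem central_semireg [FaithfulSMul G Ω] {z : G} (hz : z ∈ U)
    (hc : ∀ u ∈ U, z * u = u * z) {b : Ω} (hb : b ≠ a) (hzb : z • b = b) : z = 1 := by
  refine eq_of_smul_eq_smul (α := Ω) fun c => ?_
  rw [one_smul]
  by_cases hca : c = a
  · rw [hca]; exact h.le hz
  · obtain ⟨u, hu, rfl⟩ := h.move b hb c hca
    rw [smul_smul, hc u hu, mul_smul, hzb]

/-- A prime dividing `|U|` divides the order of the centre. -/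
theorem exists_central_prime {p : ℕ} [Fact p.Prime] (hp : p ∣ Nat.card U) :
    ∃ z ∈ U, (∀ u ∈ U, z * u = u * z) ∧ orderOf z = p := by
  haveI := h.nilp
  let P : Sylow p U := default
  haveI hPn : (P : Subgroup U).Normal :=
    ((Group.isNilpotent_of_finite_tfae (G := U)).out 0 3 rfl rfl).mp h.nilp p ‹_› P
  have hP : (P : Subgroup U) ≠ ⊥ := P.ne_bot_of_dvd_card hp
  obtain ⟨⟨x, hxP, hxc⟩, hx1⟩ :=
    Subgroup.ne_bot_iff_exists_ne_one.1 (Nilp.inf_center_ne_bot_of_normal hP)
  obtain ⟨k, hk⟩ := IsPGroup.iff_orderOf.1 P.2 ⟨x, hxP⟩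
  rw [← Subgroup.orderOf_coe] at hk
  have hk0 : k ≠ 0 := fun e => hx1 (Subtype.ext (orderOf_eq_one_iff.1 (by simp [hk, e])))
  refine ⟨((x ^ p ^ (k - 1) : U) : G), (x ^ p ^ (k - 1)).2, fun u hu => ?_, ?_⟩
  · have := Subgroup.mem_center_iff.1 ((Subgroup.center U).pow_mem hxc (p ^ (k - 1))) ⟨u, hu⟩
    exact (congrArg Subtype.val this).symm
  · rw [Subgroup.orderOf_coe, orderOf_pow' _ (pow_ne_zero _ (Fact.out : p.Prime).ne_zero), hk,
      Nat.gcd_eq_right (pow_dvd_pow p (Nat.sub_le k 1)), Nat.pow_div (Nat.sub_le k 1)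
        (Fact.out : p.Prime).pos, show k - (k - 1) = 1 by omega, pow_one]

variable [FaithfulSMul G Ω]

/-- An element of prime power order of `U` fixing `b` lies in the conjugate of `U` at `b`. -/
theorem mem_uAt_of_fix_prime_pow {p k : ℕ} [Fact p.Prime] {ρ : G} (hρ : ρ ∈ U)
    (hord : orderOf ρ = p ^ k) {b : Ω} (hb : b ≠ a) (hρb : ρ • b = b) : ρ ∈ h.uAt b := by
  classical
  rcases Nat.eq_zero_or_pos k with hk | hk
  · rw [hk, pow_zero, orderOf_eq_one_iff] at hord
    rw [hord]; exact one_mem _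
  by_contra hout
  have hdvd : p ∣ Nat.card U :=
    (dvd_pow_self p hk.ne').trans (hord ▸ Subgroup.orderOf_dvd_natCard U hρ)
  have hρk : ρ ^ p ^ k = 1 := hord ▸ pow_orderOf_eq_one ρ
  let Φ : Set Ω := {e | ρ ∈ h.uAt e}
  have hΦ : ∀ z : G, z * ρ = ρ * z → ∀ e ∈ Φ, z • e ∈ Φ := by
    intro z hz e he
    have := h.conj_uAt z he
    rwa [hz, mul_inv_cancel_right] at this
  haveI : Finite Ω := by
    haveI := h.two
    haveI : IsPretransitive G Ω := isPretransitive_of_is_two_pretransitive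
    exact Finite.of_surjective (fun g : G => g • a) (fun c => exists_smul_eq G a c)
  letI := Fintype.ofFinite Ω
  have key : ∀ z : G, z * ρ = ρ * z → orderOf z = p →
      Nat.card {e : Ω // e ∈ Φ ∧ z • e = e} ≡ Nat.card Φ [MOD p] := by
    intro z hz hzp
    let f : Φ → Φ := fun e => ⟨z • (e : Ω), hΦ z hz e e.2⟩
    have hf : Function.Bijective f := Finite.injective_iff_bijective.1 fun x y e =>
      Subtype.ext (smul_left_cancel z (congrArg Subtype.val e))
    let σ : Equiv.Perm Φ := Equiv.ofBijective f hf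
    have hσn : ∀ (n : ℕ) (x : Φ), ((σ ^ n) x : Ω) = z ^ n • (x : Ω) := by
      intro n
      induction n with
      | zero => intro x; simp
      | succ n ih =>
        intro x
        rw [pow_succ', Equiv.Perm.mul_apply]
        show z • ((σ ^ n) x : Ω) = _
        rw [ih, smul_smul, pow_succ']
    have hσ : σ ^ p ^ 1 = 1 := Equiv.ext fun x => Subtype.ext (by
      rw [hσn, pow_one, ← hzp, pow_orderOf_eq_one, one_smul]; rfl)
    have h1 := Equiv.Perm.card_compl_support_modEq hσ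
    rw [← Nat.card_eq_fintype_card] at h1
    refine Eq.trans ?_ h1
    refine congrArg (· % p) ?_
    rw [← Nat.card_eq_finsetCard]
    refine Nat.card_congr
      { toFun := fun x => ⟨⟨x.1, x.2.1⟩, ?_⟩
        invFun := fun x => ⟨x.1.1, x.1.2, ?_⟩
        left_inv := fun x => rfl
        right_inv := fun x => rfl }
    · rw [Finset.mem_compl, Equiv.Perm.notMem_support]
      exact Subtype.ext x.2.2
    · have h2 := x.2
      rw [Finset.mem_compl, Equiv.Perm.notMem_support] at h2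
      exact congrArg Subtype.val h2
  -- at `a`
  obtain ⟨z, hzU, hzc, hzp⟩ := h.exists_central_prime hdvd
  have h1 : Nat.card {e : Ω // e ∈ Φ ∧ z • e = e} = 1 := by
    refine Nat.card_eq_one_iff_unique.2 ⟨⟨fun x y => ?_⟩, ⟨⟨a, by
      show ρ ∈ h.uAt a
      rw [h.uAt_a]; exact hρ, h.le hzU⟩⟩⟩
    have : ∀ w : {e : Ω // e ∈ Φ ∧ z • e = e}, (w : Ω) = a := fun w => by
      by_contra hw
      have hz1 := h.central_semireg hzU hzc hw w.2.2
      rw [hz1, orderOf_one] at hzp
      exact (Fact.out : p.Prime).ne_one hzp.symm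
    exact Subtype.ext ((this x).trans (this y).symm)
  -- at `b`
  have hb' := h.at_pt b
  have hdvd' : p ∣ Nat.card (h.uAt b) := by
    rw [uAt, Subgroup.card_map_of_injective (MulAut.conj (h.toPt b)).injective]
    exact hdvd
  obtain ⟨z₀, hz₀, hz₀c, hz₀p⟩ := hb'.exists_central_prime hdvd'
  let T : Set G := {w | w ∈ h.uAt b ∧ (∀ u ∈ h.uAt b, w * u = u * w) ∧ w ^ p = 1}
  have hT : ∀ w ∈ T, ρ * w * ρ⁻¹ ∈ T := fun w hw => by
    refine ⟨hb'.conj_mem ρ hρb w hw.1, fun u hu => ?_, ?_⟩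
    · have hu' : ρ⁻¹ * u * ρ ∈ h.uAt b := by
        simpa using hb'.conj_mem ρ⁻¹ (inv_mem (show ρ ∈ stabilizer G b from hρb)) u hu
      have := congrArg (fun g => ρ * g * ρ⁻¹) (hw.2.1 _ hu')
      simpa [mul_assoc] using this
    · rw [conj_pow, hw.2.2, mul_one, mul_inv_cancel]
  have hmod := conj_mod_pow hρk T hT
  have hTdvd : p ∣ Nat.card T := by
    let Tg : Subgroup G :=
      { carrier := T
        one_mem' := ⟨one_mem _, fun u _ => by rw [one_mul, mul_one], one_pow _⟩
        mul_mem' := fun {x y} hx hy => ⟨mul_mem hx.1 hy.1, fun u hu => by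
            rw [mul_assoc, hy.2.1 u hu, ← mul_assoc, hx.2.1 u hu, mul_assoc], by
            rw [(show Commute x y from hx.2.1 y hy.1).mul_pow, hx.2.2, hy.2.2, mul_one]⟩
        inv_mem' := fun {x} hx => ⟨inv_mem hx.1, fun u hu =>
            (Commute.inv_left (show Commute x u from hx.2.1 u hu)).eq,
            by rw [inv_pow, hx.2.2, inv_one]⟩ }
    exact hz₀p ▸ Subgroup.orderOf_dvd_natCard Tg
      (show z₀ ∈ Tg from ⟨hz₀, hz₀c, hz₀p ▸ pow_orderOf_eq_one z₀⟩)
  have hfd : p ∣ Nat.card {x : G // x ∈ T ∧ ρ * x * ρ⁻¹ = x} :=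
    Nat.modEq_zero_iff_dvd.1 (hmod.trans (Nat.modEq_zero_iff_dvd.2 hTdvd))
  obtain ⟨w, hwne⟩ : ∃ w : {x : G // x ∈ T ∧ ρ * x * ρ⁻¹ = x}, (w : G) ≠ 1 := by
    by_contra! hall
    haveI : Subsingleton {x : G // x ∈ T ∧ ρ * x * ρ⁻¹ = x} :=
      ⟨fun x y => Subtype.ext ((hall x).trans (hall y).symm)⟩
    have hle := (Finite.card_le_one_iff_subsingleton (α := {x : G // x ∈ T ∧ ρ * x * ρ⁻¹ = x})).2 ‹_›
    have hpos : 0 < Nat.card {x : G // x ∈ T ∧ ρ * x * ρ⁻¹ = x} := by
      haveI : Nonempty {x : G // x ∈ T ∧ ρ * x * ρ⁻¹ = x} :=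
        ⟨⟨1, ⟨one_mem _, fun u _ => by rw [one_mul, mul_one], one_pow _⟩, by simp⟩⟩
      exact Nat.card_pos
    have := Nat.le_of_dvd hpos hfd
    have := (Fact.out : p.Prime).two_le
    omega
  have hwp : orderOf (w : G) = p := orderOf_eq_prime w.2.1.2.2 hwne
  have h0 : Nat.card {e : Ω // e ∈ Φ ∧ (w : G) • e = e} = 0 := by
    haveI : IsEmpty {e : Ω // e ∈ Φ ∧ (w : G) • e = e} := ⟨fun e => by
      by_cases heb : (e : Ω) = b
      · exact hout (heb ▸ e.2.1)
      · exact hwne (hb'.central_semireg w.2.1.1 w.2.1.2.1 heb e.2.2)⟩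
    exact Nat.card_of_isEmpty
  have e1 := key z (hzc ρ hρ) hzp
  have e2 := key w (by
    have := mul_inv_eq_iff_eq_mul.1 w.2.2
    exact this.symm) hwp
  rw [h1] at e1
  rw [h0] at e2
  have := (e2.trans e1.symm)
  rw [Nat.ModEq, Nat.zero_mod, Nat.mod_eq_of_lt (Fact.out : p.Prime).one_lt] at this
  exact zero_ne_one this

/-- `U_a ∩ G_b = U_b ∩ G_a`. -/
theorem mem_uAt_of_fix {ρ : G} (hρ : ρ ∈ U) {b : Ω} (hb : b ≠ a) (hρb : ρ • b = b) :
    ρ ∈ h.uAt b := by
  suffices H : ∀ n : ℕ, ∀ ρ : G, ρ ∈ U → ρ • b = b → orderOf ρ = n → ρ ∈ h.uAt b from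
    H _ ρ hρ hρb rfl
  intro n
  induction n using Nat.recOnPrimeCoprime with
  | zero => exact fun x _ _ e => absurd e (orderOf_pos x).ne'
  | prime_pow p k hp =>
    intro x hx hxb e
    haveI := Fact.mk hp
    exact h.mem_uAt_of_fix_prime_pow hx e hb hxb
  | coprime m l hm hl hco ihm ihl =>
    intro x hx hxb e
    have hxs : x ∈ stabilizer G b := hxb
    have h1 : x ^ m ∈ h.uAt b := ihl _ (pow_mem hx m) (pow_mem hxs m) (by
      rw [orderOf_pow' _ (by omega), e, Nat.gcd_eq_right (Dvd.intro l rfl),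
        Nat.mul_div_cancel_left _ (by omega)])
    have h2 : x ^ l ∈ h.uAt b := ihm _ (pow_mem hx l) (pow_mem hxs l) (by
      rw [orderOf_pow' _ (by omega), e, Nat.gcd_eq_right (Dvd.intro_left m rfl),
        Nat.mul_div_cancel _ (by omega)])
    have hbez := Nat.gcd_eq_gcd_ab m l
    rw [hco] at hbez
    have hx' : x = (x ^ m) ^ (m.gcdA l) * (x ^ l) ^ (m.gcdB l) := by
      rw [← zpow_natCast x m, ← zpow_natCast x l, ← zpow_mul, ← zpow_mul, ← zpow_add, ← hbez,
        Nat.cast_one, zpow_one]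
    rw [hx']
    exact mul_mem (zpow_mem h1 _) (zpow_mem h2 _)

/-- `U` and the conjugate at `b` cut the same subgroup from the other stabiliser. -/
theorem inf_symm {b : Ω} (hb : b ≠ a) : U ⊓ stabilizer G b = h.uAt b ⊓ stabilizer G a := by
  refine le_antisymm (fun x hx => ⟨h.mem_uAt_of_fix hx.1 hb hx.2, h.le hx.1⟩) fun x hx => ?_
  have := (h.at_pt b).mem_uAt_of_fix hx.1 hb.symm hx.2
  rw [(h.at_pt b).mem_uAt (g := (h.toPt b)⁻¹) (by rw [inv_smul_eq_iff, h.toPt_smul]), inv_inv,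
    h.mem_uAt (h.toPt_smul b)] at this
  exact ⟨by simpa [mul_assoc] using this, (h.at_pt b).le hx.1⟩

end NilStab

end Cfsg.Agent.Lib.SplitRankOne70
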