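import Cfsg.Agent.Lib.SplitRankOne70.Induction
import Cfsg.Agent.Lib.OddCond.KleinFour
import Cfsg.Agent.Lib.CNStruct.Recog
import Cfsg.Prelude.Def_Involutions

/-!
Simple groups with a rank-one set-up.
-/

set_option autoImplicit false
set_option linter.unusedSectionVars false
set_option linter.style.haveILetI false

namespace Cfsg.Agent.Lib.SplitRankOne70

open Cfsg MulAction

universe u v

variable {G : Type u} [Group G] [Finite G]

theorem exists_commuting_pair [IsSimpleGroup G] (hG : ¬ IsCyclic G) :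
    ∃ x y : G, x ≠ 1 ∧ y ≠ 1 ∧ x ≠ y ∧ x * x = 1 ∧ y * y = 1 ∧ x * y = y * x := by
  classical
  obtain ⟨E, hE⟩ := OddCond.exists_kleinFour.{u} (fun _ _ _ hodd => Cfsg.Agent.S0205.result hodd) hG
  haveI := hE
  haveI : Fintype E := Fintype.ofFinite E
  have h4 : Fintype.card E = 4 := by rw [← Nat.card_eq_fintype_card]; exact IsKleinFour.card_four
  obtain ⟨x, -, hx⟩ := Finset.exists_mem_notMem_of_card_lt_card (s := ({1} : Finset E))
    (t := Finset.univ) (by rw [Finset.card_univ, Finset.card_singleton, h4]; norm_num)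
  obtain ⟨y, -, hy⟩ := Finset.exists_mem_notMem_of_card_lt_card (s := ({1, x} : Finset E))
    (t := Finset.univ) (Finset.card_le_two.trans_lt (by rw [Finset.card_univ, h4]; norm_num))
  simp only [Finset.mem_singleton] at hx
  simp only [Finset.mem_insert, Finset.mem_singleton, not_or] at hy
  have hcomm : x * y = y * x := by
    have e := IsKleinFour.mul_self (x * y)
    rw [← IsKleinFour.inv_eq_self x, ← IsKleinFour.inv_eq_self y, ← mul_inv_rev,
      IsKleinFour.inv_eq_self, IsKleinFour.inv_eq_self, IsKleinFour.inv_eq_self]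
  refine ⟨x, y, fun e => hx (Subtype.ext e), fun e => hy.1 (Subtype.ext e),
    fun e => hy.2 (Subtype.ext e.symm), congrArg Subtype.val (IsKleinFour.mul_self x),
    congrArg Subtype.val (IsKleinFour.mul_self y), congrArg Subtype.val hcomm⟩

theorem faithful_quotient [IsSimpleGroup G] {H : Subgroup G} (hH : H ≠ ⊤) : FaithfulSMul G (G ⧸ H) := by
  refine ⟨fun {x y} e => ?_⟩
  have hn : H.normalCore = ⊥ := (Subgroup.Normal.eq_bot_or_eq_top H.normalCore_normal).resolve_right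
    fun e' => hH (top_le_iff.1 (e' ▸ H.normalCore_le))
  have : y⁻¹ * x ∈ (MulAction.toPermHom G (G ⧸ H)).ker := by
    rw [MonoidHom.mem_ker]
    refine Equiv.ext fun c => ?_
    show (y⁻¹ * x) • c = c
    rw [mul_smul, e c, inv_smul_smul]
  rw [← Subgroup.normalCore_eq_ker, hn, Subgroup.mem_bot, inv_mul_eq_one] at this
  exact this.symm

/-- The simple groups with a rank-one set-up. -/
theorem simple_classification [IsSimpleGroup G] (hG : ¬ IsCyclic G) {Ω : Type v} [MulAction G Ω]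
    [FaithfulSMul G Ω] {a : Ω} {t : G} {Q : Subgroup G} (hS : IsRankOneSetup G Ω a t Q) :
    (∃ (F : Type) (_ : Field F) (_ : Fintype F), (∃ n : ℕ, 2 ≤ n ∧ Fintype.card F = 2 ^ n) ∧
        Nonempty (G ≃* Matrix.ProjectiveSpecialLinearGroup (Fin 2) F)) ∨
      Cfsg.IsSuzuki G ∨
      (∃ (F : Type) (_ : Field F) (_ : Fintype F) (n : ℕ), 2 ≤ n ∧ Fintype.card F = (2 ^ n) ^ 2 ∧
        Nonempty (G ≃* Cfsg.PSU 3 F (2 ^ n))) := by
  obtain ⟨L, hLn, hodd, hLs, hcase⟩ :=
    (⟨hS, exists_commuting_pair hG⟩ : Setup a t Q).classification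
  have hL : L = ⊤ := by
    refine (hLn.eq_bot_or_eq_top).resolve_left fun e => ?_
    haveI := hLs.toNontrivial
    exact not_subsingleton L (by rw [e]; infer_instance)
  subst hL
  let e : G ≃* (⊤ : Subgroup G) := Subgroup.topEquiv.symm
  rcases hcase with ⟨F, iF, iFF, hn, ⟨i⟩⟩ | hz | ⟨F, iF, iFF, n, hn, hc, ⟨i⟩⟩
  · exact Or.inl ⟨F, iF, iFF, hn, ⟨e.trans i⟩⟩
  · obtain ⟨F, iF, iFF, m, hm, hc, ⟨i⟩⟩ := hz
    exact Or.inr (Or.inl (CNStruct.isSuzuki_of_iso ⟨F, iF, iFF, m, hm, hc, ⟨e.trans i⟩⟩))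
  · exact Or.inr (Or.inr ⟨F, iF, iFF, n, hn, hc, ⟨e.trans i⟩⟩)

/-- A strongly embedded subgroup with a regular normal subgroup gives a rank-one set-up. -/
theorem exists_setup_of_embedded [IsSimpleGroup G] {H Q : Subgroup G} (hH : IsStronglyEmbedded H)
    (hQH : Q ≤ H) (hQn : (Q.subgroupOf H).Normal)
    (htrans : ∀ g₁ g₂ : G, g₁ ∉ H → g₂ ∉ H → ∃ u ∈ Q, g₂⁻¹ * (u * g₁) ∈ H)
    (hreg : ∀ g : G, g ∉ H → ∀ u ∈ Q, g⁻¹ * (u * g) ∈ H → u = 1) :
    ¬ IsCyclic G ∧ ∃ t : G, IsRankOneSetup G (G ⧸ H) ((1 : G) : G ⧸ H) t Q := by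
  classical
  obtain ⟨hne, heven, hse⟩ := hH
  haveI : Fact (Nat.Prime 2) := ⟨Nat.prime_two⟩
  obtain ⟨i, hi⟩ := exists_prime_orderOf_dvd_card' (G := H) 2 (even_iff_two_dvd.1 heven)
  have hiG : orderOf (i : G) = 2 := by rw [Subgroup.orderOf_coe]; exact hi
  have hnc : ¬ IsCyclic G := by
    intro hc
    letI := IsCyclic.commGroup (α := G)
    rcases (inferInstance : H.Normal).eq_bot_or_eq_top with e | e
    · rw [e, Subgroup.card_bot] at heven
      exact absurd heven (by decide)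
    · exact hne e
  obtain ⟨t, htH, ht1, ht2⟩ : ∃ t : G, t ∉ H ∧ t ≠ 1 ∧ t * t = 1 := by
    have hi2 : (i : G) * i = 1 := by rw [← pow_two]; exact hiG ▸ pow_orderOf_eq_one _
    have hi1 : (i : G) ≠ 1 := fun e => by rw [e, orderOf_one] at hiG; norm_num at hiG
    by_contra! hall
    have hle : Subgroup.normalClosure ({(i : G)} : Set G) ≤ H := by
      rw [Subgroup.normalClosure, Subgroup.closure_le]
      intro c hc
      obtain ⟨b, hb, hbc⟩ := Group.mem_conjugatesOfSet_iff.1 hc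
      obtain ⟨g, rfl⟩ := isConj_iff.1 hbc
      rw [Set.mem_singleton_iff] at hb
      subst hb
      by_contra hcH
      exact hall _ hcH (fun e => hi1 (conj_eq_one_iff.1 e)) (by
        rw [show g * i * g⁻¹ * (g * i * g⁻¹) = g * ((i : G) * i) * g⁻¹ by group, hi2]; group)
    rcases (Subgroup.normalClosure_normal (s := ({(i : G)} : Set G))).eq_bot_or_eq_top with e | e
    · exact hi1 (Subgroup.mem_bot.1 (e ▸ Subgroup.subset_normalClosure (Set.mem_singleton _)))
    · exact hne (top_le_iff.1 (e ▸ hle))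
  set a : G ⧸ H := ((1 : G) : G ⧸ H)
  have hfix : ∀ {g : G}, g • a = a ↔ g ∈ H := by
    intro g
    show ((g * 1 : G) : G ⧸ H) = ((1 : G) : G ⧸ H) ↔ _
    rw [mul_one, QuotientGroup.eq, mul_one, inv_mem_iff]
  have hta : t • a = (t : G ⧸ H) := by show ((t * 1 : G) : G ⧸ H) = _; rw [mul_one]
  have hstab : stabilizer G a = H := SetLike.ext fun g => mem_stabilizer_iff.trans hfix
  have hmove : ∀ c : G ⧸ H, c ≠ a → ∃ u ∈ Q, u • t • a = c := by
    intro c hc
    obtain ⟨g, rfl⟩ := QuotientGroup.mk_surjective c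
    have hg : g ∉ H := fun hg => hc (QuotientGroup.eq.2 (by rw [mul_one]; exact inv_mem hg))
    obtain ⟨u, hu, e⟩ := htrans t g htH hg
    refine ⟨u, hu, ?_⟩
    rw [hta]
    show ((u * t : G) : G ⧸ H) = _
    exact (QuotientGroup.eq.2 e).symm
  have hconj : ∀ g ∈ H, ∀ u ∈ Q, g * u * g⁻¹ ∈ Q := fun g hg u hu =>
    Subgroup.mem_subgroupOf.1 (hQn.conj_mem ⟨u, hQH hu⟩ (Subgroup.mem_subgroupOf.2 hu) ⟨g, hg⟩)
  have hstabt : ∀ {u : G}, u • t • a = t • a ↔ t⁻¹ * (u * t) ∈ H := by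
    intro u
    rw [hta]
    show ((u * t : G) : G ⧸ H) = (t : G ⧸ H) ↔ _
    rw [eq_comm, QuotientGroup.eq]
  have hinf : Q ⊓ stabilizer G (t • a) = ⊥ := by
    rw [eq_bot_iff]
    rintro u ⟨hu, hut⟩
    exact Subgroup.mem_bot.2 (hreg t htH u hu (hstabt.1 hut))
  have hsup : Q ⊔ (stabilizer G a ⊓ stabilizer G (t • a)) = stabilizer G a := by
    refine le_antisymm (sup_le (hQH.trans hstab.ge) inf_le_left) fun g hg => ?_
    have hne' : g • t • a ≠ a := fun e => htH (hfix.1 (smul_left_cancel g (e.trans hg.symm)))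
    obtain ⟨u, hu, e⟩ := hmove _ hne'
    rw [show g = u * (u⁻¹ * g) by group]
    refine mul_mem (Subgroup.mem_sup_left hu) (Subgroup.mem_sup_right
      ⟨(stabilizer G a).mul_mem ((stabilizer G a).inv_mem (hstab.ge (hQH hu))) hg, ?_⟩)
    show (u⁻¹ * g) • t • a = t • a
    rw [mul_smul, inv_smul_eq_iff, e]
  have hD : Odd (Nat.card ↥(stabilizer G a ⊓ stabilizer G (t • a))) := by
    have e : stabilizer G a ⊓ stabilizer G (t • a) = H ⊓ H.map (MulAut.conj t).toMonoidHom := by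
      ext g
      rw [Subgroup.mem_inf, Subgroup.mem_inf, hstab, mem_stabilizer_iff, hstabt]
      refine and_congr_right fun _ => ⟨fun e => ⟨_, e, ?_⟩, ?_⟩
      · show t * (t⁻¹ * (g * t)) * t⁻¹ = g
        group
      · rintro ⟨x, hx, rfl⟩
        show t⁻¹ * (t * x * t⁻¹ * t) ∈ H
        simpa using hx
    rw [e]; exact hse t htH
  refine ⟨hnc, t, ⟨?_, ht2, ht1, fun e => htH (hfix.1 e), hQH.trans hstab.ge, ?_, hinf, hsup, ?_, hD⟩⟩
  · rw [MulAction.is_two_pretransitive_iff]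
    have key : ∀ c d : G ⧸ H, c ≠ d → ∃ g : G, g • a = c ∧ g • t • a = d := by
      intro c d hcd
      obtain ⟨g, rfl⟩ := QuotientGroup.mk_surjective c
      have hga : g • a = (g : G ⧸ H) := by show ((g * 1 : G) : G ⧸ H) = _; rw [mul_one]
      obtain ⟨u, hu, e⟩ := hmove (g⁻¹ • d) (fun e => hcd (by rw [← hga, ← e, smul_inv_smul]))
      refine ⟨g * u, ?_, ?_⟩
      · rw [mul_smul, hfix.2 (hQH hu), hga]
      · rw [mul_smul, e, smul_inv_smul]
    intro b c p q hbc hpq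
    obtain ⟨g, rfl, rfl⟩ := key b c hbc
    obtain ⟨g', rfl, rfl⟩ := key p q hpq
    exact ⟨g' * g⁻¹, by simp [mul_smul], by simp [mul_smul]⟩
  · intro g hg u hu
    exact hconj g (hstab ▸ hg) u hu
  · by_contra hQo
    rw [Nat.not_even_iff_odd] at hQo
    set D := stabilizer G a ⊓ stabilizer G (t • a) with hDdef
    have hiD : ∃ q : Q, ∃ d : D, (i : G) = q * d := by
      have hne' : (i : G) • t • a ≠ a := fun e => htH (hfix.1
        (smul_left_cancel (i : G) (e.trans (hfix.2 i.2).symm)))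
      obtain ⟨u, hu, e⟩ := hmove _ hne'
      refine ⟨⟨u, hu⟩, ⟨u⁻¹ * i, (stabilizer G a).mul_mem ((stabilizer G a).inv_mem (hstab.ge (hQH hu))) (hstab.ge i.2), ?_⟩,
        by group⟩
      show (u⁻¹ * (i : G)) • t • a = t • a
      rw [mul_smul, inv_smul_eq_iff, e]
    obtain ⟨q, d, hqd⟩ := hiD
    -- `i` maps to an element of odd order modulo `Q`, so lies in `Q`
    let π : H →* H ⧸ Q.subgroupOf H := QuotientGroup.mk' _
    have hπ : π i = π ⟨(d : G), hstab.le (Subgroup.mem_inf.1 d.2).1⟩ := by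
      refine QuotientGroup.eq.2 (Subgroup.mem_subgroupOf.2 ?_)
      show (i : G)⁻¹ * d ∈ Q
      rw [hqd, show ((q : G) * d)⁻¹ * d = (d : G)⁻¹ * (q : G)⁻¹ * d by group]
      simpa using hconj _ (inv_mem (hstab.le (Subgroup.mem_inf.1 d.2).1)) _ (inv_mem q.2)
    have h1 : orderOf (π i) ∣ 2 := hi ▸ orderOf_map_dvd π i
    have h2 : orderOf (π i) ∣ Nat.card D := by
      rw [hπ]
      refine (orderOf_map_dvd π _).trans ?_
      rw [← Subgroup.orderOf_coe]
      exact Subgroup.orderOf_dvd_natCard D d.2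
    have h3 := Nat.dvd_gcd h1 h2
    rw [Nat.coprime_iff_gcd_eq_one.1 (Nat.coprime_two_left.2 hD), Nat.dvd_one,
      orderOf_eq_one_iff] at h3
    have h4 : (i : G) ∈ Q := Subgroup.mem_subgroupOf.1 ((QuotientGroup.eq_one_iff i).1 h3)
    have h5 : 2 ∣ Nat.card Q := hiG ▸ Subgroup.orderOf_dvd_natCard Q h4
    exact (Nat.not_even_iff_odd.2 hQo) (even_iff_two_dvd.2 h5)

end Cfsg.Agent.Lib.SplitRankOne70
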