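import Cfsg.Agent.Lib.SplitRankOne70.Field

/-!
Inertia groups in `D` whose elements of prime order centralise only `⟨s⟩` in `Z` after conjugation
into `V`.
-/

set_option autoImplicit false
set_option linter.unusedSectionVars false
set_option linter.style.haveILetI false

namespace Cfsg.Agent.Lib.SplitRankOne70

open Cfsg MulAction Cfsg.Agent.Lib.RankOne

universe u v

variable {G : Type u} {Ω : Type v} [Group G] [MulAction G Ω] [Finite G] {a : Ω} {t : G}
  {Q : Subgroup G}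

/-- Each prime order element of `I` has a conjugate in `V` centralising only `⟨s⟩` in `Z`. -/
def Setup.SmallFix (h : Setup a t Q) (I : Subgroup (twoStab a t)) : Prop :=
  ∀ d ∈ I, (orderOf d).Prime → ∃ k ∈ twoStab a t, k * (d : G) * k⁻¹ ∈ vSub a t ∧
    ∀ z ∈ h.zSub, k * (d : G) * k⁻¹ * z = z * (k * (d : G) * k⁻¹) → z = 1 ∨ z = h.sElt

namespace Setup

variable (h : Setup a t Q)
include h

theorem smallFix_cz {I : Subgroup (twoStab a t)} (hI : h.SmallFix I) {d : twoStab a t}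
    (hd : d ∈ I) (hp : (orderOf d).Prime) (hV : (d : G) ∈ vSub a t) {z : G} (hz : z ∈ h.zSub)
    (e : (d : G) * z = z * d) : z = 1 ∨ z = h.sElt := by
  obtain ⟨k, hk, -, hc⟩ := hI d hd hp
  have hkD := D_le h.hS hk
  have key : ∀ y ∈ h.zSub, (d : G) * y = y * d → k * y * k⁻¹ = 1 ∨ k * y * k⁻¹ = h.sElt := by
    intro y hy ey
    refine hc _ (h.conj_z hkD hy) ?_
    calc k * (d : G) * k⁻¹ * (k * y * k⁻¹) = k * ((d : G) * y) * k⁻¹ := by group
      _ = k * y * k⁻¹ * (k * (d : G) * k⁻¹) := by rw [ey]; group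
  rcases key z hz e with e1 | e1
  · exact Or.inl (conj_eq_one_iff.1 e1)
  rcases key h.sElt h.s_mem ((h.v_iff_s d.2).1 hV) with e2 | e2
  · exact absurd (conj_eq_one_iff.1 e2) h.s_ne
  · exact Or.inr (mul_left_cancel (mul_right_cancel (e1.trans e2.symm)))

theorem smallFix_inf_kw {I : Subgroup (twoStab a t)} (hI : h.SmallFix I) : I ⊓ h.kwSub = ⊥ := by
  rw [eq_bot_iff]
  intro x hx
  rw [Subgroup.mem_bot]
  by_contra hx1
  obtain ⟨p, hp, hpd⟩ := Nat.exists_prime_and_dvd (mt orderOf_eq_one_iff.1 hx1)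
  set d := x ^ (orderOf x / p) with hd
  have hdp : orderOf d = p := orderOf_pow_orderOf_div (orderOf_pos x).ne' hpd
  obtain ⟨k, hk, hkV, hc⟩ := hI d (pow_mem hx.1 _) (hdp ▸ hp)
  have hkw : k * d * k⁻¹ ∈ wSub a t := by
    refine h.mem_kw_v ?_ hkV
    haveI := h.kw_normal
    have := Subgroup.Normal.conj_mem ‹h.kwSub.Normal› d (pow_mem hx.2 _) ⟨k, hk⟩
    simpa using Subgroup.mem_subgroupOf.1 this
  have h4 := h.four_le_card_zSub
  have hsub : (h.zSub : Set G) ⊆ {1, h.sElt} := fun z hz => hc z hz (h.w_z hkw hz)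
  have h2 : Set.ncard (h.zSub : Set G) ≤ 2 :=
    le_trans (Set.ncard_le_ncard hsub) (le_trans (Set.ncard_insert_le _ _) (by simp))
  rw [← Nat.card_coe_set_eq] at h2
  exact absurd (le_trans h4 h2) (by norm_num)

theorem smallFix_cz_all {I : Subgroup (twoStab a t)} (hI : h.SmallFix I)
    (hV : ∀ y ∈ I, (y : G) ∈ vSub a t) {x : twoStab a t} (hx : x ∈ I) (hx1 : x ≠ 1) {z : G}
    (hz : z ∈ h.zSub) (e : (x : G) * z = z * x) : z = 1 ∨ z = h.sElt := by
  obtain ⟨p, hp, hpd⟩ := Nat.exists_prime_and_dvd (mt orderOf_eq_one_iff.1 hx1)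
  refine h.smallFix_cz hI (pow_mem hx (orderOf x / p)) ?_ (hV _ (pow_mem hx _)) hz ?_
  · rw [orderOf_pow_orderOf_div (orderOf_pos x).ne' hpd]; exact hp
  · rw [SubmonoidClass.coe_pow]
    exact Commute.pow_left e _

/-- If some element `d` of prime order in `I` lies in `V` then `I` lies in `V`. -/
theorem smallFix_le_V {I : Subgroup (twoStab a t)} (hI : h.SmallFix I) {d : twoStab a t}
    (hd : d ∈ I) (hp : (orderOf d).Prime) (hV : (d : G) ∈ vSub a t) :
    ∀ y ∈ I, (y : G) ∈ vSub a t := by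
  intro y hy
  haveI := h.isCyclic_of_inf_kw (h.smallFix_inf_kw hI)
  letI := IsCyclic.commGroup (α := I)
  have hc : (y : G) * d = d * y :=
    congrArg (fun w : I => ((w : twoStab a t) : G)) (mul_comm (⟨y, hy⟩ : I) ⟨d, hd⟩)
  have hs : (d : G) * h.sElt = h.sElt * d := (h.v_iff_s d.2).1 hV
  have hys : (y : G) * h.sElt * (y : G)⁻¹ ∈ h.zSub := h.conj_z (D_le h.hS y.2) h.s_mem
  rcases h.smallFix_cz hI hd hp hV hys (by
    calc (d : G) * ((y : G) * h.sElt * (y : G)⁻¹)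
        = ((d : G) * y) * h.sElt * (y : G)⁻¹ := by group
      _ = (y : G) * ((d : G) * h.sElt) * (y : G)⁻¹ := by rw [← hc]; group
      _ = (y : G) * h.sElt * ((d : G) * (y : G)⁻¹) := by rw [hs]; group
      _ = (y : G) * h.sElt * (y : G)⁻¹ * d := by
        rw [show (d : G) * (y : G)⁻¹ = (y : G)⁻¹ * ((y : G) * d) * (y : G)⁻¹ by group, hc]
        group) with e' | e'
  · exact absurd (conj_eq_one_iff.1 e') h.s_ne
  · exact (h.v_iff_s y.2).2 (mul_inv_eq_iff_eq_mul.1 e')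

theorem mem_stabCj_cj {φ : Q → ℂ} {k d : twoStab a t} :
    d ∈ h.stabCj (h.cj k φ) ↔ k⁻¹ * d * k ∈ h.stabCj φ := by
  rw [mem_stabCj, mem_stabCj, h.cj_mul, h.cj_mul]
  constructor
  · intro e
    rw [e, ← h.cj_mul, inv_mul_cancel, h.cj_one]
  · intro e
    have e1 := congrArg (h.cj k) e
    rwa [← h.cj_mul, mul_inv_cancel, h.cj_one] at e1

/-- A conjugate function has its inertia group inside `V`. -/
theorem exists_normal_conj {φ : Q → ℂ} (hI : h.SmallFix (h.stabCj φ)) :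
    ∃ k : twoStab a t, h.SmallFix (h.stabCj (h.cj k φ)) ∧
      ∀ y ∈ h.stabCj (h.cj k φ), (y : G) ∈ vSub a t := by
  have hconj : ∀ k : twoStab a t, h.SmallFix (h.stabCj (h.cj k φ)) := by
    intro k d hd hp
    have hd' : k⁻¹ * d * k ∈ h.stabCj φ := h.mem_stabCj_cj.1 hd
    have ho : orderOf (k⁻¹ * d * k) = orderOf d := by
      rw [← orderOf_injective (MulAut.conj k).toMonoidHom (MulEquiv.injective _)]
      congr 1
      simp [mul_assoc]
    obtain ⟨l, hl, hlV, hc⟩ := hI _ hd' (ho ▸ hp)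
    refine ⟨l * (k : G)⁻¹, mul_mem hl (inv_mem k.2), ?_⟩
    have e : l * (k : G)⁻¹ * d * (l * (k : G)⁻¹)⁻¹ =
        l * ((k⁻¹ * d * k : twoStab a t) : G) * l⁻¹ := by
      push_cast
      group
    rw [e]
    exact ⟨hlV, hc⟩
  by_cases hbot : h.stabCj φ = ⊥
  · refine ⟨1, hconj 1, fun y hy => ?_⟩
    rw [h.cj_one, hbot, Subgroup.mem_bot] at hy
    subst hy
    exact one_mem _
  obtain ⟨⟨x, hx⟩, hx1⟩ := Subgroup.ne_bot_iff_exists_ne_one.1 hbot
  have hx1' : x ≠ 1 := fun e => hx1 (Subtype.ext e)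
  obtain ⟨p, hp, hpd⟩ := Nat.exists_prime_and_dvd (mt orderOf_eq_one_iff.1 hx1')
  set d := x ^ (orderOf x / p) with hd
  have hdp : orderOf d = p := orderOf_pow_orderOf_div (orderOf_pos x).ne' hpd
  obtain ⟨k, hk, hkV, -⟩ := hI d (pow_mem hx _) (hdp ▸ hp)
  set k' : twoStab a t := ⟨k, hk⟩
  refine ⟨k', hconj k', h.smallFix_le_V (hconj k') (d := k' * d * k'⁻¹) ?_ ?_ hkV⟩
  · rw [mem_stabCj_cj, show k'⁻¹ * (k' * d * k'⁻¹) * k' = d by group]
    exact pow_mem hx _
  · have ho : orderOf (k' * d * k'⁻¹) = orderOf d := orderOf_injective (MulAut.conj k').toMonoidHom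
      (MulEquiv.injective _) d
    rw [ho, hdp]; exact hp

theorem smallFix_card {I : Subgroup (twoStab a t)} (hI : h.SmallFix I)
    (hV : ∀ y ∈ I, (y : G) ∈ vSub a t) :
    Nat.card I = 1 ∨ (Nat.card I).Prime ∧ Nat.card h.zSub = 2 ^ Nat.card I := by
  haveI := h.isCyclic_of_inf_kw (h.smallFix_inf_kw hI)
  set J : Subgroup G := I.map (twoStab a t).subtype
  let e : I ≃* J := I.equivMapOfInjective _ (Subgroup.subtype_injective _)
  haveI : IsCyclic J := isCyclic_of_surjective e.toMonoidHom e.surjective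
  have hJ : Nat.card J = Nat.card I := (Nat.card_congr e.toEquiv).symm
  rw [← hJ]
  refine h.card_eq_one_or_prime J ?_ ?_
  · rintro _ ⟨y, hy, rfl⟩
    exact hV y hy
  · rintro _ ⟨y, hy, rfl⟩ hy1 z hz e'
    exact h.smallFix_cz_all hI hV hy (fun e1 => hy1 (by rw [e1]; rfl)) hz e'

end Setup

end Cfsg.Agent.Lib.SplitRankOne70
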