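import Cfsg.Agent.Lib.SplitRankOne70.PairSystem

/-!
A generalized character with inner product one with each pair of a system and norm one more than the
number of pairs: its shape and the weight of its last constituent.
-/

set_option autoImplicit false
set_option linter.unusedSectionVars false
set_option linter.style.haveILetI false

namespace Cfsg.Agent.Lib.SplitRankOne70

open Cfsg MulAction Cfsg.Agent.Lib.RankOne Cfsg.Agent.Lib.Chars Cfsg.Agent.Lib.Coherence
open scoped ComplexConjugate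

universe u v w

variable {G : Type u} [Group G]

/-- The integer coefficient of an irreducible character in a generalized character. -/
noncomputable def coef [Fintype G] (Y : G → ℂ) (X : IrrCharacter G) : ℤ :=
  open scoped Classical in
  if hk : ∃ k : ℤ, classInner Y (X : G → ℂ) = k then hk.choose else 0

variable [Fintype G]

theorem coef_eq {Y : G → ℂ} (hY : IsGeneralizedCharacter G Y) (X : IrrCharacter G) :
    classInner Y (X : G → ℂ) = coef Y X := by
  have hk := virt_classInner_int hY (virt_of_irr X.2)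
  rw [coef, dif_pos hk]
  exact hk.choose_spec

theorem eq_sum_coef {Y : G → ℂ} (hY : IsGeneralizedCharacter G Y) :
    Y = ∑ X : IrrCharacter G, (coef Y X : ℂ) • (X : G → ℂ) := by
  conv_lhs => rw [isClassFunction_eq_sum_classInner (virt_classFunction hY)]
  exact Finset.sum_congr rfl fun X _ => by rw [coef_eq hY]

theorem classInner_eq_sum_coef {Y Y' : G → ℂ} (hY : IsGeneralizedCharacter G Y)
    (hY' : IsGeneralizedCharacter G Y') :
    classInner Y Y' = ((∑ X : IrrCharacter G, coef Y X * coef Y' X : ℤ) : ℂ) := by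
  rw [classInner_eq_sum_mul_conj (virt_classFunction hY) (virt_classFunction hY')]
  push_cast
  exact Finset.sum_congr rfl fun X _ => by rw [coef_eq hY, coef_eq hY', map_intCast]

/-- The members of a set of pairs. -/
noncomputable def memSet (P : Finset (IrrCharacter G × IrrCharacter G)) :
    Finset (IrrCharacter G) :=
  open scoped Classical in
  (P ×ˢ (Finset.univ : Finset Bool)).image fun x => pairMem x.1 x.2

theorem mem_memSet {P : Finset (IrrCharacter G × IrrCharacter G)} {X : IrrCharacter G} :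
    X ∈ memSet P ↔ ∃ p ∈ P, ∃ b, pairMem p b = X := by
  classical
  simp [memSet]

theorem sum_memSet {P : Finset (IrrCharacter G × IrrCharacter G)}
    (hne : ∀ p ∈ P, p.1 ≠ p.2)
    (hdis : ∀ p ∈ P, ∀ r ∈ P, p ≠ r → ∀ b c, pairMem p b ≠ pairMem r c)
    {M : Type*} [AddCommMonoid M] (F : IrrCharacter G → M) :
    ∑ X ∈ memSet P, F X = ∑ p ∈ P, (F p.1 + F p.2) := by
  classical
  rw [memSet, Finset.sum_image]
  · rw [Finset.sum_product]
    exact Finset.sum_congr rfl fun p _ => by rw [Fintype.sum_bool]; rfl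
  · rintro ⟨p, b⟩ hp ⟨r, c⟩ hr e
    simp only [Finset.coe_product, Set.mem_prod, Finset.mem_coe] at hp hr
    by_cases hpr : p = r
    · subst hpr
      refine Prod.ext rfl ?_
      cases b <;> cases c <;> simp only [pairMem, cond_true, cond_false] at e ⊢
      · exact absurd e.symm (hne p hp.1)
      · exact absurd e (hne p hp.1)
    · exact absurd e (hdis p hp.1 r hr.1 hpr b c)

/-- The shape of a lift attached to a system of pairs. -/
structure IsTop (P : Finset (IrrCharacter G × IrrCharacter G)) (Y : G → ℂ) (R : IrrCharacter G)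
    (ρ : ℤ) : Prop where
  gen : IsGeneralizedCharacter G Y
  unit : ρ = 1 ∨ ρ = -1
  coef_R : coef Y R = ρ
  not_mem : R ∉ memSet P
  rest : ∀ X, X ≠ R → X ∉ memSet P → coef Y X = 0
  pair : ∀ p ∈ P, (coef Y p.1 = 1 ∧ coef Y p.2 = 0) ∨ (coef Y p.1 = 0 ∧ coef Y p.2 = -1)

namespace IsTop

variable {P : Finset (IrrCharacter G × IrrCharacter G)} {Y : G → ℂ} {R : IrrCharacter G} {ρ : ℤ}

theorem sum_split (hne : ∀ p ∈ P, p.1 ≠ p.2)
    (hdis : ∀ p ∈ P, ∀ r ∈ P, p ≠ r → ∀ b c, pairMem p b ≠ pairMem r c)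
    (hT : IsTop P Y R ρ) {M : Type*} [AddCommMonoid M] (F : IrrCharacter G → M)
    (hF : ∀ X, coef Y X = 0 → F X = 0) :
    ∑ X, F X = ∑ p ∈ P, (F p.1 + F p.2) + F R := by
  classical
  rw [← sum_memSet hne hdis F, ← Finset.sum_subset (Finset.subset_univ (insert R (memSet P)))
    (fun X _ hX => hF X (hT.rest X (fun e => hX (by simp [e])) fun e => hX (by simp [e]))),
    Finset.sum_insert hT.not_mem, add_comm]

end IsTop

theorem exists_top {P : Finset (IrrCharacter G × IrrCharacter G)}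
    (hne : ∀ p ∈ P, p.1 ≠ p.2)
    (hdis : ∀ p ∈ P, ∀ r ∈ P, p ≠ r → ∀ b c, pairMem p b ≠ pairMem r c) {Y : G → ℂ}
    (hY : IsGeneralizedCharacter G Y)
    (hpair : ∀ p ∈ P, classInner Y ((p.1 : G → ℂ) - (p.2 : G → ℂ)) = 1)
    (hnorm : classInner Y Y = (P.card : ℂ) + 1) : ∃ R ρ, IsTop P Y R ρ := by
  classical
  have hd : ∀ p ∈ P, coef Y p.1 = coef Y p.2 + 1 := by
    intro p hp
    have e := hpair p hp
    rw [classInner_sub_right, coef_eq hY, coef_eq hY, ← Int.cast_sub] at e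
    have e' : coef Y p.1 - coef Y p.2 = 1 := by exact_mod_cast e
    omega
  have hsq : ∑ X : IrrCharacter G, coef Y X * coef Y X = (P.card : ℤ) + 1 := by
    rw [classInner_eq_sum_coef hY hY] at hnorm
    exact_mod_cast hnorm
  rw [← Finset.sum_sdiff (Finset.subset_univ (memSet P)),
    sum_memSet hne hdis fun X => coef Y X * coef Y X] at hsq
  have hp1 : ∀ p ∈ P, coef Y p.1 * coef Y p.1 + coef Y p.2 * coef Y p.2 =
      1 + 2 * (coef Y p.2 * (coef Y p.2 + 1)) := fun p hp => by rw [hd p hp]; ring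
  rw [Finset.sum_congr rfl hp1, Finset.sum_add_distrib, Finset.sum_const, nsmul_eq_mul, mul_one,
    ← Finset.mul_sum] at hsq
  set E : ℤ := ∑ p ∈ P, coef Y p.2 * (coef Y p.2 + 1) with hE
  have hEnn : ∀ p ∈ P, 0 ≤ coef Y p.2 * (coef Y p.2 + 1) := by
    intro p _
    rcases le_or_gt 0 (coef Y p.2) with h0 | h0
    · positivity
    · exact mul_nonneg_of_nonpos_of_nonpos h0.le (by omega)
  have hRnn : 0 ≤ ∑ X ∈ Finset.univ \ memSet P, coef Y X * coef Y X :=
    Finset.sum_nonneg fun X _ => mul_self_nonneg _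
  have hE0 : E = 0 := by
    have : 0 ≤ E := Finset.sum_nonneg hEnn
    omega
  have hrest : ∑ X ∈ Finset.univ \ memSet P, coef Y X * coef Y X = 1 := by omega
  obtain ⟨R, hR, hR0⟩ := Finset.exists_ne_zero_of_sum_ne_zero (hrest ▸ one_ne_zero)
  rw [← Finset.add_sum_erase _ _ hR] at hrest
  have h2 : 0 ≤ ∑ X ∈ (Finset.univ \ memSet P).erase R, coef Y X * coef Y X :=
    Finset.sum_nonneg fun X _ => mul_self_nonneg _
  have h3 : 0 < coef Y R * coef Y R := lt_of_le_of_ne (mul_self_nonneg _) (Ne.symm hR0)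
  have hR1 : coef Y R * coef Y R = 1 := by omega
  have h4 : ∑ X ∈ (Finset.univ \ memSet P).erase R, coef Y X * coef Y X = 0 := by omega
  refine ⟨R, coef Y R, hY, Int.eq_one_or_neg_one_of_mul_eq_one hR1, rfl,
    (Finset.mem_sdiff.1 hR).2, fun X hX hXm => ?_, fun p hp => ?_⟩
  · exact mul_self_eq_zero.1 ((Finset.sum_eq_zero_iff_of_nonneg
      fun X _ => mul_self_nonneg _).1 h4 X
      (Finset.mem_erase.2 ⟨hX, Finset.mem_sdiff.2 ⟨Finset.mem_univ _, hXm⟩⟩))
  · have e := (Finset.sum_eq_zero_iff_of_nonneg hEnn).1 hE0 p hp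
    rcases mul_eq_zero.1 e with e' | e'
    · exact Or.inl ⟨by rw [hd p hp, e']; rfl, e'⟩
    · exact Or.inr ⟨by rw [hd p hp]; exact e', by omega⟩

theorem top_ne_top {P : Finset (IrrCharacter G × IrrCharacter G)}
    (hne : ∀ p ∈ P, p.1 ≠ p.2)
    (hdis : ∀ p ∈ P, ∀ r ∈ P, p ≠ r → ∀ b c, pairMem p b ≠ pairMem r c)
    (hdeg : ∀ p ∈ P, dg p.1 = dg p.2) {Y Y' : G → ℂ} {R R' : IrrCharacter G} {ρ ρ' : ℤ}
    (hT : IsTop P Y R ρ) (hT' : IsTop P Y' R' ρ') (h1 : Y 1 = 0) (h1' : Y' 1 = 0)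
    (e : classInner Y Y' = (P.card : ℂ)) : R ≠ R' := by
  classical
  intro hRR
  subst hRR
  rw [classInner_eq_sum_coef hT.gen hT'.gen] at e
  have e' : ∑ X : IrrCharacter G, coef Y X * coef Y' X = (P.card : ℤ) := by exact_mod_cast e
  rw [hT.sum_split hne hdis _ (fun X hX => by rw [hX, zero_mul]), hT.coef_R, hT'.coef_R] at e'
  have hdeg0 : ∀ {Z : G → ℂ} {ρ₀ : ℤ} (_ : IsTop P Z R ρ₀), Z 1 = 0 →
      ∑ p ∈ P, (coef Z p.1 * (dg p.1 : ℤ) + coef Z p.2 * (dg p.2 : ℤ)) + ρ₀ * dg R = 0 := by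
    intro Z ρ₀ hZ hZ1
    have e0 : (∑ X : IrrCharacter G, coef Z X * (dg X : ℤ)) = 0 := by
      have e1 := congrFun (eq_sum_coef hZ.gen) 1
      rw [hZ1] at e1
      simp only [Finset.sum_apply, Pi.smul_apply, smul_eq_mul, dg_eq] at e1
      exact_mod_cast e1.symm
    rw [hZ.sum_split hne hdis _ (fun X hX => by rw [hX, zero_mul]), hZ.coef_R] at e0
    exact e0
  have d0 := hdeg0 hT h1
  have d0' := hdeg0 hT' h1'
  set g : IrrCharacter G × IrrCharacter G → ℤ := fun p => coef Y p.1 - coef Y' p.1 with hg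
  have hprod : ∀ p ∈ P, coef Y p.1 * coef Y' p.1 + coef Y p.2 * coef Y' p.2 = 1 - g p * g p := by
    intro p hp
    rcases hT.pair p hp with ⟨x1, x2⟩ | ⟨x1, x2⟩ <;>
      rcases hT'.pair p hp with ⟨y1, y2⟩ | ⟨y1, y2⟩ <;> simp [hg, x1, x2, y1, y2]
  have hdd : ∀ p ∈ P, (coef Y p.1 * (dg p.1 : ℤ) + coef Y p.2 * (dg p.2 : ℤ)) -
      (coef Y' p.1 * (dg p.1 : ℤ) + coef Y' p.2 * (dg p.2 : ℤ)) = 2 * g p * dg p.1 := by
    intro p hp
    rw [← hdeg p hp]
    rcases hT.pair p hp with ⟨x1, x2⟩ | ⟨x1, x2⟩ <;>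
      rcases hT'.pair p hp with ⟨y1, y2⟩ | ⟨y1, y2⟩ <;> simp [hg, x1, x2, y1, y2] <;> ring
  rw [Finset.sum_congr rfl hprod, Finset.sum_sub_distrib, Finset.sum_const, nsmul_eq_mul,
    mul_one] at e'
  have hgg : ∑ p ∈ P, g p * g p = ρ * ρ' := by omega
  have hρρ : ρ * ρ' = 1 := by
    rcases hT.unit with rfl | rfl <;> rcases hT'.unit with rfl | rfl <;> try norm_num
    all_goals
      exfalso
      have := Finset.sum_nonneg (s := P) fun p _ => mul_self_nonneg (g p)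
      norm_num at hgg
      omega
  have hρ : ρ' = ρ := by
    rcases hT.unit with rfl | rfl <;> rcases hT'.unit with rfl | rfl <;> simp_all
  rw [hρρ] at hgg
  subst hρ
  obtain ⟨p, hp, hp0⟩ := Finset.exists_ne_zero_of_sum_ne_zero (hgg ▸ one_ne_zero)
  rw [← Finset.add_sum_erase _ _ hp] at hgg
  have h2 : 0 ≤ ∑ r ∈ P.erase p, g r * g r := Finset.sum_nonneg fun r _ => mul_self_nonneg _
  have h3 : 0 < g p * g p := lt_of_le_of_ne (mul_self_nonneg _) (Ne.symm hp0)
  have h4 : ∑ r ∈ P.erase p, g r * g r = 0 := by omega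
  have hz : ∀ r ∈ P.erase p, g r = 0 := fun r hr => mul_self_eq_zero.1
    ((Finset.sum_eq_zero_iff_of_nonneg fun r _ => mul_self_nonneg _).1 h4 r hr)
  have e5 : ∑ r ∈ P, 2 * g r * (dg r.1 : ℤ) = 0 := by
    rw [← Finset.sum_congr rfl hdd, Finset.sum_sub_distrib]
    omega
  rw [← Finset.add_sum_erase _ _ hp, Finset.sum_eq_zero (fun r hr => by rw [hz r hr]; ring),
    add_zero] at e5
  rcases mul_eq_zero.1 e5 with e6 | e6
  · exact hp0 (by rw [show g p = 0 by omega, mul_zero])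
  · have := dg_pos p.1
    omega

theorem top_disjoint {P P' : Finset (IrrCharacter G × IrrCharacter G)}
    (hne' : ∀ p ∈ P', p.1 ≠ p.2)
    (hPP : ∀ p ∈ P, ∀ r ∈ P', ∀ b c, pairMem p b ≠ pairMem r c) {Y : G → ℂ}
    {R : IrrCharacter G} {ρ : ℤ} (hT : IsTop P Y R ρ)
    (hzero : ∀ r ∈ P', classInner Y ((r.1 : G → ℂ) - (r.2 : G → ℂ)) = 0) :
    R ∉ memSet P' ∧ ∀ X ∈ memSet P', coef Y X = 0 := by
  classical
  have hnot : ∀ r ∈ P', ∀ c, pairMem r c ∉ memSet P := by
    intro r hr c hc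
    obtain ⟨p, hp, b, e⟩ := mem_memSet.1 hc
    exact hPP p hp r hr b c e
  have key : ∀ r ∈ P', coef Y r.1 = 0 ∧ coef Y r.2 = 0 ∧ R ≠ r.1 ∧ R ≠ r.2 := by
    intro r hr
    have e := hzero r hr
    rw [classInner_sub_right, coef_eq hT.gen, coef_eq hT.gen, sub_eq_zero, Int.cast_inj] at e
    have hρ : ρ ≠ 0 := by rcases hT.unit with rfl | rfl <;> norm_num
    have hR1 : R ≠ r.1 := by
      intro e1
      have e2 := hT.rest r.2 (by rw [e1]; exact (hne' r hr).symm) (hnot r hr false)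
      rw [← e1, hT.coef_R, e2] at e
      exact hρ e
    have hR2 : R ≠ r.2 := by
      intro e1
      have e2 := hT.rest r.1 (by rw [e1]; exact hne' r hr) (hnot r hr true)
      rw [← e1, hT.coef_R, e2] at e
      exact hρ e.symm
    exact ⟨hT.rest _ hR1.symm (hnot r hr true), hT.rest _ hR2.symm (hnot r hr false), hR1, hR2⟩
  constructor
  · intro hR
    obtain ⟨r, hr, b, e⟩ := mem_memSet.1 hR
    cases b
    · exact (key r hr).2.2.2 e.symm
    · exact (key r hr).2.2.1 e.symm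
  · intro X hX
    obtain ⟨r, hr, b, rfl⟩ := mem_memSet.1 hX
    cases b
    · exact (key r hr).2.1
    · exact (key r hr).1

theorem top_ne_top' {P P' : Finset (IrrCharacter G × IrrCharacter G)}
    (hne : ∀ p ∈ P, p.1 ≠ p.2) (hne' : ∀ p ∈ P', p.1 ≠ p.2)
    (hdis : ∀ p ∈ P, ∀ r ∈ P, p ≠ r → ∀ b c, pairMem p b ≠ pairMem r c)
    (hPP : ∀ p ∈ P, ∀ r ∈ P', ∀ b c, pairMem p b ≠ pairMem r c) {Y Y' : G → ℂ}
    {R R' : IrrCharacter G} {ρ ρ' : ℤ} (hT : IsTop P Y R ρ) (hT' : IsTop P' Y' R' ρ')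
    (hzero' : ∀ p ∈ P, classInner Y' ((p.1 : G → ℂ) - (p.2 : G → ℂ)) = 0)
    (e : classInner Y Y' = 0) : R ≠ R' := by
  classical
  intro hRR
  subst hRR
  obtain ⟨-, hz⟩ := top_disjoint hne
    (fun r hr p hp c b => (hPP p hp r hr b c).symm) hT' hzero'
  rw [classInner_eq_sum_coef hT.gen hT'.gen] at e
  have e' : ∑ X : IrrCharacter G, coef Y X * coef Y' X = 0 := by exact_mod_cast e
  rw [hT.sum_split hne hdis _ (fun X hX => by rw [hX, zero_mul]), hT.coef_R, hT'.coef_R,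
    Finset.sum_eq_zero, zero_add] at e'
  · rcases hT.unit with rfl | rfl <;> rcases hT'.unit with rfl | rfl <;> norm_num at e'
  · intro p hp
    rw [hz p.1 (mem_memSet.2 ⟨p, hp, true, rfl⟩), hz p.2 (mem_memSet.2 ⟨p, hp, false, rfl⟩)]
    ring

theorem Setup.top_equation {Ω : Type v} [MulAction G Ω] {a : Ω} {t : G} {Q : Subgroup G}
    (h : Setup a t Q) {α : stabilizer G a → ℂ} (hc : IsClassFunction (stabilizer G a) α)
    (hv : VanishTwo a α) {δ : ℤ} (hδ : α ⟨h.sElt, h.s_mem.1⟩ = δ)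
    {P : Finset (IrrCharacter G × IrrCharacter G)} (hne : ∀ p ∈ P, p.1 ≠ p.2)
    (hdis : ∀ p ∈ P, ∀ r ∈ P, p ≠ r → ∀ b c, pairMem p b ≠ pairMem r c)
    (hP : ∀ p ∈ P, dg p.1 = dg p.2 ∧ ∃ δp : ℤ, δp * P.card = δ ∧
      2 * (tv t p.1 : ℝ) = h.kap * dg p.1 + δp ∧ 2 * (tv t p.2 : ℝ) = h.kap * dg p.2 - δp)
    {R : IrrCharacter G} {ρ : ℤ} (hT : IsTop P (lift a α) R ρ) :
    2 * (ρ : ℝ) * (tv t R : ℝ) = δ + h.kap * ρ * dg R := by
  classical
  obtain ⟨e1, e2, -⟩ := h.lift_equations hc hv hδ (Finset.univ : Finset (IrrCharacter G))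
    (coef (lift a α)) id (eq_sum_coef hT.gen)
  simp only [id] at e1 e2
  rw [hT.sum_split hne hdis _ (fun X hX => by rw [hX, zero_mul]), hT.coef_R] at e1 e2
  have e1' : (∑ p ∈ P, ((coef (lift a α) p.1 : ℝ) * dg p.1 +
      (coef (lift a α) p.2 : ℝ) * dg p.2)) + ρ * dg R = 0 := by exact_mod_cast e1
  have e2' : (∑ p ∈ P, ((coef (lift a α) p.1 : ℝ) * tv t p.1 +
      (coef (lift a α) p.2 : ℝ) * tv t p.2)) + ρ * tv t R = δ := by exact_mod_cast e2
  have key : ∀ p ∈ P, 2 * ((coef (lift a α) p.1 : ℝ) * tv t p.1 +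
      (coef (lift a α) p.2 : ℝ) * tv t p.2) * P.card =
      h.kap * ((coef (lift a α) p.1 : ℝ) * dg p.1 + (coef (lift a α) p.2 : ℝ) * dg p.2) * P.card +
        δ := by
    intro p hp
    obtain ⟨hd, δp, hδp, ha, hb⟩ := hP p hp
    have hδp' : (δp : ℝ) * P.card = δ := by exact_mod_cast hδp
    rcases hT.pair p hp with ⟨x1, x2⟩ | ⟨x1, x2⟩ <;> rw [x1, x2] <;> push_cast
    · linear_combination (P.card : ℝ) * ha + hδp'
    · linear_combination (-(P.card : ℝ)) * hb + hδp'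
  rcases Finset.eq_empty_or_nonempty P with hP0 | hP0
  · subst hP0
    simp only [Finset.sum_empty, zero_add] at e1' e2'
    have hR : (dg R : ℝ) ≠ 0 := Nat.cast_ne_zero.2 (dg_pos R).ne'
    rcases hT.unit with rfl | rfl <;> simp at e1' <;> exact absurd e1' (fun h' => hR (by simpa using h'))
  have hc0 : (P.card : ℝ) ≠ 0 := Nat.cast_ne_zero.2 (Finset.card_pos.2 hP0).ne'
  have hsum : 2 * (∑ p ∈ P, ((coef (lift a α) p.1 : ℝ) * tv t p.1 +
      (coef (lift a α) p.2 : ℝ) * tv t p.2)) =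
      h.kap * (∑ p ∈ P, ((coef (lift a α) p.1 : ℝ) * dg p.1 +
        (coef (lift a α) p.2 : ℝ) * dg p.2)) + δ := by
    refine mul_right_cancel₀ hc0 ?_
    rw [Finset.mul_sum, Finset.sum_mul, Finset.sum_congr rfl key, Finset.sum_add_distrib,
      Finset.sum_const, nsmul_eq_mul, add_mul, Finset.mul_sum, Finset.sum_mul]
    ring
  linear_combination 2 * e2' - h.kap * e1' - hsum

end Cfsg.Agent.Lib.SplitRankOne70
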