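import Cfsg.Agent.Lib.SplitRankOne70.TwoProd

/-!
The families of free characters lying over the characters of `Q / S` of one degree.
-/

set_option autoImplicit false
set_option linter.unusedSectionVars false
set_option linter.style.haveILetI false

namespace Cfsg.Agent.Lib.SplitRankOne70

open Cfsg MulAction Cfsg.Agent.Lib.RankOne Cfsg.Agent.Lib.Chars
open scoped ComplexConjugate

universe u v w

theorem two_arith {p L f c : ℕ} (hp : p.Prime) (hp2 : p ≠ 2) (hL : L = 2 ^ p ∨ L = (2 ^ p) ^ 2)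
    (hf : f ^ 2 ≤ L) (hc : c ≤ 4) (hmod : c ≡ L [MOD p]) : c + f * p ≤ L := by
  have h3 : 3 ≤ p := by have := hp.two_le; omega
  rcases Nat.lt_or_ge p 6 with h6 | h6
  · interval_cases p
    · rcases hL with rfl | rfl
      · have hf2 : f ≤ 2 := by nlinarith
        have : c ≤ 2 := by
          unfold Nat.ModEq at hmod
          omega
        omega
      · have hf2 : f ≤ 8 := by nlinarith
        omega
    · exact absurd hp (by norm_num)
    · rcases hL with rfl | rfl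
      · have hf2 : f ≤ 5 := by nlinarith
        omega
      · have hf2 : f ≤ 32 := by nlinarith
        omega
  · have hgrow : ∀ n, 6 ≤ n → n * n + 8 ≤ 2 ^ n := by
      intro n hn
      induction n, hn using Nat.le_induction with
      | base => norm_num
      | succ n hn ih => rw [pow_succ]; nlinarith
    have hL' : p * p + 8 ≤ L := by
      have h1 := hgrow p h6
      rcases hL with rfl | rfl
      · exact h1
      · exact le_trans h1 (Nat.le_self_pow two_ne_zero _)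
    by_contra hlt
    push Not at hlt
    have h4 : L < 4 + f * p := by omega
    have h5 : (L - 4) * (L - 4) < (f * p) * (f * p) :=
      Nat.mul_self_lt_mul_self (by omega)
    have h7 : (f * p) * (f * p) ≤ L * (p * p) := by
      calc (f * p) * (f * p) = f ^ 2 * (p * p) := by ring
        _ ≤ L * (p * p) := Nat.mul_le_mul_right _ hf
    have h8 : L * (p * p) ≤ L * (L - 8) := Nat.mul_le_mul_left _ (by omega)
    obtain ⟨j, rfl⟩ : ∃ j, L = j + 8 := ⟨L - 8, by omega⟩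
    rw [show j + 8 - 4 = j + 4 by omega] at h5
    rw [show j + 8 - 8 = j by omega] at h8
    nlinarith

variable {G : Type u} {Ω : Type v} [Group G] [MulAction G Ω] [Fintype G] {a : Ω} {t : G}
  {Q : Subgroup G} [Fintype (stabilizer G a)] [Fintype Q] [Fintype (twoStab a t)]

namespace Setup

variable (h : Setup a t Q)
include h

theorem qInd_one (φ : IrrCharacter Q) :
    qInd a Q (φ : Q → ℂ) 1 = (Nat.card (twoStab a t) : ℂ) * dg φ := by
  rw [show (1 : stabilizer G a) = ⟨((1 : Q) : G), h.hS.le (1 : Q).2⟩ from rfl,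
    h.qInd_apply (irr_isClassFunction φ)]
  simp only [h.cj_apply_one, dg_eq, Finset.sum_const, Finset.card_univ, nsmul_eq_mul,
    Nat.card_eq_fintype_card]

theorem exists_cj_of_qInd_eq {φ φ' : IrrCharacter Q} (hb : h.stabCj (φ : Q → ℂ) = ⊥)
    (e : qInd a Q (φ : Q → ℂ) = qInd a Q (φ' : Q → ℂ)) :
    ∃ d, h.cj d (φ' : Q → ℂ) = φ := by
  by_contra hno
  push Not at hno
  have e0 := h.classInner_qInd_eq_zero φ.2 φ'.2 hno
  rw [← e, h.classInner_qInd_self, hb, Subgroup.card_bot, Nat.cast_one] at e0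
  exact one_ne_zero e0

theorem card_fibre_le {ι : Type w} (s : Finset ι) (key : ι → IrrCharacter Q)
    (hinj : ∀ x ∈ s, ∀ y ∈ s, key x = key y → x = y)
    (hb : ∀ x ∈ s, h.stabCj (key x : Q → ℂ) = ⊥)
    (hsame : ∀ x ∈ s, ∀ y ∈ s, qInd a Q (key x : Q → ℂ) = qInd a Q (key y : Q → ℂ)) :
    s.card ≤ Nat.card (twoStab a t) := by
  classical
  rcases s.eq_empty_or_nonempty with rfl | ⟨x₀, hx₀⟩
  · simp
  choose! d hd using fun x (hx : x ∈ s) => h.exists_cj_of_qInd_eq (hb x hx) (hsame x hx x₀ hx₀)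
  rw [Nat.card_eq_fintype_card, ← Finset.card_univ]
  refine Finset.card_le_card_of_injOn d (fun x _ => Finset.mem_univ _) fun x hx y hy e => ?_
  rw [Finset.mem_coe] at hx hy
  refine hinj x hx y hy (Subtype.ext ?_)
  rw [← hd x hx, ← hd y hy, e]

end Setup

/-- A non-trivial character of `Q / S`. -/
def IsBase (S : Subgroup Q) (χ : IrrCharacter Q) : Prop :=
  TrivOn S χ ∧ χ ≠ trivialIrr Q

/-- The free characters `μ λ` with `μ` of degree `e`, induced to the point stabiliser. -/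
noncomputable def Split.famSet {h : Setup a t Q} {S O : Subgroup Q} (hSp : Split h S O) (e : ℕ) :
    Finset (stabilizer G a → ℂ) :=
  open scoped Classical in
  ((Finset.univ ×ˢ Finset.univ).filter fun p : IrrCharacter Q × IrrCharacter Q =>
      IsBase S p.1 ∧ dg p.1 = e ∧ TrivOn hSp.nSub p.2 ∧
        h.stabCj ((p.1 : Q → ℂ) * (p.2 : Q → ℂ)) = ⊥).image
    fun p => qInd a Q ((p.1 : Q → ℂ) * (p.2 : Q → ℂ))

namespace Split

variable {h : Setup a t Q} {S O : Subgroup Q} (hSp : Split h S O)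
include hSp

theorem mem_famSet {e : ℕ} {θ : stabilizer G a → ℂ} :
    θ ∈ hSp.famSet e ↔ ∃ μ l : IrrCharacter Q, IsBase S μ ∧ dg μ = e ∧ TrivOn hSp.nSub l ∧
      h.stabCj ((μ : Q → ℂ) * (l : Q → ℂ)) = ⊥ ∧
        qInd a Q ((μ : Q → ℂ) * (l : Q → ℂ)) = θ := by
  classical
  simp [famSet, Prod.exists, and_assoc]

theorem prod_dg {χ ψ : IrrCharacter Q} (hχ : TrivOn S χ) (hψ : TrivOn O ψ) :
    dg (⟨_, hSp.prod_irr hχ hψ⟩ : IrrCharacter Q) = dg χ * dg ψ := by
  have e := dg_eq (⟨_, hSp.prod_irr hχ hψ⟩ : IrrCharacter Q)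
  simp only [Pi.mul_apply, dg_eq] at e
  exact_mod_cast e.symm

theorem lin_dg {l : IrrCharacter Q} (hl : TrivOn hSp.nSub l) : dg l = 1 := by
  have e := hSp.lin_degree hl
  rw [dg_eq] at e
  exact_mod_cast e

theorem famSet_free {e : ℕ} : ∀ θ ∈ hSp.famSet e, h.FreeInd θ := by
  intro θ hθ
  obtain ⟨μ, l, hμ, -, hl, hb, rfl⟩ := hSp.mem_famSet.1 hθ
  exact ⟨⟨_, hSp.prod_irr hμ.1 (hSp.lin_trivO hl)⟩, hb, rfl⟩

theorem famSet_one {e : ℕ} {θ : stabilizer G a → ℂ} (hθ : θ ∈ hSp.famSet e) :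
    θ 1 = (Nat.card (twoStab a t) : ℂ) * e := by
  obtain ⟨μ, l, hμ, hμe, hl, -, rfl⟩ := hSp.mem_famSet.1 hθ
  have := h.qInd_one ⟨_, hSp.prod_irr hμ.1 (hSp.lin_trivO hl)⟩
  rw [hSp.prod_dg hμ.1 (hSp.lin_trivO hl), hμe, hSp.lin_dg hl, mul_one] at this
  exact this

theorem famSet_s {e : ℕ} {θ : stabilizer G a → ℂ} (hθ : θ ∈ hSp.famSet e) :
    θ ⟨h.sElt, h.s_mem.1⟩ =
      (Nat.card (vSub a t) : ℂ) * ((Nat.card h.zSub : ℂ) - 1) * e := by
  obtain ⟨μ, l, hμ, hμe, hl, -, rfl⟩ := hSp.mem_famSet.1 hθ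
  haveI : Fintype h.zSub := Fintype.ofFinite _
  rw [h.qInd_s (isClassFunction_of_isCharacter (isCharacter_of_isIrrCharacter
      (hSp.prod_irr hμ.1 (hSp.lin_trivO hl)))),
    Finset.sum_congr rfl (g := fun _ => (μ : Q → ℂ) 1) fun z _ => by
      rw [Pi.mul_apply, hSp.trivS_z hμ.1, hSp.lin_z hl, mul_one],
    Finset.sum_const, Finset.card_univ, nsmul_eq_mul, Pi.mul_apply, hSp.lin_degree hl, dg_eq, hμe,
    Fintype.card_eq_nat_card]
  ring

theorem famSet_disjoint {e e' : ℕ} (hne : e ≠ e') : ∀ θ ∈ hSp.famSet e, θ ∉ hSp.famSet e' := by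
  intro θ hθ hθ'
  have e1 := hSp.famSet_one hθ
  rw [hSp.famSet_one hθ', mul_right_inj' (Nat.cast_ne_zero.2 Nat.card_pos.ne')] at e1
  exact hne (by exact_mod_cast e1.symm)

theorem top_not_famSet {lam : h.zSub →* ℂˣ} (hlam : (lam ⟨h.sElt, h.s_mem⟩ : ℂ) = -1)
    {μ ψ : IrrCharacter Q} (hμ : TrivOn S μ) (hψ : h.OverLam O lam ψ) (k : twoStab a t)
    (hb : h.stabCj ((μ : Q → ℂ) * h.cj k (ψ : Q → ℂ)) = ⊥) (e : ℕ) :
    qInd a Q ((μ : Q → ℂ) * h.cj k (ψ : Q → ℂ)) ∉ hSp.famSet e := by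
  intro hmem
  obtain ⟨μ', l, hμ', -, hl, -, e1⟩ := hSp.mem_famSet.1 hmem
  obtain ⟨d, hd⟩ := h.exists_cj_of_qInd_eq
    (φ := ⟨_, hSp.prod_irr (ψ := ⟨_, h.cj_irr k ψ.2⟩) hμ (hSp.trivO_cj k hψ.1)⟩)
    (φ' := ⟨_, hSp.prod_irr hμ'.1 (hSp.lin_trivO hl)⟩) hb e1.symm
  simp only [h.cj_mul_fun] at hd
  obtain ⟨-, e2⟩ := hSp.prod_inj (χ := ⟨_, h.cj_irr d μ'.2⟩) (ψ := ⟨_, h.cj_irr d l.2⟩)
    (ψ' := ⟨_, h.cj_irr k ψ.2⟩) (hSp.trivS_cj d hμ'.1) hμ (hSp.trivO_cj d (hSp.lin_trivO hl))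
    (hSp.trivO_cj k hψ.1) hd
  have e3 := congrFun (congrArg Subtype.val e2) 1
  simp only [h.cj_apply_one, hSp.lin_degree hl] at e3
  exact hSp.overLam_degree_ne_one hlam hψ e3.symm

omit hSp in
theorem sum_lam {lam : h.zSub →* ℂˣ} (hlam : (lam ⟨h.sElt, h.s_mem⟩ : ℂ) = -1) [Fintype h.zSub]
    (k : twoStab a t) :
    ∑ z : h.zSub, (lam ⟨(k : G)⁻¹ * z * k, by
      simpa using h.conj_z (inv_mem (D_le h.hS k.2)) z.2⟩ : ℂ) = 0 := by
  let g : h.zSub →* ℂ :=
    { toFun := fun z => (lam ⟨(k : G)⁻¹ * (z : G) * k, by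
        simpa using h.conj_z (inv_mem (D_le h.hS k.2)) z.2⟩ : ℂ)
      map_one' := by
        refine (congrArg (fun x => ((lam x : ℂˣ) : ℂ)) (Subtype.ext (by simp) :
          (_ : h.zSub) = 1)).trans ?_
        rw [map_one, Units.val_one]
      map_mul' := fun z w => by
        rw [← Units.val_mul, ← map_mul]
        exact congrArg (fun x => ((lam x : ℂˣ) : ℂ)) (Subtype.ext (by push_cast; group)) }
  refine sum_hom_units_eq_zero g fun e => ?_
  have e1 : g ⟨(k : G) * h.sElt * (k : G)⁻¹, h.conj_z (D_le h.hS k.2) h.s_mem⟩ = -1 := by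
    rw [← hlam]
    exact congrArg (fun x => ((lam x : ℂˣ) : ℂ)) (Subtype.ext (by push_cast; group))
  rw [e, MonoidHom.one_apply] at e1
  norm_num at e1

theorem top_one {μ ψ : IrrCharacter Q} (hμ : TrivOn S μ) (hψ : TrivOn O ψ) (k : twoStab a t) :
    qInd a Q ((μ : Q → ℂ) * h.cj k (ψ : Q → ℂ)) 1 =
      (Nat.card (twoStab a t) : ℂ) * ((dg μ : ℂ) * dg ψ) := by
  have e := h.qInd_one ⟨_, hSp.prod_irr (ψ := ⟨_, h.cj_irr k ψ.2⟩) hμ (hSp.trivO_cj k hψ)⟩
  rw [← dg_eq] at e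
  simpa [h.cj_apply_one, dg_eq] using e

theorem top_s {lam : h.zSub →* ℂˣ} (hlam : (lam ⟨h.sElt, h.s_mem⟩ : ℂ) = -1)
    {μ ψ : IrrCharacter Q} (hμ : TrivOn S μ) (hψ : h.OverLam O lam ψ) (k : twoStab a t) :
    qInd a Q ((μ : Q → ℂ) * h.cj k (ψ : Q → ℂ)) ⟨h.sElt, h.s_mem.1⟩ =
      -((Nat.card (vSub a t) : ℂ) * ((dg μ : ℂ) * dg ψ)) := by
  haveI : Fintype h.zSub := Fintype.ofFinite _
  rw [h.qInd_s (isClassFunction_of_isCharacter (isCharacter_of_isIrrCharacter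
      (hSp.prod_irr (ψ := ⟨_, h.cj_irr k ψ.2⟩) hμ (hSp.trivO_cj k hψ.1)))),
    Finset.sum_congr rfl (g := fun z : h.zSub => (μ : Q → ℂ) 1 * (ψ : Q → ℂ) 1 *
      (lam ⟨(k : G)⁻¹ * z * k, by simpa using h.conj_z (inv_mem (D_le h.hS k.2)) z.2⟩ : ℂ))
      fun z _ => by
        rw [Pi.mul_apply, hSp.trivS_z hμ, mul_assoc, ← hψ.2]
        rfl,
    ← Finset.mul_sum, sum_lam hlam k, Pi.mul_apply,
    show ((⟨_, h.cj_irr k ψ.2⟩ : IrrCharacter Q) : Q → ℂ) 1 = (ψ : Q → ℂ) 1 from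
      h.cj_apply_one k _, dg_eq, dg_eq]
  ring

theorem card_famSet [FaithfulSMul G Ω] (IH : IndHyp.{u, v} (Nat.card G)) {χ : IrrCharacter Q}
    (hχ : IsBase S χ) {f : ℕ} (hf : f ^ 2 ≤ Nat.card (Q ⧸ hSp.nSub)) :
    2 * f ≤ (hSp.famSet (dg χ)).card := by
  classical
  obtain ⟨k, hI, hV⟩ := h.exists_normal_conj (hSp.smallFix IH hχ.1 hχ.2)
  let μ : IrrCharacter Q := ⟨_, h.cj_irr k χ.2⟩
  have hμS : TrivOn S μ := hSp.trivS_cj k hχ.1
  have hμ1 : μ ≠ trivialIrr Q := by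
    intro e
    refine hχ.2 (Subtype.ext (h.cj_inj (d := k) ?_))
    rw [show h.cj k (χ : Q → ℂ) = (μ : Q → ℂ) from rfl, e]
    funext x
    simp [Setup.cj]
  have hμe : dg μ = dg χ := by
    have e : (μ : Q → ℂ) 1 = (χ : Q → ℂ) 1 := h.cj_apply_one k _
    rw [dg_eq, dg_eq] at e
    exact_mod_cast e
  have hμne : irrConj μ ≠ μ := fun e =>
    hSp.conj_not_cj hμS hμ1 1 (by rw [h.cj_one, e])
  have hμ'1 : irrConj μ ≠ trivialIrr Q := by
    intro e
    refine hμ1 (irrConj.injective (e.trans (Subtype.ext (funext fun x => ?_))))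
    simp [irrConj_apply]
  have hμ'e : dg (irrConj μ) = dg μ := by
    have e : (irrConj μ : Q → ℂ) 1 = conj ((μ : Q → ℂ) 1) := irrConj_apply μ 1
    rw [dg_eq, dg_eq, Complex.conj_natCast] at e
    exact_mod_cast e
  set I := h.stabCj (μ : Q → ℂ) with hIdef
  set Fr := (Finset.univ : Finset (IrrCharacter Q)).filter fun l =>
    TrivOn hSp.nSub l ∧ h.stabCj ((μ : Q → ℂ) * (l : Q → ℂ)) = ⊥ with hFr
  set A := ({μ, irrConj μ} : Finset (IrrCharacter Q)) ×ˢ Fr with hA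
  have hAm : ∀ x ∈ A, (x.1 = μ ∨ x.1 = irrConj μ) ∧ TrivOn S x.1 ∧ TrivOn hSp.nSub x.2 ∧
      h.stabCj ((x.1 : Q → ℂ) * (x.2 : Q → ℂ)) = ⊥ := by
    intro x hx
    simp only [hA, hFr, Finset.mem_product, Finset.mem_insert, Finset.mem_singleton,
      Finset.mem_filter, Finset.mem_univ, true_and] at hx
    obtain ⟨h1, h2, h3⟩ := hx
    refine ⟨h1, ?_, h2, ?_⟩
    · rcases h1 with e | e <;> rw [e]
      exacts [hμS, hSp.conj_triv hμS]
    · rcases h1 with e | e <;> rw [e]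
      · exact h3
      · rw [← h3]
        ext d
        rw [hSp.stab_prod (hSp.conj_triv hμS) (hSp.lin_trivO h2),
          hSp.stab_prod hμS (hSp.lin_trivO h2), hSp.stab_irrConj]
  have hsub : A.image (fun x => qInd a Q ((x.1 : Q → ℂ) * (x.2 : Q → ℂ))) ⊆
      hSp.famSet (dg χ) := by
    intro θ hθ
    obtain ⟨x, hx, rfl⟩ := Finset.mem_image.1 hθ
    obtain ⟨h1, h2, h3, h4⟩ := hAm x hx
    refine hSp.mem_famSet.2 ⟨x.1, x.2, ⟨h2, ?_⟩, ?_, h3, h4, rfl⟩
    · rcases h1 with e | e <;> rw [e]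
      exacts [hμ1, hμ'1]
    · rcases h1 with e | e <;> rw [e]
      exacts [hμe, hμ'e.trans hμe]
  have hfib : A.card ≤ Nat.card I *
      (A.image fun x => qInd a Q ((x.1 : Q → ℂ) * (x.2 : Q → ℂ))).card := by
    refine Finset.card_le_mul_card_image A _ fun θ hθ => ?_
    set s := A.filter fun x => qInd a Q ((x.1 : Q → ℂ) * (x.2 : Q → ℂ)) = θ with hs
    rcases s.eq_empty_or_nonempty with e | ⟨x₀, hx₀⟩
    · rw [e]; simp
    have hdx : ∀ x ∈ s, ∃ d ∈ I, x.1 = x₀.1 ∧ (x.2 : Q → ℂ) = h.cj d (x₀.2 : Q → ℂ) := by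
      intro x hx
      rw [hs, Finset.mem_filter] at hx hx₀
      obtain ⟨h1, h2, h3, h4⟩ := hAm x hx.1
      obtain ⟨k1, k2, k3, -⟩ := hAm x₀ hx₀.1
      obtain ⟨d, hd⟩ := h.exists_cj_of_qInd_eq
        (φ := ⟨_, hSp.prod_irr h2 (hSp.lin_trivO h3)⟩)
        (φ' := ⟨_, hSp.prod_irr k2 (hSp.lin_trivO k3)⟩) h4 (hx.2.trans hx₀.2.symm)
      simp only [h.cj_mul_fun] at hd
      obtain ⟨e1, e2⟩ := hSp.prod_inj (χ := ⟨_, h.cj_irr d x₀.1.2⟩) (ψ := ⟨_, h.cj_irr d x₀.2.2⟩)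
        (hSp.trivS_cj d k2) h2 (hSp.trivO_cj d (hSp.lin_trivO k3)) (hSp.lin_trivO h3) hd
      have e1' : h.cj d (x₀.1 : Q → ℂ) = x.1 := congrArg Subtype.val e1
      have hsame : x.1 = x₀.1 := by
        rcases h1 with p1 | p1 <;> rcases k1 with p2 | p2 <;> rw [p1, p2] at e1' <;> rw [p1, p2]
        · exfalso
          refine hSp.conj_not_cj hμS hμ1 d⁻¹ ?_
          calc h.cj d⁻¹ (μ : Q → ℂ) = h.cj d⁻¹ (h.cj d (irrConj μ : Q → ℂ)) := by rw [e1']
            _ = _ := by rw [← h.cj_mul, inv_mul_cancel, h.cj_one]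
        · exact absurd e1' (hSp.conj_not_cj hμS hμ1 d)
      refine ⟨d, ?_, hsame, (congrArg Subtype.val e2).symm⟩
      rw [hsame] at e1'
      have : d ∈ h.stabCj (x₀.1 : Q → ℂ) := h.mem_stabCj.2 e1'
      rcases k1 with p2 | p2 <;> rw [p2] at this
      · exact this
      · rwa [hSp.stab_irrConj] at this
    choose! d hdI hd1 hd2 using hdx
    rw [Nat.card_eq_fintype_card, ← Fintype.card_coe s]
    refine Fintype.card_le_of_injective (fun x : s => (⟨d x, hdI x x.2⟩ : I)) fun x y e => ?_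
    have e' : d x = d y := congrArg Subtype.val e
    refine Subtype.ext (Prod.ext ((hd1 x x.2).trans (hd1 y y.2).symm) (Subtype.ext ?_))
    rw [hd2 x x.2, hd2 y y.2, e']
  have hAcard : A.card = 2 * Fr.card := by
    rw [hA, Finset.card_product, Finset.card_pair hμne.symm]
  set L := Nat.card (Q ⧸ hSp.nSub) with hLdef
  have hLcard : ((Finset.univ : Finset (IrrCharacter Q)).filter (TrivOn hSp.nSub)).card = L := by
    rw [hLdef, ← hSp.card_lin, Nat.card_eq_fintype_card, Fintype.card_subtype]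
  have hmain : f * Nat.card I ≤ Fr.card := by
    rcases h.smallFix_card hI hV with h1 | ⟨hp, hq⟩
    · rw [h1, mul_one]
      have hbot : I = ⊥ := Subgroup.card_eq_one.1 h1
      have e : Fr = (Finset.univ : Finset (IrrCharacter Q)).filter (TrivOn hSp.nSub) := by
        refine Finset.filter_congr fun l _ => ⟨fun hl => hl.1, fun hl => ⟨hl, ?_⟩⟩
        rw [eq_bot_iff, ← hbot]
        exact fun d hd => ((hSp.stab_prod hμS (hSp.lin_trivO hl) d).1 hd).1
      rw [e, hLcard]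
      exact le_trans (Nat.le_self_pow two_ne_zero f) hf
    · set p := Nat.card I with hpdef
      haveI : Fact p.Prime := ⟨hp⟩
      obtain ⟨⟨x, hxI⟩, hx⟩ := exists_prime_orderOf_dvd_card' (G := I) p dvd_rfl
      have hxp : orderOf x = p := by rw [← hx]; exact Subgroup.orderOf_coe (⟨x, hxI⟩ : I)
      have hx1 : x ≠ 1 := fun e => hp.ne_one (by rw [← hxp, e, orderOf_one])
      obtain ⟨c, hc4, hcard, hmod⟩ := hSp.card_fixed_lin hp hxp fun z hz e =>
        h.smallFix_cz_all hI hV hxI hx1 hz e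
      rw [hSp.card_lin] at hmod
      have hp2 : p ≠ 2 := by
        intro e
        have h2 : 2 ∣ Nat.card (twoStab a t) := e ▸ hxp ▸ orderOf_dvd_natCard x
        exact (Nat.not_even_iff_odd.2 h.hS.odd_card) (even_iff_two_dvd.2 h2)
      have hLq : L = 2 ^ p ∨ L = (2 ^ p) ^ 2 := by
        rw [← hq]
        exact hSp.card_quotient_cases
      have harith := two_arith hp hp2 hLq hf hc4 hmod
      set Fx := (Finset.univ : Finset (IrrCharacter Q)).filter fun l =>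
        TrivOn hSp.nSub l ∧ h.cj x (l : Q → ℂ) = l with hFx
      have hFxc : Fx.card = c := by
        rw [← hcard, Nat.card_eq_fintype_card, Fintype.card_subtype]
      have hsub2 : (Finset.univ : Finset (IrrCharacter Q)).filter (TrivOn hSp.nSub) ⊆
          Fr ∪ Fx := by
        intro l hl
        simp only [Finset.mem_filter, Finset.mem_univ, true_and] at hl
        simp only [hFr, hFx, Finset.mem_union, Finset.mem_filter, Finset.mem_univ, true_and]
        by_cases hxl : h.cj x (l : Q → ℂ) = l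
        · exact Or.inr ⟨hl, hxl⟩
        refine Or.inl ⟨hl, ?_⟩
        rw [eq_bot_iff]
        intro d hd
        obtain ⟨hdI, hdl⟩ := (hSp.stab_prod hμS (hSp.lin_trivO hl) d).1 hd
        rw [Subgroup.mem_bot]
        by_contra hd1
        have htop : Subgroup.zpowers (⟨d, hdI⟩ : I) = ⊤ :=
          zpowers_eq_top_of_prime_card hpdef.symm fun e => hd1 (congrArg Subtype.val e)
        obtain ⟨j, hj⟩ := Subgroup.mem_zpowers_iff.1
          (show (⟨x, hxI⟩ : I) ∈ Subgroup.zpowers (⟨d, hdI⟩ : I) by rw [htop]; trivial)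
        have hj' : d ^ j = x := congrArg Subtype.val hj
        exact hxl (h.mem_stabCj.1 (hj' ▸ zpow_mem hdl j))
      have := (Finset.card_le_card hsub2).trans (Finset.card_union_le _ _)
      rw [hLcard, hFxc] at this
      omega
  have hIpos : 0 < Nat.card I := Nat.card_pos
  have h1 : Nat.card I * (2 * f) ≤ Nat.card I * (hSp.famSet (dg χ)).card := by
    calc Nat.card I * (2 * f) = 2 * (f * Nat.card I) := by ring
      _ ≤ 2 * Fr.card := Nat.mul_le_mul_left _ hmain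
      _ = A.card := hAcard.symm
      _ ≤ _ := hfib.trans (Nat.mul_le_mul_left _ (Finset.card_le_card hsub))
  exact Nat.le_of_mul_le_mul_left h1 hIpos

end Split

end Cfsg.Agent.Lib.SplitRankOne70
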