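import Cfsg.Agent.Lib.SplitRankOne70.TwoSplit
import Cfsg.Agent.Lib.SplitRankOne70.FreeFamily
import Cfsg.Agent.Lib.SmallDegree.FTBound

/-!
The irreducible characters of `Q = S × O` as products, and their inertia groups in `D`.
-/

set_option autoImplicit false
set_option linter.unusedSectionVars false
set_option linter.style.haveILetI false

namespace Cfsg.Agent.Lib.SplitRankOne70

open Cfsg MulAction Cfsg.Agent.Lib.RankOne Cfsg.Agent.Lib.Chars
open scoped ComplexConjugate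

universe u v

theorem irr_nonempty (L : Type u) [Group L] [Finite L] : Nonempty (IrrCharacter L) :=
  ⟨trivialIrr L⟩

variable {G : Type u} {Ω : Type v} [Group G] [MulAction G Ω] [Finite G] {a : Ω} {t : G}
  {Q : Subgroup G}

/-- The characters of `Q / O` lying over `lam` on `Z`. -/
def Setup.OverLam (h : Setup a t Q) (O : Subgroup Q) (lam : h.zSub →* ℂˣ) (ψ : IrrCharacter Q) :
    Prop :=
  TrivOn O ψ ∧ ∀ z : h.zSub,
    (ψ : Q → ℂ) ⟨(z : G), h.zSub_le z.2⟩ = (ψ : Q → ℂ) 1 * (lam z : ℂ)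

namespace Split

variable {h : Setup a t Q} {S O : Subgroup Q} (hSp : Split h S O)
include hSp

theorem card_S_pow : ∃ i : ℕ, Nat.card S = 2 ^ i := by
  haveI : Fact (Nat.Prime 2) := ⟨Nat.prime_two⟩
  exact IsPGroup.iff_card.1 fun x : S =>
    let ⟨i, hi⟩ := (hSp.memS x).1 x.2
    ⟨i, Subtype.ext hi⟩

theorem odd_O : Odd (Nat.card O) := by
  by_contra hodd
  haveI : Fact (Nat.Prime 2) := ⟨Nat.prime_two⟩
  obtain ⟨x, hx⟩ := exists_prime_orderOf_dvd_card' (G := O) 2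
    (even_iff_two_dvd.1 (Nat.not_odd_iff_even.1 hodd))
  have := (hSp.memO x).1 x.2
  rw [Subgroup.orderOf_coe, hx] at this
  exact absurd this (by decide)

theorem qConj_mapS (d : twoStab a t) : S.map ((h.qConj d : Q ≃* Q) : Q →* Q) = S := by
  refine Subgroup.eq_of_le_of_card_ge ?_ (by
    rw [Subgroup.card_map_of_injective (h.qConj d).injective])
  rw [Subgroup.map_le_iff_le_comap]
  exact fun y hy => (hSp.qConj_memS d).2 hy

theorem card_quotient_S : Nat.card (Q ⧸ S) = Nat.card O := by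
  haveI := hSp.normS
  exact hSp.compl.symm.index_eq_card

theorem card_quotient_O : Nat.card (Q ⧸ O) = Nat.card S := by
  haveI := hSp.normO
  exact hSp.compl.index_eq_card

variable [Fintype Q]

theorem sum_trivS [DecidablePred (TrivOn S)] :
    ∑ χ ∈ (Finset.univ : Finset (IrrCharacter Q)).filter (TrivOn S), ((χ : Q → ℂ) 1) ^ 2 =
      (Nat.card O : ℂ) := by
  haveI := hSp.normS
  rw [sum_image_inflate, hSp.card_quotient_S]

theorem prod_irr {χ ψ : IrrCharacter Q} (hχ : TrivOn S χ) (hψ : TrivOn O ψ) :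
    IsIrrCharacter Q ((χ : Q → ℂ) * (ψ : Q → ℂ)) := by
  have hc : IsCharacter Q ((χ : Q → ℂ) * (ψ : Q → ℂ)) :=
    isCharacter_mul (irr_isCharacter χ) (irr_isCharacter ψ)
  rw [isIrrCharacter_iff_classInner_eq_one hc, hSp.classInner_prod hχ hχ hψ hψ,
    classInner_irr_self, classInner_irr_self, one_mul]

theorem prod_inj {χ χ' ψ ψ' : IrrCharacter Q} (hχ : TrivOn S χ) (hχ' : TrivOn S χ')
    (hψ : TrivOn O ψ) (hψ' : TrivOn O ψ')
    (e : (χ : Q → ℂ) * (ψ : Q → ℂ) = (χ' : Q → ℂ) * (ψ' : Q → ℂ)) : χ = χ' ∧ ψ = ψ' := by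
  have e1 := hSp.classInner_prod hχ hχ' hψ hψ'
  rw [← e, hSp.classInner_prod hχ hχ hψ hψ, classInner_irr_self, classInner_irr_self,
    one_mul] at e1
  constructor <;> by_contra hne <;> rw [classInner_irr_of_ne hne] at e1 <;> simp at e1

theorem stab_prod {χ ψ : IrrCharacter Q} (hχ : TrivOn S χ) (hψ : TrivOn O ψ) (d : twoStab a t) :
    d ∈ h.stabCj ((χ : Q → ℂ) * (ψ : Q → ℂ)) ↔
      d ∈ h.stabCj (χ : Q → ℂ) ∧ d ∈ h.stabCj (ψ : Q → ℂ) := by
  simp only [Setup.mem_stabCj, h.cj_mul_fun]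
  refine ⟨fun e => ?_, fun e => by rw [e.1, e.2]⟩
  obtain ⟨e1, e2⟩ := hSp.prod_inj (χ := ⟨_, h.cj_irr d χ.2⟩) (ψ := ⟨_, h.cj_irr d ψ.2⟩)
    (hSp.trivS_cj d hχ) hχ (hSp.trivO_cj d hψ) hψ e
  exact ⟨congrArg Subtype.val e1, congrArg Subtype.val e2⟩

theorem conj_triv {χ : IrrCharacter Q} (hχ : TrivOn S χ) : TrivOn S (irrConj χ) := fun x hx => by
  rw [irrConj_apply, irrConj_apply, hχ x hx]

theorem cj_irrConj (d : twoStab a t) (χ : IrrCharacter Q) :
    h.cj d (irrConj χ : Q → ℂ) = fun x => conj (h.cj d (χ : Q → ℂ) x) :=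
  funext fun _ => rfl

theorem stab_irrConj (χ : IrrCharacter Q) :
    h.stabCj (irrConj χ : Q → ℂ) = h.stabCj (χ : Q → ℂ) := by
  ext d
  simp only [Setup.mem_stabCj, hSp.cj_irrConj]
  constructor
  · intro e
    funext x
    have := congrArg conj (congrFun e x)
    simpa [irrConj_apply] using this
  · intro e
    funext x
    rw [e]
    rfl

/-- No element of `D` maps a non-trivial character of `Q / S` to its conjugate. -/
theorem conj_not_cj {χ : IrrCharacter Q} (hχ : TrivOn S χ) (hne : χ ≠ trivialIrr Q)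
    (d : twoStab a t) : h.cj d (χ : Q → ℂ) ≠ (irrConj χ : Q → ℂ) := by
  intro e
  have e2 : h.cj (d * d) (χ : Q → ℂ) = χ := by
    rw [h.cj_mul, e, hSp.cj_irrConj, e]
    funext x
    simp [irrConj_apply]
  have hd : d ∈ Subgroup.zpowers (d * d) := by
    obtain ⟨m, hm⟩ := Odd.of_dvd_nat h.hS.odd_card (orderOf_dvd_natCard d)
    refine Subgroup.mem_zpowers_iff.2 ⟨(m + 1 : ℕ), ?_⟩
    rw [zpow_natCast, ← pow_two, ← pow_mul,
      show 2 * (m + 1) = (2 * m + 1) + 1 by ring, pow_succ, ← hm, pow_orderOf_eq_one, one_mul]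
  have hfix : h.cj d (χ : Q → ℂ) = χ :=
    h.mem_stabCj.1 (Subgroup.zpowers_le.2 (h.mem_stabCj.2 e2) hd)
  rw [hfix] at e
  haveI := hSp.normS
  obtain ⟨χ', hχ'⟩ := exists_irr_quotient S χ hχ
  have hodd : Odd (Nat.card (Q ⧸ S)) := hSp.card_quotient_S ▸ hSp.odd_O
  have htriv := eq_trivial_of_real_of_odd hodd χ' fun y => by
    obtain ⟨x, rfl⟩ := QuotientGroup.mk_surjective y
    rw [hχ']
    exact Complex.conj_eq_iff_im.1 (congrFun e x).symm
  refine hne (Subtype.ext (funext fun x => ?_))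
  rw [← hχ' x, htriv]
  simp

set_option maxHeartbeats 800000 in
/-- A prime order element of `D` fixing a non-trivial character of `Q / S` centralises an element
outside `S`. -/
theorem exists_fix_outside_S {d : twoStab a t} {p : ℕ} (hp : p.Prime) (hd : orderOf d = p)
    {χ : IrrCharacter Q} (hχ : TrivOn S χ) (hne : χ ≠ trivialIrr Q)
    (hfix : h.cj d (χ : Q → ℂ) = χ) : ∃ y : Q, y ∉ S ∧ h.qConj d y = y := by
  classical
  haveI : Fact p.Prime := ⟨hp⟩
  haveI := hSp.normS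
  have hpodd : p ≠ 2 := by
    intro e
    subst e
    have h2 : 2 ∣ Nat.card (twoStab a t) := hd ▸ orderOf_dvd_natCard d
    exact (Nat.not_even_iff_odd.2 h.hS.odd_card) (even_iff_two_dvd.2 h2)
  obtain ⟨n, hn⟩ := hSp.card_S_pow
  have hpq : ¬ p ∣ Nat.card S := by
    rw [hn]
    intro e
    exact hpodd ((Nat.prime_dvd_prime_iff_eq hp Nat.prime_two).1 (hp.dvd_of_dvd_pow e))
  have hpow : ∀ m : ℕ, ∀ x : Q,
      ((h.qConj d).toEquiv ^ m : Equiv.Perm Q) x = h.qConj (d ^ m) x := by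
    intro m
    induction m with
    | zero => intro x; rw [pow_zero, pow_zero, h.qConj_one]; rfl
    | succ m ih =>
      intro x
      rw [pow_succ', Equiv.Perm.mul_apply, ih, pow_succ, h.qConj_mul]
      rfl
  have key : ∀ T : Set Q, (∀ x, x ∈ T ↔ h.qConj d x ∈ T) → ¬ p ∣ Nat.card T →
      ∃ x ∈ T, h.qConj d x = x := by
    intro T hT hc
    let σ : Equiv.Perm T := Equiv.subtypeEquiv (h.qConj d).toEquiv hT
    have hσ : ∀ (m : ℕ) (x : T), ((σ ^ m) x : Q) = ((h.qConj d).toEquiv ^ m : Equiv.Perm Q) x := by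
      intro m
      induction m with
      | zero => intro x; rfl
      | succ m ih => intro x; rw [pow_succ', pow_succ', Equiv.Perm.mul_apply,
          Equiv.Perm.mul_apply, ← ih x]; rfl
    obtain ⟨x, hx⟩ := Equiv.Perm.exists_fixed_point_of_prime (α := T) (p := p) (n := 1)
      (by rwa [← Nat.card_eq_fintype_card]) (σ := σ) (by
        refine Equiv.ext fun x => Subtype.ext ?_
        rw [hσ, pow_one, hpow, ← hd, pow_orderOf_eq_one, h.qConj_one]
        rfl)
    exact ⟨x, x.2, congrArg Subtype.val hx⟩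
  by_cases hpN : p ∣ Nat.card Q
  · obtain ⟨x, hx, hxd⟩ := key {x : Q | x ∉ S} (fun x => not_congr (hSp.qConj_memS d).symm) (by
      intro e
      refine hpq ?_
      have e1 : Nat.card S + Nat.card {x : Q | x ∉ S} = Nat.card Q := by
        have := Set.ncard_add_ncard_compl (S : Set Q)
        rwa [← Nat.card_coe_set_eq, ← Nat.card_coe_set_eq] at this
      exact (Nat.dvd_add_left e).1 (e1 ▸ hpN))
    exact ⟨x, hx, hxd⟩
  obtain ⟨ψ, hψ⟩ := exists_irr_quotient S χ hχ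
  let α : (Q ⧸ S) ≃* (Q ⧸ S) := QuotientGroup.congr _ _ (h.qConj d) (hSp.qConj_mapS d)
  have hα : ∀ x : Q, α (QuotientGroup.mk x) = QuotientGroup.mk (h.qConj d x) := fun x => rfl
  have h2 : 1 < Nat.card {φ : IrrCharacter (Q ⧸ S) // (φ : _ → ℂ) ∘ α = φ} := by
    refine Finite.one_lt_card_iff_nontrivial.2 ⟨⟨trivialIrr _, rfl⟩, ⟨ψ, funext fun x => ?_⟩,
      fun e => hne (Subtype.ext (funext fun x => ?_))⟩
    · obtain ⟨x, rfl⟩ := QuotientGroup.mk_surjective x
      rw [Function.comp_apply, hα, hψ, hψ]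
      exact congrFun hfix x
    · rw [← hψ, show ψ = trivialIrr _ from (congrArg Subtype.val e).symm]
      rfl
  rw [Burnside.card_fixed_irrCharacter] at h2
  obtain ⟨⟨C, hC⟩, hne'⟩ := @exists_ne _ (Finite.one_lt_card_iff_nontrivial.1 h2)
    ⟨ConjClasses.mk 1, by
      show ConjClasses.mk (α 1) = ConjClasses.mk 1
      rw [map_one]⟩
  obtain ⟨c, rfl⟩ := ConjClasses.exists_rep C
  have hc1 : ∀ y, IsConj c y → y ≠ 1 := by
    rintro y hy rfl
    exact hne' (Subtype.ext (ConjClasses.mk_eq_mk_iff_isConj.2 hy))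
  have hCα : IsConj c (α c) := (ConjClasses.mk_eq_mk_iff_isConj.1 hC).symm
  set T : Set (Q ⧸ S) := {y | IsConj c y}
  have hTα : ∀ y, y ∈ T ↔ α y ∈ T := by
    intro y
    show IsConj c y ↔ IsConj c (α y)
    refine ⟨fun e => hCα.trans (α.toMonoidHom.map_isConj e), fun e => ?_⟩
    have e2 : IsConj (α c) (α y) := hCα.symm.trans e
    simpa using α.symm.toMonoidHom.map_isConj e2
  obtain ⟨x, hx, hxd⟩ := key (QuotientGroup.mk ⁻¹' T) (fun x => by
      rw [Set.mem_preimage, Set.mem_preimage, hTα, hα]) (by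
    rw [Nat.card_congr (QuotientGroup.preimageMkEquivSubgroupProdSet S T), Nat.card_prod]
    intro e
    rcases (Nat.Prime.dvd_mul hp).1 e with e | e
    · exact hpq e
    · rw [show Nat.card T = Nat.card {y : Q ⧸ S // IsConj c y} from rfl,
        card_conjClass_eq_index] at e
      exact hpN ((e.trans (Subgroup.index_dvd_card _)).trans
        (Subgroup.card_quotient_dvd_card _)))
  exact ⟨x, fun e => hc1 _ hx ((QuotientGroup.eq_one_iff x).2 e), hxd⟩

theorem smallFix [FaithfulSMul G Ω] (IH : IndHyp.{u, v} (Nat.card G)) {χ : IrrCharacter Q}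
    (hχ : TrivOn S χ) (hne : χ ≠ trivialIrr Q) : h.SmallFix (h.stabCj (χ : Q → ℂ)) := by
  intro d hd hp
  obtain ⟨y, hyS, hyd⟩ := hSp.exists_fix_outside_S hp rfl hχ hne (h.mem_stabCj.1 hd)
  have e : (d : G) * y = y * d := by
    have e1 : (d : G)⁻¹ * y * d = y := congrArg Subtype.val hyd
    calc (d : G) * y = d * ((d : G)⁻¹ * y * d) := by rw [e1]
      _ = (y : G) * d := by group
  obtain ⟨k, hk, hkV, hyQ, -, hc⟩ := h.exists_conj_V d.2 y.2
    (fun e' => hyS (hSp.zQ_le (Subgroup.mem_subgroupOf.2 e'))) e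
  refine ⟨k, hk, hkV, fun z hz ez => ?_⟩
  by_contra hcon
  rw [not_or] at hcon
  have hd1 : k * (d : G) * k⁻¹ ≠ 1 := fun e' =>
    hp.ne_one (orderOf_eq_one_iff.2 (Subtype.ext (conj_eq_one_iff.1 e')))
  obtain ⟨c1, -, -⟩ := h.induced hkV hd1 IH hz hcon.1 hcon.2 ez
  obtain ⟨i, hi⟩ := c1 _ hyQ hc
  rw [conj_pow] at hi
  exact hyS ((hSp.memS y).2 ⟨i, Subtype.ext (conj_eq_one_iff.1 hi)⟩)

theorem lin_degree {χ : IrrCharacter Q} (hχ : TrivOn hSp.nSub χ) : (χ : Q → ℂ) 1 = 1 := by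
  haveI := hSp.nSub_normal
  haveI : IsMulCommutative (Q ⧸ hSp.nSub) := ⟨⟨fun p q => by
    obtain ⟨p, rfl⟩ := QuotientGroup.mk_surjective p
    obtain ⟨q, rfl⟩ := QuotientGroup.mk_surjective q
    rw [← QuotientGroup.mk_mul, ← QuotientGroup.mk_mul, QuotientGroup.eq]
    have := hSp.quotient_comm q⁻¹ p⁻¹
    simpa [mul_assoc] using this⟩⟩
  obtain ⟨ψ, hψ⟩ := exists_irr_quotient hSp.nSub χ hχ
  rw [← hψ 1]
  exact irr_apply_one_of_comm ψ

theorem card_lin : Nat.card {χ : IrrCharacter Q // TrivOn hSp.nSub χ} =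
    Nat.card (Q ⧸ hSp.nSub) := by
  classical
  haveI := hSp.nSub_normal
  have e := sum_image_inflate (L := Q) hSp.nSub
  rw [Finset.sum_congr rfl (g := fun _ => (1 : ℂ)) fun χ hχ => by
    rw [hSp.lin_degree (Finset.mem_filter.1 hχ).2, one_pow], Finset.sum_const, nsmul_one] at e
  rw [Nat.card_eq_fintype_card, Fintype.card_subtype]
  exact_mod_cast e

theorem lin_trivO {χ : IrrCharacter Q} (hχ : TrivOn hSp.nSub χ) : TrivOn O χ :=
  fun x hx => hχ x (Subgroup.mem_sup_left hx)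

theorem lin_z {χ : IrrCharacter Q} (hχ : TrivOn hSp.nSub χ) (z : h.zSub) :
    (χ : Q → ℂ) ⟨(z : G), h.zSub_le z.2⟩ = 1 := by
  rw [hχ _ (Subgroup.mem_sup_right (Subgroup.mem_subgroupOf.2 z.2)), hSp.lin_degree hχ]

theorem trivS_z {χ : IrrCharacter Q} (hχ : TrivOn S χ) (z : h.zSub) :
    (χ : Q → ℂ) ⟨(z : G), h.zSub_le z.2⟩ = (χ : Q → ℂ) 1 :=
  hχ _ (hSp.zQ_le (Subgroup.mem_subgroupOf.2 z.2))

theorem lam_fix_k {lam : h.zSub →* ℂˣ} (hlam : (lam ⟨h.sElt, h.s_mem⟩ : ℂ) = -1)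
    {k : G} (hk : k ∈ h.kSub)
    (e : ∀ (z : h.zSub) (hz : k⁻¹ * z * k ∈ h.zSub), lam ⟨_, hz⟩ = lam z) : k = 1 := by
  by_contra hk1
  have hmem : ∀ z : h.zSub, k⁻¹ * z * k ∈ h.zSub := fun z => by
    simpa using h.conj_z (inv_mem (D_le h.hS (h.kSub_le hk))) z.2
  let φ : h.zSub → h.zSub := fun z => ⟨k⁻¹ * z * k, hmem z⟩ * z
  have hinj : Function.Injective φ := by
    intro z w ezw
    have e1 : k⁻¹ * z * k * z = k⁻¹ * w * k * w := congrArg Subtype.val ezw
    have hzw : (z : G) * w ∈ h.zSub := mul_mem z.2 w.2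
    have e2 : k⁻¹ * ((z : G) * w) * k = (z : G) * w := by
      calc k⁻¹ * ((z : G) * w) * k = k⁻¹ * z * k * (k⁻¹ * w * k) := by group
        _ = k⁻¹ * z * k * (k⁻¹ * w * k) * ((w : G) * w) := by rw [h.z_sq w.2, mul_one]
        _ = k⁻¹ * z * k * ((k⁻¹ * w * k) * w) * w := by group
        _ = k⁻¹ * z * k * ((k⁻¹ * z * k) * z) * w := by rw [e1]
        _ = (k⁻¹ * z * k * (k⁻¹ * z * k)) * ((z : G) * w) := by group
        _ = (z : G) * w := by rw [h.z_sq (hmem z), one_mul]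
    have e3 : (z : G) * w = 1 := h.k_fpf hk hk1 (h.zSub_le hzw) (by
      calc k * ((z : G) * w) = k * (k⁻¹ * ((z : G) * w) * k) := by rw [e2]
        _ = (z : G) * w * k := by group)
    refine Subtype.ext ?_
    rw [eq_inv_of_mul_eq_one_left e3, h.z_inv w.2]
  obtain ⟨z, hz⟩ := Finite.surjective_of_injective hinj ⟨h.sElt, h.s_mem⟩
  have e4 : lam (φ z) = lam z * lam z := by rw [map_mul, e z (hmem z)]
  rw [hz, ← map_mul, show z * z = 1 from Subtype.ext (h.z_sq z.2), map_one] at e4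
  rw [e4, Units.val_one] at hlam
  norm_num at hlam

theorem overLam_sum {lam : h.zSub →* ℂˣ} [DecidablePred (h.OverLam O lam)] :
    ∑ ψ ∈ (Finset.univ : Finset (IrrCharacter Q)).filter (h.OverLam O lam),
      ((ψ : Q → ℂ) 1) ^ 2 = (Nat.card (Q ⧸ hSp.nSub) : ℂ) := by
  classical
  haveI := hSp.normO
  haveI : Fintype h.zSub := Fintype.ofFinite _
  let zq : h.zSub → Q := fun z => ⟨(z : G), h.zSub_le z.2⟩
  have hzc : ∀ z, zq z ∈ Subgroup.center Q := fun z => Subgroup.mem_center_iff.2 fun g =>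
    Subtype.ext (h.z_central z.2 g.2).symm
  have hsum : ∀ ψ : IrrCharacter Q, TrivOn O ψ →
      ∑ z, (lam z : ℂ) * (ψ : Q → ℂ) (zq z) =
        if h.OverLam O lam ψ then (Nat.card h.zSub : ℂ) * (ψ : Q → ℂ) 1 else 0 := by
    intro ψ hψ
    choose c hc using fun z => SmallDegree.exists_central_scalar ψ (hzc z)
    have hψz : ∀ z, (ψ : Q → ℂ) (zq z) = c z * (ψ : Q → ℂ) 1 := fun z => by
      simpa using (hc z).2 1
    let g : h.zSub →* ℂ :=
      { toFun := fun z => (lam z : ℂ) * c z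
        map_one' := by
          have e1 : (ψ : Q → ℂ) 1 = c 1 * (ψ : Q → ℂ) 1 := hψz 1
          rw [map_one, Units.val_one, one_mul]
          exact (mul_eq_right₀ (irr_apply_one_ne_zero ψ)).1 e1.symm
        map_mul' := fun z w => by
          have e1 : c (z * w) * (ψ : Q → ℂ) 1 = c z * c w * (ψ : Q → ℂ) 1 := by
            rw [← hψz, show zq (z * w) = zq z * zq w from rfl, (hc z).2, hψz, mul_assoc]
          rw [map_mul, Units.val_mul, mul_right_cancel₀ (irr_apply_one_ne_zero ψ) e1]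
          ring }
    have hl : ∀ z, (lam z : ℂ) * (lam z : ℂ) = 1 := fun z => by
      rw [← Units.val_mul, ← map_mul, show z * z = 1 from Subtype.ext (h.z_sq z.2), map_one,
        Units.val_one]
    have hiff : h.OverLam O lam ψ ↔ g = 1 := by
      constructor
      · intro hov
        refine MonoidHom.ext fun z => ?_
        have e1 := (hψz z).symm.trans (hov.2 z)
        rw [mul_comm] at e1
        show (lam z : ℂ) * c z = 1
        rw [mul_left_cancel₀ (irr_apply_one_ne_zero ψ) e1, hl]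
      · intro hg
        refine ⟨hψ, fun z => ?_⟩
        have e1 : (lam z : ℂ) * c z = 1 := DFunLike.congr_fun hg z
        rw [show (⟨(z : G), h.zSub_le z.2⟩ : Q) = zq z from rfl, hψz, mul_comm]
        congr 1
        calc c z = (lam z : ℂ) * lam z * c z := by rw [hl, one_mul]
          _ = lam z := by rw [mul_assoc, e1, mul_one]
    calc ∑ z, (lam z : ℂ) * (ψ : Q → ℂ) (zq z) = (ψ : Q → ℂ) 1 * ∑ z, g z := by
          rw [Finset.mul_sum]
          exact Finset.sum_congr rfl fun z _ => by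
            rw [hψz]; show _ = _ * ((lam z : ℂ) * c z); ring
      _ = _ := by
        split_ifs with hov
        · rw [hiff.1 hov]
          simp [Nat.card_eq_fintype_card, mul_comm]
        · rw [sum_hom_units_eq_zero g (fun e => hov (hiff.2 e)), mul_zero]
  have hreg : ∀ z : h.zSub,
      ∑ ψ ∈ (Finset.univ : Finset (IrrCharacter Q)).filter (TrivOn O),
        (ψ : Q → ℂ) 1 * (ψ : Q → ℂ) (zq z) = if z = 1 then (Nat.card S : ℂ) else 0 := by
    intro z
    have himg : (Finset.univ : Finset (IrrCharacter Q)).filter (TrivOn O) =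
        (Finset.univ : Finset (IrrCharacter (Q ⧸ O))).image (inflate O) := by
      ext χ
      simp only [Finset.mem_filter, Finset.mem_univ, true_and, Finset.mem_image]
      constructor
      · intro hχ
        obtain ⟨ψ, hψ⟩ := exists_irr_quotient O χ hχ
        exact ⟨ψ, Subtype.ext (funext hψ)⟩
      · rintro ⟨ψ, rfl⟩ x hx
        show (ψ : Q ⧸ O → ℂ) (QuotientGroup.mk x) = (ψ : Q ⧸ O → ℂ) (QuotientGroup.mk 1)
        rw [(QuotientGroup.eq_one_iff x).2 hx]
        rfl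
    rw [himg, Finset.sum_image fun x _ y _ e => inflate_injective _ e]
    have e := sum_degree_mul_irr (G := Q ⧸ O) (QuotientGroup.mk (zq z))
    refine e.trans ?_
    rw [hSp.card_quotient_O]
    refine if_congr ?_ rfl rfl
    rw [QuotientGroup.eq_one_iff]
    refine ⟨fun hz => ?_, fun e => by rw [e]; exact one_mem O⟩
    have := Subgroup.disjoint_def.1 hSp.compl.disjoint
      (hSp.zQ_le (Subgroup.mem_subgroupOf.2 z.2)) hz
    exact Subtype.ext (congrArg Subtype.val this :)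
  have e1 : (Nat.card h.zSub : ℂ) *
      ∑ ψ ∈ (Finset.univ : Finset (IrrCharacter Q)).filter (h.OverLam O lam),
        ((ψ : Q → ℂ) 1) ^ 2 = (Nat.card S : ℂ) := by
    calc _ = ∑ ψ ∈ (Finset.univ : Finset (IrrCharacter Q)).filter (TrivOn O),
          (ψ : Q → ℂ) 1 * ∑ z, (lam z : ℂ) * (ψ : Q → ℂ) (zq z) := by
          rw [Finset.mul_sum]
          refine Eq.symm ?_
          rw [Finset.sum_congr rfl fun ψ hψ => by
            rw [hsum ψ (Finset.mem_filter.1 hψ).2, mul_ite, mul_zero],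
            ← Finset.sum_filter, Finset.filter_filter]
          refine Finset.sum_congr (Finset.filter_congr fun ψ _ => ⟨fun hh => hh.2,
            fun hh => ⟨hh.1, hh⟩⟩) fun ψ _ => by ring
      _ = ∑ z, (lam z : ℂ) * (if z = 1 then (Nat.card S : ℂ) else 0) := by
          simp only [Finset.mul_sum]
          rw [Finset.sum_comm]
          refine Finset.sum_congr rfl fun z _ => ?_
          rw [← hreg z, Finset.mul_sum]
          exact Finset.sum_congr rfl fun ψ _ => by ring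
      _ = _ := by simp
  rw [hSp.card_S, Nat.cast_mul] at e1
  exact mul_left_cancel₀ (Nat.cast_ne_zero.2 Nat.card_pos.ne') e1

theorem overLam_degree_ne_one {lam : h.zSub →* ℂˣ} (hlam : (lam ⟨h.sElt, h.s_mem⟩ : ℂ) = -1)
    {ψ : IrrCharacter Q} (hψ : h.OverLam O lam ψ) : (ψ : Q → ℂ) 1 ≠ 1 := by
  intro h1
  obtain ⟨φ, hφ⟩ := exists_hom_of_degree_one (irr_isCharacter ψ) h1
  obtain ⟨x, y, hxy⟩ := hSp.exists_commutator_s
  have e := hψ.2 ⟨h.sElt, h.s_mem⟩
  rw [show (⟨h.sElt, h.zSub_le h.s_mem⟩ : Q) = x * y * x⁻¹ * y⁻¹ from Subtype.ext hxy.symm,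
    hlam, h1, one_mul, hφ] at e
  beta_reduce at e
  have e2 : φ (x * y * x⁻¹ * y⁻¹) = 1 := by
    rw [map_mul, map_mul, map_mul, map_inv, map_inv, mul_comm (φ x) (φ y), mul_inv_cancel_right,
      mul_inv_cancel]
  rw [e2, Units.val_one] at e
  norm_num at e

/-- The inertia group of a top character is trivial. -/
theorem top_free {lam : h.zSub →* ℂˣ} (hlam : (lam ⟨h.sElt, h.s_mem⟩ : ℂ) = -1)
    (hinv : ∀ d : twoStab a t, (d : G) ∈ vSub a t → ∀ (z : h.zSub)
      (hz : (d : G)⁻¹ * z * d ∈ h.zSub), lam ⟨_, hz⟩ = lam z)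
    {μ ψ : IrrCharacter Q} (hμ : TrivOn S μ) (hψ : h.OverLam O lam ψ)
    (hI : h.SmallFix (h.stabCj (μ : Q → ℂ)))
    (hV : ∀ y ∈ h.stabCj (μ : Q → ℂ), (y : G) ∈ vSub a t) {k : twoStab a t}
    (hk : (k : G) ∈ h.kSub) (hor : k ≠ 1 ∨ h.stabCj (μ : Q → ℂ) = ⊥) :
    h.stabCj ((μ : Q → ℂ) * h.cj k (ψ : Q → ℂ)) = ⊥ := by
  rw [eq_bot_iff]
  intro d hd
  rw [Subgroup.mem_bot]
  obtain ⟨hdI, hdψ⟩ := (hSp.stab_prod (ψ := ⟨_, h.cj_irr k ψ.2⟩) hμ (hSp.trivO_cj k hψ.1) d).1 hd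
  by_contra hd1
  rcases hor with hk1 | hbot
  swap
  · exact hd1 (Subgroup.mem_bot.1 (hbot ▸ hdI))
  have hd' : k⁻¹ * d * k ∈ h.stabCj (ψ : Q → ℂ) := h.mem_stabCj_cj.1 hdψ
  obtain ⟨v, hv, k', hk', e⟩ := h.exists_vk (k⁻¹ * d * k).2
  have hk1' : k' = 1 := by
    refine hSp.lam_fix_k hlam hk' fun z hz => ?_
    have hvz : v * (z : G) * v⁻¹ ∈ h.zSub := h.conj_z (D_le h.hS hv.1) z.2
    have hdz : ((k⁻¹ * d * k : twoStab a t) : G)⁻¹ * (v * (z : G) * v⁻¹) *
        ((k⁻¹ * d * k : twoStab a t) : G) = k'⁻¹ * z * k' := by rw [e]; group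
    have e1 := congrFun (h.mem_stabCj.1 hd') ⟨_, h.zSub_le hvz⟩
    simp only [Setup.cj] at e1
    rw [show h.qConj (k⁻¹ * d * k) ⟨_, h.zSub_le hvz⟩ = (⟨_, h.zSub_le hz⟩ : Q) from
      Subtype.ext hdz, hψ.2 ⟨_, hz⟩, hψ.2 ⟨_, hvz⟩] at e1
    have e2 : lam ⟨_, hz⟩ = lam ⟨_, hvz⟩ :=
      Units.ext (mul_left_cancel₀ (irr_apply_one_ne_zero ψ) e1)
    rw [e2]
    have hvz' : v⁻¹ * (v * (z : G) * v⁻¹) * v ∈ h.zSub := by simp [mul_assoc]
    rw [← hinv ⟨v, hv.1⟩ hv ⟨_, hvz⟩ hvz']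
    exact congrArg lam (Subtype.ext (by group))
  rw [hk1', mul_one] at e
  have hdV : ((k⁻¹ * d * k : twoStab a t) : G) ∈ vSub a t := by rw [e]; exact hv
  have hcs := (h.v_iff_s (k⁻¹ * d * k).2).1 hdV
  have hkD := D_le h.hS (h.kSub_le hk)
  have hz : (k : G) * h.sElt * (k : G)⁻¹ ∈ h.zSub := h.conj_z hkD h.s_mem
  have hdz : (d : G) * ((k : G) * h.sElt * (k : G)⁻¹) =
      (k : G) * h.sElt * (k : G)⁻¹ * d := by
    calc (d : G) * ((k : G) * h.sElt * (k : G)⁻¹)
        = (k : G) * (((k : G)⁻¹ * d * k) * h.sElt) * (k : G)⁻¹ := by group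
      _ = (k : G) * (h.sElt * ((k : G)⁻¹ * d * k)) * (k : G)⁻¹ := by
        rw [show ((k : G)⁻¹ * d * k) = ((k⁻¹ * d * k : twoStab a t) : G) by simp, hcs]
      _ = _ := by group
  rcases h.smallFix_cz_all hI hV hdI hd1 hz hdz with e4 | e4
  · exact h.s_ne (conj_eq_one_iff.1 e4)
  · refine hk1 (Subtype.ext ?_)
    have e5 : (k : G) * h.sElt * (k : G)⁻¹ = 1 * h.sElt * 1⁻¹ := by simpa using e4
    exact h.k_inj hk (one_mem _) h.s_mem h.s_ne e5

end Split

end Cfsg.Agent.Lib.SplitRankOne70
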