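import Cfsg.Agent.Lib.SplitRankOne70.Law
import Cfsg.Agent.Lib.SplitRankOne70.NormField
import Cfsg.Agent.Lib.BoundedPresentation.U3.Model

/-!
`Q` is the unipotent radical of `SU₃(q)`.
-/

set_option autoImplicit false
set_option linter.unusedSectionVars false
set_option linter.style.haveILetI false

namespace Cfsg.Agent.Lib.SplitRankOne70

open Cfsg MulAction Cfsg.Agent.Lib.RankOne
open Cfsg.Agent.Lib.BoundedPresentation
open scoped MatrixGroups

universe u v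

/-- The first row. -/
def row1 {F : Type} [Field F] (M : SL(2, F)) : F × F := (M 0 0, M 0 1)

/-- The second row. -/
def row2 {F : Type} [Field F] (M : SL(2, F)) : F × F := (M 1 0, M 1 1)

theorem row_det {F : Type} [Field F] [CharP F 2] (M : SL(2, F)) : bd (row1 M) (row2 M) = 1 :=
  det_two M

theorem row2_ne {F : Type} [Field F] [CharP F 2] (M : SL(2, F)) : row2 M ≠ 0 := fun e => by
  have := row_det M
  rw [e] at this
  simp [bd] at this

theorem row1_ne {F : Type} [Field F] [CharP F 2] (M : SL(2, F)) : row1 M ≠ 0 := fun e => by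
  have := row_det M
  rw [e] at this
  simp [bd] at this

theorem same_row {F : Type} [Field F] [CharP F 2] {M N : SL(2, F)} (e : row2 N = row2 M) :
    N = mU (bd (row1 N) (row1 M)) * M := by
  obtain ⟨e10, e11⟩ := Prod.mk.inj (show (N 1 0, N 1 1) = (M 1 0, M 1 1) from e)
  have hd := det_two M
  have hd' := det_two N
  rw [e10, e11] at hd'
  have two := CharTwo.two_eq_zero (R := F)
  refine mat_ext ?_ ?_ ?_ ?_
  · simp [mul_00, bd, row1]
    linear_combination -(N 0 0) * hd + (M 0 0) * hd' - M 0 0 * two * (N 0 1 * M 1 0)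
  · simp [mul_01, bd, row1]
    linear_combination -(N 0 1) * hd + (M 0 1) * hd' - M 0 1 * two * (N 0 0 * M 1 1)
  · simp [mul_10, e10]
  · simp [mul_11, e11]

theorem mk_bd {F : Type} [Field F] [CharP F 2] {u v : F × F} (h : bd u v = 1) :
    u.1 * v.2 - u.2 * v.1 = 1 := by
  rw [CharTwo.sub_eq_add]; exact h

variable {G : Type u} {Ω : Type v} [Group G] [MulAction G Ω] [Finite G] {a : Ω} {t : G}
  {Q : Subgroup G}

/-- The coordinates. -/
structure UC (h : Setup a t Q) (F : Type) [Field F] [Fintype F] [CharP F 2] (E : Type) [Field E]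
    [Fintype E] where
  T : Tor h F
  p : F
  r : F
  hS : ∀ v : F × F, v ≠ 0 → T.Sv v * qform p r v = 1
  nc : NormCoord F p r E

namespace UC

variable {h : Setup a t Q} {F : Type} [Field F] [Fintype F] [CharP F 2] {E : Type} [Field E]
  [Fintype E] [CharP E 2] (C : UC h F E)

/-- The pairs. -/
abbrev Pr := {p : E × E // U3.Cond C.nc.D.σ p.1 p.2}

include C

theorem κ_zero : C.nc.κ 0 = 0 := by
  have := C.nc.κ_smul 0 0
  rwa [zero_smul, map_zero, zero_mul] at this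

theorem κ_ne {v : F × F} (hv : v ≠ 0) : C.nc.κ v ≠ 0 := fun e =>
  hv (C.nc.κ_bij.1 (e.trans C.κ_zero.symm))

theorem σκ_ne {v : F × F} (hv : v ≠ 0) : C.nc.D.σ (C.nc.κ v) ≠ 0 :=
  (map_ne_zero _).2 (C.κ_ne hv)

theorem tr_rows (M : SL(2, F)) :
    C.nc.κ (row1 M) * C.nc.D.σ (C.nc.κ (row2 M)) + C.nc.D.σ (C.nc.κ (row1 M)) * C.nc.κ (row2 M) = 1 := by
  rw [C.nc.κ_tr, row_det, map_one]

/-- The pair of a matrix. -/
def pi (M : SL(2, F)) : C.Pr :=
  ⟨(1 / C.nc.D.σ (C.nc.κ (row2 M)), C.nc.κ (row1 M) / C.nc.κ (row2 M)), by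
    have h1 := C.κ_ne (row2_ne M)
    have h2 := C.σκ_ne (row2_ne M)
    have h3 := C.tr_rows M
    simp only [U3.Cond, map_div₀, map_one, C.nc.D.σσ]
    field_simp
    linear_combination h3 + CharTwo.two_eq_zero (R := E)⟩

/-- The pair of an element of the field. -/
def zp (y : F) : C.Pr :=
  ⟨(0, C.nc.ι y), by
    simp only [U3.Cond, C.nc.ι_fix, zero_mul, add_zero]
    exact CharTwo.add_self_eq_zero _⟩

/-- The product of pairs. -/
def pm (X Y : C.Pr) : C.Pr :=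
  ⟨(X.1.1 + Y.1.1, X.1.2 + Y.1.2 + X.1.1 * C.nc.D.σ Y.1.1), by
    have := U3.Cond.mul C.nc.D.σσ X.2 Y.2
    rwa [CharTwo.sub_eq_add] at this⟩

/-- The inverse of a pair. -/
def pinv (X : C.Pr) : C.Pr :=
  ⟨(X.1.1, C.nc.D.σ X.1.2), by
    have := U3.Cond.inv C.nc.D.σσ X.2
    rwa [CharTwo.neg_eq] at this⟩

theorem pm_assoc (X Y W : C.Pr) : C.pm (C.pm X Y) W = C.pm X (C.pm Y W) := by
  refine Subtype.ext (Prod.ext ?_ ?_) <;> simp only [pm, map_add] <;> ring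

theorem pm_zp_comm (y : F) (X : C.Pr) : C.pm (C.zp y) X = C.pm X (C.zp y) := by
  refine Subtype.ext (Prod.ext ?_ ?_) <;> simp only [pm, zp, map_zero] <;> ring

theorem pm_zero (X : C.Pr) : C.pm (C.zp 0) X = X := by
  refine Subtype.ext (Prod.ext ?_ ?_) <;> simp only [pm, zp, map_zero] <;> ring

theorem zp_add (x y : F) : C.pm (C.zp x) (C.zp y) = C.zp (x + y) := by
  refine Subtype.ext (Prod.ext ?_ ?_) <;> simp only [pm, zp, map_zero, map_add] <;> ring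

theorem pm_inv (X : C.Pr) : C.pm X (C.pinv X) = C.zp 0 := by
  have hX : X.1.2 + C.nc.D.σ X.1.2 + X.1.1 * C.nc.D.σ X.1.1 = 0 := X.2
  refine Subtype.ext (Prod.ext ?_ ?_) <;> simp only [pm, pinv, zp, map_zero]
  · exact CharTwo.add_self_eq_zero _
  · exact hX

theorem inv_pm (X : C.Pr) : C.pm (C.pinv X) X = C.zp 0 := by
  have hX : X.1.2 + C.nc.D.σ X.1.2 + X.1.1 * C.nc.D.σ X.1.1 = 0 := X.2
  refine Subtype.ext (Prod.ext ?_ ?_) <;> simp only [pm, pinv, zp, map_zero]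
  · exact CharTwo.add_self_eq_zero _
  · linear_combination hX

theorem pm_pi (y : F) (M : SL(2, F)) : C.pm (C.zp y) (C.pi M) = C.pi (mU y * M) := by
  have e2 : row2 (mU y * M) = row2 M := by simp [row2, mul_10, mul_11]
  have e1 : row1 (mU y * M) = row1 M + y • row2 M := by
    simp [row1, row2, mul_00, mul_01]
  have h1 := C.κ_ne (row2_ne M)
  refine Subtype.ext (Prod.ext ?_ ?_) <;> simp only [pm, zp, pi, e1, e2, C.nc.κ_add, C.nc.κ_smul]
  · rw [zero_add]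
  · field_simp; ring

/-- The parametrisation of the pairs. -/
def par : F ⊕ SL(2, F) → C.Pr := Sum.elim C.zp C.pi

theorem pi_A_ne (M : SL(2, F)) : (C.pi M).1.1 ≠ 0 := one_div_ne_zero (C.σκ_ne (row2_ne M))

theorem exists_zp {X : C.Pr} (h0 : X.1.1 = 0) : ∃ y, C.zp y = X := by
  have hX : X.1.2 + C.nc.D.σ X.1.2 + X.1.1 * C.nc.D.σ X.1.1 = 0 := X.2
  rw [h0, zero_mul, add_zero] at hX
  obtain ⟨y, hy⟩ := C.nc.fix_ι _ (CharTwo.add_eq_zero.1 hX).symm
  exact ⟨y, Subtype.ext (Prod.ext h0.symm hy)⟩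

theorem exists_pi {X : C.Pr} (h0 : X.1.1 ≠ 0) : ∃ M, C.pi M = X := by
  have hσ0 : C.nc.D.σ X.1.1 ≠ 0 := (map_ne_zero _).2 h0
  obtain ⟨v, hv⟩ := C.nc.κ_bij.2 (1 / C.nc.D.σ X.1.1)
  obtain ⟨u, hu⟩ := C.nc.κ_bij.2 (X.1.2 / C.nc.D.σ X.1.1)
  have hd : bd u v = 1 := by
    refine C.nc.ι.injective ?_
    have hX : X.1.2 + C.nc.D.σ X.1.2 + X.1.1 * C.nc.D.σ X.1.1 = 0 := X.2
    rw [← C.nc.κ_tr, hu, hv, map_one, map_div₀, map_div₀, map_one, C.nc.D.σσ]
    field_simp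
    linear_combination hX - X.1.1 * C.nc.D.σ X.1.1 * CharTwo.two_eq_zero (R := E)
  refine ⟨mkM u.1 u.2 v.1 v.2 (mk_bd hd), Subtype.ext (Prod.ext ?_ ?_)⟩
  · show 1 / C.nc.D.σ (C.nc.κ v) = X.1.1
    rw [hv, map_div₀, map_one, C.nc.D.σσ, one_div_one_div]
  · show C.nc.κ u / C.nc.κ v = X.1.2
    rw [hu, hv]; field_simp

theorem par_bij : Function.Bijective C.par := by
  refine ⟨?_, fun X => ?_⟩
  · rintro (x | M) (y | N) e
    · exact congrArg Sum.inl (C.nc.ι.injective (congrArg (fun X : C.Pr => X.1.2) e))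
    · exact absurd (congrArg (fun X : C.Pr => X.1.1) e).symm (C.pi_A_ne N)
    · exact absurd (congrArg (fun X : C.Pr => X.1.1) e) (C.pi_A_ne M)
    · have e1 := congrArg (fun X : C.Pr => X.1.1) e
      have e2 := congrArg (fun X : C.Pr => X.1.2) e
      simp only [par, Sum.elim_inr, pi, one_div, inv_inj] at e1
      have e3 : row2 M = row2 N := C.nc.κ_bij.1 (RingHom.injective _ e1)
      simp only [par, Sum.elim_inr, pi, e3] at e2
      have e4 : row1 M = row1 N := C.nc.κ_bij.1 ((div_left_inj' (C.κ_ne (row2_ne N))).1 e2)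
      obtain ⟨a0, a1⟩ := Prod.mk.inj (show (M 0 0, M 0 1) = (N 0 0, N 0 1) from e4)
      obtain ⟨b0, b1⟩ := Prod.mk.inj (show (M 1 0, M 1 1) = (N 1 0, N 1 1) from e3)
      exact congrArg Sum.inr (mat_ext a0 a1 b0 b1)
  · by_cases h0 : X.1.1 = 0
    · obtain ⟨y, hy⟩ := C.exists_zp h0; exact ⟨.inl y, hy⟩
    · obtain ⟨M, hM⟩ := C.exists_pi h0; exact ⟨.inr M, hM⟩

/-- The element of `Q` of a pair. -/
noncomputable def P (X : C.Pr) : G :=
  Sum.elim C.T.Φ.e C.T.el ((Equiv.ofBijective C.par C.par_bij).symm X)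

theorem P_zp (y : F) : C.P (C.zp y) = C.T.Φ.e y := by
  rw [P, show C.zp y = Equiv.ofBijective C.par C.par_bij (.inl y) from rfl, Equiv.symm_apply_apply]
  rfl

theorem P_pi (M : SL(2, F)) : C.P (C.pi M) = C.T.el M := by
  rw [P, show C.pi M = Equiv.ofBijective C.par C.par_bij (.inr M) from rfl, Equiv.symm_apply_apply]
  rfl

theorem P_mem (X : C.Pr) : C.P X ∈ Q := by
  obtain ⟨(y | M), rfl⟩ := C.par_bij.2 X
  · exact (C.P_zp y).symm ▸ h.zSub_le (C.T.Φ.mem y)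
  · exact (C.P_pi M).symm ▸ C.T.el_mem M

theorem P_inj : Function.Injective C.P := by
  intro X Y e
  obtain ⟨(x | M), rfl⟩ := C.par_bij.2 X <;> obtain ⟨(y | N), rfl⟩ := C.par_bij.2 Y <;>
    simp only [par, Sum.elim_inl, Sum.elim_inr, P_zp, P_pi] at e ⊢
  · rw [C.T.Φ.e_inj e]
  · exact absurd (e ▸ C.T.Φ.mem x) (C.T.el_out N)
  · exact absurd (e ▸ C.T.Φ.mem y) (C.T.el_out M)
  · rw [C.T.el_inj e]

theorem exists_P {x : G} (hx : x ∈ Q) : ∃ X, C.P X = x := by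
  by_cases hz : x ∈ h.zSub
  · obtain ⟨y, rfl⟩ := (C.T.Φ.e_mem x).1 hz
    exact ⟨_, C.P_zp y⟩
  · obtain ⟨M, rfl⟩ := C.T.exists_mat hx hz
    exact ⟨_, C.P_pi M⟩

theorem P_zp_mul (y : F) (X : C.Pr) : C.P (C.pm (C.zp y) X) = C.T.Φ.e y * C.P X := by
  obtain ⟨(x | M), rfl⟩ := C.par_bij.2 X <;> simp only [par, Sum.elim_inl, Sum.elim_inr]
  · rw [C.zp_add, C.P_zp, C.P_zp, C.T.Φ.e_add]
  · rw [C.pm_pi, C.P_pi, C.P_pi, C.T.el_mU]

theorem iota_S {v : F × F} (hv : v ≠ 0) :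
    C.nc.ι (C.T.Sv v) * (C.nc.κ v * C.nc.D.σ (C.nc.κ v)) = 1 := by
  rw [C.nc.κ_norm, ← map_mul, C.hS v hv, map_one]

theorem P_pinv (X : C.Pr) : C.P (C.pinv X) = (C.P X)⁻¹ := by
  obtain ⟨(x | M), rfl⟩ := C.par_bij.2 X <;> simp only [par, Sum.elim_inl, Sum.elim_inr]
  · rw [C.P_zp, show C.pinv (C.zp x) = C.zp x from
      Subtype.ext (Prod.ext rfl (C.nc.ι_fix x)), C.P_zp, h.z_inv (C.T.Φ.mem x)]
  · have e : C.pinv (C.pi M) = C.pi (mU (C.T.Sv (row2 M)) * M) := by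
      rw [← C.pm_pi]
      have hM : (C.pi M).1.2 + C.nc.D.σ (C.pi M).1.2 + (C.pi M).1.1 * C.nc.D.σ (C.pi M).1.1 = 0 :=
        (C.pi M).2
      have hA : (C.pi M).1.1 * C.nc.D.σ (C.pi M).1.1 = C.nc.ι (C.T.Sv (row2 M)) := by
        have h1 := C.iota_S (row2_ne M)
        have h2 := C.κ_ne (row2_ne M)
        have h3 := C.σκ_ne (row2_ne M)
        simp only [pi, map_div₀, map_one, C.nc.D.σσ]
        field_simp
        linear_combination -h1
      refine Subtype.ext (Prod.ext ?_ ?_) <;> simp only [pinv, pm, zp, zero_mul, add_zero, zero_add]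
      rw [← hA]
      linear_combination hM - ((C.pi M).1.2 + (C.pi M).1.1 * C.nc.D.σ (C.pi M).1.1) *
        CharTwo.two_eq_zero (R := E)
    rw [e, C.P_pi, C.P_pi]
    exact (C.T.Sv_spec M).1.symm

theorem P_law {c : F} (hc : c ≠ 0) (M : SL(2, F)) :
    C.P (C.pm (C.pi M) (C.pi (C.T.lawY c M))) = C.T.el M * C.T.el (C.T.lawY c M) := by
  obtain ⟨d, hd, hlaw⟩ := C.T.law C.hS hc M
  rw [hlaw, ← C.P_pi]
  congr 1
  set S := C.T.Sv (row2 M) with hSdef
  have hS' : C.T.Sv (M 1 0, M 1 1) = S := rfl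
  set a0 := C.nc.κ (row1 M) with ha0
  set n := C.nc.κ (row2 M) with hn
  have r1 : row1 (C.T.lawY c M) = row1 M + S • row2 M := by
    simp [Tor.lawY, row1, row2, mul_10, mul_11, mul_00, mul_01, hS']
  have r2 : row2 (C.T.lawY c M) = row2 M + c • (row1 M + S • row2 M) := by
    simp [Tor.lawY, row1, row2, mul_10, mul_11, mul_00, mul_01, hS']
    constructor <;> ring
  have z1 : row1 (mT * mU d * mT * M) = row1 M := by
    simp [row1, mul_10, mul_11, mul_00, mul_01]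
  have z2 : row2 (mT * mU d * mT * M) = row2 M + d • row1 M := by
    simp [row1, row2, mul_10, mul_11, mul_00, mul_01]
    constructor <;> ring
  have hn0 : n ≠ 0 := C.κ_ne (row2_ne M)
  have hn1 : C.nc.D.σ n ≠ 0 := C.σκ_ne (row2_ne M)
  have hiS := C.iota_S (row2_ne M)
  have htr := C.tr_rows M
  rw [← hSdef, ← hn] at hiS
  rw [← ha0, ← hn] at htr
  set w := C.nc.κ (row2 (C.T.lawY c M)) with hw
  set z := C.nc.κ (row2 (mT * mU d * mT * M)) with hz
  have hw0 : w ≠ 0 := C.κ_ne (row2_ne _)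
  have hw1 : C.nc.D.σ w ≠ 0 := C.σκ_ne (row2_ne _)
  have hz0 : z ≠ 0 := C.κ_ne (row2_ne _)
  have hwe : w = n + C.nc.ι c * (a0 + C.nc.ι S * n) := by
    rw [hw, r2, C.nc.κ_add, C.nc.κ_smul, C.nc.κ_add, C.nc.κ_smul]
  have hze : z = n + C.nc.ι d * a0 := by rw [hz, z2, C.nc.κ_add, C.nc.κ_smul]
  have hdc : C.nc.ι d * (C.nc.ι c * (a0 * C.nc.D.σ a0)) = n * C.nc.D.σ n := by
    rw [hn, ha0, C.nc.κ_norm, C.nc.κ_norm, ← map_mul, ← map_mul]
    exact congrArg C.nc.ι hd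
  have two := CharTwo.two_eq_zero (R := E)
  have hu : (a0 + C.nc.ι S * n) * C.nc.D.σ n = C.nc.D.σ a0 * n := by
    linear_combination hiS + htr - (C.nc.D.σ a0 * n - 1) * two
  have key : z * (n + w) = n * w := by
    refine mul_right_cancel₀ hn1 ?_
    rw [hwe, hze]
    linear_combination (C.nc.ι d * C.nc.ι c * a0) * hu + n * hdc +
      (n + C.nc.ι d * a0) * n * C.nc.D.σ n * two
  have hkey : 1 / n + 1 / w = 1 / z := by
    field_simp
    linear_combination key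
  have eA : 1 / C.nc.D.σ n + 1 / C.nc.D.σ w = 1 / C.nc.D.σ z := by
    have := congrArg C.nc.D.σ hkey
    simpa [map_add, map_div₀] using this
  refine Subtype.ext (Prod.ext ?_ ?_)
  · exact eA
  · show a0 / n + C.nc.κ (row1 (C.T.lawY c M)) / w + 1 / C.nc.D.σ n * C.nc.D.σ (1 / C.nc.D.σ w) =
      C.nc.κ (row1 (mT * mU d * mT * M)) / z
    rw [r1, z1, C.nc.κ_add, C.nc.κ_smul, map_div₀, map_one, C.nc.D.σσ, ← hn, ← ha0]
    have hu2 : a0 + C.nc.ι S * n + 1 / C.nc.D.σ n = a0 := by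
      field_simp
      linear_combination hiS + two
    calc a0 / n + (a0 + C.nc.ι S * n) / w + 1 / C.nc.D.σ n * (1 / w)
        = a0 * (1 / n) + (a0 + C.nc.ι S * n + 1 / C.nc.D.σ n) * (1 / w) := by ring
      _ = a0 * (1 / z) := by rw [hu2, ← mul_add, hkey]
      _ = a0 / z := by ring

/-- The determinant of two first coordinates. -/
def cr (A B : E) : E := A * C.nc.D.σ B + C.nc.D.σ A * B

theorem P_mul_base {X Y : C.Pr} (hcr : C.cr X.1.1 Y.1.1 ≠ 0) :
    C.P (C.pm X Y) = C.P X * C.P Y := by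
  have hX : X.1.1 ≠ 0 := fun e => hcr (by rw [e, cr, map_zero]; ring)
  have hY : Y.1.1 ≠ 0 := fun e => hcr (by rw [e, cr, map_zero]; ring)
  obtain ⟨M, rfl⟩ := C.exists_pi hX
  obtain ⟨N, rfl⟩ := C.exists_pi hY
  set c := bd (row2 N) (row2 M) with hcdef
  have hc : c ≠ 0 := by
    intro e
    refine hcr ?_
    have h1 := C.nc.κ_tr (row2 N) (row2 M)
    rw [← hcdef, e, map_zero] at h1
    have := C.κ_ne (row2_ne M)
    have := C.κ_ne (row2_ne N)
    have := C.σκ_ne (row2_ne M)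
    have := C.σκ_ne (row2_ne N)
    simp only [cr, pi, map_div₀, map_one, C.nc.D.σσ]
    field_simp
    linear_combination h1
  set α := bd (row2 N) (row1 M) with hα
  set c0 := (α + 1 + c * C.T.Sv (row2 M)) / c with hc0
  set M1 := mU c0 * M with hM1
  set Y := C.T.lawY c M1 with hY'
  have hrowM1 : row2 M1 = row2 M := by simp [hM1, row2, mul_10, mul_11]
  have hrow : row2 N = row2 Y := by
    have hS1 : C.T.Sv (M1 1 0, M1 1 1) = C.T.Sv (row2 M) := congrArg C.T.Sv hrowM1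
    have e := expand (row_det M) (row2 N)
    rw [← hcdef, ← hα] at e
    rw [e]
    have hcc : c * c0 = α + 1 + c * C.T.Sv (row2 M) := by rw [hc0]; field_simp
    simp only [hY', Tor.lawY, row1, row2, hM1] at hS1 hcc ⊢
    ext <;> simp [mul_10, mul_11, mul_00, mul_01, hS1]
    · linear_combination -(M 1 0) * hcc -
        (M 1 0) * (1 + c * C.T.Sv (M 1 0, M 1 1)) * CharTwo.two_eq_zero (R := F)
    · linear_combination -(M 1 1) * hcc -
        (M 1 1) * (1 + c * C.T.Sv (M 1 0, M 1 1)) * CharTwo.two_eq_zero (R := F)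
  set e' := bd (row1 N) (row1 Y)
  have hN : N = mU e' * Y := same_row hrow
  have hM : M = mU c0 * M1 := by rw [hM1, ← mul_assoc, Tor.mU_sq C.T, one_mul]
  clear_value M1 e' c0
  clear hc0 hM1 hrowM1 hα hcdef
  have e1 : C.pm (C.pi M) (C.pi N) = C.pm (C.zp (c0 + e')) (C.pm (C.pi M1) (C.pi Y)) := by
    conv_lhs => rw [hM, hN, ← C.pm_pi, ← C.pm_pi, C.pm_assoc, ← C.pm_assoc (C.pi M1),
      ← C.pm_zp_comm, C.pm_assoc, ← C.pm_assoc, C.zp_add]
  rw [e1, C.P_zp_mul, C.P_law hc, C.P_pi, C.P_pi]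
  conv_rhs => rw [hM, hN, C.T.el_mU, C.T.el_mU]
  rw [C.T.Φ.e_add]
  simp only [mul_assoc]
  rw [← mul_assoc (C.T.Φ.e e') (C.T.el M1), h.z_central (C.T.Φ.mem e') (C.T.el_mem M1), mul_assoc]

theorem P_mul (X Y : C.Pr) : C.P (C.pm X Y) = C.P X * C.P Y := by
  by_cases hX : X.1.1 = 0
  · obtain ⟨y, rfl⟩ := C.exists_zp hX
    rw [C.P_zp_mul, C.P_zp]
  by_cases hY : Y.1.1 = 0
  · obtain ⟨y, rfl⟩ := C.exists_zp hY
    rw [← C.pm_zp_comm, C.P_zp_mul, C.P_zp, h.z_central (C.T.Φ.mem y) (C.P_mem X)]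
  by_cases hcr : C.cr X.1.1 Y.1.1 ≠ 0
  · exact C.P_mul_base hcr
  push Not at hcr
  set A := X.1.1
  set B := Y.1.1
  by_cases hAB : A = B
  · have hX' : X.1.2 + C.nc.D.σ X.1.2 + A * C.nc.D.σ A = 0 := X.2
    have hY' : Y.1.2 + C.nc.D.σ Y.1.2 + B * C.nc.D.σ B = 0 := Y.2
    obtain ⟨d, hd⟩ := C.nc.fix_ι (Y.1.2 + C.nc.D.σ X.1.2) (by
      rw [map_add, C.nc.D.σσ]
      rw [← hAB] at hY'
      linear_combination hY' + hX' - (Y.1.2 + C.nc.D.σ X.1.2 + A * C.nc.D.σ A) *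
        CharTwo.two_eq_zero (R := E))
    have e : Y = C.pm (C.zp d) (C.pinv X) := by
      refine Subtype.ext (Prod.ext ?_ ?_) <;> simp only [pm, zp, pinv, zero_mul, zero_add, add_zero]
      · exact hAB.symm
      · linear_combination -hd - C.nc.D.σ X.1.2 * CharTwo.two_eq_zero (R := E)
    rw [e, ← C.pm_assoc, ← C.pm_zp_comm, C.pm_assoc, C.pm_inv, C.pm_zp_comm, C.P_zp_mul, C.P_zp_mul,
      C.P_pinv]
    rw [C.T.Φ.e_zero, one_mul, C.P_zp, ← mul_assoc (C.P X), ← h.z_central (C.T.Φ.mem d) (C.P_mem X),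
      mul_assoc, mul_inv_cancel, mul_one]
  set w0 : E := (C.nc.D.ω : E)
  have hw0 : C.nc.D.σ w0 ≠ w0 := C.nc.D.σ_ω_ne
  obtain ⟨b, hb⟩ := C.nc.D.exists_cond (A * w0)
  let W : C.Pr := ⟨(A * w0, b), hb⟩
  have hσA : C.nc.D.σ A ≠ 0 := (map_ne_zero _).2 hX
  have hAW : C.cr A (A * w0) ≠ 0 := by
    rw [cr, map_mul, show A * (C.nc.D.σ A * C.nc.D.σ w0) + C.nc.D.σ A * (A * w0) =
      A * C.nc.D.σ A * (C.nc.D.σ w0 + w0) by ring]
    exact mul_ne_zero (mul_ne_zero hX hσA) (fun e => hw0 (CharTwo.add_eq_zero.1 e))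
  set l := B / A with hl
  have hBl : B = l * A := by rw [hl]; field_simp
  have hσl : C.nc.D.σ l = l := by
    rw [cr] at hcr
    rw [hl, map_div₀]
    field_simp
    linear_combination hcr - C.nc.D.σ A * B * CharTwo.two_eq_zero (R := E)
  have hWB : C.cr (A * w0) B = l * C.cr A (A * w0) := by
    rw [cr, cr, hBl, map_mul, map_mul, hσl]; ring
  have hl0 : l ≠ 0 := div_ne_zero hY hX
  have h1l : 1 + l ≠ 0 := fun e => hAB (by rw [hBl, ← CharTwo.add_eq_zero.1 e, one_mul])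
  have eY : Y = C.pm W (C.pm (C.pinv W) Y) := by
    rw [← C.pm_assoc, C.pm_inv, C.pm_zero]
  have hXY : C.pm X Y = C.pm (C.pm X W) (C.pm (C.pinv W) Y) := by
    rw [C.pm_assoc, ← eY]
  have h1 : C.cr W.1.1 (C.pm (C.pinv W) Y).1.1 ≠ 0 := by
    have : C.cr (A * w0) (A * w0 + B) = C.cr (A * w0) B := by
      simp only [cr, map_add]
      linear_combination A * w0 * C.nc.D.σ (A * w0) * CharTwo.two_eq_zero (R := E)
    show C.cr (A * w0) (A * w0 + B) ≠ 0
    rw [this, hWB]; exact mul_ne_zero hl0 hAW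
  have h2 : C.cr (C.pm X W).1.1 (C.pm (C.pinv W) Y).1.1 ≠ 0 := by
    have : C.cr (A + A * w0) (A * w0 + B) = (1 + l) * C.cr A (A * w0) := by
      rw [hBl]
      simp only [cr, map_add, map_mul, hσl]
      linear_combination (A * w0 * C.nc.D.σ A * C.nc.D.σ w0 + l * A * C.nc.D.σ A) *
        CharTwo.two_eq_zero (R := E)
    show C.cr (A + A * w0) (A * w0 + B) ≠ 0
    rw [this]; exact mul_ne_zero h1l hAW
  rw [hXY, C.P_mul_base h2, C.P_mul_base (X := X) (Y := W) hAW, mul_assoc, ← C.P_mul_base h1, ← eY]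

end UC

end Cfsg.Agent.Lib.SplitRankOne70
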